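import Groth.Agent.Lib.Exact8.FMVanish
import Groth.Agent.Lib.SheafVan16.Spectral

/-!
# Hypercohomology of an object from the cohomology of its cohomology sheaves
-/

set_option autoImplicit false
set_option backward.isDefEq.respectTransparency false
set_option backward.isDefEq.respectTransparency.types false
set_option linter.style.haveILetI false
universe u
open CategoryTheory CategoryTheory.Limits AlgebraicGeometry TopologicalSpace Opposite
attribute [local instance] HasDerivedCategory.standard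

namespace Groth.Agent.FMHyp13

open CohFound Exact8.FMVanish

variable {X : Scheme.{u}}

/-- The cohomology of the cycles, along an antidiagonal. -/
theorem subsingleton_hc_cycles (K : CochainComplex X.Modules ℤ) (a : ℤ) [K.IsStrictlyGE a]
    (hX : ∀ n, Ac (K.X n)) (i : ℤ)
    (hH : ∀ (n : ℤ) (p : ℕ), n + ((p : ℤ) + 1) = i → Subsingleton (Hc ((abF X).obj (K.homology n)) (p + 1) ⊤))
    (n : ℤ) (p : ℕ) (hnp : n + ((p : ℤ) + 1) = i) :
    Subsingleton (Hc ((abF X).obj (K.cycles n)) (p + 1) ⊤) := by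
  suffices h : ∀ (k p : ℕ), a - 1 + (k : ℤ) + ((p : ℤ) + 1) = i →
      Subsingleton (Hc ((abF X).obj (K.cycles (a - 1 + k))) (p + 1) ⊤) by
    rcases lt_or_ge n (a - 1) with hn | hn
    · exact ac_of_isZero (IsZero.of_mono (K.iCycles n) (K.isZero_of_isStrictlyGE a n (by omega))) p
    · obtain ⟨k, rfl⟩ : ∃ k : ℕ, n = a - 1 + k := ⟨(n - (a - 1)).toNat, by omega⟩
      exact h k p hnp
  intro k
  induction k with
  | zero => intro p _; exact ac_of_isZero (IsZero.of_mono (K.iCycles _) (K.isZero_of_isStrictlyGE a _ (by simp))) p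
  | succ k ih =>
    intro p hp
    have hB : Subsingleton (Hc ((abF X).obj (bd K (a - 1 + (k + 1 : ℕ)))) (p + 1) ⊤) := by
      have hS := shortExact_abF (shortExact_toBd K (a - 1 + k) (a - 1 + (k + 1 : ℕ)) (by push_cast; ring))
      refine subsingleton_of_forall_eq 0 fun x => ?_
      haveI := ih (p + 1) (by push_cast at hp ⊢; omega)
      haveI := hX (a - 1 + k) p
      obtain ⟨y, hy⟩ := exact₃ hS (p + 1) ⊤ x (@Subsingleton.elim _ (ih (p + 1) (by push_cast at hp ⊢; omega)) _ _)
      rw [← hy, @Subsingleton.elim _ (hX (a - 1 + k) p) y 0, map_zero]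
    have hS := shortExact_abF (shortExact_bd K (a - 1 + (k + 1 : ℕ)))
    refine subsingleton_of_forall_eq 0 fun x => ?_
    obtain ⟨y, hy⟩ := exact₂ hS (p + 1) ⊤ x (@Subsingleton.elim _ (hH _ p hp) _ _)
    rw [← hy, @Subsingleton.elim _ hB y 0, map_zero]

/-- The `i`-th hypercohomology vanishes when the antidiagonal does. -/
theorem isZero_gamma_homology (K : CochainComplex X.Modules ℤ) (a : ℤ) [K.IsStrictlyGE a]
    (hX : ∀ n, Ac (K.X n)) (i : ℤ)
    (hH : ∀ (n : ℤ) (p : ℕ), n + (p : ℤ) = i → Subsingleton (Hc ((abF X).obj (K.homology n)) p ⊤)) :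
    IsZero ((((DCoh.gammaAb X).mapHomologicalComplex (ComplexShape.up ℤ)).obj K).homology i) := by
  let F := DCoh.gammaAb X
  let FK := (F.mapHomologicalComplex (ComplexShape.up ℤ)).obj K
  have hp : (ComplexShape.up ℤ).prev i = i - 1 := (ComplexShape.up ℤ).prev_eq' (by simp)
  have hn : (ComplexShape.up ℤ).next i = i + 1 := (ComplexShape.up ℤ).next_eq' (by simp)
  refine (ShortComplex.exact_iff_isZero_homology _).1 ?_
  refine (ShortComplex.exact_iff_of_iso (FK.isoSc' (i - 1) i (i + 1) hp hn)).2 ?_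
  rw [ShortComplex.ab_exact_iff]
  intro x hx
  have hi : IsLimit (KernelFork.ofι (F.map (K.iCycles i)) (by
      rw [← F.map_comp, K.iCycles_d, F.map_zero] : F.map (K.iCycles i) ≫ F.map (K.d i (i + 1)) = 0)) :=
    KernelFork.mapIsLimit _ (K.cyclesIsKernel i (i + 1) hn) F
  obtain ⟨y, hy⟩ := (ShortComplex.ab_exact_iff _).1
    (ShortComplex.exact_of_f_is_kernel (ShortComplex.mk (F.map (K.iCycles i)) (F.map (K.d i (i + 1)))
      (by rw [← F.map_comp, K.iCycles_d, F.map_zero])) hi) x hx
  have hepi : Epi (F.map (toBd K (i - 1) i)) := by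
    refine (AddCommGrpCat.epi_iff_surjective _).2 fun z => ?_
    have hS := shortExact_abF (shortExact_toBd K (i - 1) i (by ring))
    have hZ := subsingleton_hc_cycles K a hX i (fun n p h => hH n (p + 1) (by push_cast; omega)) (i - 1) 0
      (by push_cast; ring)
    obtain ⟨w, hw⟩ := exact₃ hS 0 ⊤ ((hc0 _ ⊤).symm z) (@Subsingleton.elim _ hZ _ _)
    refine ⟨hc0 _ ⊤ w, ?_⟩
    have := hc0_mp ((abF X).map (toBd K (i - 1) i)) ⊤ w
    erw [hw, AddEquiv.apply_symm_apply] at this
    exact this.symm
  have hB : ∃ y', F.map (kernel.ι (K.homologyπ i)) y' = y := by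
    haveI := (shortExact_bd K i).mono_f
    refine (ShortComplex.ab_exact_iff _).1 ((shortExact_bd K i).exact.map_of_mono_of_preservesKernel F
      inferInstance inferInstance) y ?_
    have hs : Subsingleton (F.obj (K.homology i)) :=
      (hc0 ((abF X).obj (K.homology i)) ⊤).symm.toEquiv.subsingleton_congr.2 (hH i 0 (by simp))
    exact @Subsingleton.elim _ hs _ _
  obtain ⟨y', hy'⟩ := hB
  obtain ⟨z, hz⟩ := (AddCommGrpCat.epi_iff_surjective _).1 hepi y'
  refine ⟨z, ?_⟩
  change F.map (K.d (i - 1) i) z = x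
  rw [← K.toCycles_i (i - 1) i, ← kernel.lift_ι (K.homologyπ i) (K.toCycles (i - 1) i) (K.toCycles_comp_homologyπ _ _)]
  rw [F.map_comp, F.map_comp]
  change F.map (K.iCycles i) (F.map (kernel.ι (K.homologyπ i)) (F.map (toBd K (i - 1) i) z)) = x
  rw [hz, hy']
  exact hy

/-- Hypercohomology vanishes when `Hᵖ` of the `n`-th cohomology sheaf does for all `p + n = i`. -/
theorem isZero_rGamma [DCoh.HasRΓ X] (G : DCoh.D X) (a : ℤ) [G.IsGE a] (i : ℤ)
    (hH : ∀ (n : ℤ) (p : ℕ), n + (p : ℤ) = i → Subsingleton (Hc ((abF X).obj (DCoh.HD G n)) p ⊤)) :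
    IsZero ((DerivedCategory.homologyFunctor AddCommGrpCat.{u} i).obj ((DCoh.RΓ X).obj G)) := by
  obtain ⟨K, hK, ⟨eK⟩⟩ := DerivedCategory.exists_iso_Q_obj_of_isGE G a
  haveI := hK
  obtain ⟨I, φ, _, _, _⟩ := CochainComplex.Plus.modelCategoryQuillen.exists_quasiIso_injective K a
  haveI : I.IsKInjective := CochainComplex.isKInjective_of_injective I a
  let e : G ≅ DerivedCategory.Q.obj I := eK ≪≫ asIso (DerivedCategory.Q.map φ)
  let h : ∀ n, DCoh.HD G n ≅ I.homology n := fun n => (DerivedCategory.homologyFunctor X.Modules n).mapIso e ≪≫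
    (DerivedCategory.homologyFunctorFactors X.Modules n).app I
  refine (isZero_gamma_homology I a (fun n => ac_injective _) i
    (fun n p hnp => subsingleton_hc_of_iso (h n) p ⊤ (hH n p hnp))).of_iso ?_
  exact (DerivedCategory.homologyFunctor AddCommGrpCat.{u} i).mapIso
      ((DCoh.RΓ X).mapIso e ≪≫ (DMV.gammaIso X I).symm) ≪≫
    (DerivedCategory.homologyFunctorFactors AddCommGrpCat.{u} i).app _

/-- A point with local ring of dimension at least `k` has `k` successive proper generalisations. -/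
theorem mem_ht_of_le_dim (x : X) (k : ℕ) (h : (k : WithBot ℕ∞) ≤ ringKrullDim (X.presheaf.stalk x)) :
    x ∈ SheafVan16.Ht (X := sp X) k := by
  rw [ringKrullDim_stalk_eq_coheight] at h
  obtain ⟨l, rfl, hl⟩ := Order.exists_series_of_le_coheight x (n := k) (by exact_mod_cast h)
  clear h
  induction k generalizing l with
  | zero => exact trivial
  | succ k ih =>
    have hpos : 0 < l.length := by omega
    have hlt : l.head < l ⟨1, by omega⟩ := l.strictMono (show (0 : Fin (l.length + 1)) < ⟨1, by omega⟩ from by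
      simp [Fin.lt_def])
    have ht : (l.tail (by omega)).head = l ⟨1, by omega⟩ :=
      (RelSeries.head_tail l (by omega)).trans (congrArg l.toFun (Fin.ext (by rw [Fin.val_one', Nat.mod_eq_of_lt (by omega)])))
    refine ⟨(l.tail (by omega)).head, ih _ (by simp only [RelSeries.tail_length]; omega), ?_, ?_⟩
    · rw [ht]; exact hlt.ne'
    · rw [ht]; exact hlt.le

/-- Vanishing above `dim − codim` for a module supported in codimension `≥ k`. -/
theorem subsingleton_hc_of_dim_stalk [CompactSpace X] [QuasiSeparatedSpace X] {d : ℕ}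
    (hd : topologicalKrullDim X ≤ (d : WithBot ℕ∞)) (M : X.Modules) (k : ℕ)
    (hk : ∀ x ∈ CohB1.support M, (k : WithBot ℕ∞) ≤ ringKrullDim (X.presheaf.stalk x)) (p : ℕ) (hp : d < p + k) :
    Subsingleton (Hc ((abF X).obj M) p ⊤) := by
  haveI : SpectralSpace (sp X) :=
    { toT0Space := inferInstanceAs (T0Space X), toCompactSpace := inferInstanceAs (CompactSpace X),
      toQuasiSober := inferInstanceAs (QuasiSober X), toQuasiSeparatedSpace := inferInstanceAs (QuasiSeparatedSpace X),
      toPrespectralSpace := inferInstanceAs (PrespectralSpace X) }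
  refine SheafVan16.van_of_ht (X := sp X) hd (d + 1) k (by omega) _ (fun x hx a => ?_) ⊤ (by simpa using isCompact_univ) p hp
  by_contra ha
  exact hx (mem_ht_of_le_dim x k (hk x fun hs => ha (@Subsingleton.elim _ hs a 0)))

end Groth.Agent.FMHyp13
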