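import Groth.Agent.Lib.FMHyp13.IT0
import Groth.Agent.Lib.FMHyp13.Vanish
import Groth.Agent.Lib.DPerf.Noeth
import Groth.Agent.Lib.SiteRlim16.RF

/-!
# Exchanging a twist by a module with locally free transform for a twist of the transform
-/

set_option autoImplicit false
set_option linter.style.haveILetI false
set_option linter.unusedSectionVars false
set_option backward.isDefEq.respectTransparency false
set_option backward.isDefEq.respectTransparency.types false
set_option maxHeartbeats 3200000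

universe u

open CategoryTheory CategoryTheory.Limits MonoidalCategory CartesianMonoidalCategory AlgebraicGeometry
open scoped MonObj GrpObj

attribute [local instance] HasDerivedCategory.standard

noncomputable section

namespace Groth.Agent.FMHyp13

open Groth.Agent.AbDual21 Groth.Agent.PicDesc21 Groth.Agent.AgPol22
open DMon9 DBC9 TwistBC9 FMBase13

attribute [local instance] DBC9.hasRpush

noncomputable local instance instLawFMHyp (Y : Scheme.{u}) : PicGrp.Law Y := M2.law Y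

/-- Hypercohomology of a shifted object. -/
theorem nonempty_rGamma_shift {X : Scheme.{u}} [DCoh.HasRΓ X] (G : DCoh.D X) (n i j : ℤ) (h : i + n = j) :
    Nonempty ((DerivedCategory.homologyFunctor AddCommGrpCat.{u} i).obj ((DCoh.RΓ X).obj (G⟦n⟧)) ≅
      (DerivedCategory.homologyFunctor AddCommGrpCat.{u} j).obj ((DCoh.RΓ X).obj G)) := by
  obtain ⟨hs, -⟩ := SiteRlim.exists_commShift_isTriangulated
    ((DCoh.gammaKh X).totalRightDerivedUnit DerivedCategory.Qh
      (HomotopyCategory.quasiIso X.Modules (ComplexShape.up ℤ))) KInjLib.enoughKInj_of_grothendieck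
  letI := hs
  exact ⟨(DerivedCategory.homologyFunctor AddCommGrpCat.{u} i).mapIso (((DCoh.RΓ X).commShiftIso n).app G) ≪≫
    ((DerivedCategory.homologyFunctor AddCommGrpCat.{u} 0).shiftIso n i j (by omega)).app _⟩

/-- The twist as a derived tensor product. -/
theorem nonempty_LTcx_inD {X : Scheme.{u}} (K : KF X) [DCoh.HasLTensorCx K.obj] (E : X.Modules) :
    Nonempty ((DCoh.LTensorCx K.obj).obj ((DerivedCategory.singleFunctor X.Modules 0).obj E) ≅
      (tenF E).obj ((qK X).obj K)) := by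
  obtain ⟨c⟩ := nonempty_commIso K
  exact ⟨((theta K).symm.app _ ≪≫ c.symm.app _ :)⟩

/-- A derived tensor product commutes with shifts. -/
theorem nonempty_LTcx_shift {X : Scheme.{u}} (K : KF X) [DCoh.HasLTensorCx K.obj] (G : DCoh.D X) (n : ℤ) :
    Nonempty ((DCoh.LTensorCx K.obj).obj (G⟦-n⟧) ≅ ((DCoh.LTensorCx K.obj).obj G)⟦-n⟧) := by
  obtain ⟨s⟩ := nonempty_shift_tensor (X := X) n
  haveI : DCoh.HasLTensorCx (oneK X n).obj := KFlat.Sch.hasLTensorCx _
  obtain ⟨c⟩ := nonempty_commIso (oneK X n)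
  let Kd : DM X := (qM X).obj K
  let GM : DM X := G
  let e : (GM ⊗ oneM X n) ⊗ Kd ≅ (GM ⊗ Kd) ⊗ oneM X n :=
    α_ GM (oneM X n) Kd ≪≫ whiskerLeftIso GM (c.app Kd) ≪≫ (α_ GM Kd (oneM X n)).symm
  exact ⟨(DCoh.LTensorCx K.obj).mapIso (s.app G).symm ≪≫ (theta K).symm.app _ ≪≫ e ≪≫ s.app _ ≪≫
    (shiftFunctor (DCoh.D X) (-n)).mapIso ((theta K).app G)⟩

variable {k : Type u} [Field k] {A At : Over (Spec (CommRingCat.of k))} [GrpObj A] [GrpObj At]
  [IsProper A.hom] [Smooth A.hom] [GeometricallyConnected A.hom]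
  [IsProper At.hom] [Smooth At.hom] [GeometricallyConnected At.hom]
  {φ : AgPol.DualMap A At} (hφ : AbDual.IsDualAV Scheme.fppfPrecoverage A At φ)
  {P : (PicF.XT A.hom At).Modules} (hP : PicF.IsInvertible P) (hξ : AbDual.IsPoincareCl A At φ (PicF.cl P))

include hφ in
/-- Inverting both variables does not change the pairing. -/
theorem ev_inv_inv [GeometricallyIntegral A.hom] {W : Over (Spec (CommRingCat.of k))} (x : W ⟶ A) (y : W ⟶ At) :
    ev hξ x⁻¹ y⁻¹ = ev hξ x y := by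
  have hy : ev hξ x (1 : W ⟶ At) = 1 := by
    have h := ev_mul_right hφ hξ x (1 : W ⟶ At) 1
    rw [_root_.mul_one] at h
    exact left_eq_mul.1 h
  have h1 := ev_mul_left hξ hφ x x⁻¹ y⁻¹
  have h2 := ev_mul_right hφ hξ x y y⁻¹
  rw [mul_inv_cancel, ev_one_left] at h1
  rw [mul_inv_cancel, hy] at h2
  exact (eq_inv_of_mul_eq_one_right h1.symm).trans (eq_inv_of_mul_eq_one_left h2.symm).symm

variable [IsAlgClosed k]

/-- The hypothesis of no higher cohomology against all `P_α`. -/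
def NoHigher (P : (PicF.XT A.hom At).Modules) (E : A.left.Modules) : Prop :=
  ∀ (α : 𝟙_ (Over (Spec (CommRingCat.of k))) ⟶ At) (i : ℕ), 1 ≤ i →
    Subsingleton (Coh.HH A.left (CohB1.tensorMod E
      ((Scheme.Modules.pullback (lift (𝟙 A) (toUnit A ≫ α)).left).obj P)) i)

include hφ hP hξ in
/-- The hypothesis passes to the twist by a `P_β`. -/
theorem noHigher_twist [GeometricallyIntegral A.hom] {H : A.left.Modules} (h : NoHigher P H)
    (β : 𝟙_ (Over (Spec (CommRingCat.of k))) ⟶ At) :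
    NoHigher P (CohB1.tensorMod H ((Scheme.Modules.pullback (lift (𝟙 A) (toUnit A ≫ β)).left).obj P)) :=
  fun α i hi => by
  obtain ⟨e⟩ : Nonempty (CohB1.tensorMod ((Scheme.Modules.pullback (lift (𝟙 A) (toUnit A ≫ β)).left).obj P)
      ((Scheme.Modules.pullback (lift (𝟙 A) (toUnit A ≫ α)).left).obj P) ≅
        (Scheme.Modules.pullback (lift (𝟙 A) (toUnit A ≫ (β * α))).left).obj P) := by
    refine nonempty_iso_of_cls (hL := M2.isInvertible_tensor (PicLoc.isInvertible_pullback _ hP)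
      (PicLoc.isInvertible_pullback _ hP)) (hM := PicLoc.isInvertible_pullback _ hP) ?_
    rw [← AlgEquiv22.cls_tensor (PicLoc.isInvertible_pullback _ hP) (PicLoc.isInvertible_pullback _ hP),
      ← ev_eq_cls hP hξ, ← ev_eq_cls hP hξ, ← ev_eq_cls hP hξ, ← ev_mul_right hφ hξ, MonObj.comp_mul]
  exact (CBC10.hmapEquiv (M2.tensorAssoc _ _ _ ≪≫ M2.tensorIso (Iso.refl _) e) i).toEquiv.subsingleton_congr.2
    (h (β * α) i hi)

include hφ hP hξ in
/-- The hypothesis passes to the pullback along inversion. -/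
theorem noHigher_inv [GeometricallyIntegral A.hom] {E : A.left.Modules} (hE : Coh.IsQCoh E) (h : NoHigher P E) :
    NoHigher P ((Scheme.Modules.pullback ((𝟙 A)⁻¹).left).obj E) := fun α i hi => by
  haveI : IsIso ((𝟙 A)⁻¹).left := by
    haveI : IsIso ((𝟙 A)⁻¹ : A ⟶ A) := ⟨(𝟙 A)⁻¹, by simp [GrpObj.comp_inv], by simp [GrpObj.comp_inv]⟩
    exact inferInstanceAs (IsIso ((Over.forget _).map ((𝟙 A)⁻¹ : A ⟶ A)))
  let s := (lift (𝟙 A) (toUnit A ≫ α⁻¹))
  obtain ⟨e⟩ : Nonempty ((Scheme.Modules.pullback ((𝟙 A)⁻¹).left).obj ((Scheme.Modules.pullback s.left).obj P) ≅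
      (Scheme.Modules.pullback (lift (𝟙 A) (toUnit A ≫ α)).left).obj P) := by
    refine nonempty_iso_of_cls (hL := PicLoc.isInvertible_pullback _ (PicLoc.isInvertible_pullback _ hP))
      (hM := PicLoc.isInvertible_pullback _ hP) ?_
    rw [← ev_eq_cls hP hξ, ← ev_inv_inv hφ hξ, ← GrpObj.comp_inv]
    apply Subtype.ext
    rw [ev_eq_cls hP hξ, PicGrp.cls_val, PicGrp.cls_val, ← PicLoc.pullCl_cl, ← PicLoc.pullCl_cl, ← PicLoc.pullCl_cl,
      pullCl_pullCl, ← Over.comp_left, comp_lift, Category.comp_id, ← Category.assoc,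
      toUnit_unique ((𝟙 A)⁻¹ ≫ toUnit A) (toUnit A)]
  refine (CBC10.hmapEquiv (M2.tensorIso (Iso.refl _) e.symm ≪≫ (M2.pullTensorIso _ _ _).symm) i).toEquiv.subsingleton_congr.2 ?_
  refine (subsingleton_HH_iso_iff _ ?_ i).2 (h α⁻¹ i hi)
  exact M2.isQCoh_tensor hE (Twist.isQCoh_of_isInvertible (PicLoc.isInvertible_pullback _ hP))

variable {g : ℕ} (hg : topologicalKrullDim A.left = g)

include hφ hP hξ hg in
/-- For `E` without higher cohomology against the `P_α`: `Hⁱ(A, F ⊗ E) = Hⁱ⁺ᵍ(At, ΦF ⊗ W)` with `W` locally free. -/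
theorem exists_exchange {E : A.left.Modules} (hE : Coh.IsCoh E) (h0 : NoHigher P E) :
    ∃ W : At.left.Modules, FlatMod.IsFinLocFree W ∧
      ∀ [DCoh.HasRΓ A.left] [DCoh.HasRΓ At.left] [DCoh.HasLTensorCx (Exact8.FMVanish.sgl W)] (F : DCoh.D A.left),
        DCoh.IsPerfect F → ∀ i : ℤ,
        Nonempty ((DerivedCategory.homologyFunctor AddCommGrpCat.{u} i).obj ((DCoh.RΓ A.left).obj ((tenF E).obj F)) ≅
          (DerivedCategory.homologyFunctor AddCommGrpCat.{u} (i + g)).obj ((DCoh.RΓ At.left).obj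
            ((DCoh.LTensorCx (Exact8.FMVanish.sgl W)).obj ((phiK (fst A At).left (snd A At).left P).obj F)))) := by
  haveI : GeometricallyIntegral A.hom := AbRigid.geometricallyIntegral_of_smooth A
  haveI : IsIso ((𝟙 A)⁻¹ : A ⟶ A) := ⟨(𝟙 A)⁻¹, by simp [GrpObj.comp_inv], by simp [GrpObj.comp_inv]⟩
  haveI : IsIso ((𝟙 A)⁻¹).left := inferInstanceAs (IsIso ((Over.forget _).map ((𝟙 A)⁻¹ : A ⟶ A)))
  let ν := ((𝟙 A)⁻¹).left
  let E₁ := (Scheme.Modules.pullback ν).obj E
  have hE₁ : Coh.IsCoh E₁ := M1.isCoh_pullback _ hE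
  obtain ⟨W, hW, ⟨eW⟩⟩ := exists_locFree_transform hP hE₁ (noHigher_inv hφ hP hξ hE.1 h0)
  refine ⟨W, hW, fun F hF i => ?_⟩
  obtain ⟨K, ⟨eK⟩⟩ := exists_qM F
  haveI := KFlat.Sch.hasLTensorCx K.obj
  -- the inverse transform of `W`
  obtain ⟨inv⟩ := nonempty_inversion hφ hP hξ hg
  obtain ⟨l⟩ := nonempty_lP_single (T := A.left) E₁ ν 0
  have hνν : ν ≫ ν = 𝟙 A.left := by
    rw [← Over.comp_left, show ((𝟙 A)⁻¹ : A ⟶ A) ≫ (𝟙 A)⁻¹ = 𝟙 A by simp [GrpObj.comp_inv], Over.id_left]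
  let eE : (Scheme.Modules.restrictFunctor ν).obj E₁ ≅ E :=
    (Scheme.Modules.restrictFunctorIsoPullback ν).app E₁ ≪≫ (Scheme.Modules.pullbackComp ν ν).app E ≪≫
      (Scheme.Modules.pullbackCongr hνν).app E ≪≫ (Scheme.Modules.pullbackId _).app E
  let eΨ : (phiK (fst At A).left (snd At A).left (swP P)).obj
      ((DerivedCategory.singleFunctor At.left.Modules 0).obj W) ≅
        ((DerivedCategory.singleFunctor A.left.Modules 0).obj E)⟦-(g : ℤ)⟧ :=
    (phiK _ _ _).mapIso eW.symm ≪≫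
      inv.app ⟨(DerivedCategory.singleFunctor A.left.Modules 0).obj E₁, isQCohD_inD _ hE₁.1 0⟩ ≪≫
      (shiftFunctor (DCoh.D A.left) (-(g : ℤ))).mapIso
        (l ≪≫ (DerivedCategory.singleFunctor A.left.Modules 0).mapIso eE)
  -- the kernel on `At ⊗ A`, read in both directions
  haveI : IsIso (AbDual22.sw At A) := ⟨AbDual22.sw A At,
    by apply CartesianMonoidalCategory.hom_ext <;> simp [AbDual22.sw],
    by apply CartesianMonoidalCategory.hom_ext <;> simp [AbDual22.sw]⟩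
  haveI : IsIso (AbDual22.sw At A).left := inferInstanceAs (IsIso ((Over.forget _).map (AbDual22.sw At A)))
  haveI : IsProper (snd A At).left := inferInstanceAs (IsProper (pullback.snd A.hom At.hom))
  haveI : Flat (snd A At).left := inferInstanceAs (Flat (pullback.snd A.hom At.hom))
  have hsq : IsPullback (AbDual22.sw At A).left (fst At A).left (snd A At).left (𝟙 At.left) :=
    IsPullback.of_horiz_isIso ⟨by
      rw [← Over.comp_left, Category.comp_id, show AbDual22.sw At A ≫ snd A At = fst At A by simp [AbDual22.sw]]⟩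
  obtain ⟨bc⟩ := nonempty_phiK_BC (fst A At).left (snd A At).left hsq hP
  have hsw : (AbDual22.sw At A).left ≫ (fst A At).left = (snd At A).left := by
    rw [← Over.comp_left]; simp [AbDual22.sw]
  let eΦ : (phiK (fst A At).left (snd A At).left P).obj F ≅
      (phiK (snd At A).left (fst At A).left (swP P)).obj F :=
    ((lPId At.left).app _).symm ≪≫ bc.app ⟨F, DGen9.isQCohD_of_isPerfect hF⟩ ≪≫ (phiKCongr _ _ hsw _).app F
  -- the exchange
  have hP' : PicF.IsInvertible (swP P) := PicLoc.isInvertible_pullback _ hP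
  let Ks : KF (At ⊗ A).left := gK (X := (At ⊗ A).left) (swP P) hP'
  haveI : DCoh.HasLTensorCx Ks.obj := KFlat.Sch.hasLTensorCx _
  haveI := KFlat.Sch.hasLpull (fst At A).left
  haveI := KFlat.Sch.hasLpull (snd At A).left
  obtain ⟨l₁⟩ := nonempty_lpull_natIso_lP (fst At A).left
  obtain ⟨l₂⟩ := nonempty_lpull_natIso_lP (snd At A).left
  let t : DCoh.LTensorCx Ks.obj ≅ tenF (T := (At ⊗ A).left) (swP P) := ((theta Ks).symm :)
  let eWs : DCoh.toD At.left (Exact8.FMVanish.sgl W) ≅ (DerivedCategory.singleFunctor At.left.Modules 0).obj W :=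
    ((DerivedCategory.singleFunctorIsoCompQ _ 0).app W).symm
  obtain ⟨sw⟩ := Exact8.FMSwap.nonempty_swap (snd At A).left (fst At A).left Ks.obj
    K.obj (DGen9.isPerfect_of_iso eK.symm hF) (Exact8.FMVanish.sgl W)
    (DGen9.ResP.isPerfect_toD (DPerf.isStrictlyPerfect_single hW))
  let eL : (DCoh.Rpush (snd At A).left).obj ((DCoh.LTensorCx Ks.obj).obj
      ((DCoh.Lpull (fst At A).left).obj (DCoh.toD At.left (Exact8.FMVanish.sgl W)))) ≅
      ((DerivedCategory.singleFunctor A.left.Modules 0).obj E)⟦-(g : ℤ)⟧ :=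
    (DCoh.Rpush _).mapIso ((DCoh.LTensorCx _).mapIso (l₁.app _) ≪≫ t.app _) ≪≫
      (phiK (fst At A).left (snd At A).left (swP P)).mapIso eWs ≪≫ eΨ
  let eR : (DCoh.Rpush (fst At A).left).obj ((DCoh.LTensorCx Ks.obj).obj
      ((DCoh.Lpull (snd At A).left).obj (DCoh.toD A.left K.obj))) ≅
      (phiK (fst A At).left (snd A At).left P).obj F :=
    (DCoh.Rpush _).mapIso ((DCoh.LTensorCx _).mapIso (l₂.app _) ≪≫ t.app _) ≪≫
      (phiK (snd At A).left (fst At A).left (swP P)).mapIso eK ≪≫ eΦ.symm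
  obtain ⟨sh⟩ := nonempty_LTcx_shift K ((DerivedCategory.singleFunctor A.left.Modules 0).obj E) (g : ℤ)
  obtain ⟨te⟩ := nonempty_LTcx_inD K E
  obtain ⟨rs⟩ := nonempty_rGamma_shift ((tenF E).obj F) (-(g : ℤ)) (i + g) i (by omega)
  exact ⟨rs.symm ≪≫ (DerivedCategory.homologyFunctor AddCommGrpCat.{u} (i + g)).mapIso
    ((DCoh.RΓ A.left).mapIso ((shiftFunctor (DCoh.D A.left) (-(g : ℤ))).mapIso (te ≪≫ (tenF E).mapIso eK).symm ≪≫
      sh.symm ≪≫ (DCoh.LTensorCx K.obj).mapIso eL.symm) ≪≫ sw ≪≫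
    (DCoh.RΓ At.left).mapIso ((DCoh.LTensorCx (Exact8.FMVanish.sgl W)).mapIso eR))⟩

end Groth.Agent.FMHyp13

end
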