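import Groth.Agent.Lib.NumPoly18.InterLen
import Groth.Agent.Lib.CurveCoh17.IdealPow
import Groth.Agent.Lib.ModM1.Coh
import Groth.Agent.Lib.Cyc26.C1Struct

/-!
# The product map from a tensor product of ideals to their product
-/

set_option autoImplicit false
set_option backward.isDefEq.respectTransparency false
set_option backward.isDefEq.respectTransparency.types false
set_option linter.style.haveILetI false

universe u

open CategoryTheory CategoryTheory.Limits AlgebraicGeometry TopologicalSpace Opposite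
open scoped TensorProduct

namespace Groth.Agent.FMHyp13

open InterLen

variable {X : Scheme.{u}}

theorem idealSt_eq_top {I : X.IdealSheafData} {x : X} (hx : x ∉ Set.range I.subschemeι) : idealSt I x = ⊤ := by
  by_contra h
  refine hx ?_
  rw [Scheme.IdealSheafData.range_subschemeι]
  exact mem_support_of_le x (IsLocalRing.le_maximalIdeal h)

theorem idealSt_mul (I J : X.IdealSheafData) (x : X) : idealSt (I * J) x = idealSt I x * idealSt J x := by
  obtain ⟨U, hU, hx, -⟩ := exists_isAffineOpen_mem_and_subset (x := x) (U := (⊤ : X.Opens)) trivial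
  rw [idealSt_eq_map _ x ⟨U, hU⟩ hx, idealSt_eq_map _ x ⟨U, hU⟩ hx, idealSt_eq_map _ x ⟨U, hU⟩ hx,
    Scheme.IdealSheafData.ideal_mul, Pi.mul_apply, Ideal.map_mul]

theorem injective_idealModι (I : X.IdealSheafData) (x : X) :
    Function.Injective (CurveCoh17.stalkLin (ClSub.idealModι I) x) :=
  haveI : Mono (ClSub.idealModι I) := (M2.shortExact_idealMod I).mono_f
  (M1.mono_iff_stalk _).1 inferInstance x

theorem germ_structure {U : X.Opens} {x : X} (hx : x ∈ U) (t : Γ(X, U)) :
    ((Coh.structureModule X).presheaf.germ U x hx t : (Coh.structureModule X).presheaf.stalk x) =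
      X.presheaf.germ U x hx t • Cyc26.oneStalk x := by
  rw [Cyc26.oneStalk, ← M1.germ_mres (Coh.structureModule X) (le_top : U ≤ ⊤) hx, M1.mres_one, ← M1.germ_smul]
  exact congrArg _ (mul_one t).symm

theorem range_idealModι (I : X.IdealSheafData) (x : X) :
    LinearMap.range (CurveCoh17.stalkLin (ClSub.idealModι I) x) =
      idealSt I x • (⊤ : Submodule (X.presheaf.stalk x) ((Coh.structureModule X).presheaf.stalk x)) := by
  have hι : ∀ (U : X.Opens) (hx : x ∈ U) (a : Γ(ClSub.idealMod I, U)),
      CurveCoh17.stalkLin (ClSub.idealModι I) x ((ClSub.idealMod I).presheaf.germ U x hx a) =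
        X.presheaf.germ U x hx (M2.idealIncl I a) • Cyc26.oneStalk x := fun U hx a =>
    (M1.germ_naturality (ClSub.idealModι I) U x hx a).trans (germ_structure hx _)
  refine le_antisymm ?_ ?_
  · rintro _ ⟨p, rfl⟩
    obtain ⟨U, hx, a, rfl⟩ := (ClSub.idealMod I).presheaf.exists_germ_eq p
    rw [hι]
    exact Submodule.smul_mem_smul (Ideal.subset_span ⟨U, hx, a, rfl⟩) trivial
  · rw [idealSt, Submodule.span_smul_eq, Submodule.set_smul_le_iff]
    rintro _ m ⟨U, hx, a, rfl⟩ -
    obtain ⟨c, rfl⟩ := (Cyc26.structureModule_stalk_bijective (Z := X) x).2 m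
    refine ⟨c • (ClSub.idealMod I).presheaf.germ U x hx a, ?_⟩
    rw [map_smul, hι, smul_comm]
    rfl

theorem bijective_idealModι {I : X.IdealSheafData} {x : X} (hx : x ∉ Set.range I.subschemeι) :
    Function.Bijective (CurveCoh17.stalkLin (ClSub.idealModι I) x) :=
  ⟨injective_idealModι I x, LinearMap.range_eq_top.1
    ((range_idealModι I x).trans (by rw [idealSt_eq_top hx, Submodule.top_smul]))⟩

theorem injective_mulMap {I : X.IdealSheafData} {x : X} (hx : x ∉ Set.range I.subschemeι) (F : X.Modules) :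
    Function.Injective (CurveCoh17.stalkLin (mulMap I F) x) := by
  intro a b h
  rw [show mulMap I F = M2.tensorMap (ClSub.idealModι I) (𝟙 F) ≫ (M2.tensorLUnit F).hom from rfl,
    CurveCoh17.stalkLin_comp, CurveCoh17.stalkLin_comp] at h
  replace h := congrArg (M2.stalkEquiv _ _ x) ((M1.mono_iff_stalk (M2.tensorLUnit F).hom).1 inferInstance x h)
  rw [CurveCoh17.stalkEquiv_natural, CurveCoh17.stalkEquiv_natural] at h
  exact (M2.stalkEquiv _ _ x).injective (((LinearEquiv.ofBijective _ (bijective_idealModι hx)).rTensor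
    (F.presheaf.stalk x)).injective h)

/-- The multiplication onto the product ideal. -/
theorem exists_epi_mul (I J : X.IdealSheafData) :
    ∃ ψ : CohB1.tensorMod (ClSub.idealMod I) (ClSub.idealMod J) ⟶ ClSub.idealMod (I * J),
      Epi ψ ∧ CohB1.support (kernel ψ) ⊆ Set.range I.subschemeι := by
  let φ : CohB1.tensorMod (ClSub.idealMod I) (ClSub.idealMod J) ⟶ Coh.structureModule X :=
    mulMap I (ClSub.idealMod J) ≫ ClSub.idealModι J
  have hr : ∀ x, LinearMap.range (CurveCoh17.stalkLin φ x) =
      LinearMap.range (CurveCoh17.stalkLin (ClSub.idealModι (I * J)) x) := fun x => by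
    have hc : CurveCoh17.stalkLin φ x = (CurveCoh17.stalkLin (ClSub.idealModι J) x).comp
        (CurveCoh17.stalkLin (mulMap I (ClSub.idealMod J)) x) :=
      LinearMap.ext fun a => CurveCoh17.stalkLin_comp _ _ x a
    rw [hc, LinearMap.range_comp, range_mulMap, Submodule.map_smul'', Submodule.map_top, range_idealModι,
      range_idealModι, idealSt_mul, Submodule.mul_smul]
  have hz : φ ≫ ClSub.toSubscheme (I * J) = 0 := CurveAmple18.eq_zero_of_stalkLin _ fun x a => by
    rw [CurveCoh17.stalkLin_comp]
    obtain ⟨b, hb⟩ := (hr x).le ⟨a, rfl⟩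
    rw [← hb, ← CurveCoh17.stalkLin_comp]
    exact (congrArg (fun t => CurveCoh17.stalkLin t x b) (kernel.condition (ClSub.toSubscheme (I * J)))).trans
      (CurveAmple18.stalkLin_zero x b)
  let ψ : CohB1.tensorMod (ClSub.idealMod I) (ClSub.idealMod J) ⟶ ClSub.idealMod (I * J) := kernel.lift _ φ hz
  have hψ : ψ ≫ ClSub.idealModι (I * J) = φ := kernel.lift_ι _ _ _
  have hψx : ∀ x a, CurveCoh17.stalkLin (ClSub.idealModι (I * J)) x (CurveCoh17.stalkLin ψ x a) =
      CurveCoh17.stalkLin φ x a := fun x a => by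
    rw [← CurveCoh17.stalkLin_comp, hψ]
  refine ⟨ψ, (M1.epi_iff_stalk ψ).2 fun x b => ?_, fun x hx => ?_⟩
  · obtain ⟨a, ha⟩ := (hr x).ge ⟨b, rfl⟩
    exact ⟨a, injective_idealModι (I * J) x ((hψx x a).trans ha)⟩
  · by_contra hxI
    refine hx ⟨fun a b => (M1.mono_iff_stalk (kernel.ι ψ)).1 inferInstance x ?_⟩
    have key : ∀ c, CurveCoh17.stalkLin (kernel.ι ψ) x c = 0 := fun c => by
      refine injective_mulMap hxI (ClSub.idealMod J) (injective_idealModι J x ?_)
      rw [map_zero, map_zero, ← CurveCoh17.stalkLin_comp]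
      refine (hψx x _).symm.trans ?_
      refine (congrArg _ ?_).trans (map_zero _)
      refine (CurveCoh17.stalkLin_comp (kernel.ι ψ) ψ x c).symm.trans ?_
      rw [kernel.condition]
      exact CurveAmple18.stalkLin_zero x c
    exact (key a).trans (key b).symm

end Groth.Agent.FMHyp13
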