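import Groth.Agent.Lib.DMon9.LPExtra
import Groth.Agent.Lib.TwistBC9.Trunc
import Groth.Agent.Lib.BC8.Shriek660
import Groth.Agent.Lib.DPerf.Noeth
import Groth.Agent.Lib.TensorMod.PullSupport
import Groth.Agent.Lib.DBC9.Algebra
import Groth.Agent.Lib.DPush.Adapted
import Groth.Agent.Lib.SerreCl8.Sub

/-!
# The top cohomology sheaf survives derived pullback
-/

set_option autoImplicit false
set_option linter.style.haveILetI false
set_option linter.unusedSectionVars false
set_option backward.isDefEq.respectTransparency false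
set_option backward.isDefEq.respectTransparency.types false
set_option maxHeartbeats 1600000

universe u

open CategoryTheory CategoryTheory.Limits AlgebraicGeometry Pretriangulated

attribute [local instance] HasDerivedCategory.standard

noncomputable section

namespace Groth.Agent.FMHyp13

open DMon9 DBC9 TwistBC9

attribute [local instance] DBC9.hasRpush

variable {X Z : Scheme.{u}}

/-- Isomorphic modules have the same support. -/
theorem support_iso {M N : X.Modules} (e : M ≅ N) : CohB1.support M = CohB1.support N :=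
  Set.ext fun x => not_congr (((M1.stalkAb x).mapIso e).addCommGroupIsoToAddEquiv.toEquiv.subsingleton_congr)

/-- The top cohomology of a derived pullback is the pullback of the top cohomology. -/
theorem nonempty_HD_lP_top (f : Z ⟶ X) (G : DCoh.D X) [G.IsLE 0] :
    Nonempty (DCoh.HD ((lP f).obj G) 0 ≅ (Scheme.Modules.pullback f).obj (DCoh.HD G 0)) := by
  let t := (DerivedCategory.TStructure.t : Triangulated.TStructure (DCoh.D X))
  haveI : DCoh.HasLpull f := KFlat.Sch.hasLpull f
  obtain ⟨n⟩ := nonempty_lpull_natIso_lP f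
  let π : G ⟶ (t.truncGE 0).obj G := (t.truncGEπ 0).app G
  have hiso : ∀ i, (-1 : ℤ) < i → IsIso ((DerivedCategory.homologyFunctor _ i).map π) := fun i hi =>
    DerTrunc.isIso_homology_truncGEπ G 0 i (by omega)
  haveI hge : DerivedCategory.IsGE ((t.truncGE 0).obj G) 0 := (inferInstance : t.IsGE ((t.truncGE 0).obj G) 0)
  haveI hle : DerivedCategory.IsLE ((t.truncGE 0).obj G) 0 := (DerivedCategory.isLE_iff _ _).2 fun i hi => by
    haveI := hiso i (by omega)
    exact (DerivedCategory.isZero_of_isLE G 0 i hi).of_iso (asIso ((DerivedCategory.homologyFunctor _ i).map π)).symm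
  have hepi : Epi ((DerivedCategory.homologyFunctor _ (-1)).map π) :=
    IsZero.epi (DerivedCategory.isZero_of_isGE ((t.truncGE 0).obj G) 0 (-1) (by omega)) _
  obtain ⟨h1, -⟩ := KFlat.Sch.homology_lpull_map f π (-1) hiso hepi
  haveI := h1 0 (by omega)
  haveI := hiso 0 (by omega)
  obtain ⟨Y, ⟨eY⟩, ⟨eY'⟩⟩ := DPerf.exists_single_of_concentrated (K := (t.truncGE 0).obj G) 0
  let eT : (t.truncGE 0).obj G ≅ (DerivedCategory.singleFunctor X.Modules 0).obj Y :=
    ((shiftFunctorZero (DCoh.D X) ℤ).app _).symm ≪≫ eY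
  haveI := isIso_H0_cTr f Y
  exact ⟨(DerivedCategory.homologyFunctor _ 0).mapIso (n.app G).symm ≪≫
    asIso ((DerivedCategory.homologyFunctor _ 0).map ((DCoh.Lpull f).map π)) ≪≫
    (DerivedCategory.homologyFunctor _ 0).mapIso (n.app _ ≪≫ (lP f).mapIso eT) ≪≫
    asIso ((DerivedCategory.homologyFunctor _ 0).map ((cTr f).app Y)) ≪≫
    ((DerivedCategory.singleFunctorCompHomologyFunctorIso Z.Modules 0).app _) ≪≫
    (Scheme.Modules.pullback f).mapIso (eY' ≪≫ (asIso ((DerivedCategory.homologyFunctor _ 0).map π)).symm)⟩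

/-- At a point where the top cohomology sheaf is not zero, the derived pullback has cohomology in that degree. -/
theorem not_isZero_HD_lP (f : Z ⟶ X) (G : DCoh.D X) (j : ℤ) [G.IsLE j] (hc : Coh.IsCoh (DCoh.HD G j)) (z : Z)
    (hz : f z ∈ CohB1.support (DCoh.HD G j)) : ¬ IsZero (DCoh.HD ((lP f).obj G) j) := by
  obtain ⟨hsh, -⟩ := DPush.exists_commShift_isTriangulated f
  letI := hsh
  letI := (adjLP f).leftAdjointCommShift ℤ
  haveI : (G⟦j⟧).IsLE 0 := DerivedCategory.TStructure.t.isLE_shift G j j 0 (by simp)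
  obtain ⟨e⟩ := nonempty_HD_lP_top f (G⟦j⟧)
  let s : DCoh.HD (G⟦j⟧) 0 ≅ DCoh.HD G j :=
    ((DerivedCategory.homologyFunctor X.Modules 0).shiftIso j 0 j (by simp)).app G
  let s' : DCoh.HD ((lP f).obj (G⟦j⟧)) 0 ≅ DCoh.HD ((lP f).obj G) j :=
    (DerivedCategory.homologyFunctor Z.Modules 0).mapIso (((lP f).commShiftIso j).app G) ≪≫
      ((DerivedCategory.homologyFunctor Z.Modules 0).shiftIso j 0 j (by simp)).app _
  intro h
  have h' : IsZero ((Scheme.Modules.pullback f).obj (DCoh.HD G j)) :=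
    h.of_iso ((Scheme.Modules.pullback f).mapIso s.symm ≪≫ e.symm ≪≫ s')
  have hmem : z ∈ CohB1.support ((Scheme.Modules.pullback f).obj (DCoh.HD G j)) := by
    rw [M2.support_pullback f hc.1 hc.2]
    exact hz
  exact hmem (AddCommGrpCat.subsingleton_of_isZero ((M1.stalkAb z).map_isZero h'))

/-- The same, with the vanishing above the degree only near the point. -/
theorem not_isZero_HD_lP_local [IsLocallyNoetherian X] (f : Z ⟶ X) (G : DCoh.D X) (hc : DCoh.IsCohD G) (b j : ℤ)
    [G.IsLE b] (z : Z) (hz : f z ∈ CohB1.support (DCoh.HD G j))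
    (habove : ∀ l, j < l → f z ∉ CohB1.support (DCoh.HD G l)) (hZ : ∀ z' : Z, z' = z) :
    ¬ IsZero (DCoh.HD ((lP f).obj G) j) := by
  let U : X.Opens := ⟨⋂ l ∈ Finset.Icc (j + 1) b, (CohB1.support (DCoh.HD G l))ᶜ,
    isOpen_biInter_finset fun l _ => (M1.isClosed_support (hc l).2).isOpen_compl⟩
  have hzU : f z ∈ U := by
    refine Set.mem_iInter₂.2 fun l hl => habove l ?_
    have := (Finset.mem_Icc.1 hl).1
    omega
  let f' : Z ⟶ U := IsOpenImmersion.lift U.ι f (by
    rintro _ ⟨z', rfl⟩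
    rw [hZ z', Scheme.Opens.range_ι]
    exact hzU)
  have hf : f' ≫ U.ι = f := IsOpenImmersion.lift_fac _ _ _
  let G' := (DPerf.resD U.ι).obj G
  have hH : ∀ l, Nonempty (DCoh.HD G' l ≅ (Scheme.Modules.pullback U.ι).obj (DCoh.HD G l)) := fun l =>
    ⟨DPerf.hdResIso U.ι G l ≪≫ (Scheme.Modules.restrictFunctorIsoPullback U.ι).app _⟩
  have hsupp : ∀ l, CohB1.support (DCoh.HD G' l) = U.ι.base ⁻¹' CohB1.support (DCoh.HD G l) := fun l => by
    rw [support_iso (hH l).some, M2.support_pullback U.ι (hc l).1 (hc l).2]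
  haveI : G'.IsLE j := (DerivedCategory.isLE_iff _ _).2 fun l hl => by
    rcases le_or_gt l b with hlb | hlb
    · refine SerreCl8.isZero_of_support_eq_empty ?_
      rw [hsupp l]
      refine Set.eq_empty_iff_forall_notMem.2 fun u hu => ?_
      exact (Set.mem_iInter₂.1 u.2 l (Finset.mem_Icc.2 ⟨by omega, hlb⟩)) hu
    · exact ((Scheme.Modules.pullback U.ι).map_isZero (DerivedCategory.isZero_of_isLE G b l hlb)).of_iso (hH l).some
  intro h
  refine not_isZero_HD_lP f' G' j
    (CohFound.isCoh_of_iso (hH j).some.symm (M1.isCoh_pullback U.ι (hc j))) z ?_ ?_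
  · rw [hsupp j]
    show U.ι (f' z) ∈ CohB1.support (DCoh.HD G j)
    rw [← Scheme.Hom.comp_apply, hf]
    exact hz
  · exact h.of_iso ((DerivedCategory.homologyFunctor Z.Modules j).mapIso
      ((lP f').mapIso ((lPRes U.ι).app G).symm ≪≫ (lPComp f' U.ι hf).app G))

end Groth.Agent.FMHyp13

end
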