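import Groth.Agent.Lib.FMHyp13.HyperSingle
import Groth.Agent.Lib.FMHyp13.IdealMul
import Groth.Agent.Lib.FMHyp13.Exchange
import Groth.Agent.Lib.FMHyp13.Top
import Groth.Agent.Lib.NumPoly18.HodgeIndex
import Groth.Agent.Lib.RelPCS8.TorTensor
import Groth.Agent.Lib.FlatDescD9.Perf
import Groth.Agent.Lib.DerTrunc.Basic
import Groth.Agent.Lib.RefHull26.Dual

/-!
# Derived tensor products of ideals of small closed subschemes
-/

set_option autoImplicit false
set_option backward.isDefEq.respectTransparency false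
set_option backward.isDefEq.respectTransparency.types false
set_option linter.style.haveILetI false

universe u

open CategoryTheory CategoryTheory.Limits AlgebraicGeometry TopologicalSpace Opposite MonoidalCategory

attribute [local instance] HasDerivedCategory.standard

namespace Groth.Agent.FMHyp13

open CohFound Exact8.FMVanish

variable {X : Scheme.{u}}

theorem subsingleton_hc_of_zero {M : X.Modules} (h : IsZero M) (p : ℕ) : Subsingleton (Hc ((abF X).obj M) p ⊤) := by
  refine subsingleton_of_forall_eq 0 fun x => ?_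
  rw [← mp_id ((abF X).obj M) p ⊤ x, ((abF X).map_isZero h).eq_of_src (𝟙 _) 0, mp_zero]

theorem isCohD_single [IsLocallyNoetherian X] {F : X.Modules} (hF : Coh.IsCoh F) :
    DCoh.IsCohD ((DerivedCategory.singleFunctor X.Modules 0).obj F) := fun i => by
  rcases eq_or_ne i 0 with rfl | hi
  · exact CohFound.isCoh_of_iso ((DerivedCategory.singleFunctorCompHomologyFunctorIso X.Modules 0).app F).symm hF
  · refine DPush9.isCoh_of_isZero ?_
    rcases lt_or_gt_of_ne hi with h | h
    · exact DerivedCategory.isZero_of_isGE ((DerivedCategory.singleFunctor X.Modules 0).obj F) 0 i h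
    · exact DerivedCategory.isZero_of_isLE ((DerivedCategory.singleFunctor X.Modules 0).obj F) 0 i h

/-- Off the closed subscheme the negative cohomology of a tensor product with its ideal vanishes. -/
theorem support_homology_tensor (I : X.IdealSheafData) (G : X.Modules)
    (K : CochainComplex X.Modules ℤ) [K.IsStrictlyLE 0] (hK : KFlat.Sch.IsAdapted K)
    (π : K ⟶ (HomologicalComplex.single X.Modules (ComplexShape.up ℤ) 0).obj (ClSub.idealMod I)) [QuasiIso π]
    (n : ℤ) (hn : n < 0) :
    CohB1.support ((((DCoh.tensorRightMod G).mapHomologicalComplex (ComplexShape.up ℤ)).obj K).homology n) ⊆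
      Set.range I.subschemeι := by
  intro x hx
  by_contra hxI
  let R := X.presheaf.stalk x
  let st := KFlat.Sch.stF x
  haveI := (RelPCS8.StalkId.preservesFiniteLimits_stalkOver (𝟙 X) x).1
  haveI := (RelPCS8.StalkId.preservesFiniteLimits_stalkOver (𝟙 X) x).2
  haveI : PreservesFiniteLimits st := preservesFiniteLimits_of_natIso (RelPCS8.StalkId.stOverIdIso x)
  haveI : PreservesFiniteColimits st := preservesFiniteColimits_of_natIso (RelPCS8.StalkId.stOverIdIso x)
  let S := st.obj G
  let P : CochainComplex (ModuleCat.{u} R) ℤ := (st.mapHomologicalComplex (ComplexShape.up ℤ)).obj K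
  haveI : P.IsStrictlyLE 0 := (CochainComplex.isStrictlyLE_iff _ 0).2 fun i hi =>
    st.map_isZero (K.isZero_of_isStrictlyLE 0 i hi)
  have hP : ∀ i, Module.Flat R (P.X i) := fun i => (KFlat.Sch.isFlat_iff _).1 (hK.2.2 i) x
  let L : ModuleCat.{u} R := ModuleCat.of R R
  let Q : CochainComplex (ModuleCat.{u} R) ℤ := (HomologicalComplex.single _ (ComplexShape.up ℤ) 0).obj L
  have hQ : ∀ i, Module.Flat R (Q.X i) := fun i => by
    rcases eq_or_ne i 0 with rfl | hi
    · exact RelPCS8.StalkId.flat_of_iso (HomologicalComplex.singleObjXSelf (ComplexShape.up ℤ) 0 L).symm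
        (inferInstanceAs (Module.Flat R R))
    · haveI := ModuleCat.subsingleton_of_isZero
        (HomologicalComplex.isZero_single_obj_X (ComplexShape.up ℤ) 0 L i hi)
      infer_instance
  let e1 : st.obj (ClSub.idealMod I) ≅ L :=
    ((LinearEquiv.ofBijective _ (bijective_idealModι hxI)).trans (RH26.str x).symm).toModuleIso
  let e : DRing.toD P ≅ DRing.toD Q :=
    asIso (DerivedCategory.Q.map ((st.mapHomologicalComplex (ComplexShape.up ℤ)).map π)) ≪≫
      DerivedCategory.Q.mapIso ((HomologicalComplex.singleMapHomologicalComplex st (ComplexShape.up ℤ) 0).app _ ≪≫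
        (HomologicalComplex.single _ (ComplexShape.up ℤ) 0).mapIso e1)
  obtain ⟨e'⟩ := DBaseChange.nonempty_tm_iso S 0 0 hP hQ e
  have hz : IsZero (((DBaseChange.tm S).obj P).homology n) := by
    have hzQ : IsZero (((DBaseChange.tm S).obj Q).homology n) :=
      (HomologicalComplex.exactAt_iff_isZero_homology _ _).1 ((HomologicalComplex.exactAt_iff _ _).2
        (ShortComplex.exact_of_isZero_X₂ _ ((tensorRight S).map_isZero
          (HomologicalComplex.isZero_single_obj_X (ComplexShape.up ℤ) 0 L n (by omega)))))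
    exact hzQ.of_iso (((DerivedCategory.homologyFunctorFactors _ n).app _).symm ≪≫
      (DerivedCategory.homologyFunctor _ n).mapIso e' ≪≫ (DerivedCategory.homologyFunctorFactors _ n).app _)
  let C := ((DCoh.tensorRightMod G).mapHomologicalComplex (ComplexShape.up ℤ)).obj K
  refine hx ?_
  have hex := (HomologicalComplex.exactAt_iff_isZero_homology _ _).2 hz
  rw [HomologicalComplex.exactAt_iff] at hex
  have hCx : ((C.sc n).map st).Exact :=
    (ShortComplex.exact_iff_of_iso ((K.sc n).mapNatIso (RelPCS8.StalkId.stTensorRightIso x G))).2 hex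
  have hzC : IsZero (st.obj (C.homology n)) :=
    ((ShortComplex.exact_iff_isZero_homology _).1 hCx).of_iso ((C.sc n).mapHomologyIso st).symm
  exact ModuleCat.subsingleton_of_isZero hzC

/-- The top cohomology of a tensor product with a resolution. -/
theorem nonempty_homology_zero_tensor (F G : X.Modules)
    (K : CochainComplex X.Modules ℤ) [K.IsStrictlyLE 0]
    (π : K ⟶ (HomologicalComplex.single X.Modules (ComplexShape.up ℤ) 0).obj F) [QuasiIso π] :
    Nonempty ((((DCoh.tensorRightMod G).mapHomologicalComplex (ComplexShape.up ℤ)).obj K).homology 0 ≅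
      CohB1.tensorMod F G) := by
  let T := DCoh.tensorRightMod G
  let C := (T.mapHomologicalComplex (ComplexShape.up ℤ)).obj K
  have hK1 : IsZero (K.X 1) := K.isZero_of_isStrictlyLE 0 1 (by omega)
  haveI := K.isIso_homologyι 0 1 ((ComplexShape.up ℤ).next_eq' (by simp)) (hK1.eq_of_tgt _ _)
  haveI := C.isIso_homologyι 0 1 ((ComplexShape.up ℤ).next_eq' (by simp)) ((T.map_isZero hK1).eq_of_tgt _ _)
  have hp : (ComplexShape.up ℤ).prev 0 = -1 := (ComplexShape.up ℤ).prev_eq' (by simp)
  exact ⟨asIso (C.homologyι 0) ≪≫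
    (C.opcyclesIsCokernel (-1) 0 hp).coconePointUniqueUpToIso (cokernelIsCokernel _) ≪≫
    (PreservesCokernel.iso T (K.d (-1) 0)).symm ≪≫
    T.mapIso (((K.opcyclesIsCokernel (-1) 0 hp).coconePointUniqueUpToIso (cokernelIsCokernel _)).symm ≪≫
      (asIso (K.homologyι 0)).symm ≪≫ isoOfQuasiIsoAt π 0 ≪≫
      HomologicalComplex.singleObjHomologySelfIso (ComplexShape.up ℤ) 0 F)⟩

/-- The derived tensor product of an ideal with a coherent module. -/
theorem exists_lTensor_ideal [IsNoetherian X] (hreg : ∀ x : X, IsRegularLocalRing (X.presheaf.stalk x))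
    (I : X.IdealSheafData) {G : X.Modules} (hG : Coh.IsCoh G) [DCoh.HasLTensorMod G] :
    let T := (DCoh.LTensorMod G).obj (DCoh.inD X (ClSub.idealMod I))
    T.IsLE 0 ∧ (∃ a : ℤ, T.IsGE a) ∧
      Nonempty (DCoh.HD T 0 ≅ CohB1.tensorMod (ClSub.idealMod I) G) ∧
      ∀ n : ℤ, n < 0 → Coh.IsCoh (DCoh.HD T n) ∧ CohB1.support (DCoh.HD T n) ⊆ Set.range I.subschemeι := by
  intro T
  let F := ClSub.idealMod I
  let S0 := (HomologicalComplex.single X.Modules (ComplexShape.up ℤ) 0).obj F
  let K := KFlat.resObj (KFlat.Sch.cover X) S0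
  let π : K ⟶ S0 := KFlat.resπ (KFlat.Sch.cover X) S0
  haveI : QuasiIso π := KFlat.quasiIso_resπ (KFlat.Sch.cover X) S0
  haveI : K.IsStrictlyLE 0 := KFlat.resObj_isStrictlyLE (KFlat.Sch.cover X) S0 0
  have hK : KFlat.Sch.IsAdapted K := KFlat.Sch.isAdapted_resObj S0
  let C := ((DCoh.tensorRightMod G).mapHomologicalComplex (ComplexShape.up ℤ)).obj K
  let s : DCoh.toD X K ≅ DCoh.inD X F := asIso (DerivedCategory.Q.map π) ≪≫
    ((DerivedCategory.singleFunctorIsoCompQ X.Modules 0).app F).symm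
  let e : T ≅ DCoh.toD X C := (DCoh.LTensorMod G).mapIso s.symm ≪≫ KFlat.Sch.lTensorModObjIso G K hK
  let h : ∀ n, DCoh.HD T n ≅ C.homology n := fun n => (DerivedCategory.homologyFunctor X.Modules n).mapIso e ≪≫
    (DerivedCategory.homologyFunctorFactors X.Modules n).app C
  have hp : DCoh.IsPerfect (DCoh.inD X F) := DPerf.isPerfect_iff_approx.2 (DPerf.isPerfect_of_regular hreg
    (0 + 1 - 0 : ℤ).toNat 0 ((DerivedCategory.singleFunctor X.Modules 0).obj F) inferInstance
    (fun j hj => DerivedCategory.isZero_of_isLE ((DerivedCategory.singleFunctor X.Modules 0).obj F) 0 j (by omega))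
    (isCohD_single (CurveCoh17.isCoh_idealMod I)))
  obtain ⟨a, b, hab⟩ := FlatDescD9.exists_flatAmplitude_of_compact hp
  obtain ⟨e0⟩ := nonempty_homology_zero_tensor F G K π
  refine ⟨(DerivedCategory.isLE_iff T 0).2 fun i hi => IsZero.of_iso ?_ (h i),
    ⟨a, (DerivedCategory.isGE_iff T a).2 fun i hi => KFlat.Sch.torAmplitude_of_flatAmplitude hab G i (Or.inl hi)⟩,
    ⟨h 0 ≪≫ e0⟩, fun n hn => ⟨?_, ?_⟩⟩
  · exact (HomologicalComplex.exactAt_iff_isZero_homology _ _).1 ((HomologicalComplex.exactAt_iff _ _).2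
      (ShortComplex.exact_of_isZero_X₂ _ ((DCoh.tensorRightMod G).map_isZero (K.isZero_of_isStrictlyLE 0 i hi))))
  · exact CohFound.isCoh_of_iso ((DerivedCategory.homologyFunctor X.Modules n).mapIso e).symm
      (RelPCS8.TorTensor.isCoh_HD_tensor G hG K hK
        (DPerf.isPerfect_iff_approx.2 ((DPerf.isPerfect_iff_approx.1 hp).of_iso s.symm)) n)
  · rw [support_iso (h n)]
    exact support_homology_tensor I G K hK π n hn

/-- Cohomology sheaves of a twist. -/
theorem nonempty_HD_lTensor (L : X.Modules) (hL : PicF.IsInvertible L) [DCoh.HasLTensorMod L] (T : DCoh.D X) (n : ℤ) :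
    Nonempty (DCoh.HD ((DCoh.LTensorMod L).obj T) n ≅ CohB1.tensorMod (DCoh.HD T n) L) := by
  haveI := PnKoszul9.preservesFiniteLimits_tensorRightMod L hL
  obtain ⟨a⟩ := PnKoszul9.nonempty_ltensorMod_twD (M := L)
  let K := DerivedCategory.Q.objPreimage T
  let eK : DerivedCategory.Q.obj K ≅ T := DerivedCategory.Q.objObjPreimageIso T
  let F := DCoh.tensorRightMod L
  exact ⟨(DerivedCategory.homologyFunctor X.Modules n).mapIso (a.app T ≪≫ (PnKoszul9.twD L).mapIso eK.symm ≪≫
      F.mapDerivedCategoryFactors.app K) ≪≫ (DerivedCategory.homologyFunctorFactors X.Modules n).app _ ≪≫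
    (K.sc n).mapHomologyIso F ≪≫ F.mapIso (((DerivedCategory.homologyFunctorFactors X.Modules n).app K).symm ≪≫
      (DerivedCategory.homologyFunctor X.Modules n).mapIso eK)⟩

theorem support_tensor_left (M L : X.Modules) : CohB1.support (CohB1.tensorMod M L) ⊆ CohB1.support M := by
  intro x hx h
  refine hx ?_
  haveI := h
  exact (M2.stalkEquiv M L x).toEquiv.subsingleton

/-- A twist by an invertible module keeps the shape. -/
theorem twist_shape {Z : Set X} {N L : X.Modules} (hL : PicF.IsInvertible L) [DCoh.HasLTensorMod L] {T : DCoh.D X}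
    (hT : T.IsLE 0 ∧ (∃ a : ℤ, T.IsGE a) ∧ Nonempty (DCoh.HD T 0 ≅ N) ∧
      ∀ n : ℤ, n < 0 → Coh.IsCoh (DCoh.HD T n) ∧ CohB1.support (DCoh.HD T n) ⊆ Z) :
    let T' := (DCoh.LTensorMod L).obj T
    T'.IsLE 0 ∧ (∃ a : ℤ, T'.IsGE a) ∧ Nonempty (DCoh.HD T' 0 ≅ CohB1.tensorMod N L) ∧
      ∀ n : ℤ, n < 0 → Coh.IsCoh (DCoh.HD T' n) ∧ CohB1.support (DCoh.HD T' n) ⊆ Z := by
  intro T'
  obtain ⟨hle, ⟨a, hge⟩, ⟨e⟩, hneg⟩ := hT
  have h := fun n => (nonempty_HD_lTensor L hL T n).some
  let F := DCoh.tensorRightMod L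
  refine ⟨(DerivedCategory.isLE_iff T' 0).2 fun i hi => (F.map_isZero (DerivedCategory.isZero_of_isLE T 0 i hi)).of_iso (h i),
    ⟨a, (DerivedCategory.isGE_iff T' a).2 fun i hi => (F.map_isZero (DerivedCategory.isZero_of_isGE T a i hi)).of_iso (h i)⟩,
    ⟨h 0 ≪≫ F.mapIso e⟩, fun n hn => ⟨?_, ?_⟩⟩
  · exact CohFound.isCoh_of_iso (h n).symm (CohFound.isCoh_tensor (hneg n hn).1 (CubeField.isCoh_of_isInvertible hL))
  · rw [support_iso (h n)]
    exact (support_tensor_left _ _).trans (hneg n hn).2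

section Proper

variable (k : Type u) [Field k] [X.Over (Spec (CommRingCat.of k))] [IsProper (X ↘ (Spec (CommRingCat.of k)))]

include k in
/-- Negative cohomology of small support does not affect high degree hypercohomology. -/
theorem subsingleton_HH_top [DCoh.HasRΓ X] {Z : Set X} (hZ : topologicalKrullDim Z ≤ 1) {N : X.Modules}
    {W : DCoh.D X} (hW : W.IsLE 0 ∧ (∃ a : ℤ, W.IsGE a) ∧ Nonempty (DCoh.HD W 0 ≅ N) ∧
      ∀ n : ℤ, n < 0 → Coh.IsCoh (DCoh.HD W n) ∧ CohB1.support (DCoh.HD W n) ⊆ Z) (i : ℕ) (hi : 1 ≤ i)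
    (h : IsZero ((DerivedCategory.homologyFunctor AddCommGrpCat.{u} (i : ℤ)).obj ((DCoh.RΓ X).obj W))) :
    Subsingleton (Coh.HH X N i) := by
  obtain ⟨hle, ⟨a, hge⟩, ⟨eN⟩, hneg⟩ := hW
  obtain ⟨hs, htr⟩ := SiteRlim.exists_commShift_isTriangulated
    ((DCoh.gammaKh X).totalRightDerivedUnit DerivedCategory.Qh
      (HomotopyCategory.quasiIso X.Modules (ComplexShape.up ℤ))) KInjLib.enoughKInj_of_grothendieck
  letI := hs
  haveI := htr
  let t := (DerivedCategory.TStructure.t : Triangulated.TStructure (DCoh.D X))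
  let A := (t.truncLT 0).obj W
  let B := (t.truncGE 0).obj W
  haveI hA1 : DerivedCategory.IsLE A (-1) := t.isLE_truncLT_obj W 0 (-1) (by omega)
  have hB0 : IsIso ((DerivedCategory.homologyFunctor X.Modules 0).map ((t.truncGEπ 0).app W)) :=
    DerTrunc.isIso_homology_truncGEπ W 0 0 le_rfl
  haveI : DerivedCategory.IsGE B 0 := (inferInstance : t.IsGE B 0)
  haveI : DerivedCategory.IsLE B 0 := (DerivedCategory.isLE_iff _ _).2 fun j hj => by
    haveI := DerTrunc.isIso_homology_truncGEπ W 0 j hj.le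
    exact (DerivedCategory.isZero_of_isLE W 0 j hj).of_iso
      (asIso ((DerivedCategory.homologyFunctor _ j).map ((t.truncGEπ 0).app W))).symm
  obtain ⟨Y, ⟨eY⟩, ⟨eY'⟩⟩ := DPerf.exists_single_of_concentrated (K := B) 0
  let eB : B ≅ (DerivedCategory.singleFunctor X.Modules 0).obj N :=
    ((shiftFunctorZero (DCoh.D X) ℤ).app _).symm ≪≫ eY ≪≫ (DerivedCategory.singleFunctor X.Modules 0).mapIso
      (eY' ≪≫ (asIso ((DerivedCategory.homologyFunctor _ 0).map ((t.truncGEπ 0).app W))).symm ≪≫ eN)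
  haveI : DerivedCategory.IsGE A a := (DerivedCategory.isGE_iff _ _).2 fun j hj => by
    rcases lt_or_ge j 0 with hj0 | hj0
    · haveI := DerTrunc.isIso_homology_truncLTι W 0 j hj0
      exact (DerivedCategory.isZero_of_isGE W a j hj).of_iso
        (asIso ((DerivedCategory.homologyFunctor _ j).map ((t.truncLTι 0).app W)))
    · exact DerivedCategory.isZero_of_isLE A (-1) j (by omega)
  have hA : IsZero ((DerivedCategory.homologyFunctor AddCommGrpCat.{u} ((i : ℤ) + 1)).obj ((DCoh.RΓ X).obj A)) := by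
    refine isZero_rGamma A a _ fun n p hnp => ?_
    rcases lt_or_ge n 0 with hn | hn
    · haveI := DerTrunc.isIso_homology_truncLTι W 0 n hn
      obtain ⟨hc, hsupp⟩ := hneg n hn
      refine subsingleton_hc_of_iso (asIso ((DerivedCategory.homologyFunctor _ n).map ((t.truncLTι 0).app W))).symm
        p ⊤ ?_
      rw [← subsingleton_HH_iff]
      refine NumPoly18.subsingleton_HH_of_support (k := k) hc (d := 1) ?_ (by omega)
      exact ((Topology.IsEmbedding.inclusion hsupp).isInducing.topologicalKrullDim_le).trans (hZ.trans le_rfl)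
    · exact subsingleton_hc_of_zero (DerivedCategory.isZero_of_isLE A (-1) n (by omega)) p
  let T := (DCoh.RΓ X).mapTriangle.obj ((t.triangleLTGE 0).obj W)
  have hT : T ∈ Pretriangulated.distinguishedTriangles := (DCoh.RΓ X).map_distinguished _ (t.triangleLTGE_distinguished 0 W)
  have hB : IsZero ((DerivedCategory.homologyFunctor AddCommGrpCat.{u} (i : ℤ)).obj ((DCoh.RΓ X).obj B)) :=
    (DerivedCategory.HomologySequence.exact₃ T hT (i : ℤ) ((i : ℤ) + 1) rfl).isZero_X₂
      (h.eq_of_src _ _) (hA.eq_of_tgt _ _)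
  exact subsingleton_HH_of_isZero_rGamma N i hi (hB.of_iso
    ((DerivedCategory.homologyFunctor _ _).mapIso ((DCoh.RΓ X).mapIso eB.symm)))

include k in
/-- Quotient by a piece of small support. -/
theorem subsingleton_HH_quot {Z : Set X} (hZ : topologicalKrullDim Z ≤ 1) {S : ShortComplex X.Modules}
    (hS : S.ShortExact) (hc : Coh.IsCoh S.X₁) (hsupp : CohB1.support S.X₁ ⊆ Z) (i : ℕ) (hi : 1 ≤ i)
    (h : Subsingleton (Coh.HH X S.X₂ i)) : Subsingleton (Coh.HH X S.X₃ i) := by
  have h1 : Subsingleton (Coh.HH X S.X₁ (i + 1)) := NumPoly18.subsingleton_HH_of_support (k := k) hc (d := 1)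
    (((Topology.IsEmbedding.inclusion hsupp).isInducing.topologicalKrullDim_le).trans hZ) (by omega)
  rw [subsingleton_HH_iff] at h h1 ⊢
  refine subsingleton_of_forall_eq 0 fun x => ?_
  obtain ⟨y, rfl⟩ := exact₃ (shortExact_abF hS) i ⊤ x (@Subsingleton.elim _ h1 _ _)
  rw [@Subsingleton.elim _ h y 0, map_zero]

end Proper

end Groth.Agent.FMHyp13
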