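import Groth.Agent.Lib.CurveR1_10.Basic
import Groth.Agent.Lib.CurveAmple18.EulerTensor
import Groth.Agent.Lib.PushStab17.Basic
import Groth.Agent.Lib.CurveCoh17.DegTwo
import Groth.Agent.Lib.H12.Dim
import Groth.Agent.Lib.ProjDual12.TraceField

/-!
# Ranks at the generic point of higher direct images and of finite direct images
-/

set_option autoImplicit false
set_option linter.style.haveILetI false
set_option linter.unusedSectionVars false
set_option backward.isDefEq.respectTransparency false
set_option backward.isDefEq.respectTransparency.types false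
set_option maxHeartbeats 1000000

universe u

open CategoryTheory CategoryTheory.Limits AlgebraicGeometry TopologicalSpace Opposite

noncomputable section

namespace Groth.Agent.FMHyp13

open Groth.Agent

variable {X S : Scheme.{u}}

/-- The rank at a point. -/
abbrev rkAt (M : S.Modules) (s : S) : ℕ := Module.finrank (S.presheaf.stalk s) (M.presheaf.stalk s)

/-- The rank at the generic point. -/
abbrev genRk [IsIntegral S] (M : S.Modules) : ℕ := rkAt M (genericPoint S)

theorem genRk_iso [IsIntegral S] {M N : S.Modules} (e : M ≅ N) : genRk M = genRk N :=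
  ProjDual12.finrank_stalk_iso e

theorem genRk_of_isZero [IsIntegral S] {M : S.Modules} (h : IsZero M) : genRk M = 0 := by
  haveI := AddCommGrpCat.subsingleton_of_isZero ((M1.stalkAb (genericPoint S)).map_isZero h)
  haveI : Subsingleton (M.presheaf.stalk (genericPoint S)) := this
  exact Module.finrank_zero_of_subsingleton

/-- All cokernels of a computing complex are free at the generic point. -/
theorem freeAt_genericPoint [IsIntegral S] {f : X ⟶ S} {F : X.Modules} {V : S.Opens} (M : CBC10.Model f F V) (n : ℤ)
    (h : genericPoint S ∈ V) : M.FreeAt n (genericPoint S) := by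
  letI : Algebra Γ(S, V) (S.presheaf.stalk (genericPoint S)) := (S.presheaf.germ V _ h).hom.toAlgebra
  haveI := M.isAffine.isLocalization_stalk ⟨_, h⟩
  refine ⟨h, (Module.mem_freeLocus_iff_tensor _ (S.presheaf.stalk (genericPoint S))).2 ?_⟩
  letI := (Field.toIsField S.functionField : IsField (S.presheaf.stalk (genericPoint S))).toField
  exact Module.Free.of_divisionRing _ _

/-- The fibre cohomology at the generic point has the generic rank of the higher direct image. -/
theorem fiberRank_genericPoint [IsIntegral S] [IsNoetherian S] (f : X ⟶ S) [IsProper f] {F : X.Modules}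
    (hF : Coh.IsCoh F) (hfl : FlatMod.IsFlatOver f F) [HasInjectiveResolutions X.Modules] (p : ℕ) :
    CohIII.fiberRank f F p (genericPoint S) = genRk ((Coh.Rpush f p).obj F) := by
  haveI := hF.1
  haveI : IsLocallyNoetherian X := LocallyOfFiniteType.isLocallyNoetherian f
  haveI : LocallyOfFinitePresentation f := LimH13.locallyOfFinitePresentation_of_noetherian f
  obtain ⟨V, -, M, hV⟩ := CBC10.exists_model_at f F (M1.isFP_of_isCoh hF) hfl (U := ⊤) (s := genericPoint S) trivial
  obtain ⟨V', -, M', hV', hflat⟩ := CBC10.exists_flat_model M hV [-(p : ℤ) - 1]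
    fun n _ => freeAt_genericPoint M n hV
  obtain ⟨U, -, hηU, ⟨e⟩⟩ := CurveAmple18.exists_affine_generic_free (CohFound.isCoh_rpush f hF p)
  exact CurveR1_10.fiberRank_eq_of_freeMod f M' p (hflat _ (List.mem_singleton.2 rfl)) hV' hηU e.symm

/-- A finite surjection of integral schemes has one point over the generic point. -/
theorem eq_genericPoint_of_image [IsIntegral X] [IsIntegral S] (f : X ⟶ S) [IsFinite f] [Surjective f] :
    f (genericPoint X) = genericPoint S ∧ ∀ x, f x = genericPoint S → x = genericPoint X := by
  have hη : f (genericPoint X) = genericPoint S := by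
    obtain ⟨x, hx⟩ := f.surjective (genericPoint S)
    have h := (genericPoint_spec X).image f.continuous
    rw [Set.image_univ, f.surjective.range_eq, closure_univ] at h
    exact ((genericPoint_spec S).eq h).symm
  refine ⟨hη, fun x hx => ?_⟩
  exact (H12.eq_of_specializes_of_isIntegralHom f ((genericPoint_spec X).specializes trivial) (hη.trans hx.symm)).symm

/-- Generic ranks of finite direct images. -/
theorem genRk_push [IsIntegral X] [IsIntegral S] (f : X ⟶ S) [IsFinite f] [Surjective f] (N : X.Modules) :
    genRk ((Scheme.Modules.pushforward f).obj N) = f.residueDegree (genericPoint X) * genRk N := by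
  obtain ⟨hη, hpre⟩ := eq_genericPoint_of_image f
  suffices key : rkAt ((Scheme.Modules.pushforward f).obj N) (f (genericPoint X)) =
      f.residueDegree (genericPoint X) * genRk N by
    rw [hη] at key
    exact key
  let ξ := genericPoint X
  let G := (Scheme.Modules.pushforward f).obj N
  have hKY : IsField (S.presheaf.stalk (f ξ)) := by rw [hη]; exact Field.toIsField S.functionField
  have hKX : IsField (X.presheaf.stalk ξ) := Field.toIsField X.functionField
  letI : Algebra (S.presheaf.stalk (f ξ)) (X.presheaf.stalk ξ) := (f.stalkMap ξ).hom.toAlgebra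
  letI : Algebra (S.residueField (f ξ)) (X.residueField ξ) := (f.residueFieldMap ξ).hom.toAlgebra
  have bij : ∀ (Z : Scheme.{u}) (z : Z), IsField (Z.presheaf.stalk z) → Function.Bijective (Z.residue z) :=
    fun Z z h => ⟨by
      letI := h.toField
      exact RingHom.injective _, IsLocalRing.residue_surjective⟩
  have h1 : Module.finrank (S.presheaf.stalk (f ξ)) (X.presheaf.stalk ξ) = f.residueDegree ξ :=
    Algebra.finrank_eq_of_equiv_equiv (RingEquiv.ofBijective (S.residue (f ξ)).hom (bij _ _ hKY))
      (RingEquiv.ofBijective (X.residue ξ).hom (bij _ _ hKX))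
      (RingHom.ext fun a => ConcreteCategory.congr_hom (Scheme.residue_residueFieldMap f ξ) a)
  letI : Module (S.presheaf.stalk (f ξ)) (N.presheaf.stalk ξ : Type u) :=
    Module.compHom (N.presheaf.stalk ξ : Type u) (f.stalkMap ξ).hom
  haveI : IsScalarTower (S.presheaf.stalk (f ξ)) (X.presheaf.stalk ξ) (N.presheaf.stalk ξ : Type u) :=
    IsScalarTower.of_algebraMap_smul fun _ _ => rfl
  let q : G.presheaf.stalk (f ξ) →+ (N.presheaf.stalk ξ : Type u) :=
    (TopCat.Presheaf.stalkPushforward AddCommGrpCat.{u} f.base N.presheaf ξ).hom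
  have hq : ∀ (V : S.Opens) (hV : f ξ ∈ V) (s : Γ(G, V)),
      q (G.presheaf.germ V (f ξ) hV s) = N.presheaf.germ (f ⁻¹ᵁ V) ξ hV s := fun V hV s =>
    ConcreteCategory.congr_hom (TopCat.Presheaf.stalkPushforward_germ AddCommGrpCat.{u} f.base N.presheaf V ξ hV) s
  have hsmul : ∀ (c : S.presheaf.stalk (f ξ)) (a : G.presheaf.stalk (f ξ)),
      q (c • a) = (f.stalkMap ξ c) • q a := by
    intro c a
    obtain ⟨U, hU, c, rfl⟩ := S.presheaf.exists_germ_eq c
    obtain ⟨V, hV, s, rfl⟩ := G.presheaf.exists_germ_eq a
    rw [← S.presheaf.germ_res_apply (homOfLE (inf_le_left : U ⊓ V ≤ U)) (f ξ) ⟨hU, hV⟩ c,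
      ← M1.germ_mres G (inf_le_right : U ⊓ V ≤ V) (x := f ξ) ⟨hU, hV⟩ s, ← M1.germ_smul, hq, hq,
      Scheme.Hom.germ_stalkMap_apply, ← M1.germ_smul]
    rfl
  have hbij : Function.Bijective q :=
    PushStab17.bijective_stalkPush f N ξ fun z hz => hpre z (hz.trans hη)
  let T : G.presheaf.stalk (f ξ) ≃ₗ[S.presheaf.stalk (f ξ)] (N.presheaf.stalk ξ : Type u) :=
    { AddEquiv.ofBijective q hbij with map_smul' := fun c a => hsmul c a }
  refine (T.finrank_eq).trans ?_
  rw [← h1]
  letI := hKY.toField
  letI := hKX.toField
  exact (Module.finrank_mul_finrank (S.presheaf.stalk (f ξ)) (X.presheaf.stalk ξ) (N.presheaf.stalk ξ : Type u)).symm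

end Groth.Agent.FMHyp13

end
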