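import Groth.Agent.Lib.FMHyp13.TwistedIsog
import Groth.Agent.Lib.FMHyp13.GenericFibre
import Groth.Agent.Lib.NumPoly18.FamilyEuler
import Groth.Agent.Lib.Poinc13.Push
import Groth.Agent.Lib.PicTan20.Degree

/-!
# The generic twisted cohomology and the transform
-/

set_option autoImplicit false
set_option linter.style.haveILetI false
set_option linter.unusedSectionVars false
set_option backward.isDefEq.respectTransparency false
set_option backward.isDefEq.respectTransparency.types false
set_option maxHeartbeats 1600000

universe u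

open CategoryTheory CategoryTheory.Limits MonoidalCategory CartesianMonoidalCategory AlgebraicGeometry
open TopologicalSpace
open scoped MonObj GrpObj

attribute [local instance] HasDerivedCategory.standard

noncomputable section

namespace Groth.Agent.FMHyp13

open DMon9 DBC9 TwistBC9 FMBase13 Groth.Agent

attribute [local instance] DBC9.hasRpush

variable {k : Type u} [Field k] {A At : Over (Spec (CommRingCat.of k))}

/-- The family of twists of a module. -/
abbrev famM (P : (PicF.XT A.hom At).Modules) (G : A.left.Modules) : (A ⊗ At).left.Modules :=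
  CohB1.tensorMod ((Scheme.Modules.pullback (fst A At).left).obj G) P

variable [IsProper A.hom] [Smooth A.hom] [IsProper At.hom] [Smooth At.hom]
  {P : (PicF.XT A.hom At).Modules} (hP : PicF.IsInvertible P)

theorem isProper_snd : IsProper (snd A At).left := inferInstanceAs (IsProper (pullback.snd A.hom At.hom))

include hP in
theorem famM_props {G : A.left.Modules} (hG : Coh.IsCoh G) :
    Coh.IsCoh (famM P G) ∧ FlatMod.IsFlatOver (snd A At).left (famM P G) := by
  haveI := isProper_snd (A := A) (At := At)
  haveI : IsLocallyNoetherian A.left := LocallyOfFiniteType.isLocallyNoetherian A.hom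
  haveI : IsLocallyNoetherian At.left := LocallyOfFiniteType.isLocallyNoetherian At.hom
  haveI : IsLocallyNoetherian (A ⊗ At).left := LocallyOfFiniteType.isLocallyNoetherian (snd A At).left
  haveI := hG.1
  have h' : Coh.IsCoh ((Scheme.Modules.pullback (fst A At).left).obj G) := M1.isCoh_pullback _ hG
  haveI := h'.1
  have hfl : FlatMod.IsFlatOver (snd A At).left ((Scheme.Modules.pullback (fst A At).left).obj G) := fun x =>
    FlatH4.isFlatOverAt_baseChange (IsPullback.of_hasPullback A.hom At.hom) G x
      (NumPoly18.isFlatOver_field _ _ _)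
  exact ⟨CurveCoh17.isCoh_tensor h' (Snapper.isCoh_of_isInvertible hP), FlatTwist13.isFlatOver_tensor _ hfl hP⟩

include hP in
/-- The twisted cohomology is the fibre cohomology of the family. -/
theorem hAt_eq_fiberRank {G : A.left.Modules} (hG : Coh.IsCoh G) (α : 𝟙_ (Over (Spec (CommRingCat.of k))) ⟶ At)
    (i : ℕ) :
    W4c5cohrankabvar.hAt k P G α i = CohIII.fiberRank (snd A At).left (famM P G) i (CubeField.rpt α) := by
  letI : A.left.Over (Spec (CommRingCat.of k)) := ⟨A.hom⟩
  haveI := isProper_snd (A := A) (At := At)
  haveI : IsLocallyNoetherian At.left := LocallyOfFiniteType.isLocallyNoetherian At.hom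
  obtain ⟨hF, hfl⟩ := famM_props hP hG
  have hr : CubeField.rpt α = α.left.base ⟨⊥, Ideal.isPrime_bot⟩ :=
    congrArg α.left.base (Subsingleton.elim (α := PrimeSpectrum k) _ _)
  refine Eq.trans ?_ ((congrArg (CohIII.fiberRank (snd A At).left (famM P G) i) hr).trans
    (NumPoly18.fiberRank_eq_finrank (X' := A.left) (snd A At).left hF hfl (lift (𝟙 A) (toUnit A ≫ α)).left
      α.left (isPullback_section (A := A) α) i)).symm
  have h1 : (lift (𝟙 A) (toUnit A ≫ α)).left ≫ (fst A At).left = 𝟙 A.left := by
    rw [← Over.comp_left, lift_fst, Over.id_left]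
  exact ((CBC10.hmapLinEquiv k (M2.pullTensorIso _ _ P ≪≫ M2.tensorIso
    ((Scheme.Modules.pullbackComp _ _).app G ≪≫ (Scheme.Modules.pullbackCongr h1).app G ≪≫
      (Scheme.Modules.pullbackId _).app G) (Iso.refl (W4c5cohrankabvar.ptLB P α))) i).finrank_eq).symm

include hP in
/-- The cohomology sheaves of the transform are the higher direct images of the family. -/
theorem nonempty_fmH_rpush [HasInjectiveResolutions (A ⊗ At).left.Modules] (G : A.left.Modules) :
    (∀ p : ℕ, Nonempty (fmH P G p ≅ (Coh.Rpush (snd A At).left p).obj (famM P G))) ∧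
      ∀ i : ℤ, i < 0 → IsZero (fmH P G i) := by
  haveI : Flat (fst A At).left := inferInstanceAs (Flat (pullback.fst A.hom At.hom))
  obtain ⟨fA⟩ := nonempty_lP_single_flat (fst A At).left G
  obtain ⟨m⟩ := FMBase13.nonempty_modM_tensor ((Scheme.Modules.pullback (fst A At).left).obj G) P hP
  let e : (phiK (fst A At).left (snd A At).left P).obj ((DerivedCategory.singleFunctor A.left.Modules 0).obj G) ≅
      (DCoh.Rpush (snd A At).left).obj ((DerivedCategory.singleFunctor _ 0).obj (famM P G)) :=
    (DCoh.Rpush (snd A At).left).mapIso ((tenF P).mapIso fA ≪≫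
      (m : (tenF P).obj ((DerivedCategory.singleFunctor _ 0).obj ((Scheme.Modules.pullback (fst A At).left).obj G)) ≅
        (DerivedCategory.singleFunctor (A ⊗ At).left.Modules 0).obj (famM P G)))
  refine ⟨fun p => ?_, fun i hi => ?_⟩
  · obtain ⟨h⟩ := Poinc13.nonempty_hd_rpush (snd A At).left (famM P G) p
    exact ⟨(DerivedCategory.homologyFunctor _ (p : ℤ)).mapIso e ≪≫ h⟩
  · exact (Poinc13.isZero_hd_rpush_neg (snd A At).left (famM P G) i hi).of_iso
      ((DerivedCategory.homologyFunctor _ i).mapIso e)

variable [IsIntegral At.left]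

include hP in
/-- The fibre cohomology at the generic point. -/
theorem fiberRank_eq_genRk {G : A.left.Modules} (hG : Coh.IsCoh G) (p : ℕ) :
    CohIII.fiberRank (snd A At).left (famM P G) p (genericPoint At.left) = genRk (fmH P G p) := by
  haveI := isProper_snd (A := A) (At := At)
  haveI : IsLocallyNoetherian At.left := LocallyOfFiniteType.isLocallyNoetherian At.hom
  haveI : CompactSpace At.left := QuasiCompact.compactSpace_of_compactSpace At.hom
  haveI : AlgebraicGeometry.IsNoetherian At.left := {}
  haveI : HasInjectiveResolutions (A ⊗ At).left.Modules := CohFound.hasInjectiveResolutions_modules _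
  obtain ⟨hF, hfl⟩ := famM_props hP hG
  rw [fiberRank_genericPoint _ hF hfl p, genRk_iso ((nonempty_fmH_rpush hP G).1 p).some]

variable [IsAlgClosed k]

include hP in
/-- The generic twisted cohomology is the rank of the transform. -/
theorem hgen_eq_genRk [GrpObj At] {G : A.left.Modules} (hG : Coh.IsCoh G) (i : ℕ) :
    W4c5cohrankabvar.hgen k P G i = genRk (fmH P G i) := by
  haveI := isProper_snd (A := A) (At := At)
  haveI : IsLocallyNoetherian At.left := LocallyOfFiniteType.isLocallyNoetherian At.hom
  haveI : JacobsonSpace At.left := LocallyOfFiniteType.jacobsonSpace At.hom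
  obtain ⟨hF, hfl⟩ := famM_props hP hG
  haveI : IsLocallyNoetherian (A ⊗ At).left := LocallyOfFiniteType.isLocallyNoetherian (snd A At).left
  haveI : LocallyOfFinitePresentation (snd A At).left := LimH13.locallyOfFinitePresentation_of_noetherian _
  rw [← fiberRank_eq_genRk hP hG i]
  have hopen : ∀ n, IsOpen {s : At.left | CohIII.fiberRank (snd A At).left (famM P G) i s < n} := fun n =>
    upperSemicontinuous_iff_isOpen_preimage.1
      (FibEuler9.upperSemicontinuous_betti _ _ (M1.isFP_of_isCoh hF) hfl i) n
  refine le_antisymm ?_ (le_ciInf fun α => ?_)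
  · obtain ⟨c, hc, hcc⟩ := nonempty_inter_closedPoints
      (Z := {s : At.left | CohIII.fiberRank (snd A At).left (famM P G) i s <
        CohIII.fiberRank (snd A At).left (famM P G) i (genericPoint At.left) + 1})
      ⟨genericPoint At.left, Nat.lt_succ_self _⟩ (hopen _).isLocallyClosed
    obtain ⟨α, rfl⟩ := CubeField.exists_rpt (X := At) hcc
    refine (ciInf_le' _ α).trans ?_
    rw [hAt_eq_fiberRank hP hG α i]
    exact Nat.lt_succ_iff.1 hc
  · rw [hAt_eq_fiberRank hP hG α i]
    refine Nat.lt_succ_iff.1 ?_
    exact ((genericPoint_spec At.left).mem_open_set_iff (hopen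
      (CohIII.fiberRank (snd A At).left (famM P G) i (CubeField.rpt α) + 1))).2
        ⟨CubeField.rpt α, trivial, Nat.lt_succ_self _⟩

omit [IsAlgClosed k] in
include hP in
/-- The Euler characteristic of a twist is that of the generic ranks of the transform. -/
theorem euler_twist_eq {G : A.left.Modules} (hG : Coh.IsCoh G) (α : 𝟙_ (Over (Spec (CommRingCat.of k))) ⟶ At) :
    @Curv2.euler k _ A.left ⟨A.hom⟩ (CohB1.tensorMod G (W4c5cohrankabvar.ptLB P α)) =
      finsum fun p : ℕ => (-1 : ℤ) ^ p * (genRk (fmH P G p) : ℤ) := by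
  letI : A.left.Over (Spec (CommRingCat.of k)) := ⟨A.hom⟩
  haveI := isProper_snd (A := A) (At := At)
  haveI : IsLocallyNoetherian At.left := LocallyOfFiniteType.isLocallyNoetherian At.hom
  obtain ⟨hF, hfl⟩ := famM_props hP hG
  haveI : IsLocallyNoetherian (A ⊗ At).left := LocallyOfFiniteType.isLocallyNoetherian (snd A At).left
  haveI : LocallyOfFinitePresentation (snd A At).left := LimH13.locallyOfFinitePresentation_of_noetherian _
  rw [← show PerfAux.eulerChar (snd A At).left (famM P G) (CubeField.rpt α) =
      @Curv2.euler k _ A.left ⟨A.hom⟩ (CohB1.tensorMod G (W4c5cohrankabvar.ptLB P α)) from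
    finsum_congr fun i => by rw [FibEuler9.betti_eq, ← hAt_eq_fiberRank hP hG α i]]
  rw [(FibEuler9.isLocallyConstant_eulerChar _ _ (M1.isFP_of_isCoh hF) hfl).apply_eq_of_preconnectedSpace
    (CubeField.rpt α) (genericPoint At.left), PerfAux.eulerChar]
  exact finsum_congr fun i => by rw [FibEuler9.betti_eq, fiberRank_eq_genRk hP hG i]

end Groth.Agent.FMHyp13

end
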