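import Groth.Agent.Lib.FMHyp13.IsogTransform

/-!
# Direct images of objects with acyclic cohomology sheaves
-/

set_option autoImplicit false
set_option linter.style.haveILetI false
set_option linter.unusedSectionVars false
set_option backward.isDefEq.respectTransparency false
set_option backward.isDefEq.respectTransparency.types false
set_option maxHeartbeats 1600000

universe u

open CategoryTheory CategoryTheory.Limits MonoidalCategory AlgebraicGeometry
open CategoryTheory.Pretriangulated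

attribute [local instance] HasDerivedCategory.standard

noncomputable section

namespace Groth.Agent.FMHyp13

open DMon9 DBC9 TwistBC9 FMBase13 Groth.Agent

attribute [local instance] DBC9.hasRpush

variable {X Y : Scheme.{u}} (g : X ⟶ Y)

/-- Acyclicity is invariant under isomorphisms. -/
theorem isAcyclicObj_of_iso {M N : X.Modules} (e : M ≅ N)
    (h : RFPlus.IsAcyclicObj (Scheme.Modules.pushforward g) M) : RFPlus.IsAcyclicObj (Scheme.Modules.pushforward g) N :=
  fun i hi => (h i hi).of_iso (((Scheme.Modules.pushforward g).rightDerived i).mapIso e.symm)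

/-- Zero modules are acyclic. -/
theorem isAcyclicObj_of_isZero {M : X.Modules} (h : IsZero M) :
    RFPlus.IsAcyclicObj (Scheme.Modules.pushforward g) M :=
  haveI := h.injective
  RFPlus.isAcyclicObj_injective _ _

/-- Truncation keeps the cohomology sheaves acyclic. -/
theorem acyclic_truncLT (E : DCoh.D X)
    (hac : ∀ q : ℤ, RFPlus.IsAcyclicObj (Scheme.Modules.pushforward g) (DCoh.HD E q)) (n q : ℤ) :
    RFPlus.IsAcyclicObj (Scheme.Modules.pushforward g)
      (DCoh.HD (((DerivedCategory.TStructure.t : Triangulated.TStructure (DCoh.D X)).truncLT n).obj E) q) := by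
  let t : Triangulated.TStructure (DCoh.D X) := DerivedCategory.TStructure.t
  by_cases hq : q < n
  · haveI := DerTrunc.isIso_homology_truncLTι E n q hq
    exact isAcyclicObj_of_iso g
      (asIso ((DerivedCategory.homologyFunctor X.Modules q).map ((t.truncLTι n).app E))).symm (hac q)
  · exact isAcyclicObj_of_isZero g (@DerivedCategory.isZero_of_isLE _ _ _ _ _ (n - 1) q (by omega)
      (t.isLE_truncLT_obj E n (n - 1) (by omega)))

variable [QuasiCompact g] [QuasiSeparated g]

/-- Derived direct image of an object with acyclic cohomology sheaves has no new cohomology above. -/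
theorem isLE_rpush_acyclic (E : DCoh.D X) (hE : DCoh.IsQCohD E)
    (hac : ∀ q : ℤ, RFPlus.IsAcyclicObj (Scheme.Modules.pushforward g) (DCoh.HD E q)) (a b : ℤ) [E.IsGE a] [E.IsLE b] :
    ((DCoh.Rpush g).obj E).IsLE b := by
  let t : Triangulated.TStructure (DCoh.D X) := DerivedCategory.TStructure.t
  obtain ⟨hs, _⟩ := DPush.exists_commShift_isTriangulated g
  letI := hs
  suffices h : ∀ (k : ℕ) (E : DCoh.D X) (b : ℤ), DCoh.IsQCohD E → E.IsGE (b - k + 1) → E.IsLE b →
      (∀ q : ℤ, RFPlus.IsAcyclicObj (Scheme.Modules.pushforward g) (DCoh.HD E q)) →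
        ((DCoh.Rpush g).obj E).IsLE b by
    refine h (b - a + 1).toNat E b hE ?_ inferInstance hac
    exact (DerivedCategory.isGE_iff E _).2 fun q hq => DerivedCategory.isZero_of_isGE E a q (by omega)
  clear! E
  intro k
  induction k with
  | zero =>
    intro E b _ hge hle _
    haveI : t.IsLE E b := hle
    haveI : t.IsGE E (b + 1) := by simpa using hge
    have hz : IsZero E := t.isZero E b (b + 1) (by omega)
    refine (DerivedCategory.isLE_iff _ b).2 fun q _ => ?_
    exact (DerivedCategory.homologyFunctor Y.Modules q).map_isZero ((DCoh.Rpush g).map_isZero hz)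
  | succ k ih =>
    intro E b hE hge hle hac
    haveI : t.IsLE E b := hle
    haveI : t.IsGE E (b - (k + 1 : ℕ) + 1) := hge
    let T := (t.triangleLTGE b).obj E
    have hT : T ∈ distTriang _ := t.triangleLTGE_distinguished b E
    have h1 : ((DCoh.Rpush g).obj T.obj₁).IsLE (b - 1) := ih T.obj₁ (b - 1) (DMV.isQCohD_truncLT E hE _)
      ((t.isGE_of_ge ((t.truncLT b).obj E) (b - 1 - k + 1) (b - (k + 1 : ℕ) + 1) (by push_cast; omega)) : _)
      (t.isLE_truncLT_obj E b (b - 1) (by omega)) (acyclic_truncLT g E hac b)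
    haveI : DerivedCategory.IsGE T.obj₃ b := (inferInstance : t.IsGE ((t.truncGE b).obj E) b)
    haveI : DerivedCategory.IsLE T.obj₃ b := (inferInstance : t.IsLE ((t.truncGE b).obj E) b)
    obtain ⟨M, ⟨eM⟩⟩ := DerivedCategory.exists_iso_singleFunctor_obj_of_isGE_of_isLE T.obj₃ b
    let eM' : DCoh.HD T.obj₃ b ≅ M := (DerivedCategory.homologyFunctor X.Modules b).mapIso eM ≪≫
      (DerivedCategory.singleFunctorCompHomologyFunctorIso X.Modules b).app M
    haveI := DerTrunc.isIso_homology_truncGEπ E b b le_rfl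
    have hMa : RFPlus.IsAcyclicObj (Scheme.Modules.pushforward g) M := isAcyclicObj_of_iso g
      (asIso ((DerivedCategory.homologyFunctor X.Modules b).map ((t.truncGEπ b).app E)) ≪≫ eM') (hac b)
    have hMq : Coh.IsQCoh M := M1.isQCoh_of_isIso eM' (DMV.isQCohD_truncGE E hE _ b)
    obtain ⟨c⟩ := TwistBC9.nonempty_rpush_inD_of_acyclic g M hMq hMa
    let e3 : (DCoh.Rpush g).obj T.obj₃ ≅
        ((DerivedCategory.singleFunctor Y.Modules 0).obj ((Scheme.Modules.pushforward g).obj M))⟦-b⟧ :=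
      (DCoh.Rpush g).mapIso (eM ≪≫
        (((DerivedCategory.singleFunctors X.Modules).shiftIso (-b) b 0 (by omega)).app M).symm) ≪≫
      ((DCoh.Rpush g).commShiftIso (-b)).app _ ≪≫ (shiftFunctor _ (-b)).mapIso c
    refine (DerivedCategory.isLE_iff _ b).2 fun q hq => ?_
    have hR := (DCoh.Rpush g).map_distinguished _ hT
    refine (DerivedCategory.HomologySequence.exact₂ _ hR q).isZero_X₂
      ((@DerivedCategory.isZero_of_isLE _ _ _ _ _ (b - 1) q (by omega) h1).eq_of_src _ _) ?_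
    refine IsZero.eq_of_tgt ?_ _ _
    refine IsZero.of_iso ?_ ((DerivedCategory.homologyFunctor Y.Modules q).mapIso e3 ≪≫
      ((DerivedCategory.homologyFunctor Y.Modules 0).shiftIso (-b) q (q - b) (by omega)).app _)
    exact DerivedCategory.isZero_of_isLE _ 0 (q - b) (by omega)

/-- Derived direct image of an object with acyclic cohomology sheaves is computed degree by degree. -/
theorem nonempty_HD_rpush_acyclic (E : DCoh.D X) (hE : DCoh.IsQCohD E)
    (hac : ∀ q : ℤ, RFPlus.IsAcyclicObj (Scheme.Modules.pushforward g) (DCoh.HD E q)) (a b i : ℤ)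
    [E.IsGE a] [E.IsLE b] :
    Nonempty (DCoh.HD ((DCoh.Rpush g).obj E) i ≅ (Scheme.Modules.pushforward g).obj (DCoh.HD E i)) := by
  let t : Triangulated.TStructure (DCoh.D X) := DerivedCategory.TStructure.t
  obtain ⟨hs, _⟩ := DPush.exists_commShift_isTriangulated g
  letI := hs
  haveI : t.IsGE E a := ‹E.IsGE a›
  haveI : t.IsLE E b := ‹E.IsLE b›
  let T₁ := (t.triangleLTGE (i + 1)).obj E
  have hT₁ : T₁ ∈ distTriang _ := t.triangleLTGE_distinguished (i + 1) E
  haveI : DerivedCategory.IsLE T₁.obj₁ i := t.isLE_truncLT_obj E (i + 1) i (by omega)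
  haveI : DerivedCategory.IsGE T₁.obj₁ a := (inferInstance : t.IsGE ((t.truncLT (i + 1)).obj E) a)
  haveI : DerivedCategory.IsGE T₁.obj₃ (i + 1) := (inferInstance : t.IsGE ((t.truncGE (i + 1)).obj E) (i + 1))
  let E₁ : DCoh.D X := T₁.obj₁
  haveI : t.IsLE E₁ i := ‹DerivedCategory.IsLE T₁.obj₁ i›
  haveI : t.IsGE E₁ a := ‹DerivedCategory.IsGE T₁.obj₁ a›
  let T₂ := (t.triangleLTGE i).obj E₁
  have hT₂ : T₂ ∈ distTriang _ := t.triangleLTGE_distinguished i E₁
  haveI : DerivedCategory.IsLE T₂.obj₁ (i - 1) := t.isLE_truncLT_obj E₁ i (i - 1) (by omega)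
  haveI : DerivedCategory.IsGE T₂.obj₁ a := (inferInstance : t.IsGE ((t.truncLT i).obj E₁) a)
  haveI : DerivedCategory.IsGE T₂.obj₃ i := (inferInstance : t.IsGE ((t.truncGE i).obj E₁) i)
  haveI : DerivedCategory.IsLE T₂.obj₃ i := (inferInstance : t.IsLE ((t.truncGE i).obj E₁) i)
  have hq₁ : DCoh.IsQCohD E₁ := DMV.isQCohD_truncLT E hE _
  have hq₂ : DCoh.IsQCohD T₂.obj₁ := DMV.isQCohD_truncLT E₁ hq₁ _
  have hq₃ : DCoh.IsQCohD T₂.obj₃ := DMV.isQCohD_truncGE E₁ hq₁ _
  haveI h0 : ((DCoh.Rpush g).obj T₂.obj₁).IsLE (i - 1) :=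
    isLE_rpush_acyclic g T₂.obj₁ hq₂ (acyclic_truncLT g E₁ (acyclic_truncLT g E hac (i + 1)) i) a (i - 1)
  haveI h3 : ((DCoh.Rpush g).obj T₁.obj₃).IsGE (i + 1) := DPush.isGE_rpush g T₁.obj₃ (i + 1) inferInstance
  have z : ∀ {Z : DCoh.D Y} (n : ℤ), Z.IsLE (i - 1) → i ≤ n → IsZero (DCoh.HD Z n) := fun n h hn =>
    @DerivedCategory.isZero_of_isLE _ _ _ _ _ (i - 1) n (by omega) h
  have z' : ∀ {Z : DCoh.D Y} (n : ℤ), Z.IsGE (i + 1) → n ≤ i → IsZero (DCoh.HD Z n) := fun n h hn =>
    @DerivedCategory.isZero_of_isGE _ _ _ _ _ (i + 1) n (by omega) h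
  have R₁ := (DCoh.Rpush g).map_distinguished _ hT₁
  have R₂ := (DCoh.Rpush g).map_distinguished _ hT₂
  haveI : Mono ((DerivedCategory.homologyFunctor Y.Modules i).map ((DCoh.Rpush g).map T₁.mor₁)) :=
    (DerivedCategory.HomologySequence.exact₁ _ R₁ (i - 1) i (by omega)).mono_g
      ((z' (i - 1) h3 (by omega)).eq_of_src _ _)
  haveI : Epi ((DerivedCategory.homologyFunctor Y.Modules i).map ((DCoh.Rpush g).map T₁.mor₁)) :=
    (DerivedCategory.HomologySequence.exact₂ _ R₁ i).epi_f ((z' i h3 le_rfl).eq_of_tgt _ _)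
  haveI : Mono ((DerivedCategory.homologyFunctor Y.Modules i).map ((DCoh.Rpush g).map T₂.mor₂)) :=
    (DerivedCategory.HomologySequence.exact₂ _ R₂ i).mono_g ((z i h0 le_rfl).eq_of_src _ _)
  haveI : Epi ((DerivedCategory.homologyFunctor Y.Modules i).map ((DCoh.Rpush g).map T₂.mor₂)) :=
    (DerivedCategory.HomologySequence.exact₃ _ R₂ i (i + 1)).epi_f ((z (i + 1) h0 (by omega)).eq_of_tgt _ _)
  haveI := isIso_of_mono_of_epi ((DerivedCategory.homologyFunctor Y.Modules i).map ((DCoh.Rpush g).map T₁.mor₁))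
  haveI := isIso_of_mono_of_epi ((DerivedCategory.homologyFunctor Y.Modules i).map ((DCoh.Rpush g).map T₂.mor₂))
  let e₁ : DCoh.HD ((DCoh.Rpush g).obj E₁) i ≅ DCoh.HD ((DCoh.Rpush g).obj E) i :=
    asIso ((DerivedCategory.homologyFunctor Y.Modules i).map ((DCoh.Rpush g).map T₁.mor₁))
  let e₂ : DCoh.HD ((DCoh.Rpush g).obj E₁) i ≅ DCoh.HD ((DCoh.Rpush g).obj T₂.obj₃) i :=
    asIso ((DerivedCategory.homologyFunctor Y.Modules i).map ((DCoh.Rpush g).map T₂.mor₂))
  haveI := DerTrunc.isIso_homology_truncLTι E (i + 1) i (by omega)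
  let f₁ : DCoh.HD E₁ i ≅ DCoh.HD E i :=
    asIso ((DerivedCategory.homologyFunctor X.Modules i).map ((t.truncLTι (i + 1)).app E))
  have hz₂ : IsZero (DCoh.HD T₂.obj₁ i) := DerivedCategory.isZero_of_isLE T₂.obj₁ (i - 1) i (by omega)
  have hz₂' : IsZero (DCoh.HD T₂.obj₁ (i + 1)) := DerivedCategory.isZero_of_isLE T₂.obj₁ (i - 1) (i + 1) (by omega)
  haveI : Mono ((DerivedCategory.homologyFunctor X.Modules i).map T₂.mor₂) :=
    (DerivedCategory.HomologySequence.exact₂ _ hT₂ i).mono_g (hz₂.eq_of_src _ _)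
  haveI : Epi ((DerivedCategory.homologyFunctor X.Modules i).map T₂.mor₂) :=
    (DerivedCategory.HomologySequence.exact₃ _ hT₂ i (i + 1)).epi_f (hz₂'.eq_of_tgt _ _)
  haveI := isIso_of_mono_of_epi ((DerivedCategory.homologyFunctor X.Modules i).map T₂.mor₂)
  let f₂ : DCoh.HD E₁ i ≅ DCoh.HD T₂.obj₃ i :=
    asIso ((DerivedCategory.homologyFunctor X.Modules i).map T₂.mor₂)
  obtain ⟨M, ⟨eM⟩⟩ := DerivedCategory.exists_iso_singleFunctor_obj_of_isGE_of_isLE T₂.obj₃ i
  have hM : Coh.IsQCoh M := M1.isQCoh_of_isIso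
    ((DerivedCategory.homologyFunctor X.Modules i).mapIso eM ≪≫
      (DerivedCategory.singleFunctorCompHomologyFunctorIso X.Modules i).app M) (hq₃ i)
  obtain ⟨c⟩ := TwistBC9.nonempty_rpush_inD_of_acyclic g M hM (isAcyclicObj_of_iso g
    (f₁.symm ≪≫ f₂ ≪≫ (DerivedCategory.homologyFunctor X.Modules i).mapIso eM ≪≫
      (DerivedCategory.singleFunctorCompHomologyFunctorIso X.Modules i).app M) (hac i))
  let sX := ((DerivedCategory.singleFunctors X.Modules).shiftIso i 0 i (by omega)).app M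
  let sY := ((DerivedCategory.singleFunctors Y.Modules).shiftIso i 0 i (by omega)).app
    ((Scheme.Modules.pushforward g).obj M)
  let w : DCoh.HD ((DCoh.Rpush g).obj (((DerivedCategory.singleFunctor X.Modules i).obj M)⟦i⟧⟦(-i)⟧)) i ≅
      DCoh.HD ((DCoh.Rpush g).obj ((DerivedCategory.singleFunctor X.Modules i).obj M)) i :=
    (DerivedCategory.homologyFunctor Y.Modules i).mapIso ((DCoh.Rpush g).mapIso ((shiftEquiv _ i).unitIso.app _).symm)
  exact ⟨e₁.symm ≪≫ e₂ ≪≫
    (DerivedCategory.homologyFunctor Y.Modules i).mapIso ((DCoh.Rpush g).mapIso eM) ≪≫ w.symm ≪≫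
    (DerivedCategory.homologyFunctor Y.Modules i).mapIso ((DCoh.Rpush g).mapIso ((shiftFunctor _ (-i)).mapIso sX) ≪≫
      ((DCoh.Rpush g).commShiftIso (-i)).app _ ≪≫
      (shiftFunctor _ (-i)).mapIso (c ≪≫ sY.symm) ≪≫ ((shiftEquiv _ i).unitIso.app _).symm) ≪≫
    (DerivedCategory.singleFunctorCompHomologyFunctorIso Y.Modules i).app _ ≪≫
    (Scheme.Modules.pushforward g).mapIso
      (((DerivedCategory.singleFunctorCompHomologyFunctorIso X.Modules i).app M).symm ≪≫
        (DerivedCategory.homologyFunctor X.Modules i).mapIso eM.symm ≪≫ f₂.symm ≪≫ f₁)⟩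

end Groth.Agent.FMHyp13

end
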