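import Groth.Agent.Lib.FMHyp13.GVTensor
import Groth.Agent.Lib.FMHyp13.Top
import Groth.Agent.Lib.DPush9.Coh
import Groth.Agent.Lib.LimH13.SuppProper
import Groth.Agent.Lib.FibRank28.Main

/-!
# Supports of the transform and the cohomological support loci
-/

set_option autoImplicit false
set_option linter.style.haveILetI false
set_option linter.unusedSectionVars false
set_option backward.isDefEq.respectTransparency false
set_option backward.isDefEq.respectTransparency.types false
set_option maxHeartbeats 1600000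

universe u

open CategoryTheory CategoryTheory.Limits MonoidalCategory CartesianMonoidalCategory AlgebraicGeometry
open TopologicalSpace

attribute [local instance] HasDerivedCategory.standard

noncomputable section

namespace Groth.Agent.FMHyp13

open DMon9 DBC9 TwistBC9 FMBase13 CohFound

attribute [local instance] DBC9.hasRpush

/-- On a one-point scheme a module without global sections is zero. -/
theorem isZero_of_gamma_point {X : Scheme.{u}} [Subsingleton X] {M : X.Modules}
    (h : IsZero ((DCoh.gammaAb X).obj M)) : IsZero M := by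
  refine SerreCl8.isZero_of_support_eq_empty (Set.eq_empty_iff_forall_notMem.2 fun x hx => hx ?_)
  refine subsingleton_of_forall_eq 0 fun a => ?_
  obtain ⟨V, hxV, s, rfl⟩ := M.presheaf.exists_germ_eq a
  obtain rfl : V = ⊤ := top_le_iff.1 fun y _ => Subsingleton.elim x y ▸ hxV
  haveI : Subsingleton ((DCoh.gammaAb X).obj M) := AddCommGrpCat.subsingleton_of_isZero h
  rw [@Subsingleton.elim _ ‹Subsingleton ((DCoh.gammaAb X).obj M)› s 0]
  exact map_zero _

/-- A bounded below object on a point with vanishing hypercohomology in a degree has no cohomology sheaf there. -/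
theorem isZero_HD_of_point {X : Scheme.{u}} [Subsingleton X] [DCoh.HasRΓ X] (G : DCoh.D X) (a : ℤ) [G.IsGE a] (j : ℤ)
    (h : IsZero ((DerivedCategory.homologyFunctor AddCommGrpCat.{u} j).obj ((DCoh.RΓ X).obj G))) :
    IsZero (DCoh.HD G j) := by
  haveI : Subsingleton (TopologicalSpace.IrreducibleCloseds X) := ⟨fun c d => by
    obtain ⟨x, hx⟩ := c.2.nonempty
    obtain ⟨y, hy⟩ := d.2.nonempty
    exact TopologicalSpace.IrreducibleCloseds.ext (Set.ext fun z =>
      ⟨fun _ => Subsingleton.elim y z ▸ hy, fun _ => Subsingleton.elim x z ▸ hx⟩)⟩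
  have hd : topologicalKrullDim X ≤ ((0 : ℕ) : WithBot ℕ∞) := Order.krullDim_nonpos_of_subsingleton
  obtain ⟨e⟩ := Exact8.FMVanish.nonempty_rGamma_homology G a (fun l p =>
    subsingleton_hc_of_dim_stalk hd _ 0 (fun x _ => by exact_mod_cast ringKrullDim_nonneg_of_nontrivial) (p + 1) (by omega)) j
  exact isZero_of_gamma_point (h.of_iso e.symm)

variable {k : Type u} [Field k]

/-- If a point lies in the closure of a set of dimension at most `g − j`, its local ring has dimension at least `j`. -/
theorem le_dim_stalk_of_mem_closure {X : Over (Spec (CommRingCat.of k))} [LocallyOfFiniteType X.hom]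
    [IrreducibleSpace X.left] {g : ℕ} (hg : topologicalKrullDim X.left = g) {S : Set X.left} {y : X.left}
    (hy : y ∈ closure S) (j : ℕ) (hS : topologicalKrullDim (closure S) + (j : WithBot ℕ∞) ≤ g) :
    (j : WithBot ℕ∞) ≤ ringKrullDim (X.left.presheaf.stalk y) := by
  obtain ⟨a, ha, hsum⟩ := FibRank28.coheight_add_sdim X.hom y
  have hgen := (VarDim.dim_eq_sdim_genericPoint X.hom).symm.trans hg
  have h1 : topologicalKrullDim (closure ({y} : Set X.left)) ≤ topologicalKrullDim (closure S) :=
    (Topology.IsEmbedding.inclusion ((closure_minimal (Set.singleton_subset_iff.2 hy) isClosed_closure))).isInducing.topologicalKrullDim_le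
  rw [VarDim.dim_closure_singleton X.hom y] at h1
  have h2 := (add_le_add h1 (le_refl (j : WithBot ℕ∞))).trans hS
  have h3 : VarDim.sdim X.hom y + j ≤ g := by exact_mod_cast h2
  have h4 : VarDim.sdim X.hom (genericPoint X.left) = g := by exact_mod_cast hgen
  rw [ringKrullDim_stalk_eq_coheight, ha]
  exact_mod_cast (by omega : j ≤ a)

variable [IsAlgClosed k] {A At : Over (Spec (CommRingCat.of k))}
  [IsProper A.hom] [Smooth A.hom] [IsProper At.hom] [Smooth At.hom]
  {P : (PicF.XT A.hom At).Modules} (hP : PicF.IsInvertible P)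

include hP in
/-- The transform of a perfect object is bounded with coherent cohomology sheaves. -/
theorem exists_bounds_phiK {F : DCoh.D A.left} (hF : DCoh.IsPerfect F) :
    DCoh.IsCohD ((phiK (fst A At).left (snd A At).left P).obj F) ∧ ∃ c b : ℤ,
      ((phiK (fst A At).left (snd A At).left P).obj F).IsGE c ∧
        ((phiK (fst A At).left (snd A At).left P).obj F).IsLE b := by
  haveI : IsLocallyNoetherian At.left := LocallyOfFiniteType.isLocallyNoetherian At.hom
  haveI : CompactSpace At.left := QuasiCompact.compactSpace_of_compactSpace At.hom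
  let p := (snd A At).left
  haveI : IsProper p := inferInstanceAs (IsProper (pullback.snd A.hom At.hom))
  haveI : IsLocallyNoetherian (A ⊗ At).left := LocallyOfFiniteType.isLocallyNoetherian p
  haveI : CompactSpace (A ⊗ At).left := QuasiCompact.compactSpace_of_compactSpace p
  haveI := KFlat.Sch.hasLpull (fst A At).left
  obtain ⟨n⟩ := nonempty_lpull_natIso_lP (fst A At).left
  haveI : DCoh.HasLTensorCx (gK (X := (A ⊗ At).left) P hP).obj := KFlat.Sch.hasLTensorCx _
  let E := (tenF (T := (A ⊗ At).left) P).obj ((lP (fst A At).left).obj F)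
  have hEp : DCoh.IsPerfect E := DGen9.isPerfect_of_iso ((theta (gK (X := (A ⊗ At).left) P hP)).app _).symm
    (KFlat.Sch.isPerfect_lTensor _ (gK (X := (A ⊗ At).left) P hP).property
      (DGen9.ResP.isPerfect_toD (DPerf.isStrictlyPerfect_single (M2.isFinLocFree_of_isInvertible hP))) _
      (DGen9.isPerfect_of_iso (n.app F) (KFlat.Sch.isPerfect_lpull _ hF)))
  obtain ⟨c, hc'⟩ := DPerf.exists_isGE_of_perfect hEp
  obtain ⟨d, hd'⟩ := DPerf.exists_isLE_of_pseudoCoherent (DGen9.isPseudoCoherentD_of_isPerfect hEp 0)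
  haveI := hc'
  haveI := hd'
  have hEc : DCoh.IsCohD E := fun i => DPerf.isCoh_HD_of_pseudoCoherent (DGen9.isPseudoCoherentD_of_isPerfect hEp i)
    (DGen9.isQCohD_of_isPerfect hEp i) le_rfl
  have hs : ∀ i : ℤ, ClSub.IsProperOver p (CohB1.support (DCoh.HD E i)) := fun i => by
    let T : Set (A ⊗ At).left := CohB1.support (DCoh.HD E i)
    let I := Scheme.IdealSheafData.vanishingIdeal
      (⟨T, M1.isClosed_support (hEc i).2⟩ : TopologicalSpace.Closeds (A ⊗ At).left)
    haveI : IsProper (I.subschemeι ≫ p) := inferInstance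
    refine LimH13.isProperOver_of_isProper p I.subschemeι ?_
    rw [Scheme.IdealSheafData.range_subschemeι, Scheme.IdealSheafData.coe_support_vanishingIdeal]
    rfl
  obtain ⟨b, hb⟩ := DPush9.exists_isLE_rpush p E c d inferInstance inferInstance hEc hs
  exact ⟨DPush9.isCohD_rpush p E c inferInstance hEc hs, c, b, DPush.isGE_rpush p E c inferInstance, hb⟩

include hP in
/-- Where a cohomology sheaf of the transform is not zero, a cohomological support locus in at least that degree is met. -/
theorem exists_degree [DCoh.HasRΓ A.left] {F : DCoh.D A.left} (hF : DCoh.IsPerfect F) (b : ℤ)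
    [((phiK (fst A At).left (snd A At).left P).obj F).IsLE b]
    (hc : DCoh.IsCohD ((phiK (fst A At).left (snd A At).left P).obj F))
    (t : 𝟙_ (Over (Spec (CommRingCat.of k))) ⟶ At) (j : ℤ)
    (hj : CubeField.rpt t ∈ CohB1.support (DCoh.HD ((phiK (fst A At).left (snd A At).left P).obj F) j))
    [DCoh.HasLTensorMod ((Scheme.Modules.pullback (lift (𝟙 A) (toUnit A ≫ t)).left).obj P)] :
    ∃ l, j ≤ l ∧ l ≤ b ∧ ¬ IsZero ((DerivedCategory.homologyFunctor AddCommGrpCat.{u} l).obj ((DCoh.RΓ A.left).obj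
      ((DCoh.LTensorMod ((Scheme.Modules.pullback (lift (𝟙 A) (toUnit A ≫ t)).left).obj P)).obj F))) := by
  classical
  let G := (phiK (fst A At).left (snd A At).left P).obj F
  have hb : ∀ l, CubeField.rpt t ∈ CohB1.support (DCoh.HD G l) → l ≤ b := fun l hl => not_lt.1 fun h =>
    hl (AddCommGrpCat.subsingleton_of_isZero ((M1.stalkAb _).map_isZero (DerivedCategory.isZero_of_isLE G b l h)))
  obtain ⟨l, ⟨hl, hjl⟩, hmax⟩ := Int.exists_greatest_of_bdd
    (P := fun l => CubeField.rpt t ∈ CohB1.support (DCoh.HD G l) ∧ j ≤ l) ⟨b, fun l h => hb l h.1⟩ ⟨j, hj, le_rfl⟩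
  refine ⟨l, hjl, hb l hl, fun hzero => ?_⟩
  haveI : IsLocallyNoetherian At.left := LocallyOfFiniteType.isLocallyNoetherian At.hom
  haveI : Subsingleton (Spec (CommRingCat.of k)) := inferInstanceAs (Subsingleton (PrimeSpectrum k))
  haveI : Subsingleton ↥(𝟙_ (Over (Spec (CommRingCat.of k)))).left := inferInstanceAs (Subsingleton (PrimeSpectrum k))
  refine not_isZero_HD_lP_local t.left G hc b l (IsLocalRing.closedPoint k) hl
    (fun l' h hm => absurd (hmax l' ⟨hm, hjl.trans h.le⟩) (by omega)) (fun z => Subsingleton.elim _ _) ?_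
  let Pt := (Scheme.Modules.pullback (lift (𝟙 A) (toUnit A ≫ t)).left).obj P
  have hPt : PicF.IsInvertible Pt := PicLoc.isInvertible_pullback _ hP
  haveI : IsProper (snd A At).left := inferInstanceAs (IsProper (pullback.snd A.hom At.hom))
  haveI : Flat (snd A At).left := inferInstanceAs (Flat (pullback.snd A.hom At.hom))
  obtain ⟨bc⟩ := nonempty_phiK_BC (fst A At).left (snd A At).left (isPullback_section (A := A) t) hP
  have h1 : (lift (𝟙 A) (toUnit A ≫ t)).left ≫ (fst A At).left = 𝟙 A.left := by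
    rw [← Over.comp_left, lift_fst, Over.id_left]
  obtain ⟨c⟩ := nonempty_LT_tenF Pt hPt
  let eB : (lP t.left).obj G ≅ (DCoh.Rpush A.hom).obj ((DCoh.LTensorMod Pt).obj F) :=
    bc.app ⟨F, DGen9.isQCohD_of_isPerfect hF⟩ ≪≫ (phiKCongr _ _ h1 _).app F ≪≫
      (DCoh.Rpush A.hom).mapIso ((tenF Pt).mapIso ((lPId A.left).app F) ≪≫ c.symm.app F)
  refine IsZero.of_iso ?_ ((DerivedCategory.homologyFunctor _ l).mapIso eB)
  haveI : CompactSpace A.left := QuasiCompact.compactSpace_of_compactSpace A.hom
  obtain ⟨a, ha⟩ := DPerf.exists_isGE_of_perfect hF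
  haveI := ha
  haveI : DCoh.HasLTensorCx (Exact8.FMVanish.sgl Pt) := KFlat.Sch.hasLTensorCx _
  haveI : ((DCoh.LTensorMod Pt).obj F).IsGE a := by
    haveI : DCoh.HasLTensorCx (gK Pt hPt).obj := KFlat.Sch.hasLTensorCx _
    refine (DerivedCategory.isGE_iff _ _).2 fun q hq => IsZero.of_iso ?_
      ((DerivedCategory.homologyFunctor _ q).mapIso (c.app F ≪≫ ((theta (gK Pt hPt)).app F :)))
    exact ((RelPCS4.rten Pt).map_isZero (DerivedCategory.isZero_of_isGE F a q hq)).of_iso
      (Exact8.FMVanish.nonempty_HD_tensor (M2.isFinLocFree_of_isInvertible hPt) F q).some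
  haveI := DPush.isGE_rpush A.hom ((DCoh.LTensorMod Pt).obj F) a inferInstance
  haveI : DCoh.HasRΓ (𝟙_ (Over (Spec (CommRingCat.of k)))).left :=
    KInjLib.hasRightDerivedFunctor KInjLib.enoughKInj_of_grothendieck _
  haveI : DCoh.HasRΓ (Spec (CommRingCat.of k)) :=
    KInjLib.hasRightDerivedFunctor KInjLib.enoughKInj_of_grothendieck _
  obtain ⟨r⟩ := DMV.nonempty_rGamma_rpush A.hom
  exact isZero_HD_of_point _ a l (hzero.of_iso ((DerivedCategory.homologyFunctor AddCommGrpCat.{u} l).mapIso (r.app _)))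

include hP in
/-- The closures of the loci control the codimension of the supports. -/
theorem le_dim_stalk_of_mem_support [DCoh.HasRΓ A.left] [IrreducibleSpace At.left]
    [∀ t : 𝟙_ (Over (Spec (CommRingCat.of k))) ⟶ At,
      DCoh.HasLTensorMod ((Scheme.Modules.pullback (lift (𝟙 A) (toUnit A ≫ t)).left).obj P)]
    {F : DCoh.D A.left} (hF : DCoh.IsPerfect F) {g : ℕ} (hg : topologicalKrullDim At.left = g)
    (hGV : ∀ i : ℕ, topologicalKrullDim ↥(closure {y : ↥At.left | ∃ t : 𝟙_ (Over (Spec (CommRingCat.of k))) ⟶ At,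
      (∃ p : ↥(𝟙_ (Over (Spec (CommRingCat.of k)))).left, t.left p = y) ∧ ¬ IsZero
        ((DerivedCategory.homologyFunctor AddCommGrpCat.{u} (i : ℤ)).obj ((DCoh.RΓ A.left).obj
          ((DCoh.LTensorMod ((Scheme.Modules.pullback (lift (𝟙 A) (toUnit A ≫ t)).left).obj P)).obj F)))}) +
        (i : WithBot ℕ∞) ≤ (g : WithBot ℕ∞))
    (j : ℕ) (y : At.left) (hy : y ∈ CohB1.support (DCoh.HD ((phiK (fst A At).left (snd A At).left P).obj F) (j : ℤ))) :
    (j : WithBot ℕ∞) ≤ ringKrullDim (At.left.presheaf.stalk y) := by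
  obtain ⟨hc, c, b, -, hb⟩ := exists_bounds_phiK hP hF
  haveI := hb
  haveI : JacobsonSpace At.left := LocallyOfFiniteType.jacobsonSpace At.hom
  let S : ℕ → Set At.left := fun i => {y : ↥At.left | ∃ t : 𝟙_ (Over (Spec (CommRingCat.of k))) ⟶ At,
      (∃ p : ↥(𝟙_ (Over (Spec (CommRingCat.of k)))).left, t.left p = y) ∧ ¬ IsZero
        ((DerivedCategory.homologyFunctor AddCommGrpCat.{u} (i : ℤ)).obj ((DCoh.RΓ A.left).obj
          ((DCoh.LTensorMod ((Scheme.Modules.pullback (lift (𝟙 A) (toUnit A ≫ t)).left).obj P)).obj F)))}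
  have hsub : closure ({y} : Set At.left) ∩ closedPoints At.left ⊆ ⋃ i ∈ Finset.Icc j b.toNat, closure (S i) := by
    rintro x ⟨hxy, hx⟩
    obtain ⟨t, rfl⟩ := CubeField.exists_rpt (X := At) hx
    obtain ⟨l, hjl, hlb, hl⟩ := exists_degree hP hF b hc t (j : ℤ)
      ((M1.isClosed_support (hc j).2).closure_subset_iff.2 (Set.singleton_subset_iff.2 hy) hxy)
    obtain ⟨i, rfl⟩ := Int.eq_ofNat_of_zero_le (show (0 : ℤ) ≤ l by omega)
    exact Set.mem_iUnion₂.2 ⟨i, Finset.mem_Icc.2 ⟨by omega, by omega⟩, subset_closure ⟨t, ⟨_, rfl⟩, hl⟩⟩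
  have hcl : IsClosed (⋃ i ∈ Finset.Icc j b.toNat, closure (S i)) := isClosed_biUnion_finset fun _ _ => isClosed_closure
  have hy' : y ∈ ⋃ i ∈ Finset.Icc j b.toNat, closure (S i) := by
    refine hcl.closure_subset_iff.2 hsub ?_
    rw [closure_inter_closedPoints isClosed_closure]
    exact subset_closure rfl
  obtain ⟨i, hi, hyi⟩ := Set.mem_iUnion₂.1 hy'
  exact le_trans (by exact_mod_cast (Finset.mem_Icc.1 hi).1) (le_dim_stalk_of_mem_closure hg hyi i (hGV i))

end Groth.Agent.FMHyp13

end
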