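import Groth.Agent.Lib.FMHyp13.GVTensor
import Groth.Agent.Lib.FMHyp13.Loci
import Groth.Agent.Lib.FMBase13.Inversion
import Groth.Agent.Lib.FMBase13.Classes
import Groth.Agent.Lib.RelPCS8.TorRpush
import Groth.Agent.Lib.TwistBC9.LocFree
import Groth.Agent.Lib.TwistBC9.Trunc
import Groth.Agent.Lib.DPush9.AffineAcyclic
import Groth.Agent.Lib.BC8.CohShriek
import Groth.Agent.Lib.DualSeq22.Basic

/-!
# The transform of a pullback along an isogeny is the direct image of the transform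
-/

set_option autoImplicit false
set_option linter.style.haveILetI false
set_option linter.unusedSectionVars false
set_option backward.isDefEq.respectTransparency false
set_option backward.isDefEq.respectTransparency.types false
set_option maxHeartbeats 1600000

universe u

open CategoryTheory CategoryTheory.Limits MonoidalCategory CartesianMonoidalCategory AlgebraicGeometry
open CategoryTheory.Pretriangulated
open scoped MonObj GrpObj

attribute [local instance] HasDerivedCategory.standard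

noncomputable section

namespace Groth.Agent.FMHyp13

open DMon9 DBC9 TwistBC9 FMBase13

attribute [local instance] DBC9.hasRpush

noncomputable local instance instLawIsogTransform (Y : Scheme.{u}) : PicGrp.Law Y := M2.law Y

/-- Derived direct image along an affine morphism does not raise the degree. -/
theorem isLE_rpush_affine' {X Y : Scheme.{u}} (g : X ⟶ Y) [IsAffineHom g] (E : DCoh.D X) (hE : DCoh.IsQCohD E)
    (a b : ℤ) [E.IsGE a] [E.IsLE b] : ((DCoh.Rpush g).obj E).IsLE b := by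
  have h := RelPCS8.TorRpush.isLE_rpush g 0 (fun M hM i hi => by
    obtain ⟨e⟩ := TwistBC9.nonempty_rpush_inD_of_acyclic g M hM (DPush9.isAcyclicObj_affine g hM)
    refine IsZero.of_iso ?_ ((DerivedCategory.homologyFunctor _ i).mapIso e)
    exact DerivedCategory.isZero_of_isLE _ 0 i (by simpa using hi)) E hE a b
  rwa [Nat.cast_zero, add_zero] at h

/-- Pulling back a module along a flat morphism. -/
theorem nonempty_lP_single_flat {P X : Scheme.{u}} (p : P ⟶ X) [Flat p] (M : X.Modules) :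
    Nonempty ((lP p).obj ((DerivedCategory.singleFunctor X.Modules 0).obj M) ≅
      (DerivedCategory.singleFunctor P.Modules 0).obj ((Scheme.Modules.pullback p).obj M)) := by
  haveI := KFlat.Sch.hasLpull p
  let S := (DerivedCategory.singleFunctor X.Modules 0).obj M
  let T := (DerivedCategory.singleFunctor P.Modules 0).obj ((Scheme.Modules.pullback p).obj M)
  haveI : ((lP p).obj S).IsGE 0 := BC8.isGE_lP_of_flat _ 0
  haveI : ((lP p).obj S).IsLE 0 := TwistBC9.isLE_lP_single p M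
  haveI : IsIso ((TwistBC9.cTr p).app M) := (DerivedCategory.isIso_iff P.Modules _).2 fun i => by
    rcases eq_or_ne i 0 with rfl | hi
    · exact TwistBC9.isIso_H0_cTr p M
    have hz : ∀ (Z : DCoh.D P) [Z.IsGE 0] [Z.IsLE 0], IsZero ((DerivedCategory.homologyFunctor P.Modules i).obj Z) :=
      fun Z _ _ => by
        rcases lt_or_gt_of_ne hi with h | h
        · exact DerivedCategory.isZero_of_isGE Z 0 i h
        · exact DerivedCategory.isZero_of_isLE Z 0 i h
    exact ⟨0, (hz ((lP p).obj S)).eq_of_src _ _, (hz T).eq_of_src _ _⟩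
  exact ⟨asIso ((TwistBC9.cTr p).app M)⟩

/-- Derived direct image along an affine morphism is computed degree by degree. -/
theorem nonempty_HD_rpush_affine {X Y : Scheme.{u}} (g : X ⟶ Y) [IsAffineHom g] (E : DCoh.D X)
    (hE : DCoh.IsQCohD E) (a b i : ℤ) [E.IsGE a] [E.IsLE b] :
    Nonempty (DCoh.HD ((DCoh.Rpush g).obj E) i ≅ (Scheme.Modules.pushforward g).obj (DCoh.HD E i)) := by
  let t : Triangulated.TStructure (DCoh.D X) := DerivedCategory.TStructure.t
  obtain ⟨hs, _⟩ := DPush.exists_commShift_isTriangulated g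
  letI := hs
  haveI : t.IsGE E a := ‹E.IsGE a›
  haveI : t.IsLE E b := ‹E.IsLE b›
  let T₁ := (t.triangleLTGE (i + 1)).obj E
  have hT₁ : T₁ ∈ distTriang _ := t.triangleLTGE_distinguished (i + 1) E
  haveI : DerivedCategory.IsLE T₁.obj₁ i := t.isLE_truncLT_obj E (i + 1) i (by omega)
  haveI : DerivedCategory.IsGE T₁.obj₁ a := (inferInstance : t.IsGE ((t.truncLT (i + 1)).obj E) a)
  haveI : DerivedCategory.IsGE T₁.obj₃ (i + 1) := (inferInstance : t.IsGE ((t.truncGE (i + 1)).obj E) (i + 1))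
  let E₁ : DCoh.D X := T₁.obj₁
  haveI : t.IsLE E₁ i := ‹DerivedCategory.IsLE T₁.obj₁ i›
  haveI : t.IsGE E₁ a := ‹DerivedCategory.IsGE T₁.obj₁ a›
  let T₂ := (t.triangleLTGE i).obj E₁
  have hT₂ : T₂ ∈ distTriang _ := t.triangleLTGE_distinguished i E₁
  haveI : DerivedCategory.IsLE T₂.obj₁ (i - 1) := t.isLE_truncLT_obj E₁ i (i - 1) (by omega)
  haveI : DerivedCategory.IsGE T₂.obj₁ a := (inferInstance : t.IsGE ((t.truncLT i).obj E₁) a)
  haveI : DerivedCategory.IsGE T₂.obj₃ i := (inferInstance : t.IsGE ((t.truncGE i).obj E₁) i)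
  haveI : DerivedCategory.IsLE T₂.obj₃ i := (inferInstance : t.IsLE ((t.truncGE i).obj E₁) i)
  have hq₁ : DCoh.IsQCohD E₁ := DMV.isQCohD_truncLT E hE _
  have hq₂ : DCoh.IsQCohD T₂.obj₁ := DMV.isQCohD_truncLT E₁ hq₁ _
  have hq₃ : DCoh.IsQCohD T₂.obj₃ := DMV.isQCohD_truncGE E₁ hq₁ _
  haveI h0 : ((DCoh.Rpush g).obj T₂.obj₁).IsLE (i - 1) := isLE_rpush_affine' g T₂.obj₁ hq₂ a (i - 1)
  haveI h3 : ((DCoh.Rpush g).obj T₁.obj₃).IsGE (i + 1) := DPush.isGE_rpush g T₁.obj₃ (i + 1) inferInstance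
  have z : ∀ {Z : DCoh.D Y} (n : ℤ), Z.IsLE (i - 1) → i ≤ n → IsZero (DCoh.HD Z n) := fun n h hn =>
    @DerivedCategory.isZero_of_isLE _ _ _ _ _ (i - 1) n (by omega) h
  have z' : ∀ {Z : DCoh.D Y} (n : ℤ), Z.IsGE (i + 1) → n ≤ i → IsZero (DCoh.HD Z n) := fun n h hn =>
    @DerivedCategory.isZero_of_isGE _ _ _ _ _ (i + 1) n (by omega) h
  have R₁ := (DCoh.Rpush g).map_distinguished _ hT₁
  have R₂ := (DCoh.Rpush g).map_distinguished _ hT₂
  haveI : Mono ((DerivedCategory.homologyFunctor Y.Modules i).map ((DCoh.Rpush g).map T₁.mor₁)) :=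
    (DerivedCategory.HomologySequence.exact₁ _ R₁ (i - 1) i (by omega)).mono_g
      ((z' (i - 1) h3 (by omega)).eq_of_src _ _)
  haveI : Epi ((DerivedCategory.homologyFunctor Y.Modules i).map ((DCoh.Rpush g).map T₁.mor₁)) :=
    (DerivedCategory.HomologySequence.exact₂ _ R₁ i).epi_f ((z' i h3 le_rfl).eq_of_tgt _ _)
  haveI : Mono ((DerivedCategory.homologyFunctor Y.Modules i).map ((DCoh.Rpush g).map T₂.mor₂)) :=
    (DerivedCategory.HomologySequence.exact₂ _ R₂ i).mono_g ((z i h0 le_rfl).eq_of_src _ _)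
  haveI : Epi ((DerivedCategory.homologyFunctor Y.Modules i).map ((DCoh.Rpush g).map T₂.mor₂)) :=
    (DerivedCategory.HomologySequence.exact₃ _ R₂ i (i + 1)).epi_f ((z (i + 1) h0 (by omega)).eq_of_tgt _ _)
  haveI := isIso_of_mono_of_epi ((DerivedCategory.homologyFunctor Y.Modules i).map ((DCoh.Rpush g).map T₁.mor₁))
  haveI := isIso_of_mono_of_epi ((DerivedCategory.homologyFunctor Y.Modules i).map ((DCoh.Rpush g).map T₂.mor₂))
  let e₁ : DCoh.HD ((DCoh.Rpush g).obj E₁) i ≅ DCoh.HD ((DCoh.Rpush g).obj E) i :=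
    asIso ((DerivedCategory.homologyFunctor Y.Modules i).map ((DCoh.Rpush g).map T₁.mor₁))
  let e₂ : DCoh.HD ((DCoh.Rpush g).obj E₁) i ≅ DCoh.HD ((DCoh.Rpush g).obj T₂.obj₃) i :=
    asIso ((DerivedCategory.homologyFunctor Y.Modules i).map ((DCoh.Rpush g).map T₂.mor₂))
  haveI := DerTrunc.isIso_homology_truncLTι E (i + 1) i (by omega)
  let f₁ : DCoh.HD E₁ i ≅ DCoh.HD E i :=
    asIso ((DerivedCategory.homologyFunctor X.Modules i).map ((t.truncLTι (i + 1)).app E))
  have hz₂ : IsZero (DCoh.HD T₂.obj₁ i) := DerivedCategory.isZero_of_isLE T₂.obj₁ (i - 1) i (by omega)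
  have hz₂' : IsZero (DCoh.HD T₂.obj₁ (i + 1)) := DerivedCategory.isZero_of_isLE T₂.obj₁ (i - 1) (i + 1) (by omega)
  haveI : Mono ((DerivedCategory.homologyFunctor X.Modules i).map T₂.mor₂) :=
    (DerivedCategory.HomologySequence.exact₂ _ hT₂ i).mono_g (hz₂.eq_of_src _ _)
  haveI : Epi ((DerivedCategory.homologyFunctor X.Modules i).map T₂.mor₂) :=
    (DerivedCategory.HomologySequence.exact₃ _ hT₂ i (i + 1)).epi_f (hz₂'.eq_of_tgt _ _)
  haveI := isIso_of_mono_of_epi ((DerivedCategory.homologyFunctor X.Modules i).map T₂.mor₂)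
  let f₂ : DCoh.HD E₁ i ≅ DCoh.HD T₂.obj₃ i :=
    asIso ((DerivedCategory.homologyFunctor X.Modules i).map T₂.mor₂)
  obtain ⟨M, ⟨eM⟩⟩ := DerivedCategory.exists_iso_singleFunctor_obj_of_isGE_of_isLE T₂.obj₃ i
  have hM : Coh.IsQCoh M := M1.isQCoh_of_isIso
    ((DerivedCategory.homologyFunctor X.Modules i).mapIso eM ≪≫
      (DerivedCategory.singleFunctorCompHomologyFunctorIso X.Modules i).app M) (hq₃ i)
  obtain ⟨c⟩ := TwistBC9.nonempty_rpush_inD_of_acyclic g M hM (DPush9.isAcyclicObj_affine g hM)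
  let sX := ((DerivedCategory.singleFunctors X.Modules).shiftIso i 0 i (by omega)).app M
  let sY := ((DerivedCategory.singleFunctors Y.Modules).shiftIso i 0 i (by omega)).app
    ((Scheme.Modules.pushforward g).obj M)
  let w : DCoh.HD ((DCoh.Rpush g).obj (((DerivedCategory.singleFunctor X.Modules i).obj M)⟦i⟧⟦(-i)⟧)) i ≅
      DCoh.HD ((DCoh.Rpush g).obj ((DerivedCategory.singleFunctor X.Modules i).obj M)) i :=
    (DerivedCategory.homologyFunctor Y.Modules i).mapIso ((DCoh.Rpush g).mapIso ((shiftEquiv _ i).unitIso.app _).symm)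
  exact ⟨e₁.symm ≪≫ e₂ ≪≫
    (DerivedCategory.homologyFunctor Y.Modules i).mapIso ((DCoh.Rpush g).mapIso eM) ≪≫ w.symm ≪≫
    (DerivedCategory.homologyFunctor Y.Modules i).mapIso ((DCoh.Rpush g).mapIso ((shiftFunctor _ (-i)).mapIso sX) ≪≫
      ((DCoh.Rpush g).commShiftIso (-i)).app _ ≪≫
      (shiftFunctor _ (-i)).mapIso (c ≪≫ sY.symm) ≪≫ ((shiftEquiv _ i).unitIso.app _).symm) ≪≫
    (DerivedCategory.singleFunctorCompHomologyFunctorIso Y.Modules i).app _ ≪≫
    (Scheme.Modules.pushforward g).mapIso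
      (((DerivedCategory.singleFunctorCompHomologyFunctorIso X.Modules i).app M).symm ≪≫
        (DerivedCategory.homologyFunctor X.Modules i).mapIso eM.symm ≪≫ f₂.symm ≪≫ f₁)⟩

/-- For an involution, derived direct image and derived pullback agree. -/
theorem nonempty_lP_involution {X : Scheme.{u}} (j : X ⟶ X) (hj : j ≫ j = 𝟙 X) :
    Nonempty (DCoh.Rpush j ≅ lP j) := by
  let e : lP j ⋙ lP j ≅ 𝟭 (DCoh.D X) := lPComp j j hj ≪≫ lPId X
  let Q : DCoh.D X ≌ DCoh.D X := CategoryTheory.Equivalence.mk (lP j) (lP j) e.symm e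
  exact ⟨(adjLP j).rightAdjointUniq Q.toAdjunction⟩

variable {k : Type u} [Field k]

/-- Integral functors with compatible kernels intertwine direct and inverse images. -/
theorem nonempty_push_pull {A At B Bt : Over (Spec (CommRingCat.of k))}
    [IsProper A.hom] [IsProper At.hom] [IsProper B.hom] [IsProper Bt.hom]
    {PA : (PicF.XT A.hom At).Modules} (hPA : PicF.IsInvertible PA)
    {PB : (PicF.XT B.hom Bt).Modules} (hPB : PicF.IsInvertible PB)
    (f : A ⟶ B) (ft : Bt ⟶ At)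
    (eK : (Scheme.Modules.pullback (f ▷ Bt).left).obj PB ≅ (Scheme.Modules.pullback (A ◁ ft).left).obj PA) :
    Nonempty (ObjectProperty.ι (DCoh.IsQCohD (X := A.left)) ⋙ DCoh.Rpush f.left ⋙ phiK (fst B Bt).left (snd B Bt).left PB ≅
      ObjectProperty.ι (DCoh.IsQCohD (X := A.left)) ⋙ phiK (fst A At).left (snd A At).left PA ⋙ lP ft.left) := by
  haveI : IsProper f.left := by
    haveI : IsProper (f.left ≫ B.hom) := by rw [Over.w f]; infer_instance
    exact IsProper.of_comp f.left B.hom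
  haveI : Flat (fst B Bt).left := inferInstanceAs (Flat (pullback.fst B.hom Bt.hom))
  haveI : IsProper (snd A At).left := inferInstanceAs (IsProper (pullback.snd A.hom At.hom))
  haveI : Flat (snd A At).left := inferInstanceAs (Flat (pullback.snd A.hom At.hom))
  have hsq : IsPullback (fst A Bt).left (f ▷ Bt).left f.left (fst B Bt).left := by
    refine IsPullback.flip ?_
    refine IsPullback.of_right (h₁₂ := (snd B Bt).left) (h₂₂ := B.hom) (v₁₃ := Bt.hom) ?_ ?_ ?_
    · rw [← Over.comp_left, whiskerRight_snd, Over.w f]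
      exact (IsPullback.of_hasPullback A.hom Bt.hom).flip
    · rw [← Over.comp_left, whiskerRight_fst, Over.comp_left]
    · exact (IsPullback.of_hasPullback B.hom Bt.hom).flip
  obtain ⟨fb⟩ := FMBase13.nonempty_flatBC hsq
  obtain ⟨pt⟩ := FMBase13.nonempty_pushTwist (f ▷ Bt).left hPB
  obtain ⟨c⟩ := FMBase13.nonempty_phiK_BC (fst A At).left (snd A At).left (FMBase13.isPullback_whisker A ft) hPA
  have h2 : (f ▷ Bt).left ≫ (snd B Bt).left = (snd A Bt).left := by
    rw [← Over.comp_left, whiskerRight_snd]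
  have h3 : (A ◁ ft).left ≫ (fst A At).left = (fst A Bt).left := by
    rw [← Over.comp_left, whiskerLeft_fst]
  let ιA := ObjectProperty.ι (DCoh.IsQCohD (X := A.left))
  let s1 : ιA ⋙ DCoh.Rpush f.left ⋙ FMBase13.phiK (fst B Bt).left (snd B Bt).left PB ≅
      ιA ⋙ DMon9.lP (fst A Bt).left ⋙
        (DCoh.Rpush (f ▷ Bt).left ⋙ TwistBC9.tenF PB) ⋙ DCoh.Rpush (snd B Bt).left :=
    Functor.isoWhiskerRight fb (TwistBC9.tenF PB ⋙ DCoh.Rpush (snd B Bt).left)
  let s2 : ιA ⋙ DMon9.lP (fst A Bt).left ⋙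
        (DCoh.Rpush (f ▷ Bt).left ⋙ TwistBC9.tenF PB) ⋙ DCoh.Rpush (snd B Bt).left ≅
      ιA ⋙ DMon9.lP (fst A Bt).left ⋙
        TwistBC9.tenF ((Scheme.Modules.pullback (f ▷ Bt).left).obj PB) ⋙
          (DCoh.Rpush (f ▷ Bt).left ⋙ DCoh.Rpush (snd B Bt).left) :=
    Functor.isoWhiskerLeft ιA (Functor.isoWhiskerLeft _ (Functor.isoWhiskerRight pt _))
  let s3 : ιA ⋙ DMon9.lP (fst A Bt).left ⋙
        TwistBC9.tenF ((Scheme.Modules.pullback (f ▷ Bt).left).obj PB) ⋙
          (DCoh.Rpush (f ▷ Bt).left ⋙ DCoh.Rpush (snd B Bt).left) ≅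
      ιA ⋙ FMBase13.phiK ((A ◁ ft).left ≫ (fst A At).left) (snd A Bt).left
        ((Scheme.Modules.pullback (A ◁ ft).left).obj PA) :=
    Functor.isoWhiskerLeft ιA
      (Functor.isoWhiskerLeft (DMon9.lP (fst A Bt).left) (Functor.isoWhiskerRight (FMBase13.tenIso eK) _ ≪≫
          Functor.isoWhiskerLeft _ (FMBase13.rpushComp (f ▷ Bt).left (snd B Bt).left h2)) ≪≫
        FMBase13.phiKCongr (fst A Bt).left (snd A Bt).left h3.symm _)
  exact ⟨s1 ≪≫ s2 ≪≫ s3 ≪≫ c.symm⟩

/-- Derived pullback commutes with shifts. -/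
theorem nonempty_lP_shift {X Y : Scheme.{u}} (p : X ⟶ Y) (n : ℤ) :
    Nonempty (shiftFunctor (DCoh.D Y) n ⋙ lP p ≅ lP p ⋙ shiftFunctor (DCoh.D X) n) := by
  obtain ⟨h, -⟩ := DPush.exists_commShift_isTriangulated p
  letI := h
  letI := (adjLP p).leftAdjointCommShift ℤ
  exact ⟨(lP p).commShiftIso n⟩

/-- An integral functor commutes with shifts. -/
theorem nonempty_phiK_shift {X A S : Scheme.{u}} (p : X ⟶ A) (q : X ⟶ S) {K : X.Modules}
    (hK : PicF.IsInvertible K) (n : ℤ) :
    Nonempty (shiftFunctor (DCoh.D A) n ⋙ phiK p q K ≅ phiK p q K ⋙ shiftFunctor (DCoh.D S) n) := by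
  haveI := PnKoszul9.preservesFiniteLimits_tensorRightMod K hK
  obtain ⟨hps, -⟩ := DPush.exists_commShift_isTriangulated p
  letI := hps
  letI := (adjLP p).leftAdjointCommShift ℤ
  obtain ⟨hqs, -⟩ := DPush.exists_commShift_isTriangulated q
  letI := hqs
  obtain ⟨b⟩ := nonempty_tenF_twD K hK
  letI : (tenF K).CommShift ℤ := Functor.CommShift.ofIso b.symm ℤ
  letI : (phiK p q K).CommShift ℤ := (inferInstance : (lP p ⋙ tenF K ⋙ DCoh.Rpush q).CommShift ℤ)
  exact ⟨(phiK p q K).commShiftIso n⟩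

variable [IsAlgClosed k] {A At B Bt : Over (Spec (CommRingCat.of k))} [GrpObj A] [GrpObj At] [GrpObj B] [GrpObj Bt]
  [IsProper A.hom] [Smooth A.hom] [GeometricallyConnected A.hom]
  [IsProper At.hom] [Smooth At.hom] [GeometricallyConnected At.hom]
  [IsProper B.hom] [Smooth B.hom] [GeometricallyConnected B.hom]
  [IsProper Bt.hom] [Smooth Bt.hom] [GeometricallyConnected Bt.hom]
  {φ : AgPol.DualMap A At} (hφ : AbDual.IsDualAV Scheme.fppfPrecoverage A At φ)
  {P : (PicF.XT A.hom At).Modules} (hP : PicF.IsInvertible P) (hξ : AbDual.IsPoincareCl A At φ (PicF.cl P))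
  {ψ : AgPol.DualMap B Bt} (hψ : AbDual.IsDualAV Scheme.fppfPrecoverage B Bt ψ)
  {Q : (PicF.XT B.hom Bt).Modules} (hQ : PicF.IsInvertible Q) (hη : AbDual.IsPoincareCl B Bt ψ (PicF.cl Q))

include hφ hP hξ hψ hQ hη in
/-- Each cohomology sheaf of the transform of a pullback along an isogeny. -/
theorem nonempty_HD_transform_pullback {g : ℕ} (hgA : topologicalKrullDim A.left = g)
    (hgB : topologicalKrullDim B.left = g) (f : B ⟶ A) [IsMonHom f] [Flat f.left] {ft : At ⟶ Bt}
    (hft : AbDual.IsTranspose f ψ φ ft) [IsFinite ft.left] {G : A.left.Modules} (hG : Coh.IsCoh G) (i : ℤ) :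
    Nonempty (DCoh.HD ((phiK (fst B Bt).left (snd B Bt).left Q).obj
        ((DerivedCategory.singleFunctor B.left.Modules 0).obj ((Scheme.Modules.pullback f.left).obj G))) i ≅
      (Scheme.Modules.pushforward ((𝟙 Bt)⁻¹).left).obj ((Scheme.Modules.pushforward ft.left).obj
        (DCoh.HD ((phiK (fst A At).left (snd A At).left P).obj ((DerivedCategory.singleFunctor A.left.Modules 0).obj
          ((Scheme.Modules.pullback ((𝟙 A)⁻¹).left).obj G))) i))) := by
  haveI : GeometricallyIntegral A.hom := AbRigid.geometricallyIntegral_of_smooth A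
  haveI : GeometricallyIntegral B.hom := AbRigid.geometricallyIntegral_of_smooth B
  haveI : GeometricallyIntegral At.hom := AbRigid.geometricallyIntegral_of_smooth At
  haveI : IsLocallyNoetherian A.left := LocallyOfFiniteType.isLocallyNoetherian A.hom
  haveI : CompactSpace A.left := QuasiCompact.compactSpace_of_compactSpace A.hom
  -- the kernels on the other side
  obtain ⟨eK⟩ : Nonempty ((Scheme.Modules.pullback (ft ▷ B).left).obj (swP Q) ≅
      (Scheme.Modules.pullback (At ◁ f).left).obj (swP P)) := by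
    refine FMBase13.nonempty_iso_of_cls
      (hL := PicLoc.isInvertible_pullback _ (PicLoc.isInvertible_pullback _ hQ))
      (hM := PicLoc.isInvertible_pullback _ (PicLoc.isInvertible_pullback _ hP)) ?_
    have h := DualSeq22.ev_transpose hψ hη hξ f hft (snd At B) (fst At B)
    have h' := congrArg Subtype.val h
    apply Subtype.ext
    rw [PicGrp.cls_val, PicGrp.cls_val]
    refine ((PicLoc.pullCl_cl _ _).symm.trans ?_).trans (PicLoc.pullCl_cl _ _)
    rw [show (ft ▷ B) = lift (fst At B ≫ ft) (snd At B) by apply CartesianMonoidalCategory.hom_ext <;> simp,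
      show (At ◁ f) = lift (fst At B) (snd At B ≫ f) by apply CartesianMonoidalCategory.hom_ext <;> simp,
      cl_pull_swP hη, cl_pull_swP hξ]
    exact h'
  obtain ⟨pp⟩ := nonempty_push_pull (A := At) (At := A) (B := Bt) (Bt := B) (PA := swP P)
    (PicLoc.isInvertible_pullback _ hP) (PB := swP Q) (PicLoc.isInvertible_pullback _ hQ) ft f eK
  obtain ⟨invA⟩ := nonempty_inversion hφ hP hξ hgA
  obtain ⟨invB⟩ := nonempty_inversion_swP hψ hQ hη hgB
  let jA := ((𝟙 A)⁻¹).left
  let jB := ((𝟙 Bt)⁻¹).left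
  have hjA : jA ≫ jA = 𝟙 A.left := by
    rw [← Over.comp_left, GrpObj.comp_inv, Category.comp_id, inv_inv, Over.id_left]
  have hjB : jB ≫ jB = 𝟙 Bt.left := by
    rw [← Over.comp_left, GrpObj.comp_inv, Category.comp_id, inv_inv, Over.id_left]
  haveI : IsIso jA := ⟨jA, hjA, hjA⟩
  haveI : IsIso jB := ⟨jB, hjB, hjB⟩
  let G' := (Scheme.Modules.pullback jA).obj G
  have hG' : Coh.IsCoh G' := M1.isCoh_pullback _ hG
  let S := (DerivedCategory.singleFunctor A.left.Modules 0).obj G'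
  have hS : DCoh.IsQCohD S := TwistBC9.isQCohD_inD G' hG'.1 0
  have hSc : DCoh.IsCohD S := fun j => by
    rcases eq_or_ne j 0 with rfl | hj
    · exact BC8.isCoh_iso ((DerivedCategory.singleFunctorCompHomologyFunctorIso A.left.Modules 0).app G').symm hG'
    · rcases lt_or_gt_of_ne hj with h | h
      · exact DPerf.isCoh_of_isZero (DerivedCategory.isZero_of_isGE S 0 j h)
      · exact DPerf.isCoh_of_isZero (DerivedCategory.isZero_of_isLE S 0 j h)
  have hSp : DCoh.IsPerfect S := DPerf.isPerfect_iff_approx.2 (DPerf.isPerfect_of_regular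
    (fun x => SmoothReg17.isRegularLocalRing_stalk A.hom x) 1 0 S inferInstance
    (fun j hj => DerivedCategory.isZero_of_isLE S 0 j (by omega)) hSc)
  let X₀ := (phiK (fst A At).left (snd A At).left P).obj S
  obtain ⟨hX₀, c, b, hc, hb⟩ := exists_bounds_phiK hP hSp
  haveI := hc; haveI := hb
  have hX₀q : DCoh.IsQCohD X₀ := fun j => (hX₀ j).1
  let Z := (DCoh.Rpush ft.left).obj X₀
  have hZ : DCoh.IsQCohD Z := DPush.isQCohD_rpush ft.left X₀ hX₀q
  obtain ⟨sP⟩ := nonempty_lP_shift f.left (-(g : ℤ))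
  obtain ⟨sQ⟩ := nonempty_phiK_shift (fst B Bt).left (snd B Bt).left hQ (-(g : ℤ))
  obtain ⟨fA⟩ := nonempty_lP_single_flat jA G'
  obtain ⟨fB⟩ := nonempty_lP_single_flat f.left G
  let eG : (Scheme.Modules.pullback jA).obj G' ≅ G := (Scheme.Modules.pullbackComp _ _).app G ≪≫
    (Scheme.Modules.pullbackCongr hjA).app G ≪≫ (Scheme.Modules.pullbackId _).app G
  let main : (phiK (fst B Bt).left (snd B Bt).left Q).obj
        ((DerivedCategory.singleFunctor B.left.Modules 0).obj ((Scheme.Modules.pullback f.left).obj G))⟦(-(g : ℤ))⟧ ≅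
      ((lP jB).obj Z)⟦(-(g : ℤ))⟧ :=
    (sQ.app _).symm ≪≫ (phiK (fst B Bt).left (snd B Bt).left Q).mapIso
      ((shiftFunctor (DCoh.D B.left) (-(g : ℤ))).mapIso fB.symm ≪≫
        (sP.app _).symm ≪≫ (lP f.left).mapIso ((shiftFunctor (DCoh.D A.left) (-(g : ℤ))).mapIso
            ((DerivedCategory.singleFunctor A.left.Modules 0).mapIso eG.symm ≪≫ fA.symm) ≪≫
          (invA.app ⟨S, hS⟩).symm) ≪≫
        (pp.app ⟨X₀, hX₀q⟩).symm) ≪≫ invB.app ⟨Z, hZ⟩
  let main' : (phiK (fst B Bt).left (snd B Bt).left Q).obj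
      ((DerivedCategory.singleFunctor B.left.Modules 0).obj ((Scheme.Modules.pullback f.left).obj G)) ≅
      (lP jB).obj Z := (shiftFunctor (DCoh.D Bt.left) (-(g : ℤ))).preimageIso main
  obtain ⟨r⟩ := nonempty_lP_involution jB hjB
  obtain ⟨h1⟩ := nonempty_HD_rpush_affine ft.left X₀ hX₀q c b i
  haveI : Z.IsGE c := DPush.isGE_rpush ft.left X₀ c inferInstance
  haveI : Z.IsLE b := isLE_rpush_affine' ft.left X₀ hX₀q c b
  obtain ⟨h2⟩ := nonempty_HD_rpush_affine jB Z hZ c b i
  exact ⟨(DerivedCategory.homologyFunctor Bt.left.Modules i).mapIso (main' ≪≫ (r.app Z).symm) ≪≫ h2 ≪≫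
    (Scheme.Modules.pushforward jB).mapIso h1⟩

end Groth.Agent.FMHyp13

end
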