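import Groth.Agent.Lib.FMAdj9.Main
import Groth.Agent.Lib.FMBase13.Functors
import Groth.Agent.Lib.FMAdj9.PointShift
import Groth.Agent.Lib.DQC.Proj
import Mathlib.LinearAlgebra.Basis.VectorSpace

/-!
# Dual pairs over the spectrum of a field
-/

set_option autoImplicit false
set_option linter.unusedSectionVars false
set_option linter.style.haveILetI false
set_option backward.isDefEq.respectTransparency false
set_option backward.isDefEq.respectTransparency.types false
set_option maxHeartbeats 1600000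

universe u

open CategoryTheory CategoryTheory.Limits MonoidalCategory AlgebraicGeometry

attribute [local instance] HasDerivedCategory.standard

noncomputable section

namespace Groth.Agent.FMHyp13.PointDual

open DMon9 FMAdj9 TwistBC9

variable {R : CommRingCat.{u}} (hR : IsField R)

include hR in
/-- Over a field, maps into the field in degree zero vanish without cohomology in degree zero. -/
theorem hom_single_eq_zero (M : Dual.D R)
    (h : IsZero ((DerivedCategory.homologyFunctor (ModuleCat.{u} R) 0).obj M))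
    (f : M ⟶ (DerivedCategory.singleFunctor (ModuleCat.{u} R) 0).obj (ModuleCat.of R R)) : f = 0 := by
  obtain ⟨K, ⟨eK⟩⟩ : ∃ K : DRing.Cx R, Nonempty (DRing.toD K ≅ M) :=
    ⟨_, ⟨DerivedCategory.Q.objObjPreimageIso M⟩⟩
  let L : DRing.Cx R := (CochainComplex.singleFunctor (ModuleCat.{u} R) 0).obj (ModuleCat.of R R)
  let e₀ : DRing.toD L ≅ (DerivedCategory.singleFunctor (ModuleCat.{u} R) 0).obj (ModuleCat.of R R) :=
    ((DerivedCategory.singleFunctorIsoCompQ (ModuleCat.{u} R) 0).app (ModuleCat.of R R)).symm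
  letI := hR.toField
  haveI : ∀ i, Injective (L.X i) := fun i => by
    haveI : Module.Injective R (L.X i) := ⟨fun X Y _ _ _ _ u hu v => by
      obtain ⟨r, hr⟩ := LinearMap.exists_leftInverse_of_injective u (LinearMap.ker_eq_bot.2 hu)
      exact ⟨v ∘ₗ r, fun x => congrArg v (LinearMap.congr_fun hr x)⟩⟩
    exact Module.injective_object_of_injective_module R (L.X i)
  haveI : L.IsKInjective := CochainComplex.isKInjective_of_injective L 0
  let e := DerivedCategory.quotientCompQhIso (ModuleCat.{u} R)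
  let f' : DRing.toD K ⟶ DRing.toD L := eK.hom ≫ f ≫ e₀.inv
  obtain ⟨g, hg⟩ := (CochainComplex.IsKInjective.Qh_map_bijective _ L).surjective
    (e.hom.app K ≫ f' ≫ e.inv.app L)
  obtain ⟨g, rfl⟩ := (HomotopyCategory.quotient (ModuleCat.{u} R) (ComplexShape.up ℤ)).map_surjective g
  suffices hgh : Nonempty (Homotopy g 0) by
    obtain ⟨H⟩ := hgh
    rw [HomotopyCategory.eq_of_homotopy _ _ H, Functor.map_zero, Functor.map_zero] at hg
    have h0 : f' = 0 := by
      have := hg.symm
      rw [Preadditive.IsIso.comp_left_eq_zero] at this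
      exact (cancel_mono (e.inv.app L)).1 (this.trans zero_comp.symm)
    exact (cancel_epi eK.hom).1 (((cancel_mono e₀.inv).1 ((Category.assoc _ _ _).trans (h0.trans zero_comp.symm))).trans comp_zero.symm)
  -- the functional vanishes on cycles, hence factors through the differential
  have hK : Subsingleton (K.homology 0) := ModuleCat.subsingleton_of_isZero
    (h.of_iso (((DerivedCategory.homologyFunctorFactors (ModuleCat.{u} R) 0).app K).symm ≪≫
      (DerivedCategory.homologyFunctor (ModuleCat.{u} R) 0).mapIso eK))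
  have hex := (DMod.subsingleton_homology_iff K (i := -1) (k := 1) (by simp) (by simp)).1 hK
  have hle : LinearMap.ker (K.d 0 1).hom ≤ LinearMap.ker (g.f 0).hom := by
    intro x hx
    obtain ⟨y, rfl⟩ := hex x hx
    show g.f 0 (K.d (-1) 0 y) = 0
    rw [← ModuleCat.comp_apply, ← g.comm (-1) 0,
      (HomologicalComplex.isZero_single_obj_X (ComplexShape.up ℤ) 0 (ModuleCat.of R R) (-1) (by decide)).eq_of_tgt
        (g.f (-1)) 0]
    simp
  obtain ⟨ψ, hψ⟩ := LinearMap.exists_extend
    (((LinearMap.ker (K.d 0 1).hom).liftQ (g.f 0).hom hle).comp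
      (K.d 0 1).hom.quotKerEquivRange.symm.toLinearMap)
  have hfac : g.f 0 = K.d 0 1 ≫ ModuleCat.ofHom ψ := by
    ext x
    have := LinearMap.congr_fun hψ ⟨(K.d 0 1).hom x, x, rfl⟩
    refine Eq.trans ?_ this.symm
    simp [LinearMap.quotKerEquivRange_symm_apply_image]
  let hm : ∀ i j : ℤ, (ComplexShape.up ℤ).Rel j i → (K.X i ⟶ L.X j) := fun i j _ =>
    if hh : i = 1 ∧ j = 0 then
      eqToHom (by rw [hh.1]) ≫ ModuleCat.ofHom ψ ≫ eqToHom (by rw [hh.2])
    else 0
  refine ⟨(Homotopy.ofEq ?_).trans (Homotopy.nullHomotopy' hm)⟩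
  ext1 i
  by_cases hi : i = 0
  · subst hi
    rw [Homotopy.nullHomotopicMap'_f (k₂ := (-1 : ℤ)) (k₀ := (1 : ℤ)) (by simp) (by simp), hfac]
    simp [hm]
  · exact (HomologicalComplex.isZero_single_obj_X (ComplexShape.up ℤ) 0 (ModuleCat.of R R) i hi).eq_of_tgt _ _

include hR in
/-- Over the spectrum of a field, an object representing maps into the unit out of tensors with another has cohomology in opposite degrees. -/
theorem isZero_of_tensor_hom (G D : DM (Spec R)) (hG : DCoh.IsQCohD (G : DCoh.D (Spec R)))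
    (hD : DCoh.IsQCohD (D : DCoh.D (Spec R)))
    (hadj : ∀ W : DM (Spec R), Subsingleton ((W ⊗ G : DM (Spec R)) ⟶ 𝟙_ (DM (Spec R))) →
      Subsingleton (W ⟶ (𝟙_ (DM (Spec R)) ⊗ D : DM (Spec R))))
    (l : ℤ) (h : IsZero (DCoh.HD (G : DCoh.D (Spec R)) (-l))) :
    IsZero (DCoh.HD (D : DCoh.D (Spec R)) l) := by
  haveI : PreservesFiniteLimits (tilde.functor R) := M1.tilde_preservesFiniteLimits
  let T := DPerf.tildeDD R
  haveI : (tilde.functor R).Additive := (tilde.adjunction (R := R)).left_adjoint_additive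
  haveI : (DPerf.tildeDD R).IsTriangulated := inferInstance
  haveI : T.PreservesZeroMorphisms := inferInstanceAs (DPerf.tildeDD R).PreservesZeroMorphisms
  obtain ⟨M, ⟨eM⟩⟩ := DQC.exists_iso_of_isQCohD (G : DCoh.D (Spec R)) hG
  obtain ⟨N, ⟨eN⟩⟩ := DQC.exists_iso_of_isQCohD (D : DCoh.D (Spec R)) hD
  refine IsZero.of_iso ?_ ((DerivedCategory.homologyFunctor _ l).mapIso eN.symm ≪≫ DPerf.hdTildeIso N l)
  refine (tilde.functor R).map_isZero ?_
  let M' := M⟦-l⟧
  have hM' : IsZero ((DerivedCategory.homologyFunctor (ModuleCat.{u} R) 0).obj M') := by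
    refine IsZero.of_iso (DPerf.isZero_of_tilde (h.of_iso (?_ ≪≫ (DerivedCategory.homologyFunctor _ (-l)).mapIso eM)))
      (((DerivedCategory.homologyFunctor (ModuleCat.{u} R) 0).shiftIso (-l) 0 (-l) (by omega)).app M)
    exact (DPerf.hdTildeIso M (-l)).symm
  -- every class of the dual in degree `l` is zero
  have hzero : ∀ s : (DerivedCategory.singleFunctor (ModuleCat.{u} R) l).obj (ModuleCat.of R R) ⟶ N, s = 0 := by
    obtain ⟨o⟩ := nonempty_oneD_tilde R l
    obtain ⟨o₀⟩ := nonempty_oneD_tilde R 0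
    obtain ⟨sh⟩ := FMBase13.nonempty_shift_tensor (X := Spec R) l
    obtain ⟨c⟩ := nonempty_comm G
    let o₁ : DCoh.D (Spec R) := oneM (Spec R) l
    let u₀ : DCoh.D (Spec R) := (𝟙_ (DM (Spec R)) : DM (Spec R))
    let e₁ : o₁ ≅ oneD (Spec R) l :=
      (((DerivedCategory.singleFunctorIsoCompQ (Spec R).Modules l).app (Coh.structureModule (Spec R))).symm :)
    let e₂ : u₀ ≅ oneD (Spec R) 0 :=
      (((DerivedCategory.singleFunctorIsoCompQ (Spec R).Modules 0).app (Coh.structureModule (Spec R))).symm :)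
    let e₃ : (tRD G).obj o₁ ≅ T.obj M' :=
      ((c.app (oneM (Spec R) l)).symm :) ≪≫ sh.app (G : DCoh.D (Spec R)) ≪≫
        (shiftFunctor (DCoh.D (Spec R)) (-l)).mapIso eM.symm ≪≫ ((T.commShiftIso (-l)).app M).symm
    have key : ∀ u : (tRD G).obj o₁ ⟶ u₀,
        u = 0 := fun u => by
      obtain ⟨w, hw⟩ := (DQC.bijective_map M' _).2 (e₃.inv ≫ u ≫ e₂.hom ≫ o₀.hom)
      have h1 : e₃.inv ≫ u ≫ e₂.hom ≫ o₀.hom = 0 := by
        rw [← hw, hom_single_eq_zero hR M' hM' w]
        exact T.map_zero _ _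
      rw [Preadditive.IsIso.comp_left_eq_zero] at h1
      exact (cancel_mono (e₂.hom ≫ o₀.hom)).1 (h1.trans zero_comp.symm)
    intro s
    apply (DQC.bijective_map _ N).1
    show T.map s = T.map 0
    rw [Functor.map_zero]
    have h2 : ∀ v : o₁ ⟶ (tRD D).obj u₀, v = 0 := fun v =>
      @Subsingleton.elim (o₁ ⟶ (tRD D).obj u₀) (hadj (oneM (Spec R) l) ⟨fun x y => (key x).trans (key y).symm⟩) v 0
    let e₄ : (tRD D).obj u₀ ≅ T.obj N := ((λ_ D : (𝟙_ (DM (Spec R)) ⊗ D : DM (Spec R)) ≅ D) :) ≪≫ eN.symm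
    have h3 := h2 (e₁.hom ≫ o.hom ≫ T.map s ≫ e₄.inv)
    rw [← Category.assoc, Preadditive.IsIso.comp_left_eq_zero] at h3
    exact (cancel_mono e₄.inv).1 (h3.trans zero_comp.symm)
  have hsub : Subsingleton ((ModuleCat.of R R) ⟶ (DerivedCategory.homologyFunctor (ModuleCat.{u} R) l).obj N) :=
    ⟨fun a b => by
      obtain ⟨a', rfl⟩ := (DQC.bijective_θ_projective (ModuleCat.of R R) l N).2 a
      obtain ⟨b', rfl⟩ := (DQC.bijective_θ_projective (ModuleCat.of R R) l N).2 b
      rw [hzero a', hzero b']⟩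
  refine (DMod.isZero_iff_subsingleton _).2 ⟨fun a b => ?_⟩
  have := hsub.elim (ModuleCat.ofHom (LinearMap.toSpanSingleton R _ a))
    (ModuleCat.ofHom (LinearMap.toSpanSingleton R _ b))
  simpa using congrArg (fun t => t.hom (1 : R)) this

include hR in
/-- Over the spectrum of a field, dual objects have cohomology in opposite degrees. -/
theorem isZero_dual (G D : DM (Spec R)) [ExactPairing G D] (hG : DCoh.IsQCohD (G : DCoh.D (Spec R)))
    (hD : DCoh.IsQCohD (D : DCoh.D (Spec R))) (l : ℤ) (h : IsZero (DCoh.HD (G : DCoh.D (Spec R)) (-l))) :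
    IsZero (DCoh.HD (D : DCoh.D (Spec R)) l) :=
  isZero_of_tensor_hom hR G D hG hD (fun W hW =>
    ⟨fun a b => ((tensorRightAdjunction G D).homEquiv W (𝟙_ (DM (Spec R)))).symm.injective (hW.elim _ _)⟩) l h

include hR in
/-- Over the spectrum of a field, dual objects have cohomology in opposite degrees, the other way round. -/
theorem isZero_dual' (G D : DM (Spec R)) [ExactPairing G D] (hG : DCoh.IsQCohD (G : DCoh.D (Spec R)))
    (hD : DCoh.IsQCohD (D : DCoh.D (Spec R))) (l : ℤ) (h : IsZero (DCoh.HD (D : DCoh.D (Spec R)) (-l))) :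
    IsZero (DCoh.HD (G : DCoh.D (Spec R)) l) := by
  obtain ⟨cD⟩ := nonempty_comm D
  refine isZero_of_tensor_hom hR D G hD hG (fun W hW => ?_) l h
  haveI : Subsingleton ((D ⊗ W : DM (Spec R)) ⟶ 𝟙_ (DM (Spec R))) :=
    ((cD.app W).homFromEquiv).subsingleton_congr.2 hW
  haveI : Subsingleton (W ⟶ (G ⊗ 𝟙_ (DM (Spec R)) : DM (Spec R))) :=
    ⟨fun a b => ((tensorLeftAdjunction G D).homEquiv W (𝟙_ (DM (Spec R)))).symm.injective
      (@Subsingleton.elim ((D ⊗ W : DM (Spec R)) ⟶ 𝟙_ (DM (Spec R))) _ _ _)⟩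
  exact ((ρ_ G ≪≫ (λ_ G).symm).homToEquiv).subsingleton_congr.1 inferInstance

end Groth.Agent.FMHyp13.PointDual

end
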