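import Groth.Agent.Lib.FMHyp13.GVDepth

/-!
# A free model of the derived fibre together with its comparison
-/

set_option autoImplicit false
set_option linter.style.haveILetI false
set_option linter.unusedSectionVars false
set_option backward.isDefEq.respectTransparency false
set_option backward.isDefEq.respectTransparency.types false
set_option maxHeartbeats 1600000

universe u

open CategoryTheory CategoryTheory.Limits AlgebraicGeometry IsLocalRing

attribute [local instance] HasDerivedCategory.standard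

noncomputable section

namespace Groth.Agent.FMHyp13

open DBaseChange DPerf.LocalFibre RegLoc KFlat KFlat.Sch DMon9 Exact8.PerfFibres

variable {Y : Scheme.{u}} [IsLocallyNoetherian Y] {Z : Scheme.{u}} (f : Z ⟶ Y) (z : Z)

/-- The derived fibre of a perfect object read on a free complex over the local ring, with the comparison. -/
theorem exists_fibre_rep (hZ : ∀ z' : Z, z' = z) (hfield : IsField (Z.presheaf.stalk z))
    {G : DCoh.D Y} (hG : DCoh.IsPerfect G) :
    ∃ (K : CochainComplex Y.Modules ℤ) (F : DRing.Cx (Y.presheaf.stalk (f z) : Type u)) (B : ℤ),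
      KFlat.Sch.IsAdapted K ∧ Nonempty (DCoh.toD Y K ≅ G) ∧ F.IsStrictlyLE B ∧ DRing.TermwiseFiniteFree F ∧
      Nonempty (DRing.toD F ≅ DRing.toD (stC (f z) K)) ∧
      ∀ l, IsZero (DCoh.HD ((lP f).obj G) l) ↔ FibreExact F l := by
  haveI : DCoh.HasLpull f := KFlat.Sch.hasLpull f
  obtain ⟨n⟩ := nonempty_lpull_natIso_lP f
  obtain ⟨K, hK, ⟨eK⟩⟩ := exists_adapted_rep G
  have hK' : DCoh.IsPerfect (DCoh.toD Y K) := DGen9.isPerfect_of_iso eK.symm hG
  have hpc : ∀ m : ℤ, DCoh.IsPseudoCoherentD m (DCoh.toD Y K) := fun m => DGen9.isPseudoCoherentD_of_isPerfect hK' m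
  obtain ⟨F, B, hB, hF, ⟨eF⟩⟩ := exists_free_stalk K hpc (f z)
  haveI := hB
  have hflat : ∀ l, Module.Flat (Y.presheaf.stalk (f z) : Type u) (F.X l) := fun l =>
    have := (hF l).2
    inferInstance
  refine ⟨K, F, B, hK, ⟨eK⟩, hB, hF, ⟨eF⟩, fun l => ?_⟩
  let L := ((Scheme.Modules.pullback f).mapHomologicalComplex (ComplexShape.up ℤ)).obj K
  let eL : DCoh.toD Z L ≅ (lP f).obj G :=
    (lpullObjIso f K hK).symm ≪≫ (DCoh.Lpull f).mapIso eK ≪≫ n.app G
  haveI : (stF z).PreservesHomology := ((stF z).exact_tfae.out 0 2).1 fun S hS => DPerf.shortExact_stF hS z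
  let e₁ : (stC z L).homology l ≅ (stF z).obj (DCoh.HD ((lP f).obj G) l) :=
    (L.sc l).mapHomologyIso (stF z) ≪≫
      (stF z).mapIso (((DerivedCategory.homologyFunctorFactors _ l).app L).symm ≪≫
        (DerivedCategory.homologyFunctor _ l).mapIso eL)
  have h1 : IsZero (DCoh.HD ((lP f).obj G) l) ↔ Subsingleton ((stC z L).homology l) :=
    ⟨fun h => ModuleCat.subsingleton_of_isZero (((stF z).map_isZero h).of_iso e₁),
      fun h => DPerf.isZero_of_stalks fun w => by rw [hZ w]; exact e₁.toLinearEquiv.toEquiv.subsingleton_congr.1 h⟩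
  let ψ := (f.stalkMap z).hom
  let Kx := stC (f z) K
  haveI hKflat : ∀ i, Module.Flat (Y.presheaf.stalk (f z) : Type u) (Kx.X i) := fun i =>
    (KFlat.Sch.isFlat_iff _).1 (hK.2.2 i) (f z)
  have hKad : Adapted Kx := ⟨isKFlat_stF hK.1 (f z),
    KFlat.DT.isKFlat_flip ((KFlat.Module.isKFlat_iff _).1 (isKFlat_stF hK.1 (f z))),
    fun i => (KFlat.Module.isFlat_iff _).2 (hKflat i)⟩
  haveI := DQC.hasLBaseChange ψ
  let e : DRing.toD ((extCx ψ).obj F) ≅ DRing.toD (stC z L) :=
    (valueIso ψ F (adapted_of_flat F B hflat)).symm ≪≫ (DRing.LBaseChange ψ).mapIso eF ≪≫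
      valueIso ψ Kx hKad ≪≫ DerivedCategory.Q.mapIso (Exact8.stKIso f z K).symm
  have h2 : Subsingleton ((stC z L).homology l) ↔ Subsingleton (((extCx ψ).obj F).homology l) := by
    rw [← DMod.subsingleton_HD_toD_iff, ← DMod.subsingleton_HD_toD_iff]
    exact ((DMod.HH l).mapIso e).toLinearEquiv.toEquiv.subsingleton_congr.symm
  rw [h1, h2]
  haveI : IsLocalHom ψ := inferInstanceAs (IsLocalHom (f.stalkMap z).hom)
  let κ := ResidueField.map ψ
  have hκ : κ.comp (residue (Y.presheaf.stalk (f z) : Type u)) = (residue (Z.presheaf.stalk z : Type u)).comp ψ :=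
    ResidueField.map_comp_residue ψ
  have hres : Function.Bijective (residue (Z.presheaf.stalk z : Type u)) := by
    refine ⟨(injective_iff_map_eq_zero _).2 fun w hw => ?_, residue_surjective⟩
    rwa [residue_eq_zero_iff, isField_iff_maximalIdeal_eq.1 hfield, Ideal.mem_bot] at hw
  constructor
  · intro h
    refine fibreExact_of_ext F l ?_
    have h1 := extCx_comp_homology ψ (residue _) (RingHom.Flat.of_bijective hres) F l h
    rw [← hκ] at h1
    exact subsingleton_of_ext_field κ _ l (((HomologicalComplex.homologyFunctor _ _ l).mapIso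
      (extCompIso (residue (Y.presheaf.stalk (f z) : Type u)) κ F)).toLinearEquiv.toEquiv.subsingleton_congr.1 h1)
  · intro h
    let er := RingEquiv.ofBijective (residue (Z.presheaf.stalk z : Type u)) hres
    have hκf : κ.Flat := by
      letI := κ.toAlgebra
      exact @Module.Flat.of_free _ _ _ _ κ.toAlgebra.toModule (@Module.Free.of_divisionRing _ _ _ _ κ.toAlgebra.toModule)
    have h3 := extCx_comp_homology (residue _) (er.symm.toRingHom.comp κ)
      (hκf.comp (RingHom.Flat.of_bijective er.symm.bijective)) F l (subsingleton_ext_of_fibreExact F l h)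
    rwa [RingHom.comp_assoc, hκ, ← RingHom.comp_assoc,
      show er.symm.toRingHom.comp (residue _) = RingHom.id _ from RingHom.ext er.symm_apply_apply,
      RingHom.id_comp] at h3

end Groth.Agent.FMHyp13

end
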