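import Groth.Agent.Lib.FMBase13.Basic
import Groth.Agent.Lib.FMHyp13.PointDual
import Groth.Agent.Lib.FMHyp13.WitFibre
import Groth.Agent.Lib.HilbObs3.HomAdj
import Groth.Agent.Lib.TensorNat17.Basic
import Groth.Agent.Lib.HomShH7.LocFree

/-!
# Locally free modules in degree zero and their duals
-/

set_option autoImplicit false
set_option linter.style.haveILetI false
set_option linter.unusedSectionVars false
set_option backward.isDefEq.respectTransparency false
set_option backward.isDefEq.respectTransparency.types false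
set_option maxHeartbeats 1600000

universe u

open CategoryTheory CategoryTheory.Limits MonoidalCategory AlgebraicGeometry IsLocalRing

attribute [local instance] HasDerivedCategory.standard

noncomputable section

namespace Groth.Agent.FMHyp13.LocFreeDual

open DMon9 TwistBC9 KFlat KFlat.Sch DBaseChange DPerf.LocalFibre

variable {X Y : Scheme.{u}}

/-- A finite locally free module in degree zero, K-flat. -/
abbrev gK' (G : X.Modules) (hG : FlatMod.IsFinLocFree G) : KF X :=
  ⟨RHom.sg 0 G, KFlat.isKFlat_single 0 G ((KFlat.Sch.isFlat_iff G).2 (KFlat.Sch.isFlat_of_isFinLocFree hG))⟩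

theorem preservesFiniteLimits_tensor (G : X.Modules) (hG : FlatMod.IsFinLocFree G) :
    PreservesFiniteLimits (DCoh.tensorRightMod G) := by
  haveI : ((TX X).flip.obj G).PreservesMonomorphisms := ((KFlat.Sch.isFlat_iff G).2 (KFlat.Sch.isFlat_of_isFinLocFree hG)).right
  haveI : ((TX X).flip.obj G).PreservesHomology :=
    haveI : PreservesFiniteColimits ((TX X).flip.obj G) := PreservesColimitsOfSize.preservesFiniteColimits _
    Functor.preservesHomology_of_preservesMonos_and_cokernels _
  haveI : PreservesFiniteLimits ((TX X).flip.obj G) := Functor.preservesFiniteLimits_of_preservesHomology _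
  exact preservesFiniteLimits_of_natIso (tensorRightModIso G)

/-- The monoidal twist by a locally free module is the derived twist. -/
theorem nonempty_tenF_twD (G : X.Modules) (hG : FlatMod.IsFinLocFree G)
    [PreservesFiniteLimits (DCoh.tensorRightMod G)] :
    Nonempty (tenF G ≅ PnKoszul9.twD G) := by
  haveI := qK_isLocalization X
  refine ⟨Localization.liftNatIso (qK X) (kfW X) (qK X ⋙ tenF G) (qK X ⋙ PnKoszul9.twD G) _ _
    (NatIso.ofComponents (fun R => (muK R (gK' G hG) ≪≫ DerivedCategory.Q.mapIso (FMBase13.cxIso G R.obj) ≪≫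
      ((DCoh.tensorRightMod G).mapDerivedCategoryFactors.app R.obj).symm :)) fun {R R'} f => ?_)⟩
  have h1 := Localization.Monoidal.μ_natural_left (qK X) (kfW X) (εK X) f (gK' G hG)
  have h2 := congrArg DerivedCategory.Q.map (FMBase13.cxIso_natural G f.hom)
  have h3 := (DCoh.tensorRightMod G).mapDerivedCategoryFactors.inv.naturality f.hom
  rw [Functor.map_comp, Functor.map_comp] at h2
  change (qM X).map f ▷ (qM X).obj (gK' G hG) ≫ ((muK R' (gK' G hG)).hom ≫
      DerivedCategory.Q.map (FMBase13.cxIso G R'.obj).hom ≫ _) =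
    ((muK R (gK' G hG)).hom ≫ DerivedCategory.Q.map (FMBase13.cxIso G R.obj).hom ≫ _) ≫ _
  refine (Category.assoc _ _ _).symm.trans ((congrArg (· ≫ _) h1).trans ((Category.assoc _ _ _).trans ?_))
  refine Eq.trans ?_ (Category.assoc _ _ _).symm
  refine congrArg ((muK R (gK' G hG)).hom ≫ ·) ?_
  refine ((Category.assoc _ _ _).symm.trans ((congrArg (· ≫ _) h2).trans (Category.assoc _ _ _))).trans ?_
  exact (congrArg (DerivedCategory.Q.map (FMBase13.cxIso G R.obj).hom ≫ ·) h3).trans (Category.assoc _ _ _).symm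

/-- Modules in degree zero tensored with a locally free one, naturally. -/
theorem nonempty_single_tenF (G : X.Modules) (hG : FlatMod.IsFinLocFree G) :
    Nonempty (DerivedCategory.singleFunctor X.Modules 0 ⋙ tenF G ≅
      DCoh.tensorRightMod G ⋙ DerivedCategory.singleFunctor X.Modules 0) := by
  haveI := preservesFiniteLimits_tensor G hG
  obtain ⟨b⟩ := nonempty_tenF_twD G hG
  exact ⟨Functor.isoWhiskerLeft _ b ≪≫ (DCoh.tensorRightMod G).mapDerivedCategorySingleFunctor 0⟩

/-- A product with a locally free module in degree zero. -/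
theorem nonempty_modM_tensor (G G' : X.Modules) (hG' : FlatMod.IsFinLocFree G') :
    Nonempty (modM G ⊗ modM G' ≅ modM (CohB1.tensorMod G G')) := by
  obtain ⟨T⟩ := nonempty_single_tenF G' hG'
  exact ⟨(T.app G :)⟩

/-- Derived pullback of a locally free module. -/
theorem nonempty_lP_modM (f : X ⟶ Y) {G : Y.Modules} (hG : FlatMod.IsFinLocFree G) :
    Nonempty ((lP f).obj ((DerivedCategory.singleFunctor Y.Modules 0).obj G) ≅
      (DerivedCategory.singleFunctor X.Modules 0).obj ((Scheme.Modules.pullback f).obj G)) :=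
  ⟨(lPFac f).app (gK' G hG) ≪≫ DerivedCategory.Q.mapIso
    ((HomologicalComplex.singleMapHomologicalComplex (Scheme.Modules.pullback f) (ComplexShape.up ℤ) 0).app G)⟩

/-- A perfect object with vanishing fibres in one degree has no cohomology in it. -/
theorem isZero_HD_of_fibres [IsLocallyNoetherian Y] {G : DCoh.D Y} (hG : DCoh.IsPerfect G) (l : ℤ)
    (h : ∀ y : Y, IsZero (DCoh.HD ((lP (Y.fromSpecResidueField y)).obj G) l)) : IsZero (DCoh.HD G l) := by
  refine SerreCl8.isZero_of_support_eq_empty (Set.eq_empty_iff_forall_notMem.2 fun y => ?_)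
  obtain ⟨F, hF, hFf, hFh, -⟩ := exists_fibre_model (Y.fromSpecResidueField y) (closedPoint (Y.residueField y))
    (fun z' => @Subsingleton.elim _ (inferInstanceAs (Subsingleton (PrimeSpectrum (Y.residueField y)))) _ _)
    (Residual14.isField_stalk_of_etale_field (𝟙 (Spec (CommRingCat.of (Y.residueField y)))) _) hG
  rw [← Scheme.fromSpecResidueField_apply y (closedPoint (Y.residueField y))]
  refine (hFh l).2 ?_
  rw [DMod.subsingleton_homology_iff F (i := l - 1) (k := l + 1) (by simp) (by simp)]
  exact (split_of_fibreExact F hF l ((hFf l).1 (h y))).1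

/-- The dual of a locally free module in degree zero is its dual module. -/
theorem nonempty_dual_locFree [IsLocallyNoetherian X] (P : X.Modules) (hP : FlatMod.IsFinLocFree P)
    [DCoh.HasSheafHom P] (D : DM X) [ExactPairing (modM P) D] (hD : DCoh.IsPerfect (D : DCoh.D X)) :
    Nonempty (D ≅ modM ((DCoh.sheafHom P).obj (Coh.structureModule X))) := by
  have hz : ∀ l : ℤ, l ≠ 0 → IsZero (DCoh.HD (D : DCoh.D X) l) := fun l hl =>
    isZero_HD_of_fibres hD l fun y => by
      let f := X.fromSpecResidueField y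
      letI : ExactPairing ((dPull f).obj (modM P)) ((dPull f).obj D) := Dual8.mapPairing (dPull f) (modM P) D
      obtain ⟨e⟩ := nonempty_lP_modM f hP
      refine PointDual.isZero_dual (Field.toIsField (X.residueField y)) ((dPull f).obj (modM P)) ((dPull f).obj D)
        (isQCohD_lP f (isQCohD_inD P (M1.isFP_of_isFinLocFree hP |> fun h => ((M1.isCoh_iff_isFP _).2 h).1) 0))
        (isQCohD_lP f (DGen9.isQCohD_of_isPerfect hD)) l ?_
      let S₀ := (DerivedCategory.singleFunctor (Spec (X.residueField y)).Modules 0).obj ((Scheme.Modules.pullback f).obj P)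
      have hS₀ : IsZero (DCoh.HD S₀ (-l)) := by
        rcases lt_or_gt_of_ne (neg_ne_zero.2 hl) with h | h
        · exact DerivedCategory.isZero_of_isGE S₀ 0 _ h
        · exact DerivedCategory.isZero_of_isLE S₀ 0 _ h
      exact hS₀.of_iso ((DerivedCategory.homologyFunctor _ (-l)).mapIso e)
  haveI : (D : DCoh.D X).IsGE 0 := (DerivedCategory.isGE_iff _ _).2 fun i hi => hz i (by omega)
  haveI : (D : DCoh.D X).IsLE 0 := (DerivedCategory.isLE_iff _ _).2 fun i hi => hz i (by omega)
  obtain ⟨H, ⟨eH⟩, -⟩ := DPerf.exists_single_of_concentrated (K := (D : DCoh.D X)) 0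
  let eH₀ := ((shiftFunctorZero (DCoh.D X) ℤ).app (D : DCoh.D X)).symm ≪≫ eH
  let eH' : D ≅ modM H := eH₀
  obtain ⟨T⟩ := nonempty_single_tenF P hP
  obtain ⟨s⟩ := HilbObs3.nonempty_sheafHom_iso P (Coh.structureModule X)
  let S := DerivedCategory.singleFunctor X.Modules 0
  let hS := Functor.FullyFaithful.ofFullyFaithful S
  let one : (𝟙_ (DM X) : DM X) ≅ modM (Coh.structureModule X) :=
    (Iso.refl _ : modM (Coh.structureModule X) ≅ (qM X).obj (𝟙_ (KF X))).symm
  let j : modM H ≅ 𝟙_ (DM X) ⊗ D := eH'.symm ≪≫ (λ_ D).symm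
  let adj := tensorRightAdjunction (modM P) D
  let Ti : ∀ M : X.Modules, (modM M ⊗ modM P : DM X) ≅ modM (CohB1.tensorMod M P) := fun M => (T.app M :)
  let φ : ∀ M : X.Modules, (M ⟶ H) ≃ (M ⟶ M2.homMod P (Coh.structureModule X)) := fun M =>
    (hS.homEquiv (X := M) (Y := H)).trans <|
      ((j.homToEquiv (Z := (modM M : DM X))).trans <|
        ((adj.homEquiv (modM M) (𝟙_ (DM X))).symm.trans <|
          (Iso.homCongr (Ti M) one).trans <|
            (hS.homEquiv (X := CohB1.tensorMod M P) (Y := Coh.structureModule X)).symm.trans <|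
              (M2.tensorComm M P).homFromEquiv.trans (HilbObs3.homEquivT P M (Coh.structureModule X))) :)
  obtain ⟨r⟩ := HilbObs3.nonempty_iso_of_equiv φ (fun {M M'} g f => by
    refine Eq.trans ?_ (HilbObs3.homEquivT_natural P _ g _)
    refine congrArg (HilbObs3.homEquivT P M' (Coh.structureModule X)) ?_
    dsimp [φ, Iso.homCongr, Iso.homToEquiv, Iso.homFromEquiv]
    have h0 : hS.homEquiv (g ≫ f) = (S.map g : (modM M' : DM X) ⟶ modM M) ≫ (hS.homEquiv f : (modM M : DM X) ⟶ modM H) :=
      S.map_comp g f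
    rw [h0, Category.assoc]
    let a : (modM M : DM X) ⟶ (tensorRight D : DM X ⥤ DM X).obj (𝟙_ (DM X)) := (hS.homEquiv f : (modM M : DM X) ⟶ modM H) ≫ j.hom
    have h4 := adj.homEquiv_naturality_left_symm (S.map g : (modM M' : DM X) ⟶ modM M) a
    refine (congrArg (fun t => (M2.tensorComm M' P).inv ≫ hS.homEquiv.symm ((Ti M').inv ≫ t ≫ one.hom)) h4).trans ?_
    let Sg : (modM M' : DM X) ⟶ modM M := S.map g
    let ST : (modM (CohB1.tensorMod M' P) : DM X) ⟶ modM (CohB1.tensorMod M P) :=
      S.map ((DCoh.tensorRightMod P).map g)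
    have h1 : (Ti M').inv ≫ Sg ▷ modM P = ST ≫ (Ti M).inv :=
      (T.inv.naturality g).symm
    have hg : (DCoh.tensorRightMod P).map g = M2.tensorMap g (𝟙 P) := by
      unfold M2.tensorMap
      rw [CategoryTheory.Functor.map_id]
      exact congrArg (M2.shf X).map (MonoidalCategory.tensorHom_id _ _).symm
    have h2 : (M2.tensorComm M' P).inv ≫ (DCoh.tensorRightMod P).map g =
        M2.tensorMap (𝟙 P) g ≫ (M2.tensorComm M P).inv := by
      rw [hg, Iso.inv_comp_eq, ← Category.assoc, Iso.eq_comp_inv]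
      exact M2.tensorComm_natural g (𝟙 P)
    let R := (Ti M).inv ≫ (adj.homEquiv (modM M) (𝟙_ (DM X))).symm (hS.homEquiv f ≫ j.hom) ≫ one.hom
    have h3 : hS.homEquiv.symm ((S.map ((DCoh.tensorRightMod P).map g) :
        (modM (CohB1.tensorMod M' P) : DM X) ⟶ modM (CohB1.tensorMod M P)) ≫ R) =
        (DCoh.tensorRightMod P).map g ≫ hS.homEquiv.symm R := hS.homEquiv.injective (by
      rw [Equiv.apply_symm_apply]
      refine Eq.trans ?_ (S.map_comp _ _).symm
      exact congrArg (_ ≫ ·) (hS.map_preimage R).symm)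
    refine Eq.trans (congrArg (fun t => (M2.tensorComm M' P).inv ≫ hS.homEquiv.symm t) ?_)
      ((congrArg ((M2.tensorComm M' P).inv ≫ ·) h3).trans ((Category.assoc _ _ _).symm.trans
        ((congrArg (· ≫ hS.homEquiv.symm R) h2).trans (Category.assoc _ _ _))))
    exact (congrArg ((Ti M').inv ≫ ·) (Category.assoc _ _ _)).trans ((Category.assoc _ _ _).symm.trans
      ((congrArg (· ≫ ((adj.homEquiv (modM M) (𝟙_ (DM X))).symm (hS.homEquiv f ≫ j.hom) ≫ one.hom)) h1).trans
        (Category.assoc _ _ _))))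
  exact ⟨eH' ≪≫ (DerivedCategory.singleFunctor X.Modules 0).mapIso (r ≪≫ s.symm)⟩

end Groth.Agent.FMHyp13.LocFreeDual

end
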