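import Groth.Agent.Lib.FMHyp13.RankCrit
import Groth.Agent.Lib.FMHyp13.PointDual
import Groth.Agent.Lib.FMHyp13.GenericFibre
import Groth.Agent.Lib.FMHyp13.LocFreeDual
import Groth.Agent.Lib.SiteCmp16.WayOut
import Groth.Agent.Lib.DerTrunc.Basic

/-!
# Derived fibres of truncations where one cohomology sheaf has constant rank
-/

set_option autoImplicit false
set_option linter.style.haveILetI false
set_option linter.unusedSectionVars false
set_option backward.isDefEq.respectTransparency false
set_option backward.isDefEq.respectTransparency.types false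
set_option maxHeartbeats 1600000

universe u

open CategoryTheory CategoryTheory.Limits AlgebraicGeometry IsLocalRing Pretriangulated

attribute [local instance] HasDerivedCategory.standard

noncomputable section

namespace Groth.Agent.FMHyp13

open DBaseChange DPerf.LocalFibre RegLoc KFlat KFlat.Sch DMon9 Exact8.PerfFibres TwistBC9

/-- Base change does not change the rank of a free module. -/
theorem finrank_extend {R S : Type u} [CommRing R] [CommRing S] [Nontrivial S] (φ : R →+* S) (N : ModuleCat.{u} R)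
    [Module.Free R N] [Nontrivial R] :
    Module.finrank S ((ModuleCat.extendScalars.{u, u, u} φ).obj N) = Module.finrank R N := by
  letI : Algebra R S := φ.toAlgebra
  exact (FlatCxLib.extEquiv S N).finrank_eq.trans Module.finrank_baseChange

/-- A map inducing bijections above a degree, into its truncation. -/
theorem nonempty_truncGE_truncFrom {R : Type u} [CommRing R] (F : DRing.Cx R) (n : ℤ) :
    Nonempty ((DerivedCategory.TStructure.t.truncGE n).obj (DRing.toD F) ≅ DRing.toD (DMod.truncFrom F n)) := by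
  let t := (DerivedCategory.TStructure.t : Triangulated.TStructure (Dual.D R))
  let T0 := DRing.toD (DMod.truncFrom F n)
  haveI : t.IsGE T0 n := (DMod.isGE_iff _ n).2 fun i hi =>
    (DMod.subsingleton_HD_toD_iff _ i).2 (DMod.subsingleton_truncFrom_homology F hi)
  let q : DRing.toD F ⟶ T0 := DerivedCategory.Q.map (DMod.truncFromπ F n)
  let d := t.descTruncGE q n
  suffices IsIso d from ⟨asIso d⟩
  rw [DerivedCategory.isIso_iff]
  intro j
  haveI : DerivedCategory.IsGE ((t.truncGE n).obj (DRing.toD F)) n :=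
    (inferInstance : t.IsGE ((t.truncGE n).obj (DRing.toD F)) n)
  haveI : DerivedCategory.IsGE T0 n := ‹t.IsGE T0 n›
  by_cases hj : j < n
  · exact (DerivedCategory.isZero_of_isGE _ n j hj).isIso (DerivedCategory.isZero_of_isGE T0 n j hj) _
  · have h1 := DerTrunc.isIso_homology_truncGEπ (DRing.toD F) n j (by omega)
    haveI : IsIso (HomologicalComplex.homologyMap (DMod.truncFromπ F n) j) :=
      (ConcreteCategory.isIso_iff_bijective _).2 (DMod.truncFromπ_bijective F (by omega))
    haveI h2 : IsIso ((DerivedCategory.homologyFunctor (ModuleCat.{u} R) j).map q) :=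
      (NatIso.isIso_map_iff (DerivedCategory.homologyFunctorFactors (ModuleCat.{u} R) j) (DMod.truncFromπ F n)).2
        (inferInstanceAs (IsIso (HomologicalComplex.homologyMap (DMod.truncFromπ F n) j)))
    have h3 : (DerivedCategory.homologyFunctor (ModuleCat.{u} R) j).map ((t.truncGEπ n).app (DRing.toD F)) ≫
        (DerivedCategory.homologyFunctor (ModuleCat.{u} R) j).map d =
        (DerivedCategory.homologyFunctor (ModuleCat.{u} R) j).map q := by
      rw [← Functor.map_comp, t.π_descTruncGE]
    haveI := h1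
    exact IsIso.of_isIso_fac_left h3

variable {Y : Scheme.{u}} [IsLocallyNoetherian Y] {Z : Scheme.{u}} (f : Z ⟶ Y) (z : Z)

/-- The free model of a stalk, with the dimensions of the derived fibre. -/
theorem exists_fibre_rank (hZ : ∀ z' : Z, z' = z) (hfield : IsField (Z.presheaf.stalk z))
    {G : DCoh.D Y} (hG : DCoh.IsPerfect G) :
    ∃ (F : DRing.Cx (Y.presheaf.stalk (f z) : Type u)) (B : ℤ),
      F.IsStrictlyLE B ∧ DRing.TermwiseFiniteFree F ∧
      (∀ [PreservesFiniteLimits (stF (f z))] [PreservesFiniteColimits (stF (f z))],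
        Nonempty (DRing.toD F ≅ (stF (f z)).mapDerivedCategory.obj G)) ∧
      (∀ l, IsZero (DCoh.HD ((lP f).obj G) l) ↔ FibreExact F l) ∧
      ∀ l, Module.finrank (ResidueField (Y.presheaf.stalk (f z) : Type u))
          (((extCx (residue (Y.presheaf.stalk (f z) : Type u))).obj F).homology l) =
        rkAt (DCoh.HD ((lP f).obj G) l) z := by
  obtain ⟨K, F, B, hK, ⟨eK⟩, hB, hF, ⟨eF⟩, hz⟩ := exists_fibre_rep f z hZ hfield hG
  haveI := hB
  refine ⟨F, B, hB, hF, fun {_ _} => ⟨eF ≪≫ ((stF (f z)).mapDerivedCategoryFactors.app K).symm ≪≫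
    (stF (f z)).mapDerivedCategory.mapIso eK⟩, hz, fun l => ?_⟩
  haveI : DCoh.HasLpull f := KFlat.Sch.hasLpull f
  obtain ⟨n⟩ := nonempty_lpull_natIso_lP f
  have hflat : ∀ l, Module.Flat (Y.presheaf.stalk (f z) : Type u) (F.X l) := fun l =>
    have := (hF l).2
    inferInstance
  let L := ((Scheme.Modules.pullback f).mapHomologicalComplex (ComplexShape.up ℤ)).obj K
  let eL : DCoh.toD Z L ≅ (lP f).obj G :=
    (lpullObjIso f K hK).symm ≪≫ (DCoh.Lpull f).mapIso eK ≪≫ n.app G
  haveI : (stF z).PreservesHomology := ((stF z).exact_tfae.out 0 2).1 fun S hS => DPerf.shortExact_stF hS z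
  let e₁ : (stC z L).homology l ≅ (stF z).obj (DCoh.HD ((lP f).obj G) l) :=
    (L.sc l).mapHomologyIso (stF z) ≪≫
      (stF z).mapIso (((DerivedCategory.homologyFunctorFactors _ l).app L).symm ≪≫
        (DerivedCategory.homologyFunctor _ l).mapIso eL)
  let ψ := (f.stalkMap z).hom
  let Kx := stC (f z) K
  haveI hKflat : ∀ i, Module.Flat (Y.presheaf.stalk (f z) : Type u) (Kx.X i) := fun i =>
    (KFlat.Sch.isFlat_iff _).1 (hK.2.2 i) (f z)
  have hKad : Adapted Kx := ⟨isKFlat_stF hK.1 (f z),
    KFlat.DT.isKFlat_flip ((KFlat.Module.isKFlat_iff _).1 (isKFlat_stF hK.1 (f z))),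
    fun i => (KFlat.Module.isFlat_iff _).2 (hKflat i)⟩
  haveI := DQC.hasLBaseChange ψ
  let e : DRing.toD ((extCx ψ).obj F) ≅ DRing.toD (stC z L) :=
    (valueIso ψ F (adapted_of_flat F B hflat)).symm ≪≫ (DRing.LBaseChange ψ).mapIso eF ≪≫
      valueIso ψ Kx hKad ≪≫ DerivedCategory.Q.mapIso (Exact8.stKIso f z K).symm
  let e₂ : ((extCx ψ).obj F).homology l ≅ (stF z).obj (DCoh.HD ((lP f).obj G) l) :=
    ((DerivedCategory.homologyFunctorFactors _ l).app ((extCx ψ).obj F)).symm ≪≫
      (DerivedCategory.homologyFunctor _ l).mapIso e ≪≫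
      (DerivedCategory.homologyFunctorFactors _ l).app (stC z L) ≪≫ e₁
  haveI : IsLocalHom ψ := inferInstanceAs (IsLocalHom (f.stalkMap z).hom)
  let κ := ResidueField.map ψ
  have hκ : κ.comp (residue (Y.presheaf.stalk (f z) : Type u)) = (residue (Z.presheaf.stalk z : Type u)).comp ψ :=
    ResidueField.map_comp_residue ψ
  have hres : Function.Bijective (residue (Z.presheaf.stalk z : Type u)) := by
    refine ⟨(injective_iff_map_eq_zero _).2 fun w hw => ?_, residue_surjective⟩
    rwa [residue_eq_zero_iff, isField_iff_maximalIdeal_eq.1 hfield, Ideal.mem_bot] at hw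
  have hκf : κ.Flat := by
    letI := κ.toAlgebra
    exact @Module.Flat.of_free _ _ _ _ κ.toAlgebra.toModule (@Module.Free.of_divisionRing _ _ _ _ κ.toAlgebra.toModule)
  haveI : Module.Free (Z.presheaf.stalk z : Type u) (((extCx ψ).obj F).homology l) := by
    letI := hfield.toField
    exact Module.Free.of_divisionRing _ _
  haveI : Module.Free (ResidueField (Y.presheaf.stalk (f z) : Type u))
      (((extCx (residue (Y.presheaf.stalk (f z) : Type u))).obj F).homology l) := Module.Free.of_divisionRing _ _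
  have a1 := finrank_extend κ (((extCx (residue (Y.presheaf.stalk (f z) : Type u))).obj F).homology l)
  have a2 := finrank_extend (residue (Z.presheaf.stalk z : Type u)) (((extCx ψ).obj F).homology l)
  rw [← (homologyExtIso κ hκf _ l).toLinearEquiv.finrank_eq] at a1
  rw [← (homologyExtIso _ (RingHom.Flat.of_bijective hres) _ l).toLinearEquiv.finrank_eq] at a2
  have a3 := ((HomologicalComplex.homologyFunctor _ _ l).mapIso
    (extCompIso (residue (Y.presheaf.stalk (f z) : Type u)) κ F)).toLinearEquiv.finrank_eq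
  have a4 := ((HomologicalComplex.homologyFunctor _ _ l).mapIso
    (extCompIso ψ (residue (Z.presheaf.stalk z : Type u)) F)).toLinearEquiv.finrank_eq
  rw [← a1, show rkAt (DCoh.HD ((lP f).obj G) l) z = Module.finrank (Z.presheaf.stalk z : Type u)
      (((extCx ψ).obj F).homology l) from e₂.toLinearEquiv.finrank_eq.symm, ← a2]
  simp only [HomologicalComplex.homologyFunctor_obj] at a3 a4
  rw [hκ] at a3
  exact a3.symm.trans a4

variable [IsIntegral Y]

/-- Where a cohomology sheaf is free of the rank of the fibre, the truncation above has no fibre below. -/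
theorem isZero_fibre_truncGE (hZ : ∀ z' : Z, z' = z) (hfield : IsField (Z.presheaf.stalk z))
    {G T : DCoh.D Y} (hG : DCoh.IsPerfect G) (hT : DCoh.IsPerfect T) (i : ℤ)
    (eT : T ≅ (DerivedCategory.TStructure.t.truncGE (i + 1)).obj G) (h : ℕ)
    (hfree : Module.Free (Y.presheaf.stalk (f z)) ((DCoh.HD G i).presheaf.stalk (f z)))
    (hfin : Module.Finite (Y.presheaf.stalk (f z)) ((DCoh.HD G i).presheaf.stalk (f z)))
    (hrank : rkAt (DCoh.HD G i) (f z) = h) (hfib : rkAt (DCoh.HD ((lP f).obj G) i) z = h)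
    (l : ℤ) (hl : l ≤ i) : IsZero (DCoh.HD ((lP f).obj T) l) := by
  haveI : (stF (f z)).PreservesHomology :=
    ((stF (f z)).exact_tfae.out 0 2).1 fun S hS => DPerf.shortExact_stF hS (f z)
  haveI : PreservesFiniteLimits (stF (f z)) := Functor.preservesFiniteLimits_of_preservesHomology _
  haveI : PreservesFiniteColimits (stF (f z)) := Functor.preservesFiniteColimits_of_preservesHomology _
  obtain ⟨F, B, hB, hF, eF, -, hdim⟩ := exists_fibre_rank f z hZ hfield hG
  obtain ⟨F', B', hB', hF', eF', hz, -⟩ := exists_fibre_rank f z hZ hfield hT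
  obtain ⟨eF⟩ := @eF _ _
  obtain ⟨eF'⟩ := @eF' _ _
  haveI := hB
  haveI := hB'
  let S := (stF (f z)).mapDerivedCategory
  let e₃ : F.homology i ≅ (stF (f z)).obj (DCoh.HD G i) :=
    ((DerivedCategory.homologyFunctorFactors _ i).app F).symm ≪≫ (DerivedCategory.homologyFunctor _ i).mapIso eF ≪≫
      (WayOut.mapDerivedHomologyIso (stF (f z)) i).app G
  haveI : Module.Free (Y.presheaf.stalk (f z)) ((stF (f z)).obj (DCoh.HD G i)) := hfree
  haveI : Module.Finite (Y.presheaf.stalk (f z)) ((stF (f z)).obj (DCoh.HD G i)) := hfin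
  haveI : Module.Free (Y.presheaf.stalk (f z)) (F.homology i) := Module.Free.of_equiv e₃.toLinearEquiv.symm
  haveI : Module.Finite (Y.presheaf.stalk (f z)) (F.homology i) := Module.Finite.equiv e₃.toLinearEquiv.symm
  have hC := RankCrit.free_coker F hF i h (e₃.toLinearEquiv.finrank_eq.trans hrank) ((hdim i).trans hfib)
  let t := (DerivedCategory.TStructure.t : Triangulated.TStructure (DCoh.D Y))
  let t' := (DerivedCategory.TStructure.t : Triangulated.TStructure (Dual.D (Y.presheaf.stalk (f z) : Type u)))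
  haveI h₁ : DerivedCategory.IsLE ((t.truncLT (i + 1)).obj G) i := t.isLE_truncLT_obj G (i + 1) i le_rfl
  haveI h₂ : DerivedCategory.IsGE ((t.truncGE (i + 1)).obj G) (i + 1) :=
    (inferInstance : t.IsGE ((t.truncGE (i + 1)).obj G) (i + 1))
  obtain ⟨e', -⟩ := t'.triangle_iso_exists (S.map_distinguished _ (t.triangleLTGE_distinguished (i + 1) G))
    (t'.triangleLTGE_distinguished (i + 1) (S.obj G)) (Iso.refl _) i (i + 1)
    (@WayOut.isLE_mapDerivedCategory _ _ _ _ _ _ _ _ (stF (f z)) _ _ _ _ i h₁) (@WayOut.isGE_mapDerivedCategory _ _ _ _ _ _ _ _ (stF (f z)) _ _ _ _ (i + 1) h₂)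
    (t'.isLE_truncLT_obj _ (i + 1) i le_rfl) inferInstance (by omega)
  obtain ⟨eT'⟩ := nonempty_truncGE_truncFrom F (i + 1)
  let e : DRing.toD F' ≅ DRing.toD (DMod.truncFrom F (i + 1)) :=
    eF' ≪≫ S.mapIso eT ≪≫ Triangle.π₃.mapIso e' ≪≫ (t'.truncGE (i + 1)).mapIso eF.symm ≪≫ eT'
  exact (hz l).2 (RankCrit.fibreExact_of_truncation F B hF i hC F' B' hF' e l hl)

/-- A module with free stalk has no higher derived fibres. -/
theorem isZero_fibre_single (hZ : ∀ z' : Z, z' = z) (hfield : IsField (Z.presheaf.stalk z))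
    (M : Y.Modules) (hM : DCoh.IsPerfect ((DerivedCategory.singleFunctor Y.Modules 0).obj M))
    (hfree : Module.Free (Y.presheaf.stalk (f z)) (M.presheaf.stalk (f z))) (l : ℤ) (hl : l ≠ 0) :
    IsZero (DCoh.HD ((lP f).obj ((DerivedCategory.singleFunctor Y.Modules 0).obj M)) l) := by
  haveI : (stF (f z)).PreservesHomology :=
    ((stF (f z)).exact_tfae.out 0 2).1 fun S hS => DPerf.shortExact_stF hS (f z)
  haveI : PreservesFiniteLimits (stF (f z)) := Functor.preservesFiniteLimits_of_preservesHomology _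
  haveI : PreservesFiniteColimits (stF (f z)) := Functor.preservesFiniteColimits_of_preservesHomology _
  obtain ⟨F, B, hB, hF, eF, hz, -⟩ := exists_fibre_rank f z hZ hfield hM
  obtain ⟨eF⟩ := @eF _ _
  haveI := hB
  haveI : Module.Free (Y.presheaf.stalk (f z)) ((stF (f z)).obj M) := hfree
  exact (hz l).2 (RankCrit.fibreExact_of_single ((stF (f z)).obj M) F B hF (eF ≪≫
    ((stF (f z)).mapDerivedCategorySingleFunctor 0).app M ≪≫
    (DerivedCategory.singleFunctorIsoCompQ (ModuleCat.{u} (Y.presheaf.stalk (f z) : Type u)) 0).app _) l hl)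

omit [IsIntegral Y] in
/-- Vanishing of the fibre in a degree empties the cohomology sheaf at the point. -/
theorem notMem_support_of_fibre (hZ : ∀ z' : Z, z' = z) (hfield : IsField (Z.presheaf.stalk z))
    {G : DCoh.D Y} (hG : DCoh.IsPerfect G) (l : ℤ) (h : IsZero (DCoh.HD ((lP f).obj G) l)) :
    f z ∉ CohB1.support (DCoh.HD G l) := by
  haveI : (stF (f z)).PreservesHomology :=
    ((stF (f z)).exact_tfae.out 0 2).1 fun S hS => DPerf.shortExact_stF hS (f z)
  haveI : PreservesFiniteLimits (stF (f z)) := Functor.preservesFiniteLimits_of_preservesHomology _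
  haveI : PreservesFiniteColimits (stF (f z)) := Functor.preservesFiniteColimits_of_preservesHomology _
  obtain ⟨F, B, hB, hF, eF, hz, -⟩ := exists_fibre_rank f z hZ hfield hG
  obtain ⟨eF⟩ := @eF _ _
  haveI : Subsingleton (F.homology l) :=
    (DMod.subsingleton_homology_iff F (i := l - 1) (k := l + 1) (by simp) (by simp)).2
      (split_of_fibreExact F hF l ((hz l).1 h)).1
  let e₃ : F.homology l ≅ (stF (f z)).obj (DCoh.HD G l) :=
    ((DerivedCategory.homologyFunctorFactors _ l).app F).symm ≪≫ (DerivedCategory.homologyFunctor _ l).mapIso eF ≪≫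
      (WayOut.mapDerivedHomologyIso (stF (f z)) l).app G
  exact fun hy => hy e₃.toLinearEquiv.toEquiv.symm.subsingleton

end Groth.Agent.FMHyp13

end
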