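import Groth.Agent.Lib.FMHyp13.RightExchange
import Groth.Agent.Lib.FMHyp13.JumpLocal
import Groth.Agent.Lib.FMHyp13.IsogTransform

/-!
# Hypercohomology of negative twists of perfect objects, through their duals
-/

set_option autoImplicit false
set_option linter.style.haveILetI false
set_option linter.unusedSectionVars false
set_option backward.isDefEq.respectTransparency false
set_option backward.isDefEq.respectTransparency.types false
set_option maxHeartbeats 1600000

universe u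

open CategoryTheory CategoryTheory.Limits MonoidalCategory CartesianMonoidalCategory AlgebraicGeometry
open TopologicalSpace Pretriangulated
open scoped MonObj GrpObj

attribute [local instance] HasDerivedCategory.standard

noncomputable section

namespace Groth.Agent.FMHyp13

open DMon9 DBC9 TwistBC9 FMBase13 Groth.Agent Groth.Agent.RosTrace22 FMAdj9

attribute [local instance] DBC9.hasRpush

noncomputable local instance instLawDualEnd (Y : Scheme.{u}) : PicGrp.Law Y := M2.law Y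

/-- Ranks in an exact sequence at a point where the local ring is a field. -/
theorem genRk_le_add {S : Scheme.{u}} [IsIntegral S] {C : ShortComplex S.Modules} (hC : C.Exact)
    (h₁ : Coh.IsCoh C.X₁) (h₃ : Coh.IsCoh C.X₃) : genRk C.X₂ ≤ genRk C.X₁ + genRk C.X₃ := by
  let gp := genericPoint S
  haveI : (KFlat.Sch.stF gp).PreservesHomology :=
    ((KFlat.Sch.stF gp).exact_tfae.out 0 2).1 fun S hS => DPerf.shortExact_stF hS gp
  let D := C.map (KFlat.Sch.stF gp)
  have hD : D.Exact := hC.map _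
  haveI : Module.Finite (S.presheaf.stalk gp) D.X₁ := M1.finite_stalk h₁.1 h₁.2 gp
  haveI : Module.Finite (S.presheaf.stalk gp) D.X₃ := M1.finite_stalk h₃.1 h₃.2 gp
  letI := (Field.toIsField S.functionField : IsField (S.presheaf.stalk gp)).toField
  haveI : Module.Finite (S.presheaf.stalk gp) (LinearMap.range D.g.hom) := inferInstance
  haveI : Module.Finite (S.presheaf.stalk gp) (LinearMap.range D.f.hom) := inferInstance
  haveI : Module.Finite (S.presheaf.stalk gp) (LinearMap.ker D.g.hom) := by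
    rw [← hD.moduleCat_range_eq_ker]; infer_instance
  haveI : Module.Finite (S.presheaf.stalk gp) D.X₂ :=
    Module.Finite.of_exact (f := (LinearMap.ker D.g.hom).subtype) (g := D.g.hom.rangeRestrict)
      (LinearMap.exact_iff.2 (by rw [LinearMap.ker_rangeRestrict, Submodule.range_subtype]))
      (LinearMap.surjective_rangeRestrict _)
  show Module.finrank (S.presheaf.stalk gp) D.X₂ ≤ Module.finrank (S.presheaf.stalk gp) D.X₁ +
    Module.finrank (S.presheaf.stalk gp) D.X₃
  rw [← LinearMap.finrank_range_add_finrank_ker D.g.hom, ← hD.moduleCat_range_eq_ker,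
    add_comm (Module.finrank _ D.X₁)]
  exact add_le_add (Submodule.finrank_le _) (LinearMap.finrank_range_le _)

theorem genRk_le_add' {S : Scheme.{u}} [IsIntegral S] {a b c : S.Modules} {φ : a ⟶ b} {ψ : b ⟶ c} {w : φ ≫ ψ = 0}
    (h : (ShortComplex.mk φ ψ w).Exact) (ha : Coh.IsCoh a) (hc : Coh.IsCoh c) : genRk b ≤ genRk a + genRk c :=
  genRk_le_add (C := ShortComplex.mk φ ψ w) h ha hc

/-- An integral functor with invertible kernel is triangulated. -/
theorem exists_triangulated_phiK {X A S : Scheme.{u}} (p : X ⟶ A) (q : X ⟶ S) {K : X.Modules}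
    (hK : PicF.IsInvertible K) :
    ∃ _ : (phiK p q K).CommShift ℤ, (phiK p q K).IsTriangulated := by
  haveI := PnKoszul9.preservesFiniteLimits_tensorRightMod K hK
  obtain ⟨hps, hpt⟩ := DPush.exists_commShift_isTriangulated p
  letI := hps
  haveI := hpt
  letI := (adjLP p).leftAdjointCommShift ℤ
  haveI : (adjLP p).CommShift ℤ := (adjLP p).commShift_of_rightAdjoint ℤ
  haveI : (lP p).IsTriangulated := (adjLP p).isTriangulated_leftAdjoint
  obtain ⟨hqs, hqt⟩ := DPush.exists_commShift_isTriangulated q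
  letI := hqs
  haveI := hqt
  obtain ⟨b⟩ := LocFreeDual.nonempty_tenF_twD K (M2.isFinLocFree_of_isInvertible hK)
  letI : (tenF K).CommShift ℤ := Functor.CommShift.ofIso b.symm ℤ
  haveI : NatTrans.CommShift b.symm.hom ℤ := Functor.CommShift.ofIso_compatibility b.symm ℤ
  haveI : (tenF K).IsTriangulated := Functor.isTriangulated_of_iso b.symm
  exact ⟨(inferInstance : (lP p ⋙ tenF K ⋙ DCoh.Rpush q).CommShift ℤ),
    (inferInstance : (lP p ⋙ tenF K ⋙ DCoh.Rpush q).IsTriangulated)⟩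

variable {k : Type u} [Field k] {A At : Over (Spec (CommRingCat.of k))}
  [IsProper A.hom] [IsProper At.hom]

/-- The dimensions of the hypercohomology of a twisted pullback. -/
abbrev hTw (f : A ⟶ At) (M : A.left.Modules) (X : DCoh.D At.left) (l : ℤ) : ℕ :=
  genRk (DCoh.HD ((phiK f.left A.hom M).obj X) l)

theorem isCoh_HD_hTw (f : A ⟶ At) {M : A.left.Modules} (hM : PicF.IsInvertible M)
    {X : DCoh.D At.left} (hX : DCoh.IsPerfect X) (l : ℤ) [Smooth A.hom] :
    Coh.IsCoh (DCoh.HD ((phiK f.left A.hom M).obj X) l) := by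
  haveI : IsLocallyNoetherian A.left := LocallyOfFiniteType.isLocallyNoetherian A.hom
  haveI : IsLocallyNoetherian (Spec (CommRingCat.of k)) := inferInstance
  haveI : CompactSpace A.left := QuasiCompact.compactSpace_of_compactSpace A.hom
  haveI : LocallyOfFinitePresentation A.hom := inferInstance
  have hp : DCoh.IsPerfect ((phiK f.left A.hom M).obj X) :=
    PerfPush9.isPerfect_rpush_flat A.hom _ (FMAdj9.isPerfect_tensor_perf
      (A := ((lP f.left).obj X : DM A.left)) (B := modM M) (PerfPush9.isPerfect_lP _ hX)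
      (DGen9.ResP.isPerfect_toD (DPerf.isStrictlyPerfect_single (M2.isFinLocFree_of_isInvertible hM))))
  exact DPerf.isCoh_HD_of_pseudoCoherent (DGen9.isPseudoCoherentD_of_isPerfect hp l)
    (DGen9.isQCohD_of_isPerfect hp l) le_rfl

variable [Smooth A.hom] (f : A ⟶ At) [Flat f.left]

/-- Dimensions in a distinguished triangle. -/
theorem hTw_triangle {M : A.left.Modules} (hM : PicF.IsInvertible M) {T : Triangle (DCoh.D At.left)}
    (hT : T ∈ distTriang _) (h₁ : DCoh.IsPerfect T.obj₁) (h₂ : DCoh.IsPerfect T.obj₂) (h₃ : DCoh.IsPerfect T.obj₃)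
    (l : ℤ) :
    hTw f M T.obj₂ l ≤ hTw f M T.obj₁ l + hTw f M T.obj₃ l ∧
      hTw f M T.obj₁ l ≤ hTw f M T.obj₃ (l - 1) + hTw f M T.obj₂ l ∧
      hTw f M T.obj₃ l ≤ hTw f M T.obj₂ l + hTw f M T.obj₁ (l + 1) := by
  obtain ⟨hs, ht⟩ := exists_triangulated_phiK f.left A.hom hM
  letI := hs
  haveI := ht
  have hd := (phiK f.left A.hom M).map_distinguished T hT
  let F := phiK f.left A.hom M
  let T' : Triangle (DCoh.D (Spec (CommRingCat.of k))) := F.mapTriangle.obj T
  have c : ∀ (Y : DCoh.D At.left) (_ : DCoh.IsPerfect Y) (j : ℤ), Coh.IsCoh (DCoh.HD (F.obj Y) j) :=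
    fun Y hY j => isCoh_HD_hTw f hM hY j
  have k₁ := @genRk_le_add' (Spec (CommRingCat.of k)) _ (DCoh.HD (F.obj T.obj₁) l) (DCoh.HD (F.obj T.obj₂) l)
    (DCoh.HD (F.obj T.obj₃) l) _ _ _ (DerivedCategory.HomologySequence.exact₂ T' hd l) (c T.obj₁ h₁ l) (c T.obj₃ h₃ l)
  have k₂ := @genRk_le_add' (Spec (CommRingCat.of k)) _ (DCoh.HD (F.obj T.obj₃) (l - 1)) (DCoh.HD (F.obj T.obj₁) l)
    (DCoh.HD (F.obj T.obj₂) l) _ _ _ (DerivedCategory.HomologySequence.exact₁ T' hd (l - 1) l (by omega))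
    (c T.obj₃ h₃ (l - 1)) (c T.obj₂ h₂ l)
  have k₃ := @genRk_le_add' (Spec (CommRingCat.of k)) _ (DCoh.HD (F.obj T.obj₂) l) (DCoh.HD (F.obj T.obj₃) l)
    (DCoh.HD (F.obj T.obj₁) (l + 1)) _ _ _ (DerivedCategory.HomologySequence.exact₃ T' hd l (l + 1) rfl)
    (c T.obj₂ h₂ l) (c T.obj₁ h₁ (l + 1))
  exact ⟨k₁, k₂, k₃⟩

omit [Smooth A.hom] [Flat f.left] in
/-- Dimensions of shifted objects. -/
theorem hTw_shift {M : A.left.Modules} (hM : PicF.IsInvertible M) {X S : DCoh.D At.left} (n : ℤ)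
    (e : X ≅ S⟦n⟧) (l : ℤ) : hTw f M X l = hTw f M S (n + l) := by
  obtain ⟨sh⟩ := nonempty_phiK_shift f.left A.hom hM n
  exact genRk_iso ((DerivedCategory.homologyFunctor _ l).mapIso ((phiK f.left A.hom M).mapIso e ≪≫ sh.app S) ≪≫
    ((DerivedCategory.homologyFunctor (Spec (CommRingCat.of k)).Modules 0).shiftIso n l (n + l) (by omega)).app _)

/-- A module in degree zero. -/
theorem hTw_single {M : A.left.Modules} (hM : PicF.IsInvertible M) {N : At.left.Modules} (hN : Coh.IsCoh N) (p : ℕ) :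
    hTw f M ((DerivedCategory.singleFunctor At.left.Modules 0).obj N) p =
      (letI : A.left.Over (Spec (CommRingCat.of k)) := ⟨A.hom⟩;
        Module.finrank k (Coh.HH A.left (CohB1.tensorMod ((Scheme.Modules.pullback f.left).obj N) M) p)) := by
  haveI : IsLocallyNoetherian A.left := LocallyOfFiniteType.isLocallyNoetherian A.hom
  haveI : IsLocallyNoetherian At.left := LocallyOfFiniteType.isLocallyNoetherian At.hom
  haveI : CompactSpace A.left := QuasiCompact.compactSpace_of_compactSpace A.hom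
  haveI : HasInjectiveResolutions A.left.Modules := CohFound.hasInjectiveResolutions_modules _
  obtain ⟨fA⟩ := nonempty_lP_single_flat f.left N
  obtain ⟨m⟩ := FMBase13.nonempty_modM_tensor ((Scheme.Modules.pullback f.left).obj N) M hM
  obtain ⟨h⟩ := Poinc13.nonempty_hd_rpush A.hom (CohB1.tensorMod ((Scheme.Modules.pullback f.left).obj N) M) p
  refine Eq.trans (genRk_iso ((DerivedCategory.homologyFunctor _ (p : ℤ)).mapIso ((DCoh.Rpush A.hom).mapIso
    ((tenF M).mapIso fA ≪≫ (m :))) ≪≫ h)) ?_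
  exact genRk_rpush_point (CohFound.isCoh_tensor (M1.isCoh_pullback _ hN) (CubeField.isCoh_of_isInvertible hM)) p

variable [IsAlgClosed k] [GrpObj A] [GrpObj At] [GeometricallyConnected A.hom]
  [Smooth At.hom] [GeometricallyConnected At.hom]
  {g : ℕ} {L L' : A.left.Modules} (hL : CohB1.IsAmple L)
  (hLL' : Nonempty (CohB1.tensorMod L L' ≅ Coh.structureModule A.left))

include hL hLL' in
/-- The hypercohomology of a negative twist is dual to the sections of the twisted dual. -/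
theorem hTw_dual (hg : topologicalKrullDim A.left = g)
    (X DX : DM At.left) [ExactPairing X DX] (hX : DCoh.IsPerfect (X : DCoh.D At.left))
    (hDX : DCoh.IsPerfect (DX : DCoh.D At.left)) {n : ℕ}
    (hv : ∀ (q : ℤ) (p : ℕ), 1 ≤ p → Subsingleton (Coh.HH A.left
      (CohB1.tensorMod ((Scheme.Modules.pullback f.left).obj (DCoh.HD (DX : DCoh.D At.left) q))
        (CohB1.tensorPow L n)) p)) (l : ℤ) :
    hTw f (CohB1.tensorPow L' n) (X : DCoh.D At.left) l =
      (letI : A.left.Over (Spec (CommRingCat.of k)) := ⟨A.hom⟩;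
        Module.finrank k (Coh.HH A.left
          (CohB1.tensorMod ((Scheme.Modules.pullback f.left).obj (DCoh.HD (DX : DCoh.D At.left) ((g : ℤ) - l)))
            (CohB1.tensorPow L n)) 0)) := by
  haveI : GeometricallyIntegral A.hom := AbRigid.geometricallyIntegral_of_smooth A
  haveI : IsLocallyNoetherian A.left := LocallyOfFiniteType.isLocallyNoetherian A.hom
  haveI : IsLocallyNoetherian At.left := LocallyOfFiniteType.isLocallyNoetherian At.hom
  haveI : IsNoetherian (Spec (CommRingCat.of k)) := inferInstance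
  haveI : CompactSpace A.left := QuasiCompact.compactSpace_of_compactSpace A.hom
  haveI : QuasiSeparatedSpace A.left := quasiSeparatedSpace_of_quasiSeparated A.hom
  haveI : CompactSpace At.left := QuasiCompact.compactSpace_of_compactSpace At.hom
  haveI : QuasiSeparatedSpace At.left := quasiSeparatedSpace_of_quasiSeparated At.hom
  haveI : HasInjectiveResolutions A.left.Modules := CohFound.hasInjectiveResolutions_modules _
  letI : A.left.Over (Spec (CommRingCat.of k)) := ⟨A.hom⟩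
  haveI : Flat A.hom := inferInstance
  have hL' := isInvertible_of_ample_inverse hL.1 hLL'
  let M := CohB1.tensorPow L' n
  let M' := CohB1.tensorPow L n
  have hM : PicF.IsInvertible M := M2.isInvertible_tensorPow hL' n
  have hM' : PicF.IsInvertible M' := M2.isInvertible_tensorPow hL.1 n
  obtain ⟨uM⟩ := nonempty_tensorPow_inverse hLL' n
  let kk : DM A.left := ((tRD (modM M)).obj ((lP f.left).obj (X : DCoh.D At.left)) : DCoh.D A.left)
  have hMp : DCoh.IsPerfect ((modM M : DM A.left) : DCoh.D A.left) :=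
    DGen9.ResP.isPerfect_toD (DPerf.isStrictlyPerfect_single (M2.isFinLocFree_of_isInvertible hM))
  have hk : DCoh.IsPerfect (kk : DCoh.D A.left) :=
    FMAdj9.isPerfect_tensor_perf (A := (dPull f.left).obj X) (B := modM M) (PerfPush9.isPerfect_lP _ hX) hMp
  letI : ExactPairing ((dPull f.left).obj X) ((dPull f.left).obj DX) := Dual8.mapPairing (dPull f.left) X DX
  obtain ⟨DM₀, -, ⟨pM⟩⟩ := BC8.exists_pairing_left_perfect (modM M) hMp
  haveI := pM
  obtain ⟨m₁⟩ := FMBase13.nonempty_modM_tensor M M' hM'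
  obtain ⟨m₂⟩ := FMBase13.nonempty_modM_tensor M' M hM
  let toUnit₁ : ∀ {N : A.left.Modules}, (N ≅ Coh.structureModule A.left) → (modM N ≅ (𝟙_ (DM A.left) : DM A.left)) :=
    fun e => ((DerivedCategory.singleFunctor A.left.Modules 0).mapIso e ≪≫ (DualPush.oneIso :) :)
  obtain ⟨iDM⟩ := HyperGV.nonempty_dual_of_inverse (modM M) DM₀ (modM M')
    ((m₁ :) ≪≫ toUnit₁ (M2.tensorComm _ _ ≪≫ uM)) ((m₂ :) ≪≫ toUnit₁ uM)
  obtain ⟨D, hD, ⟨pk⟩⟩ := BC8.exists_pairing_left_perfect kk hk
  haveI : ExactPairing ((dPull f.left).obj X ⊗ modM M) D := pk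
  obtain ⟨d⟩ := DualPush.nonempty_dual_tensor ((dPull f.left).obj X) (modM M) ((dPull f.left).obj DX) DM₀ D
  obtain ⟨cM'⟩ := FMAdj9.nonempty_comm (modM M')
  let Y := (tenF M').obj ((lP f.left).obj (DX : DCoh.D At.left))
  let eD : @Iso (DCoh.D A.left) _ D Y :=
    ((d ≪≫ whiskerRightIso iDM _ ≪≫ cM'.app ((dPull f.left).obj DX)) :)
  have hb : DCoh.RpushPreservesQCoh A.hom := fun _ h => FMAdj9.rpushPreservesQCoh A.hom h
  haveI := BC8.isLeftAdjoint_rpushQ A.hom hb
  let adj := Adjunction.ofIsLeftAdjoint (DCoh.RpushQ A.hom hb)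
  obtain ⟨ω⟩ := UnitDual.nonempty_dualizing_structure A hg adj
  let O := BC8.oQ (Spec (CommRingCat.of k))
  let Gp : DM (Spec (CommRingCat.of k)) := (DCoh.Rpush A.hom).obj (kk : DCoh.D A.left)
  have hGp : DCoh.IsPerfect (Gp : DCoh.D (Spec (CommRingCat.of k))) := PerfPush9.isPerfect_rpush_flat A.hom _ hk
  obtain ⟨DGp, hDGp, ⟨pG⟩⟩ := BC8.exists_pairing_left_perfect Gp hGp
  haveI := pG
  obtain ⟨r⟩ := DualPush.nonempty_dual_rpush A.hom adj O (Iso.refl _) ((DCoh.RpushQ A.hom hb).rightAdjoint.obj O).obj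
    (Iso.refl _) kk D (DGen9.isQCohD_of_isPerfect hk) (DGen9.isQCohD_of_isPerfect hD) Gp DGp
    (DGen9.isQCohD_of_isPerfect hDGp) (Iso.refl _)
  obtain ⟨sD⟩ := DualPush.nonempty_shift_tRD (g : ℤ)
    ((DCoh.inD A.left (Coh.structureModule A.left) : DCoh.D A.left) : DM A.left) D
  let eωD : (tRD D).obj ((DCoh.RpushQ A.hom hb).rightAdjoint.obj O).obj ≅ Y⟦(g : ℤ)⟧ :=
    (tRD D).mapIso ω ≪≫ (sD :) ≪≫ (shiftFunctor (DCoh.D A.left) (g : ℤ)).mapIso
      (((whiskerRightIso (C := DM A.left) DualPush.oneIso D ≪≫ λ_ D) :) ≪≫ eD)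
  obtain ⟨rs'⟩ := FMBase13.nonempty_rpush_shift A.hom (g : ℤ)
  let eDG : @Iso (DCoh.D (Spec (CommRingCat.of k))) _ DGp (((DCoh.Rpush A.hom).obj Y)⟦(g : ℤ)⟧) :=
    r.symm ≪≫ (DCoh.Rpush A.hom).mapIso eωD ≪≫ rs'.app Y
  let H : ℤ → A.left.Modules := fun i =>
    CohB1.tensorMod ((Scheme.Modules.pullback f.left).obj (DCoh.HD (DX : DCoh.D At.left) i)) M'
  have hDXc : ∀ i, Coh.IsCoh (DCoh.HD (DX : DCoh.D At.left) i) := fun i =>
    DPerf.isCoh_HD_of_pseudoCoherent (DGen9.isPseudoCoherentD_of_isPerfect hDX i)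
      (DGen9.isQCohD_of_isPerfect hDX i) le_rfl
  have hHc : ∀ i, Coh.IsCoh (H i) := fun i =>
    CohFound.isCoh_tensor (M1.isCoh_pullback _ (hDXc i)) (CubeField.isCoh_of_isInvertible hM')
  have hY : ∀ i, Nonempty (DCoh.HD Y i ≅ H i) := fun i => by
    obtain ⟨a⟩ := nonempty_HD_tenF M' hM' ((lP f.left).obj (DX : DCoh.D At.left)) i
    obtain ⟨b⟩ := nonempty_HD_lP_flat f.left (DX : DCoh.D At.left) i
    exact ⟨a ≪≫ M2.tensorIso b (Iso.refl _)⟩
  have hq : DCoh.IsQCohD Y := fun i => M1.isQCoh_of_isIso (hY i).some.symm (hHc i).1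
  obtain ⟨c₁, hc₁⟩ := DPerf.exists_isGE_of_perfect hDX
  obtain ⟨c₂, hc₂⟩ := DPerf.exists_isLE_of_pseudoCoherent (DGen9.isPseudoCoherentD_of_isPerfect hDX 0)
  have hzero : ∀ i : ℤ, IsZero (DCoh.HD (DX : DCoh.D At.left) i) → IsZero (DCoh.HD Y i) := fun i h =>
    ((M2.tensorR M').map_isZero ((Scheme.Modules.pullback f.left).map_isZero h)).of_iso (hY i).some
  haveI : Y.IsGE c₁ := (DerivedCategory.isGE_iff _ _).2 fun i hi => hzero i
    (haveI := hc₁; DerivedCategory.isZero_of_isGE (DX : DCoh.D At.left) c₁ i hi)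
  haveI : Y.IsLE c₂ := (DerivedCategory.isLE_iff _ _).2 fun i hi => hzero i
    (haveI := hc₂; DerivedCategory.isZero_of_isLE (DX : DCoh.D At.left) c₂ i hi)
  have hac : ∀ i : ℤ, RFPlus.IsAcyclicObj (Scheme.Modules.pushforward A.hom) (DCoh.HD Y i) := fun i =>
    isAcyclicObj_of_iso A.hom (hY i).some.symm fun p hp => by
      haveI := hv i p hp
      exact isZero_rpush_affine A.hom (hHc i).1 p
  obtain ⟨dR⟩ := nonempty_HD_rpush_acyclic A.hom Y hq hac c₁ c₂ ((g : ℤ) - l)
  obtain ⟨rr, ⟨eR⟩⟩ := exists_free_point (k := k) (CohFound.isCoh_rpush A.hom (hHc ((g : ℤ) - l)) 0)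
  obtain ⟨ss, ⟨eL⟩⟩ := exists_free_point (k := k) (isCoh_HD_hTw f hM hX l)
  let e₁ : DCoh.HD (Gp : DCoh.D (Spec (CommRingCat.of k))) (-(-l)) ≅ FlatMod.freeMod _ ss :=
    eqToIso (by rw [neg_neg]; rfl) ≪≫ eL
  let e₂ : DCoh.HD (DGp : DCoh.D (Spec (CommRingCat.of k))) (-l) ≅ FlatMod.freeMod _ rr :=
    (DerivedCategory.homologyFunctor _ _).mapIso eDG ≪≫
      ((DerivedCategory.homologyFunctor (Spec (CommRingCat.of k)).Modules 0).shiftIso (g : ℤ) _ ((g : ℤ) - l)
        (by omega)).app _ ≪≫ dR ≪≫ (Scheme.Modules.pushforward A.hom).mapIso (hY ((g : ℤ) - l)).some ≪≫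
      ((Scheme.Modules.pushforward A.hom).rightDerivedZeroIsoSelf.app _).symm ≪≫ eR
  have heq := RankDual.rank_eq (R := CommRingCat.of k) (Field.toIsField k) Gp DGp (DGen9.isQCohD_of_isPerfect hGp)
    (DGen9.isQCohD_of_isPerfect hDGp) (-l) rr ss e₁ e₂
  subst heq
  exact (genRk_iso (eL ≪≫ eR.symm)).trans (genRk_rpush_point (hHc _) 0)

end Groth.Agent.FMHyp13

end
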