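import Groth.Agent.Lib.FMHyp13.DualPush
import Groth.Agent.S3637
import Groth.Prelude.Def_DualFM

/-!
# Duality for a kernel functor over a field
-/

set_option autoImplicit false
set_option linter.unusedSectionVars false
set_option linter.style.haveILetI false
set_option backward.isDefEq.respectTransparency false
set_option backward.isDefEq.respectTransparency.types false
set_option maxHeartbeats 1600000

universe u

open CategoryTheory CategoryTheory.Limits MonoidalCategory AlgebraicGeometry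

attribute [local instance] HasDerivedCategory.standard

noncomputable section

namespace Groth.Agent.FMHyp13.DualPhi

open DMon9 FMAdj9 DualPush

attribute [local instance] DBC9.hasRpush

/-- The twisted inverse image of the field is the dualizing module shifted. -/
theorem nonempty_dualizing_iso {k : Type u} [Field k] {X : Scheme.{u}} (a : X ⟶ Spec (CommRingCat.of k)) [IsProper a]
    (hXcm : ∀ x : X, LocCoh.IsCohenMacaulayLocalRing (X.presheaf.stalk x)) (d : ℕ)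
    (hXeq : ∀ Z ∈ irreducibleComponents X, topologicalKrullDim ↥Z = (d : WithBot ℕ∞))
    [DCoh.HasRpush a] (ha : DCoh.RpushPreservesQCoh a)
    (adx : DCoh.DQCoh (Spec (CommRingCat.of k)) ⥤ DCoh.DQCoh X) (adj : DCoh.RpushQ a ha ⊣ adx)
    (O : DCoh.DQCoh (Spec (CommRingCat.of k)))
    (eO : O.obj ≅ DCoh.inD (Spec (CommRingCat.of k)) (Coh.structureModule (Spec (CommRingCat.of k)))) :
    Nonempty ((adx.obj O).obj ≅ (DCoh.inD X (DCoh.HD (adx.obj O).obj (-(d : ℤ))))⟦(d : ℤ)⟧) := by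
  obtain ⟨hz, -, -⟩ := S3637.result k X a hXcm d hXeq ha adx adj O ⟨eO⟩
  haveI : (adx.obj O).obj.IsGE (-(d : ℤ)) := (DerivedCategory.isGE_iff _ _).2 fun i hi => hz i (by omega)
  haveI : (adx.obj O).obj.IsLE (-(d : ℤ)) := (DerivedCategory.isLE_iff _ _).2 fun i hi => hz i (by omega)
  obtain ⟨M, ⟨e⟩, ⟨e'⟩⟩ := DPerf.exists_single_of_concentrated (K := (adx.obj O).obj) (-(d : ℤ))
  exact ⟨((shiftFunctorCompIsoId (DCoh.D X) (-(d : ℤ)) (d : ℤ) (by omega)).app _).symm ≪≫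
    (shiftFunctor (DCoh.D X) (d : ℤ)).mapIso (e ≪≫ (DerivedCategory.singleFunctor X.Modules 0).mapIso e')⟩

/-- The derived dual of `Φ_P E` is `Φ_{P^∨}` of the shifted dual of `E`. -/
theorem nonempty_main {k : Type u} [Field k] {X Y : Scheme.{u}} (a : X ⟶ Spec (CommRingCat.of k))
    (b : Y ⟶ Spec (CommRingCat.of k)) [IsProper a] [IsProper b]
    (hXcm : ∀ x : X, LocCoh.IsCohenMacaulayLocalRing (X.presheaf.stalk x)) (d : ℕ)
    (hXeq : ∀ Z ∈ irreducibleComponents X, topologicalKrullDim ↥Z = (d : WithBot ℕ∞))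
    [DCoh.HasRpush a] (ha : DCoh.RpushPreservesQCoh a)
    (adx : DCoh.DQCoh (Spec (CommRingCat.of k)) ⥤ DCoh.DQCoh X) (adj : DCoh.RpushQ a ha ⊣ adx)
    (O : DCoh.DQCoh (Spec (CommRingCat.of k)))
    (eO : O.obj ≅ DCoh.inD (Spec (CommRingCat.of k)) (Coh.structureModule (Spec (CommRingCat.of k))))
    (P : CochainComplex (pullback a b).Modules ℤ) (hP : DCoh.IsPerfect (DCoh.toD (pullback a b) P))
    [DCoh.HasLpull (pullback.fst a b)] [DCoh.HasLTensorCx P] [DCoh.HasRSheafHom P] [DCoh.HasRpush (pullback.snd a b)]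
    (P' : CochainComplex (pullback a b).Modules ℤ) [DCoh.HasLTensorCx P']
    (hP' : Nonempty (DCoh.toD (pullback a b) P' ≅
      (DCoh.RSheafHom P).obj (DCoh.inD (pullback a b) (Coh.structureModule (pullback a b)))))
    (E : CochainComplex X.Modules ℤ) (hE : DCoh.IsPerfect (DCoh.toD X E)) [DCoh.HasLTensorCx E] [DCoh.HasRSheafHom E]
    (K : CochainComplex Y.Modules ℤ) [DCoh.HasLTensorCx K] [DCoh.HasRSheafHom K]
    (hK : Nonempty (DCoh.toD Y K ≅ (FMK.phi a b P).obj (DCoh.toD X E))) :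
    Nonempty ((DCoh.RSheafHom K).obj (DCoh.inD Y (Coh.structureModule Y)) ≅
      (FMK.phi a b P').obj ((shiftFunctor (DCoh.D X) (d : ℤ)).obj
        ((DCoh.RSheafHom E).obj (DCoh.inD X (DCoh.HD (adx.obj O).obj (-(d : ℤ))))))) := by
  haveI : IsLocallyNoetherian Y := LocallyOfFiniteType.isLocallyNoetherian b
  haveI : IsProper (pullback.snd a b) := inferInstance
  haveI : Flat a := inferInstance
  haveI : IsNoetherian (Spec (CommRingCat.of k)) := inferInstance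
  let p := pullback.fst a b
  let q := pullback.snd a b
  obtain ⟨eP⟩ := nonempty_phiIso p q P
  obtain ⟨eP'⟩ := nonempty_phiIso p q P'
  obtain ⟨eK⟩ := hK
  obtain ⟨hP'⟩ := hP'
  let p0 : DM (pullback a b) := DCoh.toD _ P
  let e0 : DM X := DCoh.toD _ E
  let G : DM Y := DCoh.toD _ K
  obtain ⟨Dp, hDp, ⟨pp⟩⟩ := BC8.exists_pairing_left_perfect p0 hP
  haveI := pp
  obtain ⟨De, hDe, ⟨pE⟩⟩ := BC8.exists_pairing_left_perfect e0 hE
  haveI := pE
  have hGp : DCoh.IsPerfect (G : DCoh.D Y) := by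
    refine DGen9.isPerfect_of_iso (eK ≪≫ eP.app _).symm ?_
    haveI : DCoh.HasLpull p := ‹_›
    obtain ⟨l⟩ := nonempty_lpull_natIso_lP p
    exact PerfPush9.isPerfect_rpush_flat q _ (FMAdj9.isPerfect_tensor_perf (A := ((lP p).obj (e0 : DCoh.D X) : DM (pullback a b)))
      (B := p0) (DGen9.isPerfect_of_iso (l.app (e0 : DCoh.D X)) (KFlat.Sch.isPerfect_lpull _ hE)) hP)
  obtain ⟨DG, hDG, ⟨pG⟩⟩ := BC8.exists_pairing_left_perfect G hGp
  haveI := pG
  obtain ⟨main⟩ := nonempty_dual_phi a b adj O eO p0 Dp hP e0 De hE G DG (DGen9.isQCohD_of_isPerfect hDG)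
    ((eP.app _).symm ≪≫ eK.symm)
  obtain ⟨rK⟩ := nonempty_rhomIso K (k := G) (Iso.refl _) DG
  obtain ⟨rP⟩ := nonempty_rhomIso P (k := p0) (Iso.refl _) Dp
  obtain ⟨rE⟩ := nonempty_rhomIso E (k := e0) (Iso.refl _) De
  let uY : (tRD DG).obj (DCoh.inD Y (Coh.structureModule Y)) ≅ (DG : DCoh.D Y) :=
    (whiskerRightIso (C := DM Y) oneIso DG ≪≫ λ_ DG :)
  let uP : (DCoh.toD _ P' : DM (pullback a b)) ≅ Dp :=
    (hP' ≪≫ rP.app _ :) ≪≫ whiskerRightIso (C := DM (pullback a b)) oneIso Dp ≪≫ λ_ Dp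
  obtain ⟨ω⟩ := nonempty_dualizing_iso a hXcm d hXeq ha adx adj O eO
  let ω0 : DM X := DCoh.inD X (DCoh.HD (adx.obj O).obj (-(d : ℤ)))
  obtain ⟨s⟩ := nonempty_shift_tRD (d : ℤ) ω0 De
  let eZ : (shiftFunctor (DCoh.D X) (d : ℤ)).obj
      ((DCoh.RSheafHom E).obj (DCoh.inD X (DCoh.HD (adx.obj O).obj (-(d : ℤ))))) ≅ (tRD De).obj (adx.obj O).obj :=
    (shiftFunctor (DCoh.D X) (d : ℤ)).mapIso (rE.app _) ≪≫ s.symm ≪≫ (tRD De).mapIso ω.symm
  exact ⟨rK.app _ ≪≫ uY ≪≫ main.symm ≪≫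
    ((Functor.isoWhiskerLeft (lP p) (Functor.isoWhiskerRight (tRDMap uP.symm) (DCoh.Rpush q))).app _) ≪≫
    (lP p ⋙ tRD (DCoh.toD _ P' : DM (pullback a b)) ⋙ DCoh.Rpush q).mapIso eZ.symm ≪≫ (eP'.app _).symm⟩

end Groth.Agent.FMHyp13.DualPhi

end
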