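import Groth.Agent.Lib.FMHyp13.DualPhi
import Groth.Agent.Lib.FMHyp13.Top

/-!
# Cohomology of the transform of the dual
-/

set_option autoImplicit false
set_option linter.unusedSectionVars false
set_option linter.style.haveILetI false
set_option backward.isDefEq.respectTransparency false
set_option backward.isDefEq.respectTransparency.types false
set_option maxHeartbeats 1600000

universe u

open CategoryTheory CategoryTheory.Limits MonoidalCategory AlgebraicGeometry

attribute [local instance] HasDerivedCategory.standard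

noncomputable section

namespace Groth.Agent.FMHyp13.DualPhi

open DMon9 FMAdj9 DualPush

attribute [local instance] DBC9.hasRpush

/-- A kernel functor commutes with shifts. -/
theorem nonempty_phi_shift {S X Y : Scheme.{u}} (a : X ⟶ S) (b : Y ⟶ S) (K : CochainComplex (pullback a b).Modules ℤ)
    [DCoh.HasLpull (pullback.fst a b)] [DCoh.HasLTensorCx K] [DCoh.HasRpush (pullback.snd a b)] (M : DCoh.D X) (n : ℤ) :
    Nonempty ((FMK.phi a b K).obj (M⟦n⟧) ≅ ((FMK.phi a b K).obj M)⟦n⟧) := by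
  let p := pullback.fst a b
  let q := pullback.snd a b
  obtain ⟨e⟩ := nonempty_phiIso p q K
  obtain ⟨hp, -⟩ := DPush.exists_commShift_isTriangulated p
  letI := hp
  letI := (adjLP p).leftAdjointCommShift ℤ
  obtain ⟨hq, -⟩ := DPush.exists_commShift_isTriangulated q
  letI := hq
  obtain ⟨t⟩ := nonempty_shift_tRD n ((lP p).obj M : DM (pullback a b)) (DCoh.toD _ K : DM (pullback a b))
  exact ⟨e.app _ ≪≫ (DCoh.Rpush q).mapIso ((tRD _).mapIso (((lP p).commShiftIso n).app M) ≪≫ t) ≪≫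
    ((DCoh.Rpush q).commShiftIso n).app _ ≪≫ (shiftFunctor (DCoh.D Y) n).mapIso (e.app M).symm⟩

/-- The transform of the dual is, up to a shift, the dual of the transform. -/
theorem exists_dual_pair {k : Type u} [Field k] {X Y : Scheme.{u}} (a : X ⟶ Spec (CommRingCat.of k))
    (b : Y ⟶ Spec (CommRingCat.of k)) [IsProper a] [IsProper b]
    (hXcm : ∀ x : X, LocCoh.IsCohenMacaulayLocalRing (X.presheaf.stalk x)) (d : ℕ)
    (hXeq : ∀ Z ∈ irreducibleComponents X, topologicalKrullDim ↥Z = (d : WithBot ℕ∞))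
    [DCoh.HasRpush a] (ha : DCoh.RpushPreservesQCoh a)
    (adx : DCoh.DQCoh (Spec (CommRingCat.of k)) ⥤ DCoh.DQCoh X) (adj : DCoh.RpushQ a ha ⊣ adx)
    (O : DCoh.DQCoh (Spec (CommRingCat.of k)))
    (hO : Nonempty (O.obj ≅ DCoh.inD (Spec (CommRingCat.of k)) (Coh.structureModule (Spec (CommRingCat.of k)))))
    (P : CochainComplex (pullback a b).Modules ℤ) (hP : DCoh.IsPerfect (DCoh.toD (pullback a b) P))
    [DCoh.HasLpull (pullback.fst a b)] [DCoh.HasLTensorCx P] [DCoh.HasRSheafHom P] [DCoh.HasRpush (pullback.snd a b)]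
    (P' : CochainComplex (pullback a b).Modules ℤ) [DCoh.HasLTensorCx P']
    (hP' : Nonempty (DCoh.toD (pullback a b) P' ≅
      (DCoh.RSheafHom P).obj (DCoh.inD (pullback a b) (Coh.structureModule (pullback a b)))))
    (F : CochainComplex X.Modules ℤ) (hF : DCoh.IsPerfect (DCoh.toD X F)) [DCoh.HasLTensorCx F] [DCoh.HasRSheafHom F] :
    ∃ (G DG : DM Y) (_ : ExactPairing G DG), DCoh.IsPerfect (G : DCoh.D Y) ∧ DCoh.IsPerfect (DG : DCoh.D Y) ∧
      Nonempty (@Iso (DCoh.D Y) _ G ((FMK.phi a b P).obj (DCoh.toD X F))) ∧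
      Nonempty (@Iso (DCoh.D Y) _ DG ((shiftFunctor (DCoh.D Y) (d : ℤ)).obj ((FMK.phi a b P').obj
        ((DCoh.RSheafHom F).obj (DCoh.inD X (DCoh.HD (adx.obj O).obj (-(d : ℤ)))))))) := by
  obtain ⟨eO⟩ := hO
  haveI : IsLocallyNoetherian Y := LocallyOfFiniteType.isLocallyNoetherian b
  haveI : Flat a := inferInstance
  obtain ⟨K, ⟨eK⟩⟩ : ∃ K : CochainComplex Y.Modules ℤ,
      Nonempty (DCoh.toD Y K ≅ (FMK.phi a b P).obj (DCoh.toD X F)) :=
    ⟨_, ⟨DerivedCategory.Q.objObjPreimageIso _⟩⟩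
  haveI := KFlat.Sch.hasLTensorCx K
  haveI : DCoh.HasRSheafHom K := RHom.hasRSheafHom K
  let G : DM Y := DCoh.toD _ K
  have hGp : DCoh.IsPerfect (G : DCoh.D Y) := by
    obtain ⟨eP⟩ := nonempty_phiIso (pullback.fst a b) (pullback.snd a b) P
    obtain ⟨l⟩ := nonempty_lpull_natIso_lP (pullback.fst a b)
    refine DGen9.isPerfect_of_iso (eK ≪≫ eP.app _).symm ?_
    exact PerfPush9.isPerfect_rpush_flat (pullback.snd a b) _
      (FMAdj9.isPerfect_tensor_perf (A := ((lP (pullback.fst a b)).obj (DCoh.toD X F) : DM (pullback a b)))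
        (B := (DCoh.toD _ P : DM (pullback a b)))
        (DGen9.isPerfect_of_iso (l.app (DCoh.toD X F)) (KFlat.Sch.isPerfect_lpull _ hF)) hP)
  obtain ⟨DG, hDG, ⟨pG⟩⟩ := BC8.exists_pairing_left_perfect G hGp
  haveI := pG
  obtain ⟨main⟩ := nonempty_main a b hXcm d hXeq ha adx adj O eO P hP P' hP' F hF K ⟨eK⟩
  obtain ⟨rK⟩ := nonempty_rhomIso K (k := G) (Iso.refl _) DG
  obtain ⟨s⟩ := nonempty_phi_shift a b P'
    ((DCoh.RSheafHom F).obj (DCoh.inD X (DCoh.HD (adx.obj O).obj (-(d : ℤ))))) (d : ℤ)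
  exact ⟨G, DG, pG, hGp, hDG, ⟨eK⟩,
    ⟨(whiskerRightIso (C := DM Y) oneIso DG ≪≫ λ_ DG :).symm ≪≫ (rK.app _).symm ≪≫ main ≪≫ s⟩⟩

/-- The support of a shift. -/
theorem support_HD_shift {X : Scheme.{u}} (M : DCoh.D X) (n i j : ℤ) (h : n + i = j) :
    CohB1.support (DCoh.HD (M⟦n⟧) i) = CohB1.support (DCoh.HD M j) :=
  support_iso (((DerivedCategory.homologyFunctor X.Modules 0).shiftIso n i j h).app M)

end Groth.Agent.FMHyp13.DualPhi

end
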