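import Groth.Agent.Lib.FMAdj9.Main
import Groth.Agent.Lib.FMAdj9.ConvPerf
import Groth.Agent.Lib.FMBase13.Functors
import Groth.Agent.Lib.DPerf.Noeth

/-!
# The derived dual of a derived direct image along a proper flat morphism
-/

set_option autoImplicit false
set_option linter.unusedSectionVars false
set_option linter.style.haveILetI false
set_option backward.isDefEq.respectTransparency false
set_option backward.isDefEq.respectTransparency.types false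
set_option maxHeartbeats 1600000

universe u

open CategoryTheory CategoryTheory.Limits MonoidalCategory AlgebraicGeometry

attribute [local instance] HasDerivedCategory.standard

noncomputable section

namespace Groth.Agent.FMHyp13.DualPush

open DMon9 FMAdj9 TwistBC9

attribute [local instance] DBC9.hasRpush

variable {X Y Z : Scheme.{u}}

/-- The structure sheaf in degree zero is the unit. -/
def oneIso : (DCoh.inD X (Coh.structureModule X) : DM X) ≅ 𝟙_ (DM X) :=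
  ((DerivedCategory.singleFunctorIsoCompQ X.Modules 0).app (Coh.structureModule X) :
    DCoh.inD X (Coh.structureModule X) ≅ (qK X).obj (𝟙_ (KF X)))

/-- The projection formula, natural in the base object. -/
theorem nonempty_proj (q : Z ⟶ Y) [QuasiCompact q] [QuasiSeparated q] (k : DM Z) (hk : DCoh.IsQCohD (k : DCoh.D Z))
    (G : DM Y) (e : (DCoh.Rpush q).obj (k : DCoh.D Z) ≅ (G : DCoh.D Y)) :
    Nonempty (ObjectProperty.ι (qP Y) ⋙ tRD G ≅ ObjectProperty.ι (qP Y) ⋙ lP q ⋙ tRD k ⋙ DCoh.Rpush q) := by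
  obtain ⟨cG⟩ := nonempty_comm G
  obtain ⟨ck⟩ := nonempty_comm k
  let e' : (rM q).obj k ≅ G := e
  let p : ObjectProperty.ι (qP Y) ⋙ srcF q k ≅ ObjectProperty.ι (qP Y) ⋙ tgtF q k :=
    NatIso.ofComponents
      (fun T => haveI := isIso_projT q k hk T.obj T.property; asIso ((projT q k).app T.obj))
      (fun f => (projT q k).naturality f.hom)
  let a : tRD G ≅ srcF q k :=
    ((cG.symm :) : tRD G ≅ ((tensorLeft G : DM Y ⥤ DM Y) : DCoh.D Y ⥤ DCoh.D Y)) ≪≫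
      ((MonoidalCategory.tensoringLeft (DM Y)).mapIso e'.symm :)
  let b : tgtF q k ≅ lP q ⋙ tRD k ⋙ DCoh.Rpush q :=
    Functor.isoWhiskerRight ((Functor.isoWhiskerLeft (dPull q) ck :) : midF q k ≅ lP q ⋙ tRD k) (DCoh.Rpush q)
  exact ⟨Functor.isoWhiskerLeft _ a ≪≫ p ≪≫ Functor.isoWhiskerLeft _ b⟩

/-- The dual of a direct image is the direct image of the dual twisted by the dualizing object. -/
theorem nonempty_dual_rpush (q : Z ⟶ Y) [IsProper q] [Flat q] [LocallyOfFinitePresentation q] [CompactSpace Y]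
    [QuasiSeparatedSpace Y] [CompactSpace Z] [QuasiSeparatedSpace Z] {hq : DCoh.RpushPreservesQCoh q}
    {aq : DCoh.DQCoh Y ⥤ DCoh.DQCoh Z} (adj : DCoh.RpushQ q hq ⊣ aq) (O : DCoh.DQCoh Y)
    (hO : O.obj ≅ DCoh.inD Y (Coh.structureModule Y)) (ω : DM Z) (eω : (ω : DCoh.D Z) ≅ (aq.obj O).obj)
    (k D : DM Z) [ExactPairing k D] (hk : DCoh.IsQCohD (k : DCoh.D Z)) (hD : DCoh.IsQCohD (D : DCoh.D Z))
    (G DG : DM Y) [ExactPairing G DG] (hDG : DCoh.IsQCohD (DG : DCoh.D Y))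
    (e : (DCoh.Rpush q).obj (k : DCoh.D Z) ≅ (G : DCoh.D Y)) :
    Nonempty ((DCoh.Rpush q).obj ((ω ⊗ D : DM Z) : DCoh.D Z) ≅ (DG : DCoh.D Y)) := by
  have hG : DCoh.IsQCohD (G : DCoh.D Y) := DQC.isQCohD_of_iso e (FMAdj9.rpushPreservesQCoh q hk)
  have hω : DCoh.IsQCohD (ω : DCoh.D Z) := DQC.isQCohD_of_iso eω.symm (aq.obj O).property
  obtain ⟨eA⟩ := FMAdj9.nonempty_formula adj O ⟨hO⟩ ω eω
  obtain ⟨pr⟩ := nonempty_proj q k hk G e
  have hψ : ∀ N, DCoh.IsQCohD N → DCoh.IsQCohD ((lP q ⋙ tRD (ω ⊗ D : DM Z) ⋙ DCoh.Rpush q).obj N) := fun N hN =>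
    FMAdj9.rpushPreservesQCoh q (isQCohD_tRD (DMon9.isQCohD_tensor hω hD) (isQCohD_lP q hN))
  obtain ⟨A⟩ := nonempty_right_adjoint q q k D hk hD hq adj ω eA
    (Φ := liftQ (tRD G) fun M hM => isQCohD_tRD hG hM)
    (ObjectProperty.liftCompιIso _ _ _ ≪≫ pr)
    (Ψ := liftQ (lP q ⋙ tRD (ω ⊗ D : DM Z) ⋙ DCoh.Rpush q) hψ)
    (ObjectProperty.liftCompιIso _ _ _)
  let A' := restrictQ (tRDAdj G DG) (fun M hM => isQCohD_tRD hG hM) (fun M hM => isQCohD_tRD hDG hM)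
  let one : (qP Y).FullSubcategory := ⟨(𝟙_ (DM Y) : DM Y), DQC.isQCohD_of_iso (hO ≪≫ (oneIso :)) O.property⟩
  let r : (DCoh.Rpush q).obj (((dPull q).obj (𝟙_ (DM Y)) ⊗ (ω ⊗ D) : DM Z) : DCoh.D Z) ≅
      ((𝟙_ (DM Y) ⊗ DG : DM Y) : DCoh.D Y) :=
    (ObjectProperty.ι (qP Y)).mapIso ((A.rightAdjointUniq A').app one)
  exact ⟨(DCoh.Rpush q).mapIso
      ((whiskerRightIso (Functor.Monoidal.εIso (dPull q)).symm (ω ⊗ D : DM Z) ≪≫ λ_ (ω ⊗ D : DM Z)).symm :) ≪≫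
    r ≪≫ (λ_ DG :)⟩

/-- The dual of a tensor product. -/
theorem nonempty_dual_tensor (a b Da Db D : DM X) [ExactPairing a Da] [ExactPairing b Db]
    [ExactPairing (a ⊗ b) D] : Nonempty (D ≅ (Db ⊗ Da : DM X)) := by
  let A₁ := ((tRDAdj a Da).comp (tRDAdj b Db)).ofNatIsoRight (tRDComp Db Da)
  let A₂ := (tRDAdj (a ⊗ b) D).ofNatIsoLeft (tRDComp a b).symm
  let r : (𝟙_ (DM X) ⊗ D : DM X) ≅ 𝟙_ (DM X) ⊗ (Db ⊗ Da) := ((A₂.rightAdjointUniq A₁).app (𝟙_ (DM X)) :)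
  exact ⟨(λ_ D).symm ≪≫ r ≪≫ λ_ _⟩

/-- A shift commutes with a tensor product. -/
theorem nonempty_shift_tRD (n : ℤ) (M D : DM X) :
    Nonempty ((tRD D).obj ((M : DCoh.D X)⟦n⟧) ≅ ((tRD D).obj (M : DCoh.D X))⟦n⟧) := by
  obtain ⟨s⟩ := FMBase13.nonempty_shift_tensor (X := X) (-n)
  rw [neg_neg] at s
  obtain ⟨c⟩ := nonempty_comm D
  let e : (M ⊗ oneM X (-n)) ⊗ D ≅ (M ⊗ D) ⊗ oneM X (-n) :=
    α_ M (oneM X (-n)) D ≪≫ whiskerLeftIso M (c.app (oneM X (-n))).symm ≪≫ (α_ M D (oneM X (-n))).symm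
  exact ⟨(tRD D).mapIso (s.app (M : DCoh.D X)).symm ≪≫ (e :) ≪≫ s.app ((tRD D).obj (M : DCoh.D X))⟩

/-- The main formula. -/
theorem nonempty_dual_phi {S : Scheme.{u}} (a : X ⟶ S) (b : Y ⟶ S) [IsNoetherian S] [IsProper a] [Flat a] [IsProper b]
    {ha : DCoh.RpushPreservesQCoh a} {adx : DCoh.DQCoh S ⥤ DCoh.DQCoh X}
    [DCoh.HasRpush a] (adj : DCoh.RpushQ a ha ⊣ adx) (O : DCoh.DQCoh S)
    (hO : O.obj ≅ DCoh.inD S (Coh.structureModule S)) (p0 Dp : DM (pullback a b)) [ExactPairing p0 Dp]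
    (hp0 : DCoh.IsPerfect (p0 : DCoh.D (pullback a b))) (e0 De : DM X) [ExactPairing e0 De]
    (he0 : DCoh.IsPerfect (e0 : DCoh.D X)) (G DG : DM Y) [ExactPairing G DG] (hDG : DCoh.IsQCohD (DG : DCoh.D Y))
    (e : (lP (pullback.fst a b) ⋙ tRD p0 ⋙ DCoh.Rpush (pullback.snd a b)).obj (e0 : DCoh.D X) ≅ (G : DCoh.D Y)) :
    Nonempty ((lP (pullback.fst a b) ⋙ tRD Dp ⋙ DCoh.Rpush (pullback.snd a b)).obj
      ((tRD De).obj (adx.obj O).obj) ≅ (DG : DCoh.D Y)) := by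
  let p := pullback.fst a b
  let q := pullback.snd a b
  haveI : CompactSpace Y := QuasiCompact.compactSpace_of_compactSpace b
  haveI : QuasiSeparatedSpace Y := quasiSeparatedSpace_of_quasiSeparated b
  haveI : CompactSpace ↥(pullback a b) := QuasiCompact.compactSpace_of_compactSpace q
  haveI : QuasiSeparatedSpace ↥(pullback a b) := quasiSeparatedSpace_of_quasiSeparated q
  have hq : DCoh.RpushPreservesQCoh q := fun _ h => FMAdj9.rpushPreservesQCoh q h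
  haveI := BC8.isLeftAdjoint_rpushQ q hq
  let adjq := Adjunction.ofIsLeftAdjoint (DCoh.RpushQ q hq)
  obtain ⟨O', ⟨eO'⟩, ⟨eω⟩⟩ := nonempty_dualizing_baseChange (IsPullback.of_hasPullback a b) adj adjq O hO
  let pe : DM (pullback a b) := (dPull p).obj e0
  let pD : DM (pullback a b) := (dPull p).obj De
  letI : ExactPairing pe pD := Dual8.mapPairing (dPull p) e0 De
  let k : DM (pullback a b) := pe ⊗ p0
  haveI : DCoh.HasLTensorCx (DerivedCategory.Q.objPreimage (p0 : DCoh.D (pullback a b))) := KFlat.Sch.hasLTensorCx _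
  have hpe : DCoh.IsPerfect (pe : DCoh.D (pullback a b)) := by
    haveI : DCoh.HasLpull p := KFlat.Sch.hasLpull p
    obtain ⟨l⟩ := nonempty_lpull_natIso_lP p
    exact DGen9.isPerfect_of_iso (l.app (e0 : DCoh.D X)) (KFlat.Sch.isPerfect_lpull _ he0)
  have hkp : DCoh.IsPerfect (k : DCoh.D (pullback a b)) := FMAdj9.isPerfect_tensor_perf hpe hp0
  obtain ⟨D, hDp, ⟨pk⟩⟩ := BC8.exists_pairing_left_perfect k hkp
  haveI := pk
  obtain ⟨d⟩ := nonempty_dual_tensor pe p0 pD Dp D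
  let w : DM X := (adx.obj O).obj
  let ω : DM (pullback a b) := (dPull p).obj w
  obtain ⟨r⟩ := nonempty_dual_rpush q adjq O' eO' ω eω.symm k D (DGen9.isQCohD_of_isPerfect hkp)
    (DGen9.isQCohD_of_isPerfect hDp) G DG hDG e
  obtain ⟨c⟩ := nonempty_comm Dp
  let i : ((dPull p).obj (w ⊗ De) ⊗ Dp : DM (pullback a b)) ≅ ω ⊗ D :=
    whiskerRightIso (Functor.Monoidal.μIso (dPull p) w De).symm Dp ≪≫ α_ ω pD Dp ≪≫
      whiskerLeftIso ω ((c.app pD).symm ≪≫ d.symm)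
  exact ⟨(DCoh.Rpush q).mapIso (i :) ≪≫ r⟩

end Groth.Agent.FMHyp13.DualPush

end
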