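import Groth.Agent.Lib.FMHyp13.IsogTransform
import Groth.Agent.Lib.RelPCS4.PushFlat
import Groth.Agent.Lib.PnKoszul9.TwistD

/-!
# Cohomology sheaves under exact functors
-/

set_option autoImplicit false
set_option linter.style.haveILetI false
set_option linter.unusedSectionVars false
set_option backward.isDefEq.respectTransparency false
set_option backward.isDefEq.respectTransparency.types false
set_option maxHeartbeats 800000

universe u

open CategoryTheory CategoryTheory.Limits MonoidalCategory AlgebraicGeometry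

attribute [local instance] HasDerivedCategory.standard

noncomputable section

namespace Groth.Agent.FMHyp13

open DMon9 DBC9 TwistBC9 FMBase13 Groth.Agent

variable {X Y : Scheme.{u}}

/-- An exact functor commutes with cohomology sheaves. -/
theorem nonempty_HD_mapDerived (F : X.Modules ⥤ Y.Modules) [F.Additive] [PreservesFiniteLimits F]
    [PreservesFiniteColimits F] (E : DCoh.D X) (i : ℤ) :
    Nonempty (DCoh.HD (F.mapDerivedCategory.obj E) i ≅ F.obj (DCoh.HD E i)) := by
  let K := DerivedCategory.Q.objPreimage E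
  let eK : DCoh.toD X K ≅ E := DerivedCategory.Q.objObjPreimageIso E
  let L := (F.mapHomologicalComplex (ComplexShape.up ℤ)).obj K
  exact ⟨(DerivedCategory.homologyFunctor Y.Modules i).mapIso
      (F.mapDerivedCategory.mapIso eK.symm ≪≫ F.mapDerivedCategoryFactors.app K) ≪≫
    (DerivedCategory.homologyFunctorFactors Y.Modules i).app L ≪≫ ShortComplex.mapHomologyIso (K.sc i) F ≪≫
    F.mapIso (((DerivedCategory.homologyFunctorFactors X.Modules i).app K).symm ≪≫
      (DerivedCategory.homologyFunctor X.Modules i).mapIso eK)⟩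

/-- Flat pullback commutes with cohomology sheaves. -/
theorem nonempty_HD_lP_flat (f : Y ⟶ X) [Flat f] (E : DCoh.D X) (i : ℤ) :
    Nonempty (DCoh.HD ((lP f).obj E) i ≅ (Scheme.Modules.pullback f).obj (DCoh.HD E i)) := by
  haveI := KFlat.Sch.hasLpull f
  haveI : PreservesFiniteColimits (Scheme.Modules.pullback f) :=
    haveI : (Scheme.Modules.pullback f).IsLeftAdjoint :=
      (Scheme.Modules.pullbackPushforwardAdjunction f).isLeftAdjoint
    PreservesColimitsOfSize.preservesFiniteColimits _
  obtain ⟨a⟩ := nonempty_lpull_iso_lP f E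
  obtain ⟨b⟩ := RelPCS4.nonempty_lpull_iso_pullD f E
  obtain ⟨c⟩ := nonempty_HD_mapDerived (Scheme.Modules.pullback f) E i
  exact ⟨(DerivedCategory.homologyFunctor _ i).mapIso (a.symm ≪≫ b) ≪≫ c⟩

/-- Invertible twists commute with cohomology sheaves. -/
theorem nonempty_HD_tenF (N : X.Modules) (hN : PicF.IsInvertible N) (E : DCoh.D X) (i : ℤ) :
    Nonempty (DCoh.HD ((tenF N).obj E) i ≅ CohB1.tensorMod (DCoh.HD E i) N) := by
  haveI := PnKoszul9.preservesFiniteLimits_tensorRightMod N hN
  haveI := PnKoszul9.isEquivalence_tensorRightMod N hN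
  obtain ⟨a⟩ := nonempty_tenF_twD N hN
  obtain ⟨c⟩ := nonempty_HD_mapDerived (DCoh.tensorRightMod N) E i
  exact ⟨(DerivedCategory.homologyFunctor _ i).mapIso (a.app E) ≪≫ c⟩

/-- An object with one cohomology sheaf. -/
theorem nonempty_iso_single_of_concentrated (E : DCoh.D X) (g : ℤ) (h : ∀ i : ℤ, i ≠ g → IsZero (DCoh.HD E i)) :
    Nonempty (E ≅ ((DerivedCategory.singleFunctor X.Modules 0).obj (DCoh.HD E g))⟦-g⟧) := by
  haveI : E.IsGE g := (DerivedCategory.isGE_iff _ _).2 fun i hi => h i hi.ne
  haveI : E.IsLE g := (DerivedCategory.isLE_iff _ _).2 fun i hi => h i hi.ne'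
  obtain ⟨M, ⟨eM⟩⟩ := DerivedCategory.exists_iso_singleFunctor_obj_of_isGE_of_isLE E g
  let eY : DCoh.HD E g ≅ M := (DerivedCategory.homologyFunctor X.Modules g).mapIso eM ≪≫
    (DerivedCategory.singleFunctorCompHomologyFunctorIso X.Modules g).app M
  exact ⟨eM ≪≫ (DerivedCategory.singleFunctor X.Modules g).mapIso eY.symm ≪≫
    (((DerivedCategory.singleFunctors X.Modules).shiftIso (-g) g 0 (by omega)).app (DCoh.HD E g)).symm⟩

end Groth.Agent.FMHyp13

end
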