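import Groth.Agent.Lib.FMHyp13.ExchangePos

/-!
# Exchanging a transform concentrated in degree zero
-/

set_option autoImplicit false
set_option linter.style.haveILetI false
set_option linter.unusedSectionVars false
set_option backward.isDefEq.respectTransparency false
set_option backward.isDefEq.respectTransparency.types false
set_option maxHeartbeats 3200000

universe u

open CategoryTheory CategoryTheory.Limits MonoidalCategory CartesianMonoidalCategory AlgebraicGeometry
open TopologicalSpace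
open scoped MonObj GrpObj

attribute [local instance] HasDerivedCategory.standard

noncomputable section

namespace Groth.Agent.FMHyp13

open DMon9 DBC9 TwistBC9 FMBase13 Groth.Agent Groth.Agent.RosTrace22

attribute [local instance] DBC9.hasRpush

noncomputable local instance instLawExConc (Y : Scheme.{u}) : PicGrp.Law Y := M2.law Y

variable {k : Type u} [Field k]

variable [IsAlgClosed k] {A At : Over (Spec (CommRingCat.of k))} [GrpObj A] [GrpObj At]
  [IsProper A.hom] [Smooth A.hom] [GeometricallyConnected A.hom]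
  [IsProper At.hom] [Smooth At.hom] [GeometricallyConnected At.hom]
  {φ : AgPol.DualMap A At} (hφ : AbDual.IsDualAV Scheme.fppfPrecoverage A At φ)
  {P : (PicF.XT A.hom At).Modules} (hP : PicF.IsInvertible P) (hξ : AbDual.IsPoincareCl A At φ (PicF.cl P))

variable {g : ℕ} {L L' : A.left.Modules} (hL : CohB1.IsAmple L)
  (hLL' : Nonempty (CohB1.tensorMod L L' ≅ Coh.structureModule A.left))

include hφ hP hξ hL hLL' in
/-- When the transform sits in degree zero, the twisted pullback computes the cohomology of the product. -/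
theorem finrank_exchange_conc {G : A.left.Modules} (hG : Coh.IsCoh G) {n : ℕ}
    (f : A ⟶ At) (hf : f = lamOf φ (PicGrp.cls L hL.1)) [Flat f.left]
    (hW : ∀ i : ℤ, i ≠ 0 → IsZero (DCoh.HD ((lP f.left).obj ((phiK (fst A At).left (snd A At).left P).obj
      ((DerivedCategory.singleFunctor A.left.Modules 0).obj (CohB1.tensorPow L n)))) i))
    (hWf : FlatMod.IsFinLocFree (DCoh.HD ((lP f.left).obj ((phiK (fst A At).left (snd A At).left P).obj
      ((DerivedCategory.singleFunctor A.left.Modules 0).obj (CohB1.tensorPow L n)))) (0 : ℤ)))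
    (hc0 : ∀ i : ℤ, i ≠ 0 → IsZero (fmH P G i)) (j : ℕ) :
    (letI : A.left.Over (Spec (CommRingCat.of k)) := ⟨A.hom⟩;
      Module.finrank k (Coh.HH A.left (CohB1.tensorMod G (DCoh.HD ((lP f.left).obj
        ((phiK (fst A At).left (snd A At).left P).obj
          ((DerivedCategory.singleFunctor A.left.Modules 0).obj (CohB1.tensorPow L n)))) (0 : ℤ))) j) =
      Module.finrank k (Coh.HH A.left
        (CohB1.tensorMod ((Scheme.Modules.pullback f.left).obj (fmH P G (0 : ℤ))) (CohB1.tensorPow L n)) j)) := by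
  haveI : GeometricallyIntegral A.hom := AbRigid.geometricallyIntegral_of_smooth A
  haveI := isCommMonObj_of_isProper_of_geometricallyIntegral A
  haveI : IsLocallyNoetherian A.left := LocallyOfFiniteType.isLocallyNoetherian A.hom
  haveI : IsNoetherian (Spec (CommRingCat.of k)) := inferInstance
  haveI : CompactSpace A.left := QuasiCompact.compactSpace_of_compactSpace A.hom
  haveI : HasInjectiveResolutions A.left.Modules := CohFound.hasInjectiveResolutions_modules _
  let M := CohB1.tensorPow L n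
  have hM : PicF.IsInvertible M := M2.isInvertible_tensorPow hL.1 n
  haveI : IsProper (snd A At).left := inferInstanceAs (IsProper (pullback.snd A.hom At.hom))
  haveI : Flat (snd A At).left := inferInstanceAs (Flat (pullback.snd A.hom At.hom))
  let Φ := phiK (fst A At).left (snd A At).left P
  let T := (lP f.left).obj (Φ.obj ((DerivedCategory.singleFunctor A.left.Modules 0).obj M))
  let W := DCoh.HD T (0 : ℤ)
  let X₁ := (lP f.left).obj (Φ.obj ((DerivedCategory.singleFunctor A.left.Modules 0).obj G))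
  let Z := (tenF M).obj X₁
  -- the kernel on the square
  let s : A ⊗ A ⟶ A ⊗ At := lift (fst A A) (snd A A ≫ f)
  let s' : A ⊗ A ⟶ A ⊗ At := lift (snd A A) (fst A A ≫ f)
  let Λ : (PicF.XT A.hom A).Modules := (Scheme.Modules.pullback s.left).obj P
  have hΛ : PicF.IsInvertible Λ := PicLoc.isInvertible_pullback _ hP
  have hs : s = A ◁ f := by apply CartesianMonoidalCategory.hom_ext <;> simp [s]
  have hH : IsPullback s.left (snd A A).left (snd A At).left f.left := hs ▸ isPullback_whisker A f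
  haveI : IsIso (AbDual22.sw A A) := ⟨AbDual22.sw A A,
    by apply CartesianMonoidalCategory.hom_ext <;> simp [AbDual22.sw],
    by apply CartesianMonoidalCategory.hom_ext <;> simp [AbDual22.sw]⟩
  haveI : IsIso (AbDual22.sw A A).left := inferInstanceAs (IsIso ((Over.forget _).map (AbDual22.sw A A)))
  have hH' : IsPullback s'.left (fst A A).left (snd A At).left f.left := by
    have h := (IsPullback.of_horiz_isIso (fst := (AbDual22.sw A A).left) (snd := (fst A A).left)
      (f := (snd A A).left) (g := 𝟙 A.left) ⟨by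
        rw [← Over.comp_left, Category.comp_id, show AbDual22.sw A A ≫ snd A A = fst A A by simp [AbDual22.sw]]⟩
      ).paste_horiz hH
    rw [Category.id_comp, ← Over.comp_left, show AbDual22.sw A A ≫ s = s' by
      apply CartesianMonoidalCategory.hom_ext <;> simp [s, s', AbDual22.sw]] at h
    exact h
  obtain ⟨eΛ⟩ : Nonempty ((Scheme.Modules.pullback s'.left).obj P ≅ Λ) := by
    refine nonempty_kernel_iso hP hξ ?_
    rw [hf, ← bil_eq_ev hφ hξ, ← bil_eq_ev hφ hξ, Index22.bil_comm]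
  obtain ⟨cG⟩ := nonempty_phiK_BC (fst A At).left (snd A At).left hH hP
  obtain ⟨cM⟩ := nonempty_phiK_BC (fst A At).left (snd A At).left hH' hP
  have hsf : s.left ≫ (fst A At).left = (fst A A).left := by rw [← Over.comp_left, lift_fst]
  have hsf' : s'.left ≫ (fst A At).left = (snd A A).left := by rw [← Over.comp_left, lift_fst]
  let Gs := Exact8.FMVanish.sgl G
  let Ms := Exact8.FMVanish.sgl M
  let Ps : CochainComplex (A ⊗ A).left.Modules ℤ := Exact8.FMVanish.sgl (X := (A ⊗ A).left) Λ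
  haveI : DCoh.HasLTensorCx Gs := KFlat.Sch.hasLTensorCx _
  haveI : DCoh.HasLTensorCx Ms := KFlat.Sch.hasLTensorCx _
  haveI : DCoh.HasLTensorCx Ps := KFlat.Sch.hasLTensorCx _
  haveI : DCoh.HasLTensorCx (Exact8.FMVanish.sgl Λ) := KFlat.Sch.hasLTensorCx _
  haveI := KFlat.Sch.hasLpull (fst A A).left
  haveI := KFlat.Sch.hasLpull (snd A A).left
  obtain ⟨tΛ⟩ := nonempty_LTCx_tenF Λ
  obtain ⟨tG⟩ := nonempty_LTCx_tenF G
  obtain ⟨tM⟩ := nonempty_LTCx_tenF M
  obtain ⟨lp⟩ := nonempty_lpull_natIso_lP (fst A A).left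
  obtain ⟨lq⟩ := nonempty_lpull_natIso_lP (snd A A).left
  let eG : DCoh.inD A.left G ≅ DCoh.toD A.left Gs :=
    (DerivedCategory.singleFunctorIsoCompQ A.left.Modules 0).app G
  let eM : DCoh.inD A.left M ≅ DCoh.toD A.left Ms :=
    (DerivedCategory.singleFunctorIsoCompQ A.left.Modules 0).app M
  obtain ⟨sw⟩ := SwapS.nonempty_swap (fst A A).left (snd A A).left A.hom A.hom
    ((Over.w (fst A A)).trans (Over.w (snd A A)).symm) Ps Gs
    (DGen9.isPerfect_of_iso eG (isPerfect_single hG)) Ms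
    (DGen9.ResP.isPerfect_toD (DPerf.isStrictlyPerfect_single (M2.isFinLocFree_of_isInvertible hM)))
  let eT : (DCoh.Rpush (fst A A).left).obj ((DCoh.LTensorCx Ps).obj
      ((DCoh.Lpull (snd A A).left).obj (DCoh.toD A.left Ms))) ≅ T :=
    (Functor.isoWhiskerRight lq _ ≪≫ Functor.isoWhiskerLeft _ (Functor.isoWhiskerRight tΛ _)).app _ ≪≫
      (phiK (snd A A).left (fst A A).left Λ).mapIso eM.symm ≪≫
      (phiKIso (snd A A).left (fst A A).left eΛ).symm.app _ ≪≫
      (phiKCongr (snd A A).left (fst A A).left hsf'.symm _).app _ ≪≫ (cM.app (inQ hM)).symm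
  let eX : (DCoh.Rpush (snd A A).left).obj ((DCoh.LTensorCx Ps).obj
      ((DCoh.Lpull (fst A A).left).obj (DCoh.toD A.left Gs))) ≅ X₁ :=
    (Functor.isoWhiskerRight lp _ ≪≫ Functor.isoWhiskerLeft _ (Functor.isoWhiskerRight tΛ _)).app _ ≪≫
      (phiK (fst A A).left (snd A A).left Λ).mapIso eG.symm ≪≫
      (phiKCongr (fst A A).left (snd A A).left hsf.symm _).app _ ≪≫
      (cG.app ⟨_, TwistBC9.isQCohD_inD G hG.1 0⟩).symm
  -- the left side is one module
  obtain ⟨eW⟩ := nonempty_iso_single_of_concentrated T 0 hW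
  obtain ⟨cW⟩ := FMAdj9.nonempty_comm (modM W)
  obtain ⟨mW⟩ := LocFreeDual.nonempty_modM_tensor G W hWf
  let eS : (tenF G).obj T ≅ (DerivedCategory.singleFunctor A.left.Modules 0).obj (CohB1.tensorMod G W) :=
    (tenF G).mapIso (eW ≪≫ (shiftFunctorZero' (DCoh.D A.left) (-(0 : ℤ)) neg_zero).app _) ≪≫
      ((cW.app (modM G) ≪≫ mW :) : _)
  let E : (DCoh.Rpush A.hom).obj ((DerivedCategory.singleFunctor A.left.Modules 0).obj (CohB1.tensorMod G W)) ≅
      (DCoh.Rpush A.hom).obj Z :=
    (DCoh.Rpush A.hom).mapIso (eS.symm ≪≫ tG.symm.app T ≪≫ (DCoh.LTensorCx Gs).mapIso eT.symm) ≪≫ sw ≪≫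
      (DCoh.Rpush A.hom).mapIso ((DCoh.LTensorCx Ms).mapIso eX ≪≫ tM.app X₁)  -- the right side is one module
  let H : A.left.Modules := CohB1.tensorMod ((Scheme.Modules.pullback f.left).obj (fmH P G (0 : ℤ))) M
  have hHc : Coh.IsCoh H :=
    CohFound.isCoh_tensor (M1.isCoh_pullback _ (isCoh_fmH hP hG 0)) (CubeField.isCoh_of_isInvertible hM)
  have hZ : ∀ i, Nonempty (DCoh.HD Z i ≅
      CohB1.tensorMod ((Scheme.Modules.pullback f.left).obj (fmH P G i)) M) := fun i => by
    obtain ⟨a⟩ := nonempty_HD_tenF M hM X₁ i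
    obtain ⟨b⟩ := nonempty_HD_lP_flat f.left (Φ.obj ((DerivedCategory.singleFunctor A.left.Modules 0).obj G)) i
    exact ⟨a ≪≫ M2.tensorIso b (Iso.refl _)⟩
  obtain ⟨eZ⟩ := nonempty_iso_single_of_concentrated Z 0 fun i hi =>
    ((M2.tensorR M).map_isZero ((Scheme.Modules.pullback f.left).map_isZero (hc0 i hi))).of_iso (hZ i).some
  let eZ' : Z ≅ (DerivedCategory.singleFunctor A.left.Modules 0).obj H :=
    eZ ≪≫ (shiftFunctorZero' (DCoh.D A.left) (-(0 : ℤ)) neg_zero).app _ ≪≫
      (DerivedCategory.singleFunctor A.left.Modules 0).mapIso (hZ 0).some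
  obtain ⟨dR⟩ := Poinc13.nonempty_hd_rpush A.hom H j
  obtain ⟨dL⟩ := Poinc13.nonempty_hd_rpush A.hom (CohB1.tensorMod G W) j
  let e : (Coh.Rpush A.hom j).obj (CohB1.tensorMod G W) ≅ (Coh.Rpush A.hom j).obj H :=
    dL.symm ≪≫ (DerivedCategory.homologyFunctor _ (j : ℤ)).mapIso (E ≪≫ (DCoh.Rpush A.hom).mapIso eZ') ≪≫ dR
  exact (genRk_rpush_point (CohFound.isCoh_tensor hG (CohFound.isCoh_of_isFinLocFree hWf)) j).symm.trans
    ((genRk_iso e).trans (genRk_rpush_point hHc j))

/-- A surjective morphism is surjective on rational points. -/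
theorem exists_point_of_surjective {X Y : Over (Spec (CommRingCat.of k))} [LocallyOfFiniteType X.hom]
    [GrpObj Y] [IsProper Y.hom] [GeometricallyIntegral Y.hom] (f : X ⟶ Y) [Surjective f.left] (y : 𝟙_ (Over (Spec (CommRingCat.of k))) ⟶ Y) :
    ∃ x : 𝟙_ (Over (Spec (CommRingCat.of k))) ⟶ X, x ≫ f = y := by
  haveI : JacobsonSpace X.left := LocallyOfFiniteType.jacobsonSpace X.hom
  obtain ⟨c, hc, hcc⟩ := nonempty_inter_closedPoints (Z := f.left.base ⁻¹' closure {CubeField.rpt y})
    (by obtain ⟨x, hx⟩ := f.left.surjective (CubeField.rpt y); exact ⟨x, subset_closure hx⟩)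
    (isClosed_closure.preimage f.left.continuous).isLocallyClosed
  obtain ⟨x, rfl⟩ := CubeField.exists_rpt (X := X) hcc
  refine ⟨x, CubeField.rpt_injective ?_⟩
  have hcl : IsClosed ({CubeField.rpt y} : Set Y.left) := MumVan22.isClosed_rpt y
  rw [CubeField.rpt_comp]
  simpa [hcl.closure_eq] using hc

include hφ hP hξ hL hLL' in
/-- At corresponding points the two dimensions agree. -/
theorem hAt_exchange_conc {G : A.left.Modules} (hG : Coh.IsCoh G) {n : ℕ}
    (f : A ⟶ At) (hf : f = lamOf φ (PicGrp.cls L hL.1)) [Flat f.left]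
    (hW : ∀ i : ℤ, i ≠ 0 → IsZero (DCoh.HD ((lP f.left).obj ((phiK (fst A At).left (snd A At).left P).obj
      ((DerivedCategory.singleFunctor A.left.Modules 0).obj (CohB1.tensorPow L n)))) i))
    (hWf : FlatMod.IsFinLocFree (DCoh.HD ((lP f.left).obj ((phiK (fst A At).left (snd A At).left P).obj
      ((DerivedCategory.singleFunctor A.left.Modules 0).obj (CohB1.tensorPow L n)))) (0 : ℤ)))
    (hc0 : ∀ i : ℤ, i ≠ 0 → IsZero (fmH P G i)) (j : ℕ)
    (a : 𝟙_ (Over (Spec (CommRingCat.of k))) ⟶ A) :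
    W4c5cohrankabvar.hAt k P (CohB1.tensorMod G (DCoh.HD ((lP f.left).obj ((phiK (fst A At).left (snd A At).left P).obj
      ((DerivedCategory.singleFunctor A.left.Modules 0).obj (CohB1.tensorPow L n)))) (0 : ℤ))) (a ≫ f) j =
      W4c5cohrankabvar.hAt k P (CohB1.tensorMod ((Scheme.Modules.pullback f.left).obj (fmH P G (0 : ℤ)))
        (CohB1.tensorPow L n)) (a⁻¹ ≫ lamOf φ (PicGrp.cls (CohB1.tensorPow L n) (M2.isInvertible_tensorPow hL.1 n))) j := by
  haveI : GeometricallyIntegral A.hom := AbRigid.geometricallyIntegral_of_smooth A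
  haveI : GeometricallyIntegral At.hom := AbRigid.geometricallyIntegral_of_smooth At
  haveI := isCommMonObj_of_isProper_of_geometricallyIntegral A
  haveI := isCommMonObj_of_isProper_of_geometricallyIntegral At
  haveI : IsLocallyNoetherian A.left := LocallyOfFiniteType.isLocallyNoetherian A.hom
  letI : A.left.Over (Spec (CommRingCat.of k)) := ⟨A.hom⟩
  haveI : IsMonHom f := hf ▸ isMonHom_lamOf hφ _
  have hM : PicF.IsInvertible (CohB1.tensorPow L n) := M2.isInvertible_tensorPow hL.1 n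
  let α := a ≫ f
  let Pα := W4c5cohrankabvar.ptLB P α
  let u : A ⟶ A := 𝟙 A * (toUnit A ≫ a)
  let v : A ⟶ A := 𝟙 A * (toUnit A ≫ a⁻¹)
  let t : At ⟶ At := 𝟙 At * (toUnit At ≫ α)
  have huv : ∀ {B : Over (Spec (CommRingCat.of k))} [GrpObj B] (x y : 𝟙_ (Over (Spec (CommRingCat.of k))) ⟶ B),
      y * x = 1 → (𝟙 B * (toUnit B ≫ x)) ≫ (𝟙 B * (toUnit B ≫ y)) = 𝟙 B := fun {B} _ x y hxy => by
    rw [MonObj.comp_mul, Category.comp_id, ← Category.assoc, toUnit_unique (_ ≫ toUnit B) (toUnit B),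
      _root_.mul_assoc, ← MonObj.comp_mul]
    have : x * y = 1 := mul_eq_one_comm.1 hxy
    rw [this, MonObj.comp_one, _root_.mul_one]
  haveI : IsIso u := ⟨v, huv a a⁻¹ (inv_mul_cancel a), huv a⁻¹ a (mul_inv_cancel a)⟩
  haveI : IsIso t := ⟨𝟙 At * (toUnit At ≫ α⁻¹), huv α α⁻¹ (inv_mul_cancel α), huv α⁻¹ α (mul_inv_cancel α)⟩
  haveI : IsIso u.left := inferInstanceAs (IsIso ((Over.forget _).map u))
  haveI : IsIso t.left := inferInstanceAs (IsIso ((Over.forget _).map t))
  have hft : f ≫ t = u ≫ f := by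
    simp only [u, t, MonObj.comp_mul, MonObj.mul_comp, Category.comp_id, Category.id_comp, Category.assoc]
    rw [← Category.assoc f (toUnit At), toUnit_unique (f ≫ toUnit At) (toUnit A)]
  let β := a⁻¹ ≫ lamOf φ (PicGrp.cls (CohB1.tensorPow L n) hM)
  let Pβ := W4c5cohrankabvar.ptLB P β
  obtain ⟨eN⟩ : Nonempty ((Scheme.Modules.pullback u.left).obj (CohB1.tensorMod (CohB1.tensorPow L n) Pβ) ≅
      CohB1.tensorPow L n) := by
    have hb : PicF.IsInvertible Pβ := PicLoc.isInvertible_pullback _ hP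
    refine FMBase13.nonempty_iso_of_cls (hL := PicLoc.isInvertible_pullback _ (M2.isInvertible_tensor hM hb))
      (hM := hM) ?_
    rw [← RosTrace22.pb_cls u (M2.isInvertible_tensor hM hb), ← AlgEquiv22.cls_tensor hM hb,
      ← FMBase13.ev_eq_cls hP hξ, ← Category.assoc, ← bil_eq_ev hφ hξ, ← pb_translate, AgPol22.pb_pb,
      show u ≫ (𝟙 A * (toUnit A ≫ a⁻¹)) = 𝟙 A from huv a a⁻¹ (inv_mul_cancel a), AlgEquiv22.pb_id]
  have hG' : Coh.IsCoh (CohB1.tensorMod G Pα) :=
    CohFound.isCoh_tensor hG (CubeField.isCoh_of_isInvertible (PicLoc.isInvertible_pullback _ hP))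
  let H := CohB1.tensorMod ((Scheme.Modules.pullback f.left).obj (fmH P G (0 : ℤ))) (CohB1.tensorPow L n)
  obtain ⟨e0⟩ := nonempty_fmH_translate hφ hP hξ hG α (0 : ℤ)
  let eH : CohB1.tensorMod ((Scheme.Modules.pullback f.left).obj (fmH P (CohB1.tensorMod G Pα) (0 : ℤ)))
      (CohB1.tensorPow L n) ≅ (Scheme.Modules.pullback u.left).obj (CohB1.tensorMod H Pβ) :=
    M2.tensorIso ((Scheme.Modules.pullback f.left).mapIso e0 ≪≫
        (Scheme.Modules.pullbackComp _ _).app _ ≪≫
        (Scheme.Modules.pullbackCongr ((Over.comp_left _ _ _ f t).symm.trans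
          ((congrArg Over.Hom.left hft).trans (Over.comp_left _ _ _ u f)))).app _ ≪≫
        ((Scheme.Modules.pullbackComp _ _).app _).symm) eN.symm ≪≫ (M2.pullTensorIso _ _ _).symm ≪≫
      (Scheme.Modules.pullback u.left).mapIso (M2.tensorAssoc _ _ _).symm
  have hHβ : Coh.IsCoh (CohB1.tensorMod H Pβ) :=
    CohFound.isCoh_tensor (CohFound.isCoh_tensor (M1.isCoh_pullback _ (isCoh_fmH hP hG _))
      (CubeField.isCoh_of_isInvertible hM)) (CubeField.isCoh_of_isInvertible (PicLoc.isInvertible_pullback _ hP))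
  have hc' : ∀ i : ℤ, i ≠ 0 → IsZero (fmH P (CohB1.tensorMod G Pα) i) := fun i hi =>
    ((Scheme.Modules.pullback t.left).map_isZero (hc0 i hi)).of_iso
      (nonempty_fmH_translate hφ hP hξ hG α i).some
  have hex := finrank_exchange_conc hφ hP hξ hL hLL' hG' f hf hW hWf hc' j
  refine Eq.trans ?_ (hex.trans (((CBC10.hmapLinEquiv k eH j).finrank_eq).trans (finrank_HH_pullback_aut u hHβ.1 j)))
  exact (CBC10.hmapLinEquiv k (M2.tensorAssoc _ _ _ ≪≫
    M2.tensorIso (Iso.refl G) (M2.tensorComm _ _) ≪≫ (M2.tensorAssoc _ _ _).symm) j).finrank_eq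

include hφ hP hξ hL hLL' in
/-- The generic dimensions from a transform concentrated in degree zero. -/
theorem hgen_exchange_conc (hg : topologicalKrullDim A.left = g) {G : A.left.Modules} (hG : Coh.IsCoh G) {n : ℕ}
    (hn : 0 < n) (f : A ⟶ At) (hf : f = lamOf φ (PicGrp.cls L hL.1))
    (hc0 : ∀ i : ℤ, i ≠ 0 → IsZero (fmH P G i)) (j : ℕ) :
    @Curv2.euler k _ A.left ⟨A.hom⟩ (CohB1.tensorPow L n) *
        ((W4c5cohrankabvar.hgen k P (CohB1.tensorMod ((Scheme.Modules.pullback ((𝟙 A) ^ n).left).obj G)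
          (CohB1.tensorPow L' n)) j : ℕ) : ℤ) =
      (n : ℤ) ^ (2 * g) * ((W4c5cohrankabvar.hgen k P
        (CohB1.tensorMod ((Scheme.Modules.pullback f.left).obj (fmH P G (0 : ℤ))) (CohB1.tensorPow L n)) j : ℕ) : ℤ) := by
  haveI : GeometricallyIntegral A.hom := AbRigid.geometricallyIntegral_of_smooth A
  haveI : GeometricallyIntegral At.hom := AbRigid.geometricallyIntegral_of_smooth At
  haveI : AlgebraicGeometry.IsIntegral At.left := GeometricallyIntegral.isIntegral_of_subsingleton At.hom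
  haveI := isCommMonObj_of_isProper_of_geometricallyIntegral A
  haveI := isCommMonObj_of_isProper_of_geometricallyIntegral At
  haveI : IsLocallyNoetherian A.left := LocallyOfFiniteType.isLocallyNoetherian A.hom
  letI : A.left.Over (Spec (CommRingCat.of k)) := ⟨A.hom⟩
  haveI : IsProper (A.left ↘ Spec (CommRingCat.of k)) := inferInstanceAs (IsProper A.hom)
  have hL' := isInvertible_of_ample_inverse hL.1 hLL'
  haveI : IsMonHom f := hf ▸ isMonHom_lamOf hφ _
  haveI : IsFinite f.left := hf ▸ isFinite_lamOf hφ hL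
  haveI : Surjective f.left := hf ▸ (exists_endo hφ hL).choose_spec.2.1
  haveI : Flat f.left := AbRigid.flat_of_surjective A At f
  let h : A ⟶ A := (𝟙 A) ^ n
  obtain ⟨hhf, hhfl, hhs⟩ := AVDegree22.isFinite_flat_surjective_pow A hn
  haveI := hhf; haveI := hhfl; haveI := hhs
  obtain ⟨hz, r, ⟨eW⟩, hr⟩ := exists_positive_transform hφ hP hξ hL hLL' hn f hf h rfl
  let T := (lP f.left).obj ((phiK (fst A At).left (snd A At).left P).obj
    ((DerivedCategory.singleFunctor A.left.Modules 0).obj (CohB1.tensorPow L n)))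
  let W := DCoh.HD T (0 : ℤ)
  have hM : PicF.IsInvertible (CohB1.tensorPow L n) := M2.isInvertible_tensorPow hL.1 n
  have hWc : Coh.IsCoh W := by
    obtain ⟨a⟩ := nonempty_HD_lP_flat f.left ((phiK (fst A At).left (snd A At).left P).obj
      ((DerivedCategory.singleFunctor A.left.Modules 0).obj (CohB1.tensorPow L n))) 0
    exact CohFound.isCoh_of_iso a.symm (M1.isCoh_pullback _ (isCoh_fmH hP (Snapper.isCoh_of_isInvertible hM) _))
  have hWf : FlatMod.IsFinLocFree W :=
    M1.isFinLocFree_of_pullback_fpqc h.left hWc.1 (M2.isFinLocFree_of_iso eW.symm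
      (M2.isFinLocFree_tensor (KFlat.Sch.isFinLocFree_freeMod _ r)
        (M2.isFinLocFree_of_isInvertible (M2.isInvertible_tensorPow hL' n))))
  let H := CohB1.tensorMod ((Scheme.Modules.pullback f.left).obj (fmH P G (0 : ℤ))) (CohB1.tensorPow L n)
  let w := lamOf φ (PicGrp.cls (CohB1.tensorPow L n) hM)
  have hLn : CohB1.IsAmple (CohB1.tensorPow L n) := (Amp.isAmple_tensorPow_iff hL.1 hn).2 hL
  haveI : Surjective w.left := (exists_endo hφ hLn).choose_spec.2.1
  have hgW : W4c5cohrankabvar.hgen k P (CohB1.tensorMod G W) j = W4c5cohrankabvar.hgen k P H j := by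
    have s1 : Function.Surjective fun a : 𝟙_ (Over (Spec (CommRingCat.of k))) ⟶ A => a ≫ f :=
      fun y => exists_point_of_surjective f y
    have s2 : Function.Surjective fun a : 𝟙_ (Over (Spec (CommRingCat.of k))) ⟶ A => a⁻¹ ≫ w := fun y => by
      obtain ⟨x, hx⟩ := exists_point_of_surjective w y
      exact ⟨x⁻¹, by simpa using hx⟩
    show iInf _ = iInf _
    rw [← s1.iInf_comp, ← s2.iInf_comp]
    exact iInf_congr fun a => hAt_exchange_conc hφ hP hξ hL hLL' hG f hf hz hWf hc0 j a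
  haveI : Nonempty (𝟙_ (Over (Spec (CommRingCat.of k))) ⟶ At) := ⟨1⟩
  have hR : Coh.IsCoh (CohB1.tensorMod ((Scheme.Modules.pullback h.left).obj G) (CohB1.tensorPow L' n)) :=
    CohFound.isCoh_tensor (M1.isCoh_pullback _ hG) (CubeField.isCoh_of_isInvertible (M2.isInvertible_tensorPow hL' n))
  let e : (Scheme.Modules.pullback h.left).obj (CohB1.tensorMod G W) ≅ CohB1.tensorMod (FlatMod.freeMod A.left r)
      (CohB1.tensorMod ((Scheme.Modules.pullback h.left).obj G) (CohB1.tensorPow L' n)) :=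
    M2.pullTensorIso _ _ _ ≪≫ M2.tensorIso (Iso.refl _) eW ≪≫ (M2.tensorAssoc _ _ _).symm ≪≫
      M2.tensorIso (M2.tensorComm _ _) (Iso.refl _) ≪≫ M2.tensorAssoc _ _ _
  have hmul := hgen_pullback_pow hφ hP hξ hg (CohFound.isCoh_tensor hG hWc) j n hn
  rw [hgen_congr e, hgen_free_tensor hP hR, hgW] at hmul
  have hχ : @Curv2.euler k _ A.left ⟨A.hom⟩ (CohB1.tensorPow L n) = (r : ℤ) := by
    rw [hr]
    exact (finrank_HH_zero_eq_euler (k := k) fun p hp => MumVan22.subsingleton_of_isAmple hLn hp).symm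
  rw [hχ]
  exact_mod_cast hmul


end Groth.Agent.FMHyp13

end
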