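import Groth.Agent.Lib.FMBase13.Inversion
import Groth.Agent.Lib.RRKL13.RR

/-!
# A module with the properties of a Poincaré module has them in both variables
-/

universe u

open CategoryTheory Limits MonoidalCategory CartesianMonoidalCategory AlgebraicGeometry
open scoped MonObj GrpObj

set_option linter.style.haveILetI false
set_option linter.unusedSectionVars false
set_option maxHeartbeats 1600000
set_option backward.isDefEq.respectTransparency false
set_option backward.isDefEq.respectTransparency.types false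

noncomputable section

namespace Groth.Agent.FMHyp13

open Groth.Agent.AlgEquiv22 Groth.Agent.AbDual21 Groth.Agent.PicDesc21

noncomputable local instance instLawSwapLike (Y : Scheme.{u}) : PicGrp.Law Y := M2.law Y

variable {k : Type u} [Field k] [IsAlgClosed k] {A Q : Over (Spec (CommRingCat.of k))} [GrpObj A] [GrpObj Q]
  [IsProper A.hom] [GeometricallyIntegral A.hom] [IsCommMonObj A] [IsProper Q.hom] [GeometricallyIntegral Q.hom]

/-- The properties pass to the swapped module. -/
theorem isPLike_swap {P : (PicF.XT A.hom Q).Modules} (hP : PicF.IsInvertible P) (hD : Poinc13.IsPLike A Q P)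
    (hdim : topologicalKrullDim Q.left ≤ topologicalKrullDim A.left) {g : ℕ} (hg : topologicalKrullDim A.left = g) :
    Poinc13.IsPLike Q A (FMBase13.swP P) := by
  let p : PicLoc.PicSet (A ⊗ Q).left := PicGrp.cls P hP
  let p' : PicLoc.PicSet (Q ⊗ A).left := pb (AbDual22.sw Q A) p
  have hsw : ∀ {V : Over (Spec (CommRingCat.of k))} (a : V ⟶ Q) (b : V ⟶ A),
      lift a b ≫ AbDual22.sw Q A = lift b a := fun a b => by
    apply CartesianMonoidalCategory.hom_ext <;> simp [AbDual22.sw]
  have hp' : ∀ {V : Over (Spec (CommRingCat.of k))} (a : V ⟶ Q) (b : V ⟶ A), pb (lift a b) p' = pb (lift b a) p :=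
    fun a b => by rw [pb_pb, hsw]
  have hval : ∀ {V : Over (Spec (CommRingCat.of k))} (w : V ⟶ Q ⊗ A),
      PicF.pullCl w.left (PicF.cl (FMBase13.swP P)) = (pb w p').1 := fun w => by
    simp only [p', p, pb, PicGrp.pullHom_cls]
    rfl
  have hl : ∀ {V : Over (Spec (CommRingCat.of k))} (f g : V ⟶ A) (t : V ⟶ Q),
      pb (lift (f * g) t) p = pb (lift f t) p * pb (lift g t) p := fun f g t =>
    Subtype.ext ((hD.mul f g t).trans (PicGrp.mul_val (pb (lift f t) p) (pb (lift g t) p)).symm)
  have h0 : ∀ {V : Over (Spec (CommRingCat.of k))} (t : V ⟶ Q), pb (lift (1 : V ⟶ A) t) p = 1 := fun t => by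
    have h := hl 1 1 t
    rw [_root_.one_mul] at h
    exact left_eq_mul.1 h
  have ho : ∀ {V : Over (Spec (CommRingCat.of k))} (f : V ⟶ A), pb (lift f (1 : V ⟶ Q)) p = 1 := fun {V} f => by
    have h1 : pb (A ◁ (1 : V ⟶ Q)) p = 1 := Subtype.ext (((hD.triv (1 : V ⟶ Q)).2 rfl).trans PicGrp.one_val.symm)
    rw [show lift f (1 : V ⟶ Q) = lift f (𝟙 V) ≫ A ◁ (1 : V ⟶ Q) by
      apply CartesianMonoidalCategory.hom_ext <;> simp, ← pb_pb, h1, map_one]
  have hr : ∀ {V : Over (Spec (CommRingCat.of k))} (f : V ⟶ A) (t t' : V ⟶ Q),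
      pb (lift f (t * t')) p = pb (lift f t) p * pb (lift f t') p := fun f t t' => by
    haveI : IsCommMonObj Q := isCommMonObj_of_isProper_of_geometricallyIntegral Q
    haveI : AlgebraicGeometry.IsIntegral A.left := GeometricallyIntegral.isIntegral_of_subsingleton A.hom
    have := RRKL13.add_of_normalised (A := Q) (Q := A) η[A] (p := p')
      (by rw [hp', ho]) (by rw [hp', ← Hom.one_def, h0]) t t' f
    rwa [hp', hp', hp'] at this
  refine ⟨fun {V} t t' f => ?_, fun {T} q => ?_, hdim⟩
  · rw [hval, hval, hval, hp', hp', hp', hr, PicGrp.mul_val]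
  · rw [hval, show (triv Q T) = (1 : PicLoc.PicSet (Q ⊗ T).left).1 from PicGrp.one_val.symm]
    constructor
    · intro h
      replace h : pb (Q ◁ q) p' = 1 := Subtype.ext h
      rw [show Q ◁ q = lift (fst Q T) (snd Q T ≫ q) by apply CartesianMonoidalCategory.hom_ext <;> simp, hp'] at h
      haveI : IsProper (A ⊗ Q).hom := inferInstanceAs (IsProper (pullback.fst A.hom Q.hom ≫ A.hom))
      haveI : GeometricallyIntegral (A ⊗ Q).hom := AbRigid.geometricallyIntegral_tensorObj A Q
      obtain ⟨G, hG⟩ := Index22.exists_dim (A := A ⊗ Q)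
      have hz : ThetaGrp.IsMumfordTriv (A ⊗ Q) P (lift q (1 : T ⟶ Q)) := by
        refine (CubeField.isMumfordTriv_iff hP _).2 ?_
        have hPp : ∀ {V : Over (Spec (CommRingCat.of k))} (f : V ⟶ A ⊗ Q),
            CubeField.P P hP f = pb (lift (f ≫ fst A Q) (f ≫ snd A Q)) p := fun f => by
          rw [show lift (f ≫ fst A Q) (f ≫ snd A Q) = f by apply CartesianMonoidalCategory.hom_ext <;> simp]
          exact (PicGrp.pullHom_cls _ _ _ _).symm
        simp only [hPp, MonObj.mul_comp, Category.assoc, lift_fst, lift_snd, MonObj.comp_one, _root_.mul_one]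
        rw [hl, ho, _root_.mul_one]
        have h' := congrArg (pb (lift (fst (A ⊗ Q) T ≫ snd A Q) (snd (A ⊗ Q) T))) h
        rw [pb_pb, map_one, comp_lift, lift_snd_assoc, lift_fst] at h'
        rw [h', _root_.mul_one]
      have he : @Curv2.euler k _ (A ⊗ Q).left ⟨(A ⊗ Q).hom⟩ P ^ 2 = 1 := by
        rw [RRKL13.euler_pLike hP hD hg, ← pow_mul, mul_comm, pow_mul, neg_one_sq, one_pow]
      have h1 := congrArg (· ≫ fst A Q) (FMBase13.eq_one_of_euler_sq hG hP he _ hz)
      simpa [MonObj.one_comp] using h1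
    · rintro rfl
      rw [show Q ◁ (1 : T ⟶ A) = lift (fst Q T) 1 by
        apply CartesianMonoidalCategory.hom_ext <;> simp [MonObj.comp_one], hp', h0]

end Groth.Agent.FMHyp13

end
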