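import Groth.Agent.Lib.FMHyp13.DualPush
import Groth.Agent.Lib.FMBase13.Inversion
import Groth.Agent.Lib.FMHyp13.SwapLike
import Groth.Agent.S12016
import Groth.Agent.Lib.BC8.SmoothShriek
import Groth.Agent.Lib.HodgeDim13.Hodge
import Groth.Agent.Lib.SmDim19.RelDimVariety
import Groth.Agent.Lib.KModel5.Main
import Groth.Agent.Lib.TensorMod.Invertible

/-!
# The derived dual of the skyscraper at the origin of an abelian variety
-/

set_option autoImplicit false
set_option linter.style.haveILetI false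
set_option linter.unusedSectionVars false
set_option backward.isDefEq.respectTransparency false
set_option backward.isDefEq.respectTransparency.types false
set_option maxHeartbeats 1600000

universe u

open CategoryTheory CategoryTheory.Limits MonoidalCategory CartesianMonoidalCategory AlgebraicGeometry
open scoped MonObj GrpObj

attribute [local instance] HasDerivedCategory.standard

noncomputable section

namespace Groth.Agent.FMHyp13.UnitDual

open Groth.Agent.AbDual21 Groth.Agent.PicDesc21 Groth.Agent.AgPol22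
open DMon9 DBC9 TwistBC9 FMBase13 FMAdj9

attribute [local instance] DBC9.hasRpush

noncomputable local instance instLawUnitDual (Y : Scheme.{u}) : PicGrp.Law Y := M2.law Y

/-- The inverse of a module with the properties of a Poincaré module has them too. -/
theorem isPLike_inv {S : Scheme.{u}} {A Q : Over S} [GrpObj A] [GrpObj Q] {P P' : (PicF.XT A.hom Q).Modules}
    (hP : PicF.IsInvertible P) (hP' : PicF.IsInvertible P')
    (h : Nonempty (CohB1.tensorMod P P' ≅ Coh.structureModule (PicF.XT A.hom Q)))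
    (hD : Poinc13.IsPLike A Q P) : Poinc13.IsPLike A Q P' := by
  have hinv : PicGrp.cls P' hP' = (PicGrp.cls P hP)⁻¹ := (PicGrp.cls_inv_eq_cls hP hP' h).symm
  refine ⟨fun {V} f g t => ?_, fun {T} q => ?_, hD.dim⟩
  · let r : (V ⟶ A) → (PicLoc.PicSet (PicF.XT A.hom Q) →* PicLoc.PicSet V.left) := fun f =>
      PicGrp.pullHom (lift f t).left (M2.pullMul _)
    have h1 : r (f * g) (PicGrp.cls P hP) = r f (PicGrp.cls P hP) * r g (PicGrp.cls P hP) :=
      Subtype.ext ((hD.mul f g t).trans (PicGrp.mul_val (r f (PicGrp.cls P hP)) (r g (PicGrp.cls P hP))).symm)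
    have h2 : r (f * g) (PicGrp.cls P' hP') = r f (PicGrp.cls P' hP') * r g (PicGrp.cls P' hP') := by
      rw [hinv, map_inv, map_inv, map_inv, h1, mul_inv]
    exact (congrArg Subtype.val h2).trans (PicGrp.mul_val _ _)
  · let r := PicGrp.pullHom (A ◁ q).left (M2.pullMul (A ◁ q).left)
    rw [← hD.triv q]
    have hr : ∀ (M : (PicF.XT A.hom Q).Modules) (hM : PicF.IsInvertible M),
        PicF.pullCl (A ◁ q).left (PicF.cl M) = triv A T ↔ r (PicGrp.cls M hM) = 1 := fun M hM =>
      ⟨fun hh => Subtype.ext (hh.trans PicGrp.one_val.symm), fun hh => (congrArg Subtype.val hh).trans PicGrp.one_val⟩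
    rw [hr P' hP', hr P hP, hinv, map_inv, inv_eq_one]

variable {k : Type u} [Field k]

/-- The twisted inverse image of the field to an abelian variety is the structure sheaf shifted. -/
theorem nonempty_dualizing_structure [IsAlgClosed k] (B : Over (Spec (CommRingCat.of k))) [GrpObj B] [IsProper B.hom]
    [Smooth B.hom] [GeometricallyConnected B.hom] {g : ℕ} (hg : topologicalKrullDim B.left = g)
    {ha : DCoh.RpushPreservesQCoh B.hom} {adx : DCoh.DQCoh (Spec (CommRingCat.of k)) ⥤ DCoh.DQCoh B.left}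
    (adj : DCoh.RpushQ B.hom ha ⊣ adx) :
    Nonempty ((adx.obj (BC8.oQ (Spec (CommRingCat.of k)))).obj ≅
      (DCoh.inD B.left (Coh.structureModule B.left))⟦(g : ℤ)⟧) := by
  haveI : GeometricallyIntegral B.hom := AbRigid.geometricallyIntegral_of_smooth B
  haveI : ConnectedSpace B.left := GeometricallyConnected.connectedSpace_of_subsingleton B.hom
  haveI := AbRigid.irreducibleSpace_of_isAlgClosed B
  haveI := SmDim19.smoothOfRelativeDimension_of_smooth (f := B.hom) g hg
  haveI : IsNoetherian (Spec (CommRingCat.of k)) := inferInstance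
  obtain ⟨e, he⟩ := HodgeDim13.exists_isBas_omega k B hg
  obtain ⟨L, -, hL⟩ := KModel5.hasExt B.left g (Omega.sheaf B.hom)
    (M2.isFinLocFree_of_iso (CurveCoh17.nonempty_iso_freeMod_of_isBas he).some (KFlat.Sch.isFinLocFree_freeMod _ _))
  obtain ⟨i⟩ := HodgeDim13.nonempty_iso_freeMod_extPow hL he
  let iL : L ≅ Coh.structureModule B.left :=
    i.symm ≪≫ eqToIso (by rw [Nat.choose_self]) ≪≫ M2.freeModOneIso B.left
  obtain ⟨F⟩ := BC8.nonempty_smooth_shriek B.hom g B.hom (𝟙 B.left) (Category.id_comp _) adj L hL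
  exact ⟨((lPId B.left).app _).symm ≪≫ F ≪≫
    (shiftFunctor _ (g : ℤ)).mapIso ((DerivedCategory.singleFunctor B.left.Modules 0).mapIso iL)⟩

variable {A : Over (Spec (CommRingCat.of k))} [GrpObj A]
  [IsProper A.hom] [Smooth A.hom] [GeometricallyConnected A.hom] {g : ℕ} (hg : topologicalKrullDim A.left = g)

/-- The skyscraper at the origin. -/
abbrev skyD (A : Over (Spec (CommRingCat.of k))) [GrpObj A] : DCoh.D A.left :=
  (DCoh.Rpush η[A].left).obj ((DerivedCategory.singleFunctor (Spec (CommRingCat.of k)).Modules 0).obj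
    (Coh.structureModule (Spec (CommRingCat.of k))))

/-- The skyscraper at the origin, in the monoidal category. -/
abbrev skyM (A : Over (Spec (CommRingCat.of k))) [GrpObj A] : DM A.left := skyD A

include hg in
/-- The dual of the skyscraper at the origin is the skyscraper in degree `g`. -/
theorem exists_dual_sky [IsAlgClosed k] :
    ∃ (D : DM A.left) (_ : ExactPairing (skyM A) D),
      Nonempty (@Iso (DCoh.D A.left) _ D ((shiftFunctor (DCoh.D A.left) (-(g : ℤ))).obj (skyD A))) := by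
  haveI : GeometricallyIntegral A.hom := AbRigid.geometricallyIntegral_of_smooth A
  haveI := isCommMonObj_of_isProper_of_geometricallyIntegral A
  obtain ⟨L, hLa⟩ := CubeField.exists_isAmple A
  have hLr : RelAmple.IsRelAmple A.hom L := (RA.isRelAmple_iff_isAmple A.hom).2 hLa
  have hL : PicF.IsInvertible L := RA.isInvertible_of_isRelAmple A.hom hLr
  obtain ⟨KL, iK, hK⟩ := Seesaw13.exists_isKL (A := A) hL
  haveI : IsFinite KL.hom := KLFin22.isFinite_KL L hLr KL iK hK
  obtain ⟨-, At, gQ, q₀, P, hP, -, -, hQp, hQg, hqfin, -, hqs, -, hPL, -⟩ := RRKL13.exists_pLike hL hK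
  haveI := hQp; haveI := hQg; haveI := hqfin; haveI := hqs
  haveI : Smooth At.hom := @smooth_of_grpObj k _ _ At.hom _ (show GrpObj (Over.mk At.hom) from ‹GrpObj At›) _
  haveI : GeometricallyConnected At.hom := CubeField.geometricallyConnected_of_irreducible At.hom
  have hdim : topologicalKrullDim At.left = g :=
    le_antisymm ((H12.topologicalKrullDim_le_of_surjective_of_lift q₀.left q₀.left.surjective (Or.inl q₀.left.isClosedMap.specializingMap)).trans hg.le) (hg.ge.trans hPL.dim)
  have hD := isPLike_swap hP hPL (hdim.le.trans hg.ge) hg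
  have hgt := hdim
  have hQ : PicF.IsInvertible (swP P) := PicLoc.isInvertible_pullback _ hP
  obtain ⟨Q', hQ', ⟨eQ⟩⟩ := M2.exists_inverse hQ
  have hD' := isPLike_inv hQ hQ' ⟨eQ⟩ hD
  obtain ⟨e₁⟩ := Poinc13.nonempty_rpush_origin (A := At) (At := A) hQ hD hgt
  obtain ⟨e₂⟩ := Poinc13.nonempty_rpush_origin (A := At) (At := A) hQ' hD' hgt
  let p := pullback.fst At.hom A.hom
  let q := pullback.snd At.hom A.hom
  haveI : Flat At.hom := inferInstance
  haveI : CompactSpace At.left := QuasiCompact.compactSpace_of_compactSpace At.hom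
  haveI : QuasiSeparatedSpace At.left := quasiSeparatedSpace_of_quasiSeparated At.hom
  haveI : IsLocallyNoetherian A.left := LocallyOfFiniteType.isLocallyNoetherian A.hom
  haveI : IsNoetherian (Spec (CommRingCat.of k)) := inferInstance
  let p0 : DM (pullback At.hom A.hom) := modM (swP P)
  have hp0 : DCoh.IsPerfect (p0 : DCoh.D (pullback At.hom A.hom)) :=
    DPerf.isPerfect_iff_approx.2 (DPerf.approx_inD_of_isFinLocFree (M2.isFinLocFree_of_isInvertible hQ))
  obtain ⟨Dp, hDp, ⟨pp⟩⟩ := BC8.exists_pairing_left_perfect p0 hp0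
  haveI := pp
  obtain ⟨ad⟩ := nonempty_tenAdj hQ' hQ (M2.tensorComm Q' (swP P) ≪≫ eQ)
  let eDp : Dp ≅ modM Q' := (λ_ Dp).symm ≪≫
    (((tRDAdj p0 Dp).rightAdjointUniq ad).app (𝟙_ (DM (pullback At.hom A.hom))) :) ≪≫ λ_ (modM Q')
  -- the transform of the structure sheaf
  let G : DM A.left := (shiftFunctor (DCoh.D A.left) (-(g : ℤ))).obj (skyD A)
  let one : DM At.left := 𝟙_ (DM At.left)
  let eone : (lP p ⋙ tRD p0).obj (one : DCoh.D At.left) ≅ (p0 : DCoh.D (pullback At.hom A.hom)) :=
    (whiskerRightIso (C := DM (pullback At.hom A.hom)) (Functor.Monoidal.εIso (dPull p)).symm p0 ≪≫ λ_ p0 :)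
  let e : (lP p ⋙ tRD p0 ⋙ DCoh.Rpush q).obj (one : DCoh.D At.left) ≅ (G : DCoh.D A.left) :=
    (DCoh.Rpush q).mapIso eone ≪≫ e₁
  have hG : DCoh.IsPerfect (G : DCoh.D A.left) :=
    DGen9.isPerfect_of_iso e₁ (PerfPush9.isPerfect_rpush_flat q _ hp0)
  obtain ⟨DG, hDG, ⟨pG⟩⟩ := BC8.exists_pairing_left_perfect G hG
  haveI := pG
  have ha : DCoh.RpushPreservesQCoh At.hom := fun _ h => FMAdj9.rpushPreservesQCoh At.hom h
  haveI := BC8.isLeftAdjoint_rpushQ At.hom ha
  let adj := Adjunction.ofIsLeftAdjoint (DCoh.RpushQ At.hom ha)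
  let O := BC8.oQ (Spec (CommRingCat.of k))
  obtain ⟨w⟩ := nonempty_dualizing_structure At hgt adj
  obtain ⟨main⟩ := DualPush.nonempty_dual_phi At.hom A.hom adj O
    ((DerivedCategory.singleFunctorIsoCompQ (Spec (CommRingCat.of k)).Modules 0).app _).symm p0 Dp hp0 one one
    (TwistBC9.isPerfect_oneD At.left |> DGen9.isPerfect_of_iso
      (((DerivedCategory.singleFunctorIsoCompQ At.left.Modules 0).app _) ≪≫ Iso.refl _ :)) G DG
    (DGen9.isQCohD_of_isPerfect hDG) e
  -- unwinding the right-hand side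
  obtain ⟨hps, -⟩ := DPush.exists_commShift_isTriangulated p
  letI := hps
  letI := (adjLP p).leftAdjointCommShift ℤ
  let oA : DCoh.D At.left := DCoh.inD At.left (Coh.structureModule At.left)
  let oneI : (oA : DM At.left) ≅ one := DualPush.oneIso
  let ωA : DM At.left := ((DCoh.RpushQ At.hom ha).rightAdjoint.obj O).obj
  let w' : (tRD one).obj ((DCoh.RpushQ At.hom ha).rightAdjoint.obj O).obj ≅
      (one : DCoh.D At.left)⟦(g : ℤ)⟧ :=
    (ρ_ ωA :) ≪≫ w ≪≫ (shiftFunctor (DCoh.D At.left) (g : ℤ)).mapIso (oneI :)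
  obtain ⟨t⟩ := DualPush.nonempty_shift_tRD (g : ℤ) ((lP p).obj (one : DCoh.D At.left) : DM (pullback At.hom A.hom)) Dp
  obtain ⟨r⟩ := FMBase13.nonempty_rpush_shift q (g : ℤ)
  let eone' : (tRD Dp).obj ((lP p).obj (one : DCoh.D At.left)) ≅ (Dp : DCoh.D (pullback At.hom A.hom)) :=
    (whiskerRightIso (C := DM (pullback At.hom A.hom)) (Functor.Monoidal.εIso (dPull p)).symm Dp ≪≫ λ_ Dp :)
  let eDG : (DG : DCoh.D A.left) ≅ skyD A :=
    main.symm ≪≫ (lP p ⋙ tRD Dp ⋙ DCoh.Rpush q).mapIso w' ≪≫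
      (DCoh.Rpush q).mapIso ((tRD Dp).mapIso (((lP p).commShiftIso (g : ℤ)).app _) ≪≫ t) ≪≫
      r.app _ ≪≫ (shiftFunctor (DCoh.D A.left) (g : ℤ)).mapIso
        ((DCoh.Rpush q).mapIso (eone' ≪≫ (eDp :)) ≪≫ e₂) ≪≫
      (shiftFunctorCompIsoId (DCoh.D A.left) (-(g : ℤ)) (g : ℤ) (by omega)).app _
  -- shifting the pair
  let K0 : DM A.left := skyM A
  have hK0 : DCoh.IsPerfect (K0 : DCoh.D A.left) := DGen9.isPerfect_of_iso eDG hDG
  obtain ⟨D, -, ⟨pD⟩⟩ := BC8.exists_pairing_left_perfect K0 hK0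
  haveI := pD
  refine ⟨D, pD, ?_⟩
  obtain ⟨s⟩ := FMBase13.nonempty_shift_tensor (X := A.left) (-(g : ℤ))
  rw [neg_neg] at s
  let c : (G ⊗ oneM A.left (-(g : ℤ)) : DM A.left) ≅ K0 :=
    (s.app _ ≪≫ (shiftFunctorCompIsoId (DCoh.D A.left) (-(g : ℤ)) (g : ℤ) (by omega)).app _ :)
  let eL : tRD G ⋙ shiftFunctor (DCoh.D A.left) (g : ℤ) ≅ tRD K0 :=
    Functor.isoWhiskerLeft _ s.symm ≪≫ tRDComp G (oneM A.left (-(g : ℤ))) ≪≫ tRDMap c
  let A₁ := ((tRDAdj G DG).comp (shiftEquiv (DCoh.D A.left) (g : ℤ)).toAdjunction).ofNatIsoLeft eL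
  let uA : DM A.left := 𝟙_ (DM A.left)
  obtain ⟨t'⟩ := DualPush.nonempty_shift_tRD (-(g : ℤ)) uA DG
  exact ⟨((λ_ D).symm :) ≪≫ ((tRDAdj K0 D).rightAdjointUniq A₁).app (uA : DCoh.D A.left) ≪≫ t' ≪≫
    (shiftFunctor (DCoh.D A.left) (-(g : ℤ))).mapIso ((λ_ DG :) ≪≫ eDG)⟩

end Groth.Agent.FMHyp13.UnitDual

end

noncomputable section

namespace Groth.Agent.FMHyp13.UnitDual

open CategoryTheory CategoryTheory.Limits MonoidalCategory CartesianMonoidalCategory AlgebraicGeometry
open scoped MonObj GrpObj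
open DMon9 DBC9 TwistBC9 FMAdj9

attribute [local instance] DBC9.hasRpush

variable {k : Type u} [Field k] (A : Over (Spec (CommRingCat.of k))) [GrpObj A] [IsSeparated A.hom]

/-- The skyscraper is a module in degree zero. -/
theorem nonempty_sky_single :
    Nonempty (skyD A ≅ (DerivedCategory.singleFunctor A.left.Modules 0).obj
      ((Scheme.Modules.pushforward η[A].left).obj (Coh.structureModule (Spec (CommRingCat.of k))))) := by
  haveI : IsClosedImmersion η[A].left := isClosedImmersion_of_comp_eq_id A.hom η[A].left (Over.w η[A])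
  exact TwistBC9.nonempty_rpush_inD_of_acyclic η[A].left (Coh.structureModule (Spec (CommRingCat.of k)))
    (M1.isQCoh_structureModule _) (DPush9.isAcyclicObj_affine _ (M1.isQCoh_structureModule _))

end Groth.Agent.FMHyp13.UnitDual

end
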