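import Groth.Agent.Lib.FMHyp13.GVDual
import Groth.Agent.Lib.FMHyp13.DualPhi
import Groth.Agent.Lib.FMHyp13.Exchange
import Groth.Agent.Lib.FMHyp13.Loci
import Groth.Agent.Lib.Exact8.FMVanish

/-!
# Generic vanishing from the vanishing of twisted hypercohomology
-/

set_option autoImplicit false
set_option linter.style.haveILetI false
set_option linter.unusedSectionVars false
set_option backward.isDefEq.respectTransparency false
set_option backward.isDefEq.respectTransparency.types false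
set_option maxHeartbeats 1600000

universe u

open CategoryTheory CategoryTheory.Limits MonoidalCategory AlgebraicGeometry

attribute [local instance] HasDerivedCategory.standard

noncomputable section

namespace Groth.Agent.FMHyp13.HyperGV

open DMon9 KFlat KFlat.Sch FMAdj9 TwistBC9

attribute [local instance] DBC9.hasRpush

variable {X Y Z : Scheme.{u}}

/-- An inverse is a dual. -/
theorem nonempty_dual_of_inverse (A D B : DM X) [ExactPairing A D] (u₁ : A ⊗ B ≅ 𝟙_ (DM X))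
    (u₂ : B ⊗ A ≅ 𝟙_ (DM X)) : Nonempty (D ≅ B) := by
  let e : DM X ≌ DM X := CategoryTheory.Equivalence.mk (tensorRight A) (tensorRight B)
    ((rightUnitorNatIso (DM X)).symm ≪≫ (MonoidalCategory.tensoringRight (DM X)).mapIso u₁.symm ≪≫
      tensorRightTensor A B)
    ((tensorRightTensor B A).symm ≪≫ (MonoidalCategory.tensoringRight (DM X)).mapIso u₂ ≪≫
      rightUnitorNatIso (DM X))
  let r := ((tensorRightAdjunction A D).rightAdjointUniq e.toAdjunction).app (𝟙_ (DM X))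
  exact ⟨(λ_ D).symm ≪≫ r ≪≫ λ_ B⟩

/-- One side of the exchange, for a quasi-coherent twist. -/
theorem nonempty_side_qc (p : Z ⟶ X) (q : Z ⟶ Y) [QuasiCompact p] [QuasiSeparated p] [DCoh.HasRpush p] [DCoh.HasLpull q]
    [DCoh.HasRΓ X] [DCoh.HasRΓ Z]
    (P : CochainComplex Z.Modules ℤ) [DCoh.HasLTensorCx P] (P' : KF Z) (F' : KF Y) (E' : KF X)
    (hP : ∀ A : DCoh.D Z, Nonempty ((DCoh.LTensorCx P).obj A ≅ (tR P').obj A))
    (hE : DCoh.IsQCohD ((qK X).obj E'))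
    (hG : DCoh.IsQCohD ((DCoh.LTensorCx P).obj ((DCoh.Lpull q).obj ((qK Y).obj F')))) :
    Nonempty ((DCoh.RΓ X).obj ((tR E').obj ((DCoh.Rpush p).obj ((DCoh.LTensorCx P).obj
        ((DCoh.Lpull q).obj ((qK Y).obj F'))))) ≅
      (DCoh.RΓ Z).obj (((qM Z).obj ((kfPull q).obj F') ⊗ (qM Z).obj P') ⊗ (qM Z).obj ((kfPull p).obj E') : DM Z)) := by
  haveI := KFlat.Sch.hasLTensorCx E'.obj
  haveI : DCoh.HasLTensorCx ((kfPull p).obj E').obj := KFlat.Sch.hasLTensorCx _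
  haveI : DCoh.HasLpull p := KFlat.Sch.hasLpull p
  obtain ⟨l⟩ := nonempty_lpull_iso_lP q ((qK Y).obj F')
  obtain ⟨lp⟩ := nonempty_lpull_iso_lP p ((qK X).obj E')
  obtain ⟨h⟩ := hP ((DCoh.Lpull q).obj ((qK Y).obj F'))
  let G := (DCoh.LTensorCx P).obj ((DCoh.Lpull q).obj ((qK Y).obj F'))
  obtain ⟨j⟩ := DMon9.nonempty_projection_qc p G hG E'.obj hE ((kfPull p).obj E').obj
    ⟨(lp ≪≫ (lPFac p).app E').symm⟩
  obtain ⟨r⟩ := DMV.nonempty_rGamma_rpush p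
  let g : G ≅ (((qM Z).obj ((kfPull q).obj F') ⊗ (qM Z).obj P' : DM Z) : DCoh.D Z) :=
    h ≪≫ (tR P').mapIso (l ≪≫ (lPFac q).app F')
  exact ⟨(DCoh.RΓ X).mapIso ((theta E').app _ ≪≫ j ≪≫
    (DCoh.Rpush p).mapIso (((theta ((kfPull p).obj E')).app G).symm ≪≫ (tR ((kfPull p).obj E')).mapIso g)) ≪≫
      r.app _⟩

/-- The exchange, one of the objects being only quasi-coherent. -/
theorem nonempty_swap_qc (p : Z ⟶ X) (q : Z ⟶ Y) [QuasiCompact q] [QuasiSeparated q] [DCoh.HasRpush p]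
    [DCoh.HasRpush q] [DCoh.HasLpull p]
    [DCoh.HasLpull q] [DCoh.HasRΓ X] [DCoh.HasRΓ Y] (P : CochainComplex Z.Modules ℤ) [DCoh.HasLTensorCx P]
    (E : CochainComplex X.Modules ℤ) (hE : DCoh.IsPerfect (DCoh.toD X E)) [DCoh.HasLTensorCx E]
    (F : CochainComplex Y.Modules ℤ) (hF : DCoh.IsQCohD (DCoh.toD Y F)) [DCoh.HasLTensorCx F]
    (hG : DCoh.IsQCohD ((DCoh.LTensorCx P).obj ((DCoh.Lpull p).obj (DCoh.toD X E)))) :
    Nonempty ((DCoh.RΓ X).obj ((DCoh.LTensorCx E).obj ((DCoh.Rpush p).obj ((DCoh.LTensorCx P).obj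
        ((DCoh.Lpull q).obj (DCoh.toD Y F))))) ≅
      (DCoh.RΓ Y).obj ((DCoh.LTensorCx F).obj ((DCoh.Rpush q).obj ((DCoh.LTensorCx P).obj
        ((DCoh.Lpull p).obj (DCoh.toD X E)))))) := by
  haveI : DCoh.HasRΓ Z := KInjLib.hasRightDerivedFunctor KInjLib.enoughKInj_of_grothendieck _
  obtain ⟨P', -, hP'⟩ := DMon9.nonempty_ltensor_iso P
  obtain ⟨E', ⟨eE⟩, hE'⟩ := DMon9.nonempty_ltensor_iso E
  obtain ⟨F', ⟨eF⟩, hF'⟩ := DMon9.nonempty_ltensor_iso F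
  obtain ⟨s⟩ := Exact8.FMSwap.nonempty_side p q P P' F' E' hP' (DGen9.isPerfect_of_iso eE.symm hE)
  obtain ⟨t⟩ := nonempty_side_qc q p P P' E' F' hP' (DQC.isQCohD_of_iso eF.symm hF)
    (DQC.isQCohD_of_iso ((DCoh.Lpull p ⋙ DCoh.LTensorCx P).mapIso eE.symm) hG)
  let Ez := (kfPull p).obj E'
  let Fz := (kfPull q).obj F'
  haveI := KFlat.Sch.hasLTensorCx Fz.obj
  haveI := KFlat.Sch.hasLTensorCx P'.obj
  obtain ⟨cF⟩ := DMon9.nonempty_commIso Fz
  obtain ⟨cP⟩ := DMon9.nonempty_commIso P'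
  let w₁ : ((qM Z).obj Fz ⊗ ((qM Z).obj P' ⊗ (qM Z).obj Ez) : DM Z) ≅
      (((qM Z).obj P' ⊗ (qM Z).obj Ez) ⊗ (qM Z).obj Fz : DM Z) := cF.app _
  let w₂ : ((qM Z).obj P' ⊗ (qM Z).obj Ez : DM Z) ≅ ((qM Z).obj Ez ⊗ (qM Z).obj P' : DM Z) := cP.app _
  let w : (((qM Z).obj Fz ⊗ (qM Z).obj P') ⊗ (qM Z).obj Ez : DM Z) ≅
      (((qM Z).obj Ez ⊗ (qM Z).obj P') ⊗ (qM Z).obj Fz : DM Z) := α_ _ _ _ ≪≫ w₁ ≪≫ whiskerRightIso w₂ _
  obtain ⟨a⟩ := hE' ((DCoh.Rpush p).obj ((DCoh.LTensorCx P).obj ((DCoh.Lpull q).obj (DCoh.toD Y F))))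
  obtain ⟨b⟩ := hF' ((DCoh.Rpush q).obj ((DCoh.LTensorCx P).obj ((DCoh.Lpull p).obj (DCoh.toD X E))))
  exact ⟨(DCoh.RΓ X).mapIso (a ≪≫ (DCoh.Lpull q ⋙ DCoh.LTensorCx P ⋙ DCoh.Rpush p ⋙ tR E').mapIso eF.symm) ≪≫ s ≪≫
    (DCoh.RΓ Z).mapIso w ≪≫ t.symm ≪≫ (DCoh.RΓ Y).mapIso
      ((DCoh.Lpull p ⋙ DCoh.LTensorCx P ⋙ DCoh.Rpush q ⋙ tR F').mapIso eE ≪≫ b.symm)⟩

/-- On the spectrum of a field, hypercohomology and cohomology sheaves vanish together. -/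
theorem isZero_rGamma_point {S : Scheme.{u}} [Subsingleton S] [DCoh.HasRΓ S] (G : DCoh.D S) (a : ℤ) [G.IsGE a] (i : ℤ)
    (h : IsZero (DCoh.HD G i)) :
    IsZero ((DerivedCategory.homologyFunctor AddCommGrpCat.{u} i).obj ((DCoh.RΓ S).obj G)) := by
  refine FMHyp13.isZero_rGamma _ a i fun l p hlp => ?_
  rcases Nat.eq_zero_or_pos p with rfl | hp
  · rw [show l = i by simpa using hlp]
    have hz := (CohFound.abF _).map_isZero h
    exact subsingleton_of_forall_eq 0 fun ξ => by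
      rw [← CohFound.mp_id _ 0 ⊤ ξ, hz.eq_of_src (𝟙 _) 0, CohFound.mp_zero]
  · haveI : Subsingleton (TopologicalSpace.IrreducibleCloseds S) := ⟨fun c d => by
      obtain ⟨x, hx⟩ := c.2.nonempty
      obtain ⟨w, hw⟩ := d.2.nonempty
      exact TopologicalSpace.IrreducibleCloseds.ext (Set.ext fun z =>
        ⟨fun _ => Subsingleton.elim w z ▸ hw, fun _ => Subsingleton.elim x z ▸ hx⟩)⟩
    exact FMHyp13.subsingleton_hc_of_dim_stalk (d := 0) Order.krullDim_nonpos_of_subsingleton _ 0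
      (fun x _ => by exact_mod_cast ringKrullDim_nonneg_of_nontrivial) p hp

variable {k : Type u} [Field k]

/-- Vanishing of the hypercohomology of a perfect object from that of its dual twisted by the dualizing module. -/
theorem isZero_rGamma_of_dual (b : Y ⟶ Spec (CommRingCat.of k)) [IsProper b]
    (hYcm : ∀ y : Y, LocCoh.IsCohenMacaulayLocalRing (Y.presheaf.stalk y)) (g : ℕ)
    (hYeq : ∀ Z ∈ irreducibleComponents Y, topologicalKrullDim ↥Z = (g : WithBot ℕ∞))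
    [DCoh.HasRpush b] (hb : DCoh.RpushPreservesQCoh b)
    {bdx : DCoh.DQCoh (Spec (CommRingCat.of k)) ⥤ DCoh.DQCoh Y} (adj : DCoh.RpushQ b hb ⊣ bdx)
    (O : DCoh.DQCoh (Spec (CommRingCat.of k)))
    (eO : O.obj ≅ DCoh.inD (Spec (CommRingCat.of k)) (Coh.structureModule (Spec (CommRingCat.of k))))
    [DCoh.HasRΓ Y] (K D : DM Y) [ExactPairing K D] (hK : DCoh.IsPerfect (K : DCoh.D Y))
    (hD : DCoh.IsPerfect (D : DCoh.D Y)) (l : ℤ)
    (h : IsZero ((DerivedCategory.homologyFunctor AddCommGrpCat.{u} ((g : ℤ) - l)).obj ((DCoh.RΓ Y).obj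
      ((modM (DCoh.HD (bdx.obj O).obj (-(g : ℤ))) ⊗ D : DM Y) : DCoh.D Y)))) :
    IsZero ((DerivedCategory.homologyFunctor AddCommGrpCat.{u} l).obj ((DCoh.RΓ Y).obj (K : DCoh.D Y))) := by
  haveI : IsLocallyNoetherian Y := LocallyOfFiniteType.isLocallyNoetherian b
  haveI : Flat b := inferInstance
  haveI : CompactSpace Y := QuasiCompact.compactSpace_of_compactSpace b
  haveI : QuasiSeparatedSpace Y := quasiSeparatedSpace_of_quasiSeparated b
  let S := Spec (CommRingCat.of k)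
  haveI : Subsingleton S := inferInstanceAs (Subsingleton (PrimeSpectrum k))
  haveI : DCoh.HasRΓ S := KInjLib.hasRightDerivedFunctor KInjLib.enoughKInj_of_grothendieck _
  obtain ⟨ew⟩ := DualPhi.nonempty_dualizing_iso b hYcm g hYeq hb bdx adj O eO
  let w : DM Y := (bdx.obj O).obj
  let G : DM S := (DCoh.Rpush b).obj (K : DCoh.D Y)
  have hG : DCoh.IsPerfect (G : DCoh.D S) := PerfPush9.isPerfect_rpush_flat b _ hK
  obtain ⟨DG, hDG, ⟨pG⟩⟩ := BC8.exists_pairing_left_perfect G hG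
  haveI := pG
  obtain ⟨r⟩ := DualPush.nonempty_dual_rpush b adj O eO w (Iso.refl _) K D (DGen9.isQCohD_of_isPerfect hK)
    (DGen9.isQCohD_of_isPerfect hD) G DG (DGen9.isQCohD_of_isPerfect hDG) (Iso.refl _)
  obtain ⟨rb⟩ := DMV.nonempty_rGamma_rpush b
  obtain ⟨c₁, hc₁⟩ := DPerf.exists_isGE_of_perfect hDG
  haveI := hc₁
  obtain ⟨c₂, hc₂⟩ := DPerf.exists_isGE_of_perfect hG
  haveI := hc₂
  let wm : DM Y := modM (DCoh.HD (bdx.obj O).obj (-(g : ℤ)))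
  obtain ⟨s⟩ := DualPush.nonempty_shift_tRD (g : ℤ) wm D
  let wmD : DCoh.D Y := (wm ⊗ D : DM Y)
  let wD : DCoh.D Y := (w ⊗ D : DM Y)
  let e : wD ≅ wmD⟦(g : ℤ)⟧ :=
    (tRD D).mapIso ew ≪≫ s
  obtain ⟨sh⟩ := FMHyp13.nonempty_rGamma_shift wmD (g : ℤ) (-l) ((g : ℤ) - l) (by ring)
  have h1 : IsZero ((DerivedCategory.homologyFunctor AddCommGrpCat.{u} (-l)).obj ((DCoh.RΓ S).obj (DG : DCoh.D S))) :=
    ((h.of_iso sh).of_iso ((DerivedCategory.homologyFunctor AddCommGrpCat.{u} (-l)).mapIso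
      ((DCoh.RΓ Y).mapIso e))).of_iso ((DerivedCategory.homologyFunctor AddCommGrpCat.{u} (-l)).mapIso
        ((DCoh.RΓ S).mapIso r.symm ≪≫ rb.app _))
  have h2 : IsZero (DCoh.HD (DG : DCoh.D S) (-l)) := FMHyp13.isZero_HD_of_point _ c₁ (-l) h1
  have h3 : IsZero (DCoh.HD (G : DCoh.D S) l) := PointDual.isZero_dual' (Field.toIsField k) G DG
    (DGen9.isQCohD_of_isPerfect hG) (DGen9.isQCohD_of_isPerfect hDG) l h2
  exact (isZero_rGamma_point _ c₂ l h3).of_iso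
    ((DerivedCategory.homologyFunctor AddCommGrpCat.{u} l).mapIso (rb.app (K : DCoh.D Y)).symm)

end Groth.Agent.FMHyp13.HyperGV

end
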