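import Groth.Agent.Lib.FMHyp13.TwistArith
import Groth.Agent.Lib.FMHyp13.ExactHD
import Groth.Agent.Lib.FMHyp13.LocFreeDual
import Groth.Agent.Lib.FMBase13.Lambda
import Groth.Agent.Lib.Index22.Descend
import Groth.Agent.Lib.NS22.Endo
import Groth.Agent.Lib.HypSq10.Surface
import Groth.Agent.Lib.KS29.SBForms
import Groth.Agent.Lib.CurveAmple18.EulerTensor
import Groth.Agent.Lib.ProjDual12.Support
import Groth.Agent.Lib.Depth.CM
import Groth.Agent.Lib.FMHyp13.UnitDual
import Groth.Agent.Lib.CBC10.RpushTilde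
import Groth.Agent.S16380

/-!
# Generic vanishing from the vanishing of small positive twists
-/

set_option autoImplicit false
set_option linter.style.haveILetI false
set_option linter.unusedSectionVars false
set_option backward.isDefEq.respectTransparency false
set_option backward.isDefEq.respectTransparency.types false
set_option maxHeartbeats 3200000

universe u

open CategoryTheory CategoryTheory.Limits MonoidalCategory CartesianMonoidalCategory AlgebraicGeometry
open TopologicalSpace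
open scoped MonObj GrpObj

attribute [local instance] HasDerivedCategory.standard

noncomputable section

namespace Groth.Agent.FMHyp13

open DMon9 DBC9 TwistBC9 FMBase13 Groth.Agent Groth.Agent.RosTrace22

attribute [local instance] DBC9.hasRpush

noncomputable local instance instLawGVLimit (Y : Scheme.{u}) : PicGrp.Law Y := M2.law Y

variable {k : Type u} [Field k]

/-- Powers of an inverse are inverse to the powers. -/
theorem nonempty_tensorPow_inverse {X : Scheme.{u}} {L L' : X.Modules}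
    (hLL' : Nonempty (CohB1.tensorMod L L' ≅ Coh.structureModule X)) (n : ℕ) :
    Nonempty (CohB1.tensorMod (CohB1.tensorPow L n) (CohB1.tensorPow L' n) ≅ Coh.structureModule X) :=
  hLL'.map fun e => (M2.tensorPowMul L L' n).symm ≪≫ M2.tensorPowIso e n ≪≫ NumPoly18.powUnitIso n

/-- A negative power of an ample module has cohomology in the top degree only. -/
theorem subsingleton_negative_power [IsAlgClosed k] {A : Over (Spec (CommRingCat.of k))} [GrpObj A] [IsProper A.hom]
    [GeometricallyIntegral A.hom] {g : ℕ} (hg : topologicalKrullDim A.left = g) {L L' : A.left.Modules}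
    (hL : CohB1.IsAmple L) (hLL' : Nonempty (CohB1.tensorMod L L' ≅ Coh.structureModule A.left)) {n : ℕ} (hn : 0 < n)
    (j : ℕ) (hj : j ≠ g) : Subsingleton (Coh.HH A.left (CohB1.tensorPow L' n) j) := by
  have ha : CohB1.IsAmple (CohB1.tensorPow L n) := (Amp.isAmple_tensorPow_iff hL.1 hn).2 hL
  obtain ⟨-, h⟩ := Index22.conc_inverse_field hg ha.1 (nonempty_tensorPow_inverse hLL' n)
    (i := 0) ⟨fun j hj => MumVan22.subsingleton_of_isAmple ha (Nat.pos_of_ne_zero hj),
      MumVan22.nontrivial_of_isAmple ha⟩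
  exact h.1 j (by simpa using hj)

/-- A coherent module on the spectrum of a field is free. -/
theorem exists_free_point {M : (Spec (CommRingCat.of k)).Modules} (hM : Coh.IsCoh M) :
    ∃ r, Nonempty (M ≅ FlatMod.freeMod (Spec (CommRingCat.of k)) r) := by
  haveI : Subsingleton (Spec (CommRingCat.of k)) := inferInstanceAs (Subsingleton (PrimeSpectrum k))
  haveI : Nonempty (Spec (CommRingCat.of k)) := inferInstanceAs (Nonempty (PrimeSpectrum k))
  haveI : IsNoetherian (Spec (CommRingCat.of k)) := inferInstance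
  refine KS29.exists_iso_freeMod_of_point fun x => ?_
  obtain ⟨U, -, hη, ⟨e⟩⟩ := CurveAmple18.exists_affine_generic_free hM
  exact ⟨U, _, Subsingleton.elim (genericPoint (Spec (CommRingCat.of k))) x ▸ hη, ⟨e.symm⟩⟩

/-- Over an affine base, vanishing cohomology gives a vanishing higher direct image. -/
theorem isZero_rpush_affine {X S : Scheme.{u}} [IsAffine S] (f : X ⟶ S) [QuasiCompact f] [QuasiSeparated f]
    [HasInjectiveResolutions X.Modules] {M : X.Modules} (hM : Coh.IsQCoh M) (p : ℕ)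
    [h : Subsingleton (Coh.HH X M p)] : IsZero ((Coh.Rpush f p).obj M) := by
  let hU := isAffineOpen_top S
  letI := CBC10.overU f hU
  obtain ⟨e⟩ := CBC10.nonempty_rpush_restrict_iso_tilde f hM p hU
  have hs : Subsingleton (Coh.HH (f ⁻¹ᵁ (⊤ : S.Opens)).toScheme (M.restrict (f ⁻¹ᵁ (⊤ : S.Opens)).ι) p) := by
    obtain ⟨a⟩ := CohFound.nonempty_hc_abF_restrict (f ⁻¹ᵁ (⊤ : S.Opens)).ι M p ⊤
    rw [Scheme.Opens.ι_image_top] at a
    exact (CohFound.subsingleton_HH_iff _ _).2
      (@Equiv.subsingleton _ _ a.toEquiv ((CohFound.subsingleton_HH_iff _ _).1 h))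
  have hz := ((tilde.functor (CommRingCat.of Γ(S, ⊤))).map_isZero (ModuleCat.isZero_of_subsingleton
    (ModuleCat.of Γ(S, ⊤) (Coh.HH (f ⁻¹ᵁ (⊤ : S.Opens)).toScheme (M.restrict (f ⁻¹ᵁ (⊤ : S.Opens)).ι) p)))).of_iso e
  haveI : IsIso hU.fromSpec := by
    rw [← IsAffineOpen.isoSpec_inv_ι hU]
    haveI : IsIso (⊤ : S.Opens).ι := inferInstanceAs (IsIso S.topIso.hom)
    infer_instance
  let R := (Coh.Rpush f p).obj M
  exact ((Scheme.Modules.pullback (inv hU.fromSpec)).map_isZero (hz.of_iso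
      ((Scheme.Modules.restrictFunctorIsoPullback hU.fromSpec).app R).symm)).of_iso
    (((Scheme.Modules.pullbackComp _ _).app R ≪≫ (Scheme.Modules.pullbackCongr (IsIso.inv_hom_id _)).app R ≪≫
      (Scheme.Modules.pullbackId S).app R).symm)

/-- The derived tensor product with a module is the monoidal twist. -/
theorem nonempty_LTCx_tenF {X : Scheme.{u}} (M : X.Modules) [DCoh.HasLTensorCx (Exact8.FMVanish.sgl M)] :
    Nonempty (DCoh.LTensorCx (Exact8.FMVanish.sgl M) ≅ tenF M) := by
  obtain ⟨t⟩ := FMAdj9.nonempty_ltIso (Exact8.FMVanish.sgl M)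
  exact ⟨t ≪≫ ((MonoidalCategory.tensoringRight (DM X)).mapIso
    (((DerivedCategory.singleFunctorIsoCompQ X.Modules 0).app M).symm : _) :)⟩

/-- Cohomology of a concentrated twist. -/
theorem isZero_rGamma_tenF_concentrated {X : Scheme.{u}} [DCoh.HasRΓ X] {G : X.Modules} (T : DCoh.D X) (g : ℕ)
    (hT : ∀ i : ℤ, i ≠ g → IsZero (DCoh.HD T i)) (hW : FlatMod.IsFinLocFree (DCoh.HD T g))
    (hv : ∀ i : ℕ, 1 ≤ i → Subsingleton (Coh.HH X (CohB1.tensorMod G (DCoh.HD T g)) i)) (j : ℤ) (hj : j ≠ g) :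
    IsZero ((DerivedCategory.homologyFunctor AddCommGrpCat.{u} j).obj ((DCoh.RΓ X).obj ((tenF G).obj T))) := by
  let W := DCoh.HD T g
  obtain ⟨eT⟩ := nonempty_iso_single_of_concentrated T g hT
  obtain ⟨s⟩ := DualPush.nonempty_shift_tRD (-(g : ℤ)) (modM W) (modM G)
  obtain ⟨cW⟩ := FMAdj9.nonempty_comm (modM W)
  obtain ⟨m⟩ := LocFreeDual.nonempty_modM_tensor G W hW
  let S := (DerivedCategory.singleFunctor X.Modules 0).obj (CohB1.tensorMod G W)
  let e : (tenF G).obj T ≅ S⟦-(g : ℤ)⟧ :=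
    (tenF G).mapIso eT ≪≫ (s : _) ≪≫
      (shiftFunctor (DCoh.D X) (-(g : ℤ))).mapIso ((cW.app (modM G) ≪≫ m :) : _)
  obtain ⟨sh⟩ := nonempty_rGamma_shift S (-(g : ℤ)) j (j - g) (by ring)
  refine IsZero.of_iso ?_ ((DerivedCategory.homologyFunctor AddCommGrpCat.{u} j).mapIso ((DCoh.RΓ X).mapIso e) ≪≫ sh)
  refine isZero_rGamma _ 0 _ fun n p hnp => ?_
  rcases eq_or_ne n 0 with rfl | hn
  · exact CohFound.subsingleton_hc_of_iso
      ((DerivedCategory.singleFunctorCompHomologyFunctorIso X.Modules 0).app _).symm p ⊤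
      ((CohFound.subsingleton_HH_iff _ _).1 (hv p (by omega)))
  · refine SheafVan16.subsingleton_hc_of_isZero ((CohFound.abF _).map_isZero ?_) p ⊤
    rcases lt_or_gt_of_ne hn with h' | h'
    · exact DerivedCategory.isZero_of_isGE _ 0 n h'
    · exact DerivedCategory.isZero_of_isLE _ 0 n h'

variable [IsAlgClosed k] {A At : Over (Spec (CommRingCat.of k))} [GrpObj A] [GrpObj At]
  [IsProper A.hom] [Smooth A.hom] [GeometricallyConnected A.hom]
  [IsProper At.hom] [Smooth At.hom] [GeometricallyConnected At.hom]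
  {φ : AgPol.DualMap A At} (hφ : AbDual.IsDualAV Scheme.fppfPrecoverage A At φ)
  {P : (PicF.XT A.hom At).Modules} (hP : PicF.IsInvertible P) (hξ : AbDual.IsPoincareCl A At φ (PicF.cl P))

include hP hξ in
/-- Kernels with equal classes. -/
theorem nonempty_kernel_iso {W : Over (Spec (CommRingCat.of k))} {x x' : W ⟶ A} {y y' : W ⟶ At}
    (h : AgPol22.ev hξ x y = AgPol22.ev hξ x' y') :
    Nonempty ((Scheme.Modules.pullback (lift x y).left).obj P ≅ (Scheme.Modules.pullback (lift x' y').left).obj P) := by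
  refine FMBase13.nonempty_iso_of_cls (hL := PicLoc.isInvertible_pullback _ hP)
    (hM := PicLoc.isInvertible_pullback _ hP) ?_
  rw [← FMBase13.ev_eq_cls hP hξ, ← FMBase13.ev_eq_cls hP hξ, h]

include hP hξ in
/-- Transforms pulled back along maps with the same pairing. -/
theorem nonempty_lP_phiK_congr {f f' : A ⟶ At} (h : AgPol22.ev hξ (fst A A) (snd A A ≫ f) =
      AgPol22.ev hξ (fst A A) (snd A A ≫ f')) (M : A.left.Modules) (hM : PicF.IsInvertible M) :
    Nonempty ((lP f.left).obj ((phiK (fst A At).left (snd A At).left P).obj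
        ((DerivedCategory.singleFunctor A.left.Modules 0).obj M)) ≅
      (lP f'.left).obj ((phiK (fst A At).left (snd A At).left P).obj
        ((DerivedCategory.singleFunctor A.left.Modules 0).obj M))) := by
  haveI : IsProper (snd A At).left := inferInstanceAs (IsProper (pullback.snd A.hom At.hom))
  haveI : Flat (snd A At).left := inferInstanceAs (Flat (pullback.snd A.hom At.hom))
  obtain ⟨c⟩ := nonempty_phiK_BC (fst A At).left (snd A At).left (isPullback_whisker A f) hP
  obtain ⟨c'⟩ := nonempty_phiK_BC (fst A At).left (snd A At).left (isPullback_whisker A f') hP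
  have hw : ∀ g : A ⟶ At, A ◁ g = lift (fst A A) (snd A A ≫ g) := fun g => by
    apply CartesianMonoidalCategory.hom_ext <;> simp
  obtain ⟨e⟩ := nonempty_kernel_iso hP hξ h
  let e' : (Scheme.Modules.pullback (A ◁ f).left).obj P ≅ (Scheme.Modules.pullback (A ◁ f').left).obj P :=
    (Scheme.Modules.pullbackCongr (congrArg Over.Hom.left (hw f))).app P ≪≫ e ≪≫
      ((Scheme.Modules.pullbackCongr (congrArg Over.Hom.left (hw f'))).app P).symm
  have h1 : (A ◁ f).left ≫ (fst A At).left = (A ◁ f').left ≫ (fst A At).left := by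
    rw [← Over.comp_left, ← Over.comp_left, whiskerLeft_fst, whiskerLeft_fst]
  exact ⟨c.app (inQ hM) ≪≫ (phiKCongr _ _ h1 _).app _ ≪≫ (phiKIso _ _ e').app _ ≪≫ (c'.app (inQ hM)).symm⟩

variable {g : ℕ} {L L' : A.left.Modules} (hL : CohB1.IsAmple L)
  (hLL' : Nonempty (CohB1.tensorMod L L' ≅ Coh.structureModule A.left))

include hφ hP hξ hLL' in
/-- The shape of the pulled back transform of a negative power. -/
theorem exists_negative_transform (hg : topologicalKrullDim A.left = g) {n : ℕ} (hn : 0 < n)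
    (f : A ⟶ At) (hf : f = lamOf φ (PicGrp.cls L hL.1)) [Flat f.left]
    (h : A ⟶ A) [Flat h.left] [Surjective h.left] (hh : h = (𝟙 A)⁻¹ ≫ (𝟙 A) ^ n) :
    (∀ i : ℤ, i ≠ g → IsZero (DCoh.HD ((lP f.left).obj ((phiK (fst A At).left (snd A At).left P).obj
        ((DerivedCategory.singleFunctor A.left.Modules 0).obj (CohB1.tensorPow L' n)))) i)) ∧
      ∃ r : ℕ, Nonempty ((Scheme.Modules.pullback h.left).obj (DCoh.HD ((lP f.left).obj
          ((phiK (fst A At).left (snd A At).left P).obj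
            ((DerivedCategory.singleFunctor A.left.Modules 0).obj (CohB1.tensorPow L' n)))) (g : ℤ)) ≅
        CohB1.tensorMod (FlatMod.freeMod A.left r) (CohB1.tensorPow L n)) ∧
        Nonempty ((Coh.Rpush A.hom g).obj (CohB1.tensorPow L' n) ≅ FlatMod.freeMod (Spec (CommRingCat.of k)) r) := by
  haveI : GeometricallyIntegral A.hom := AbRigid.geometricallyIntegral_of_smooth A
  haveI := isCommMonObj_of_isProper_of_geometricallyIntegral A
  have hL' := isInvertible_of_ample_inverse hL.1 hLL'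
  let M := CohB1.tensorPow L' n
  let M' := CohB1.tensorPow L n
  have hM : PicF.IsInvertible M := M2.isInvertible_tensorPow hL' n
  have hM' : PicF.IsInvertible M' := M2.isInvertible_tensorPow hL.1 n
  have hMM' : Nonempty (CohB1.tensorMod M M' ≅ Coh.structureModule A.left) :=
    (nonempty_tensorPow_inverse hLL' n).map fun e => M2.tensorComm _ _ ≪≫ e
  have hMc : PicGrp.cls M hM = (PicGrp.cls L hL.1 ^ n)⁻¹ := by
    rw [← inv_pow, ← Index22.cls_inverse hL.1 hL' hLL', FGA3.cls_tensorPow hL' n]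
  let Λ : (PicF.XT A.hom A).Modules := CohB1.tensorMod (CohB1.tensorMod ((Scheme.Modules.pullback μ[A].left).obj M)
    ((Scheme.Modules.pullback (fst A A).left).obj M')) ((Scheme.Modules.pullback (snd A A).left).obj M')
  have hΛc : PicF.cl Λ = (RR22.mumC (PicGrp.cls M hM)).1 := RR22.cl_mumford hM hMM' ⟨Iso.refl _⟩
  obtain ⟨pl⟩ := nonempty_pull_lambda hφ hP hξ hM hMM' (Λ := Λ) ⟨Iso.refl _⟩
    (by rw [hΛc]; exact picZero_mumC _)
  let fM : A ⟶ At := φ A (PicF.cl Λ)
  have hfM : fM = lamOf φ (PicGrp.cls M hM) := by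
    show φ A (PicF.cl Λ) = φ A _
    rw [hΛc]
  have hev : AgPol22.ev hξ (fst A A) (snd A A ≫ h ≫ f) = AgPol22.ev hξ (fst A A) (snd A A ≫ fM) := by
    rw [hfM, ← bil_eq_ev hφ hξ, ← Category.assoc, hf, ← bil_eq_ev hφ hξ, hMc, hh, ← Category.assoc,
      GrpObj.comp_inv, MonObj.comp_pow, Category.comp_id, Category.comp_id, NS22.bil_pow_right,
      ← zpow_neg_one, NS22.bil_zpow_right, zpow_neg_one, inv_pow]
    let B : PicLoc.PicSet A.left →* PicLoc.PicSet (A ⊗ A).left :=
      MonoidHom.mk' (fun c => Index22.bil c (fst A A) (snd A A)) fun c d => NS22.bil_cls_mul c d _ _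
    exact ((map_inv B (PicGrp.cls L hL.1 ^ n)).trans (congrArg _ (map_pow B (PicGrp.cls L hL.1) n))).symm
  let X₀ := (phiK (fst A At).left (snd A At).left P).obj ((DerivedCategory.singleFunctor A.left.Modules 0).obj M)
  let R := (DCoh.Rpush A.hom).obj ((DerivedCategory.singleFunctor A.left.Modules 0).obj M)
  obtain ⟨cg⟩ := nonempty_lP_phiK_congr hP hξ hev M hM
  let e : (lP h.left).obj ((lP f.left).obj X₀) ≅ (tenF M').obj ((lP A.hom).obj R) :=
    (lPComp h.left f.left (Over.comp_left _ _ _ h f).symm).app X₀ ≪≫ cg ≪≫ pl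
  have key : ∀ i : ℤ, Nonempty ((Scheme.Modules.pullback h.left).obj (DCoh.HD ((lP f.left).obj X₀) i) ≅
      CohB1.tensorMod ((Scheme.Modules.pullback A.hom).obj (DCoh.HD R i)) M') := fun i => by
    obtain ⟨a⟩ := nonempty_HD_lP_flat h.left ((lP f.left).obj X₀) i
    obtain ⟨b⟩ := nonempty_HD_tenF M' hM' ((lP A.hom).obj R) i
    obtain ⟨c⟩ := nonempty_HD_lP_flat A.hom R i
    exact ⟨a.symm ≪≫ (DerivedCategory.homologyFunctor _ i).mapIso e ≪≫ b ≪≫ M2.tensorIso c (Iso.refl _)⟩
  haveI : IsNoetherian (Spec (CommRingCat.of k)) := inferInstance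
  haveI : HasInjectiveResolutions A.left.Modules := CohFound.hasInjectiveResolutions_modules _
  haveI : IsLocallyNoetherian A.left := LocallyOfFiniteType.isLocallyNoetherian A.hom
  haveI : CompactSpace A.left := QuasiCompact.compactSpace_of_compactSpace A.hom
  letI : A.left.Over (Spec (CommRingCat.of k)) := ⟨A.hom⟩
  have hcoh : ∀ p : ℕ, Coh.IsCoh ((Coh.Rpush A.hom p).obj M) := fun p =>
    CohFound.isCoh_rpush A.hom (Snapper.isCoh_of_isInvertible hM) p
  refine ⟨fun i hi => ?_, ?_⟩
  · obtain ⟨k₀⟩ := key i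
    have hR : IsZero (DCoh.HD R i) := by
      rcases lt_or_ge i 0 with h' | h'
      · exact Poinc13.isZero_hd_rpush_neg A.hom M i h'
      · obtain ⟨p, rfl⟩ := Int.eq_ofNat_of_zero_le h'
        obtain ⟨r⟩ := Poinc13.nonempty_hd_rpush A.hom M p
        refine IsZero.of_iso ?_ r
        haveI := subsingleton_negative_power hg hL hLL' hn p (fun h => hi (by exact_mod_cast h))
        exact isZero_rpush_affine A.hom (Snapper.isCoh_of_isInvertible hM).1 p
    have hz := ((M2.tensorR M').map_isZero ((Scheme.Modules.pullback A.hom).map_isZero hR)).of_iso k₀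
    have hq : Coh.IsCoh (DCoh.HD ((lP f.left).obj X₀) i) := by
      obtain ⟨a⟩ := nonempty_HD_lP_flat f.left X₀ i
      exact CohFound.isCoh_of_iso a.symm (M1.isCoh_pullback _ (isCoh_fmH hP (Snapper.isCoh_of_isInvertible hM) i))
    refine SerreCl8.isZero_of_support_eq_empty (Set.eq_empty_iff_forall_notMem.2 fun x hx => ?_)
    obtain ⟨z, rfl⟩ := h.left.surjective x
    have hz' : z ∈ CohB1.support ((Scheme.Modules.pullback h.left).obj (DCoh.HD ((lP f.left).obj X₀) i)) := by
      rw [M2.support_pullback h.left hq.1 hq.2]; exact hx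
    exact hz' (AddCommGrpCat.subsingleton_of_isZero ((M1.stalkAb z).map_isZero hz))
  · obtain ⟨k₀⟩ := key g
    obtain ⟨r₀⟩ := Poinc13.nonempty_hd_rpush A.hom M g
    obtain ⟨r, ⟨er⟩⟩ := exists_free_point (hcoh g)
    exact ⟨r, ⟨k₀ ≪≫ M2.tensorIso ((Scheme.Modules.pullback A.hom).mapIso (r₀ ≪≫ er) ≪≫
      M2.freeModPullbackIso _ r) (Iso.refl _)⟩, ⟨er⟩⟩

include hφ hP hξ hL hLL' in
/-- Vanishing of the twists by small positive multiples gives generic vanishing. -/
theorem gv_of_small_twists (hg : topologicalKrullDim A.left = g) {G : A.left.Modules} (hG : Coh.IsCoh G)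
    (hlim : ∃ n₀ : ℕ, ∀ n : ℕ, n₀ ≤ n → ∀ (i : ℕ) (α : 𝟙_ (Over (Spec (CommRingCat.of k))) ⟶ At), 1 ≤ i →
      W4c5cohrankabvar.hAt k P (W4c5cohrankabvar.twist A G L L' n (n : ℤ)) α i = 0) :
    ∀ i : ℕ, 1 ≤ i → ∃ Z : Set ↥At.left, IsClosed Z ∧
      topologicalKrullDim ↥Z < ((g - i + 1 : ℕ) : WithBot ℕ∞) ∧
      ∀ α : 𝟙_ (Over (Spec (CommRingCat.of k))) ⟶ At, 0 < W4c5cohrankabvar.hAt k P G α i →
        Set.range α.left.base ⊆ Z := by
  haveI : GeometricallyIntegral A.hom := AbRigid.geometricallyIntegral_of_smooth A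
  haveI : GeometricallyIntegral At.hom := AbRigid.geometricallyIntegral_of_smooth At
  haveI : AlgebraicGeometry.IsIntegral A.left := GeometricallyIntegral.isIntegral_of_subsingleton A.hom
  haveI : AlgebraicGeometry.IsIntegral At.left := GeometricallyIntegral.isIntegral_of_subsingleton At.hom
  haveI := isCommMonObj_of_isProper_of_geometricallyIntegral A
  haveI : IsLocallyNoetherian A.left := LocallyOfFiniteType.isLocallyNoetherian A.hom
  haveI : CompactSpace A.left := QuasiCompact.compactSpace_of_compactSpace A.hom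
  haveI : DCoh.HasRΓ A.left := KInjLib.hasRightDerivedFunctor KInjLib.enoughKInj_of_grothendieck _
  have hL' := isInvertible_of_ample_inverse hL.1 hLL'
  obtain ⟨hgt, -⟩ := isPLike_swP hφ hP hξ hg
  rw [gv_iff hP hG g]
  let f : A ⟶ At := lamOf φ (PicGrp.cls L hL.1)
  haveI : IsMonHom f := isMonHom_lamOf hφ _
  haveI : IsFinite f.left := isFinite_lamOf hφ hL
  haveI : Surjective f.left := (exists_endo hφ hL).choose_spec.2.1
  haveI : Flat f.left := AbRigid.flat_of_surjective A At f
  -- the kernel on the square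
  let s : A ⊗ A ⟶ A ⊗ At := lift (fst A A) (snd A A ≫ f)
  let s' : A ⊗ A ⟶ A ⊗ At := lift (snd A A) (fst A A ≫ f)
  let Λ : (PicF.XT A.hom A).Modules := (Scheme.Modules.pullback s.left).obj P
  have hΛ : PicF.IsInvertible Λ := PicLoc.isInvertible_pullback _ hP
  have hs : s = A ◁ f := by apply CartesianMonoidalCategory.hom_ext <;> simp [s]
  have hH : IsPullback s.left (snd A A).left (snd A At).left f.left := hs ▸ isPullback_whisker A f
  haveI : IsIso (AbDual22.sw A A) := ⟨AbDual22.sw A A,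
    by apply CartesianMonoidalCategory.hom_ext <;> simp [AbDual22.sw],
    by apply CartesianMonoidalCategory.hom_ext <;> simp [AbDual22.sw]⟩
  haveI : IsIso (AbDual22.sw A A).left := inferInstanceAs (IsIso ((Over.forget _).map (AbDual22.sw A A)))
  have hH' : IsPullback s'.left (fst A A).left (snd A At).left f.left := by
    have h := (IsPullback.of_horiz_isIso (fst := (AbDual22.sw A A).left) (snd := (fst A A).left)
      (f := (snd A A).left) (g := 𝟙 A.left) ⟨by
        rw [← Over.comp_left, Category.comp_id, show AbDual22.sw A A ≫ snd A A = fst A A by simp [AbDual22.sw]]⟩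
      ).paste_horiz hH
    rw [Category.id_comp, ← Over.comp_left, show AbDual22.sw A A ≫ s = s' by
      apply CartesianMonoidalCategory.hom_ext <;> simp [s, s', AbDual22.sw]] at h
    exact h
  obtain ⟨eΛ⟩ : Nonempty ((Scheme.Modules.pullback s'.left).obj P ≅ Λ) := by
    refine nonempty_kernel_iso hP hξ ?_
    rw [← bil_eq_ev hφ hξ, ← bil_eq_ev hφ hξ, Index22.bil_comm]
  haveI : IsProper (snd A At).left := inferInstanceAs (IsProper (pullback.snd A.hom At.hom))
  haveI : Flat (snd A At).left := inferInstanceAs (Flat (pullback.snd A.hom At.hom))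
  obtain ⟨cΦ⟩ := nonempty_phiK_BC (fst A At).left (snd A At).left hH hP
  obtain ⟨cΨ⟩ := nonempty_phiK_BC (fst A At).left (snd A At).left hH' hP
  have hsf : s.left ≫ (fst A At).left = (fst A A).left := by rw [← Over.comp_left, lift_fst]
  have hsf' : s'.left ≫ (fst A At).left = (snd A A).left := by rw [← Over.comp_left, lift_fst]
  -- the criterion
  have hb : DCoh.RpushPreservesQCoh A.hom := fun _ h => FMAdj9.rpushPreservesQCoh A.hom h
  haveI : Flat A.hom := inferInstance
  haveI : QuasiSeparatedSpace A.left := AlgebraicGeometry.quasiSeparatedSpace_of_quasiSeparated A.hom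
  haveI := BC8.isLeftAdjoint_rpushQ A.hom hb
  let adj := Adjunction.ofIsLeftAdjoint (DCoh.RpushQ A.hom hb)
  obtain ⟨ω⟩ := UnitDual.nonempty_dualizing_structure A hg adj
  let O := BC8.oQ (Spec (CommRingCat.of k))
  let w := DCoh.HD ((DCoh.RpushQ A.hom hb).rightAdjoint.obj O).obj (-(g : ℤ))
  obtain ⟨ew⟩ : Nonempty (w ≅ Coh.structureModule A.left) :=
    ⟨(DerivedCategory.homologyFunctor _ (-(g : ℤ))).mapIso ω ≪≫
      ((DerivedCategory.homologyFunctor A.left.Modules 0).shiftIso (g : ℤ) (-(g : ℤ)) 0 (by omega)).app _ ≪≫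
      (DerivedCategory.singleFunctorCompHomologyFunctorIso A.left.Modules 0).app _⟩
  have hcm : ∀ x : A.left, LocCoh.IsCohenMacaulayLocalRing (A.left.presheaf.stalk x) := fun x => by
    haveI := SmoothReg17.isRegularLocalRing_stalk A.hom x
    exact DepthLib.isCohenMacaulayLocalRing_of_isRegularLocalRing
  have heq : ∀ Z ∈ irreducibleComponents A.left, topologicalKrullDim ↥Z = (g : WithBot ℕ∞) := by
    intro Z hZ
    rw [irreducibleComponents_eq_singleton, Set.mem_singleton_iff] at hZ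
    subst hZ
    exact ((IsHomeomorph.topologicalKrullDim_eq _ (Homeomorph.Set.univ A.left).isHomeomorph)).trans hg
  let Ps := Exact8.FMVanish.sgl Λ
  haveI : DCoh.HasLTensorCx Ps := KFlat.Sch.hasLTensorCx _
  let Gs := Exact8.FMVanish.sgl G
  haveI : DCoh.HasLTensorCx Gs := KFlat.Sch.hasLTensorCx _
  haveI := KFlat.Sch.hasLpull (pullback.fst A.hom A.hom)
  haveI := KFlat.Sch.hasLpull (pullback.snd A.hom A.hom)
  obtain ⟨tΛ⟩ := nonempty_LTCx_tenF Λ
  obtain ⟨tG⟩ := nonempty_LTCx_tenF G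
  obtain ⟨lp⟩ := nonempty_lpull_natIso_lP (pullback.fst A.hom A.hom)
  obtain ⟨lq⟩ := nonempty_lpull_natIso_lP (pullback.snd A.hom A.hom)
  let eG : DCoh.inD A.left G ≅ DCoh.toD A.left Gs :=
    (DerivedCategory.singleFunctorIsoCompQ A.left.Modules 0).app G
  have hres := S16380.result k A.left A.left A.hom A.hom hcm hcm g hg heq g hg heq hb _ adj O
    ⟨Iso.refl _⟩ L L' hL hLL' Ps
    (DGen9.ResP.isPerfect_toD (DPerf.isStrictlyPerfect_single (M2.isFinLocFree_of_isInvertible hΛ)))
    0 Gs (DGen9.isPerfect_of_iso eG (isPerfect_single hG)) (by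
    obtain ⟨n₀, hn₀⟩ := hlim
    refine ⟨n₀ + 1, fun n hn j hj => ?_⟩
    have hnpos : 0 < n := by omega
    let M := CohB1.tensorPow L' n
    have hM : PicF.IsInvertible M := M2.isInvertible_tensorPow hL' n
    let T := (lP f.left).obj ((phiK (fst A At).left (snd A At).left P).obj
      ((DerivedCategory.singleFunctor A.left.Modules 0).obj M))
    let e : (DCoh.Lpull (pullback.snd A.hom A.hom) ⋙ DCoh.LTensorCx Ps ⋙ DCoh.Rpush (pullback.fst A.hom A.hom)).obj
        (DCoh.inD A.left (CohB1.tensorMod (CohB1.tensorPow L' n) w)) ≅ T :=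
      (Functor.isoWhiskerRight lq _ ≪≫ Functor.isoWhiskerLeft _ (Functor.isoWhiskerRight tΛ _)).app _ ≪≫
        (phiK (snd A A).left (fst A A).left Λ).mapIso ((DerivedCategory.singleFunctor A.left.Modules 0).mapIso
          (M2.tensorIso (Iso.refl M) ew ≪≫ M2.tensorRUnit M)) ≪≫
        (phiKIso (snd A A).left (fst A A).left eΛ).symm.app _ ≪≫
        (phiKCongr (snd A A).left (fst A A).left hsf'.symm _).app _ ≪≫ (cΨ.app (inQ hM)).symm
    let h : A ⟶ A := (𝟙 A)⁻¹ ≫ (𝟙 A) ^ n
    obtain ⟨hf, hfl, hsu⟩ := AVDegree22.isFinite_flat_surjective_pow A hnpos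
    haveI := hf; haveI := hfl; haveI := hsu
    have hjA : ((𝟙 A)⁻¹).left ≫ ((𝟙 A)⁻¹).left = 𝟙 A.left := by
      rw [← Over.comp_left, GrpObj.comp_inv, Category.comp_id, inv_inv, Over.id_left]
    haveI : IsIso ((𝟙 A)⁻¹).left := ⟨_, hjA, hjA⟩
    have hhl : h.left = ((𝟙 A)⁻¹).left ≫ ((𝟙 A) ^ n).left := Over.comp_left _ _ _ _ _
    haveI : IsFinite h.left := hhl ▸ inferInstance
    haveI : Flat h.left := hhl ▸ inferInstance
    haveI : Surjective h.left := hhl ▸ inferInstance
    haveI : IsMonHom ((𝟙 A) ^ n) := AVDegree22.isMonHom_pow_rel A n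
    haveI : IsMonHom h := inferInstance
    obtain ⟨hz, r, ⟨eW⟩, -⟩ := exists_negative_transform hφ hP hξ hL hLL' hg hnpos f rfl h rfl
    have hTc : Coh.IsCoh (DCoh.HD T g) := by
      obtain ⟨a⟩ := nonempty_HD_lP_flat f.left ((phiK (fst A At).left (snd A At).left P).obj
        ((DerivedCategory.singleFunctor A.left.Modules 0).obj M)) g
      exact CohFound.isCoh_of_iso a.symm (M1.isCoh_pullback _ (isCoh_fmH hP (Snapper.isCoh_of_isInvertible hM) _))
    have hTf : FlatMod.IsFinLocFree (DCoh.HD T g) :=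
      M1.isFinLocFree_of_pullback_fpqc h.left hTc.1 (M2.isFinLocFree_of_iso eW.symm
        (M2.isFinLocFree_tensor (KFlat.Sch.isFinLocFree_freeMod _ r)
          (M2.isFinLocFree_of_isInvertible (M2.isInvertible_tensorPow hL.1 n))))
    have hGW : Coh.IsCoh (CohB1.tensorMod G (DCoh.HD T g)) := CohFound.isCoh_tensor hG hTc
    have hit : ∀ (i : ℕ) (α : 𝟙_ (Over (Spec (CommRingCat.of k))) ⟶ At), 1 ≤ i →
        W4c5cohrankabvar.hAt k P (CohB1.tensorMod G (DCoh.HD T g)) α i = 0 := by
      rw [it0_pullback_iff hφ hP hξ hφ hP hξ h hGW]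
      have hn' := hn₀ n (by omega)
      let j' := ((𝟙 A)⁻¹ : A ⟶ A)
      have hT₀ : Coh.IsCoh (W4c5cohrankabvar.twist A G L L' n (n : ℤ)) := isCoh_twist hG hL.1 hL' n (n : ℤ)
      rw [← it0_inv hφ hP hξ hT₀] at hn'
      obtain ⟨N, hN, hNc⟩ := PicGrp.exists_eq_cls
        ((AlgEquiv22.pb (𝟙 A)⁻¹ (PicGrp.cls L hL.1) * (PicGrp.cls L hL.1)⁻¹) ^ (-(n : ℤ)) : PicLoc.PicSet A.left)
      rw [← it0_shift hφ hP hξ hL (M1.isCoh_pullback _ hT₀) hN (hNc ▸ inv_zpow (MumVan22.inv_symm_div _) _)] at hn'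
      have hpn : PicF.IsInvertible (CohB1.tensorPow L n) := M2.isInvertible_tensorPow hL.1 n
      obtain ⟨ez⟩ : Nonempty (CohB1.tensorMod ((Scheme.Modules.pullback j'.left).obj (CohB1.tensorPow L n)) N ≅
          CohB1.tensorPow L n) := by
        refine FMBase13.nonempty_iso_of_cls (hL := M2.isInvertible_tensor (PicLoc.isInvertible_pullback _ hpn) hN)
          (hM := hpn) ?_
        rw [← AlgEquiv22.cls_tensor (PicLoc.isInvertible_pullback _ hpn) hN, ← RosTrace22.pb_cls j' hpn,
          FGA3.cls_tensorPow hL.1 n, map_pow, ← hNc, _root_.mul_zpow, ← zpow_natCast, ← zpow_natCast,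
          ← mul_assoc, ← zpow_add, add_neg_cancel, zpow_zero, one_mul, _root_.inv_zpow, zpow_neg, inv_inv]
      intro i α hi
      have hc' := hn' i α hi
      rw [hAt_eq_zero_iff hP (M1.isCoh_pullback _ hGW)]
      rw [hAt_eq_zero_iff hP (CohFound.isCoh_tensor (M1.isCoh_pullback _ hT₀) (CubeField.isCoh_of_isInvertible hN))] at hc'
      let Pα := W4c5cohrankabvar.ptLB P α
      let base := CohB1.tensorMod (CohB1.tensorMod ((Scheme.Modules.pullback h.left).obj G) (CohB1.tensorPow L n)) Pα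
      let e₁ : CohB1.tensorMod (CohB1.tensorMod ((Scheme.Modules.pullback j'.left).obj
            (W4c5cohrankabvar.twist A G L L' n (n : ℤ))) N) Pα ≅ base :=
        M2.tensorIso (M2.tensorIso (M2.pullTensorIso _ _ _) (Iso.refl N) ≪≫ M2.tensorAssoc _ _ _ ≪≫
          M2.tensorIso ((Scheme.Modules.pullbackComp _ _).app G ≪≫ (Scheme.Modules.pullbackCongr hhl.symm).app G) ez)
          (Iso.refl Pα)
      haveI hb' : Subsingleton (Coh.HH A.left base i) := (CBC10.hmapEquiv e₁ i).toEquiv.subsingleton_congr.1 hc'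
      letI : A.left.Over (Spec (CommRingCat.of k)) := ⟨A.hom⟩
      refine (CBC10.hmapEquiv ?_ i).toEquiv.subsingleton_congr.1 (HypSq10.subsingleton_free_tensor (k := k) hb' r)
      exact M2.tensorComm _ _ ≪≫
        (M2.tensorAssoc _ _ _ ≪≫ M2.tensorIso (Iso.refl _) (M2.tensorComm _ _) ≪≫
          (M2.tensorAssoc _ _ _).symm ≪≫ M2.tensorIso (M2.tensorAssoc _ _ _ ≪≫
            M2.tensorIso (Iso.refl _) (M2.tensorComm _ _)) (Iso.refl _)) ≪≫
        M2.tensorIso (M2.tensorIso (Iso.refl _) eW.symm ≪≫ (M2.pullTensorIso _ _ _).symm) (Iso.refl Pα)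
    have hv : ∀ i : ℕ, 1 ≤ i → Subsingleton (Coh.HH A.left (CohB1.tensorMod G (DCoh.HD T g)) i) := fun i hi => by
      have h1 := (hAt_eq_zero_iff hP hGW 1 i).1 (hit i 1 hi)
      obtain ⟨eO⟩ : Nonempty (W4c5cohrankabvar.ptLB P (1 : 𝟙_ (Over (Spec (CommRingCat.of k))) ⟶ At) ≅
          Coh.structureModule A.left) := by
        refine FMBase13.nonempty_iso_of_cls (hL := PicLoc.isInvertible_pullback _ hP)
          (hM := PicLoc.isInvertible_structureModule A.left) ?_
        rw [← FMBase13.ev_eq_cls hP hξ, CubeField.cls_structureModule, MonObj.comp_one, AgPol22.ev_one_right hφ hξ]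
      exact (CBC10.hmapEquiv (M2.tensorIso (Iso.refl _) eO ≪≫ M2.tensorRUnit _) i).toEquiv.subsingleton_congr.1 h1
    refine (isZero_rGamma_tenF_concentrated T g hz hTf hv j (by omega)).of_iso
      ((DerivedCategory.homologyFunctor AddCommGrpCat.{u} j).mapIso ((DCoh.RΓ A.left).mapIso ?_))
    exact (DCoh.LTensorCx Gs).mapIso e ≪≫ tG.app T)
  intro i hi
  let eΦ : (FMK.phi A.hom A.hom Ps).obj (DCoh.toD A.left Gs) ≅
      (lP f.left).obj ((phiK (fst A At).left (snd A At).left P).obj
        ((DerivedCategory.singleFunctor A.left.Modules 0).obj G)) :=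
    (Functor.isoWhiskerRight lp _ ≪≫ Functor.isoWhiskerLeft _ (Functor.isoWhiskerRight tΛ _)).app _ ≪≫
      (phiK (fst A A).left (snd A A).left Λ).mapIso eG.symm ≪≫
      (phiKCongr (fst A A).left (snd A A).left hsf.symm _).app _ ≪≫
      (cΦ.app ⟨_, TwistBC9.isQCohD_inD G hG.1 0⟩).symm
  obtain ⟨a⟩ := nonempty_HD_lP_flat f.left ((phiK (fst A At).left (snd A At).left P).obj
    ((DerivedCategory.singleFunctor A.left.Modules 0).obj G)) (i : ℤ)
  have hfm := isCoh_fmH hP hG (i : ℤ)
  have hsupp : CohB1.support (DCoh.HD ((FMK.phi A.hom A.hom Ps).obj (DCoh.toD A.left Gs)) (i : ℤ)) =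
      f.left.base ⁻¹' CohB1.support (fmH P G i) := by
    rw [support_iso ((DerivedCategory.homologyFunctor _ (i : ℤ)).mapIso eΦ ≪≫ a), M2.support_pullback f.left hfm.1 hfm.2]
  have hcl : IsClosed (f.left.base ⁻¹' CohB1.support (fmH P G i)) :=
    (M1.isClosed_support hfm.2).preimage f.left.continuous
  rw [← Set.image_preimage_eq (CohB1.support (fmH P G i)) f.left.surjective, dim_image_of_finite f.left hcl]
  have hpt : ∀ y ∈ f.left.base ⁻¹' CohB1.support (fmH P G i), VarDim.sdim A.hom y + i ≤ g := fun y hy => by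
    have h2 := hres.2 i y (by rw [hsupp]; exact hy)
    rw [Nat.sub_zero, ringKrullDim_stalk_eq_coheight] at h2
    obtain ⟨a, ha, hsum⟩ := FibRank28.coheight_add_sdim A.hom y
    rw [ha] at h2
    have h3 : i ≤ a := by exact_mod_cast h2
    have h4 : VarDim.sdim A.hom (genericPoint A.left) = g := by
      exact_mod_cast (VarDim.dim_eq_sdim_genericPoint A.hom).symm.trans hg
    omega
  rcases le_or_gt i g with hig | hig
  · refine lt_of_le_of_lt (ProjDual12.dim_le_of_forall_sdim A.hom hcl (d := g - i) fun y hy => ?_) ?_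
    · have := hpt y hy; omega
    · exact_mod_cast Nat.lt_succ_self (g - i)
  · haveI : IsEmpty (IrreducibleCloseds ↥(f.left.base ⁻¹' CohB1.support (fmH P G i))) :=
      ⟨fun Z => Z.isIrreducible'.nonempty.elim fun x _ => by have := hpt x.1 x.2; omega⟩
    rw [topologicalKrullDim, Order.krullDim_eq_bot]
    exact WithBot.bot_lt_coe _

end Groth.Agent.FMHyp13

end
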