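import Groth.Agent.Lib.FMHyp13.Exchange
import Groth.Agent.Lib.Snapper.Twist
import Groth.Agent.Lib.Index22.Index

/-!
# Preservation of the vanishing under twists by GV objects
-/

set_option autoImplicit false
set_option linter.style.haveILetI false
set_option linter.unusedSectionVars false
set_option backward.isDefEq.respectTransparency false
set_option backward.isDefEq.respectTransparency.types false
set_option maxHeartbeats 1600000

universe u

open CategoryTheory CategoryTheory.Limits MonoidalCategory CartesianMonoidalCategory AlgebraicGeometry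

attribute [local instance] HasDerivedCategory.standard

noncomputable section

namespace Groth.Agent.FMHyp13

open DMon9 DBC9 TwistBC9 FMBase13

attribute [local instance] DBC9.hasRpush

variable {k : Type u} [Field k] [IsAlgClosed k] {A At : Over (Spec (CommRingCat.of k))} [GrpObj A] [GrpObj At]
  [IsProper A.hom] [Smooth A.hom] [GeometricallyConnected A.hom]
  [IsProper At.hom] [Smooth At.hom] [GeometricallyConnected At.hom]
  {φ : AgPol.DualMap A At} (hφ : AbDual.IsDualAV Scheme.fppfPrecoverage A At φ)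
  {P : (PicF.XT A.hom At).Modules} (hP : PicF.IsInvertible P) (hξ : AbDual.IsPoincareCl A At φ (PicF.cl P))
  {H : A.left.Modules} (hH : Coh.IsCoh H) (h0 : NoHigher P H)
  {F : DCoh.D A.left} (hF : DCoh.IsCohD F) (m n : ℤ) (hFm : DerivedCategory.IsGE F m) (hFn : DerivedCategory.IsLE F n)

include hφ hP hξ hH h0 hF hFm hFn in
/-- A GV object twisted by a module without higher cohomology has none either. -/
theorem isZero_rGamma_tensor [DCoh.HasRΓ A.left] [DCoh.HasLTensorMod H]
    (b : ℤ) [((phiK (fst A At).left (snd A At).left P).obj F).IsGE b]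
    (hcodim : ∀ (j : ℕ) (y : At.left),
      y ∈ CohB1.support (DCoh.HD ((phiK (fst A At).left (snd A At).left P).obj F) (j : ℤ)) →
        (j : WithBot ℕ∞) ≤ ringKrullDim (At.left.presheaf.stalk y))
    (α : 𝟙_ (Over (Spec (CommRingCat.of k))) ⟶ At)
    [DCoh.HasLTensorMod ((Scheme.Modules.pullback (lift (𝟙 A) (toUnit A ≫ α)).left).obj P)] (i : ℕ) (hi : 1 ≤ i) :
    IsZero ((DerivedCategory.homologyFunctor AddCommGrpCat.{u} (i : ℤ)).obj ((DCoh.RΓ A.left).obj
      ((DCoh.LTensorMod ((Scheme.Modules.pullback (lift (𝟙 A) (toUnit A ≫ α)).left).obj P)).obj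
        ((DCoh.LTensorMod H).obj F)))) := by
  haveI : GeometricallyIntegral A.hom := AbRigid.geometricallyIntegral_of_smooth A
  obtain ⟨g, hg⟩ := Index22.exists_dim (A := A)
  obtain ⟨hgt, -⟩ := isPLike_swP hφ hP hξ hg
  haveI : IsLocallyNoetherian A.left := LocallyOfFiniteType.isLocallyNoetherian A.hom
  haveI : IsLocallyNoetherian At.left := LocallyOfFiniteType.isLocallyNoetherian At.hom
  haveI : CompactSpace At.left := QuasiCompact.compactSpace_of_compactSpace At.hom
  have hFp : DCoh.IsPerfect F := DPerf.isPerfect_iff_approx.2 (DPerf.isPerfect_of_regular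
    (fun x => SmoothReg17.isRegularLocalRing_stalk A.hom x) (n + 1 - m).toNat m F hFm
    (fun j hj => DerivedCategory.isZero_of_isLE F n j (by omega)) hF)
  let Pα := (Scheme.Modules.pullback (lift (𝟙 A) (toUnit A ≫ α)).left).obj P
  have hPα : PicF.IsInvertible Pα := PicLoc.isInvertible_pullback _ hP
  let E := CohB1.tensorMod H Pα
  obtain ⟨a⟩ := nonempty_ltensorMod_iso H F
  obtain ⟨c⟩ := nonempty_LT_tenF Pα hPα
  obtain ⟨d⟩ := nonempty_tenComp H hPα
  obtain ⟨W, hW, hex⟩ := exists_exchange hφ hP hξ hg (E := E)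
    (CohFound.isCoh_tensor hH (CubeField.isCoh_of_isInvertible hPα)) (noHigher_twist hφ hP hξ h0 α)
  haveI : DCoh.HasRΓ At.left := KInjLib.hasRightDerivedFunctor KInjLib.enoughKInj_of_grothendieck _
  haveI := KFlat.Sch.hasLTensorCx (Exact8.FMVanish.sgl W)
  obtain ⟨e⟩ := hex F hFp (i : ℤ)
  refine IsZero.of_iso (IsZero.of_iso ?_ e) ((DerivedCategory.homologyFunctor AddCommGrpCat.{u} (i : ℤ)).mapIso
    ((DCoh.RΓ A.left).mapIso ((DCoh.LTensorMod Pα).mapIso a ≪≫ c.app _ ≪≫ d.app F)))
  let G := (DCoh.LTensorCx (Exact8.FMVanish.sgl W)).obj ((phiK (fst A At).left (snd A At).left P).obj F)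
  have eG : ∀ j, Nonempty (DCoh.HD G j ≅
      CohB1.tensorMod (DCoh.HD ((phiK (fst A At).left (snd A At).left P).obj F) j) W) :=
    fun j => Exact8.FMVanish.nonempty_HD_tensor hW _ j
  haveI : G.IsGE b := (DerivedCategory.isGE_iff _ _).2 fun j hj =>
    ((RelPCS4.rten W).map_isZero (DerivedCategory.isZero_of_isGE _ b j hj)).of_iso (eG j).some
  refine isZero_rGamma G b _ fun j p hjp => CohFound.subsingleton_hc_of_iso (eG j).some.symm p ⊤ ?_
  refine subsingleton_hc_of_dim_stalk (le_of_eq hgt) _ j.toNat (fun x hx => ?_) p (by omega)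
  rcases lt_or_ge j 0 with hj | hj
  · rw [Int.toNat_eq_zero.2 hj.le]
    exact_mod_cast ringKrullDim_nonneg_of_nontrivial
  · refine hcodim j.toNat x ?_
    rw [Int.toNat_of_nonneg hj]
    exact Snapper.support_tensor_subset _ _ hx

end Groth.Agent.FMHyp13

end
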