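import Groth.Agent.Lib.FMHyp13.TwistedIsog
import Groth.Agent.Lib.FMHyp13.GVTensor
import Groth.Agent.Lib.PP13.TwistVan
import Groth.Agent.Lib.RosTrace22.Rosati
import Groth.Agent.Lib.RosTrace22.Lambda
import Groth.Agent.Lib.AVDegree22.MulRank
import Groth.Agent.Lib.FGA3.TorsionLift
import Groth.Agent.Lib.FMHyp13.LocFreeDual

/-!
# Arithmetic of rational twists
-/

set_option autoImplicit false
set_option linter.style.haveILetI false
set_option linter.unusedSectionVars false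
set_option backward.isDefEq.respectTransparency false
set_option backward.isDefEq.respectTransparency.types false
set_option maxHeartbeats 1600000

universe u

open CategoryTheory CategoryTheory.Limits MonoidalCategory CartesianMonoidalCategory AlgebraicGeometry
open TopologicalSpace
open scoped MonObj GrpObj

attribute [local instance] HasDerivedCategory.standard

noncomputable section

namespace Groth.Agent.FMHyp13

open DMon9 DBC9 TwistBC9 FMBase13 Groth.Agent.AgPol22 Groth.Agent.AlgEquiv22 Groth.Agent.MumVan22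

noncomputable local instance instLawTwArith (Y : Scheme.{u}) : PicGrp.Law Y := M2.law Y

variable {k : Type u} [Field k]

/-- The class of an integral power. -/
theorem cls_zpow {X : Scheme.{u}} {L L' : X.Modules} (hL : PicF.IsInvertible L) (hL' : PicF.IsInvertible L')
    (hLL' : Nonempty (CohB1.tensorMod L L' ≅ Coh.structureModule X)) :
    ∀ m : ℤ, PicGrp.cls (W4c5cohrankabvar.zpow L L' m) (isInvertible_zpow hL hL' m) = PicGrp.cls L hL ^ m
  | Int.ofNat n => by
    refine Eq.trans ?_ (zpow_natCast (PicGrp.cls L hL) n).symm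
    exact FGA3.cls_tensorPow hL n
  | Int.negSucc n => by
    rw [zpow_negSucc, ← inv_pow, ← Index22.cls_inverse hL hL' hLL']
    exact FGA3.cls_tensorPow hL' (n + 1)

section invariant

variable [IsAlgClosed k] {A : Over (Spec (CommRingCat.of k))} [GrpObj A] [IsProper A.hom] [GeometricallyIntegral A.hom]

theorem inv_zpow {c : PicLoc.PicSet A.left} (hc : AlgEquiv22.Inv c) (m : ℤ) : AlgEquiv22.Inv (c ^ m) := fun a => by
  rw [map_zpow, hc a]

/-- A twist pulled back along a multiplication is a twist up to a translation invariant module. -/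
theorem exists_pull_pow_twist [Smooth A.hom] [GeometricallyConnected A.hom] (F : A.left.Modules) {L L' : A.left.Modules}
    (hL : PicF.IsInvertible L) (hL' : PicF.IsInvertible L')
    (hLL' : Nonempty (CohB1.tensorMod L L' ≅ Coh.structureModule A.left)) (b : ℕ) (m : ℤ) (d : ℕ) :
    ∃ (N : A.left.Modules) (hN : PicF.IsInvertible N), AlgEquiv22.Inv (PicGrp.cls N hN) ∧
      Nonempty ((Scheme.Modules.pullback ((𝟙 A) ^ d).left).obj (W4c5cohrankabvar.twist A F L L' b m) ≅
        CohB1.tensorMod (W4c5cohrankabvar.twist A F L L' (b * d) (m * ((d * d : ℕ) : ℤ))) N) := by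
  haveI := isCommMonObj_of_isProper_of_geometricallyIntegral A
  obtain ⟨N, hN, hNc⟩ := PicGrp.exists_eq_cls
    (((AlgEquiv22.pb (𝟙 A)⁻¹ (PicGrp.cls L hL) * (PicGrp.cls L hL)⁻¹) ^ (d * (d - 1) / 2)) ^ m : PicLoc.PicSet A.left)
  refine ⟨N, hN, hNc ▸ inv_zpow (MumVan22.Inv.pow' (inv_symm_div _) _) m, ?_⟩
  have hz := isInvertible_zpow hL hL' m
  have hz' := isInvertible_zpow hL hL' (m * ((d * d : ℕ) : ℤ))
  obtain ⟨ez⟩ : Nonempty ((Scheme.Modules.pullback ((𝟙 A) ^ d).left).obj (W4c5cohrankabvar.zpow L L' m) ≅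
      CohB1.tensorMod (W4c5cohrankabvar.zpow L L' (m * ((d * d : ℕ) : ℤ))) N) := by
    refine FMBase13.nonempty_iso_of_cls (hL := PicLoc.isInvertible_pullback _ hz) (hM := M2.isInvertible_tensor hz' hN) ?_
    rw [← RosTrace22.pb_cls ((𝟙 A) ^ d) hz, cls_zpow hL hL' hLL', map_zpow, pb_pow_class, _root_.mul_zpow,
      ← AlgEquiv22.cls_tensor hz' hN, cls_zpow hL hL' hLL', ← hNc, ← zpow_natCast, ← zpow_mul, mul_comm m]
  have h : ((𝟙 A) ^ d).left ≫ ((𝟙 A) ^ b).left = ((𝟙 A) ^ (b * d)).left := by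
    rw [← Over.comp_left, MonObj.comp_pow, Category.comp_id, ← pow_mul, Nat.mul_comm d b]
  exact ⟨M2.pullTensorIso _ _ _ ≪≫ M2.tensorIso
    ((Scheme.Modules.pullbackComp _ _).app F ≪≫ (Scheme.Modules.pullbackCongr h).app F) ez ≪≫
      (M2.tensorAssoc _ _ _).symm⟩

end invariant

variable [IsAlgClosed k] {A At : Over (Spec (CommRingCat.of k))} [GrpObj A] [GrpObj At]
  [IsProper A.hom] [Smooth A.hom] [GeometricallyConnected A.hom]
  [IsProper At.hom] [Smooth At.hom] [GeometricallyConnected At.hom]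
  {φ : AgPol.DualMap A At} (hφ : AbDual.IsDualAV Scheme.fppfPrecoverage A At φ)
  {P : (PicF.XT A.hom At).Modules} (hP : PicF.IsInvertible P) (hξ : AbDual.IsPoincareCl A At φ (PicF.cl P))

include hφ hP hξ in
/-- Translation invariant modules are restrictions of the Poincaré module. -/
theorem exists_point_of_inv [GeometricallyIntegral A.hom] {L : A.left.Modules} (hL : CohB1.IsAmple L)
    {N : A.left.Modules} (hN : PicF.IsInvertible N) (hInv : AlgEquiv22.Inv (PicGrp.cls N hN)) :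
    ∃ pt0 : 𝟙_ (Over (Spec (CommRingCat.of k))) ⟶ At, Nonempty (N ≅ W4c5cohrankabvar.ptLB P pt0) := by
  obtain ⟨a, ha⟩ := exists_translate hL.1 hN hInv (finite_fixing hL)
  refine ⟨a ≫ RosTrace22.lamOf φ (PicGrp.cls L hL.1), FMBase13.nonempty_iso_of_cls (hL := hN)
    (hM := PicLoc.isInvertible_pullback _ hP) ?_⟩
  rw [← ha, RosTrace22.pb_translate, RosTrace22.bil_eq_ev hφ hξ, ← FMBase13.ev_eq_cls hP hξ, Category.assoc,
    mul_comm (PicGrp.cls L hL.1), mul_inv_cancel_right]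

include hφ hP hξ in
/-- Twisting by a restriction of the Poincaré module translates the twists. -/
theorem hAt_shift {G : A.left.Modules} (hG : Coh.IsCoh G) (pt0 α : 𝟙_ (Over (Spec (CommRingCat.of k))) ⟶ At) (i : ℕ) :
    W4c5cohrankabvar.hAt k P (CohB1.tensorMod G (W4c5cohrankabvar.ptLB P pt0)) α i = 0 ↔
      W4c5cohrankabvar.hAt k P G (pt0 * α) i = 0 := by
  have hpt0 : PicF.IsInvertible (W4c5cohrankabvar.ptLB P pt0) := PicLoc.isInvertible_pullback _ hP
  have hα : PicF.IsInvertible (W4c5cohrankabvar.ptLB P α) := PicLoc.isInvertible_pullback _ hP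
  rw [hAt_eq_zero_iff hP (CohFound.isCoh_tensor hG (CubeField.isCoh_of_isInvertible hpt0)), hAt_eq_zero_iff hP hG]
  obtain ⟨e⟩ : Nonempty (CohB1.tensorMod (W4c5cohrankabvar.ptLB P pt0) (W4c5cohrankabvar.ptLB P α) ≅
      W4c5cohrankabvar.ptLB P (pt0 * α)) := by
    refine FMBase13.nonempty_iso_of_cls (hL := M2.isInvertible_tensor hpt0 hα)
      (hM := PicLoc.isInvertible_pullback _ hP) ?_
    rw [← AlgEquiv22.cls_tensor hpt0 hα, ← FMBase13.ev_eq_cls hP hξ, ← FMBase13.ev_eq_cls hP hξ, ← FMBase13.ev_eq_cls hP hξ,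
      ← ev_mul_right hφ hξ, ← MonObj.comp_mul]
  exact (CBC10.hmapEquiv (M2.tensorAssoc _ _ _ ≪≫ M2.tensorIso (Iso.refl _) e) i).toEquiv.subsingleton_congr

include hφ hP hξ in
/-- Vanishing for all twists is insensitive to translation invariant twists. -/
theorem it0_shift [GeometricallyIntegral A.hom] {L : A.left.Modules} (hL : CohB1.IsAmple L) {G : A.left.Modules}
    (hG : Coh.IsCoh G) {N : A.left.Modules} (hN : PicF.IsInvertible N) (hInv : AlgEquiv22.Inv (PicGrp.cls N hN)) :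
    (∀ (i : ℕ) (α : 𝟙_ (Over (Spec (CommRingCat.of k))) ⟶ At), 1 ≤ i →
        W4c5cohrankabvar.hAt k P (CohB1.tensorMod G N) α i = 0) ↔
      ∀ (i : ℕ) (α : 𝟙_ (Over (Spec (CommRingCat.of k))) ⟶ At), 1 ≤ i → W4c5cohrankabvar.hAt k P G α i = 0 := by
  obtain ⟨pt0, ⟨e⟩⟩ := exists_point_of_inv hφ hP hξ hL hN hInv
  have h : ∀ α i, W4c5cohrankabvar.hAt k P (CohB1.tensorMod G N) α i = 0 ↔
      W4c5cohrankabvar.hAt k P G (pt0 * α) i = 0 := fun α i =>
    (hAt_eq_zero_congr hP (M2.tensorIso (Iso.refl G) e)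
      (CohFound.isCoh_tensor hG (CubeField.isCoh_of_isInvertible hN)) α i).trans (hAt_shift hφ hP hξ hG pt0 α i)
  exact ⟨fun h' i α hi => by simpa using (h (pt0⁻¹ * α) i).1 (h' i _ hi), fun h' i α hi => (h α i).2 (h' i _ hi)⟩

include hφ hP hξ in
/-- Generic vanishing is insensitive to translation invariant twists. -/
theorem gv_shift [GeometricallyIntegral A.hom] {L : A.left.Modules} (hL : CohB1.IsAmple L) {G : A.left.Modules}
    (hG : Coh.IsCoh G) {N : A.left.Modules} (hN : PicF.IsInvertible N) (hInv : AlgEquiv22.Inv (PicGrp.cls N hN)) (g : ℕ) :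
    (∀ i : ℕ, 1 ≤ i → ∃ Z : Set ↥At.left, IsClosed Z ∧
        topologicalKrullDim ↥Z < ((g - i + 1 : ℕ) : WithBot ℕ∞) ∧
        ∀ α : 𝟙_ (Over (Spec (CommRingCat.of k))) ⟶ At, 0 < W4c5cohrankabvar.hAt k P (CohB1.tensorMod G N) α i →
          Set.range α.left.base ⊆ Z) ↔
      ∀ i : ℕ, 1 ≤ i → ∃ Z : Set ↥At.left, IsClosed Z ∧
        topologicalKrullDim ↥Z < ((g - i + 1 : ℕ) : WithBot ℕ∞) ∧
        ∀ α : 𝟙_ (Over (Spec (CommRingCat.of k))) ⟶ At, 0 < W4c5cohrankabvar.hAt k P G α i →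
          Set.range α.left.base ⊆ Z := by
  haveI : GeometricallyIntegral At.hom := AbRigid.geometricallyIntegral_of_smooth At
  haveI := isCommMonObj_of_isProper_of_geometricallyIntegral At
  obtain ⟨pt0, ⟨e⟩⟩ := exists_point_of_inv hφ hP hξ hL hN hInv
  have h : ∀ α i, W4c5cohrankabvar.hAt k P (CohB1.tensorMod G N) α i = 0 ↔
      W4c5cohrankabvar.hAt k P G (pt0 * α) i = 0 := fun α i =>
    (hAt_eq_zero_congr hP (M2.tensorIso (Iso.refl G) e)
      (CohFound.isCoh_tensor hG (CubeField.isCoh_of_isInvertible hN)) α i).trans (hAt_shift hφ hP hξ hG pt0 α i)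
  let s : (𝟙_ (Over (Spec (CommRingCat.of k))) ⟶ At) → (At ⟶ At) := fun δ => 𝟙 At * (toUnit At ≫ δ)
  have hs : ∀ δ δ', s δ ≫ s δ' = s (δ * δ') := fun δ δ' => by
    show (𝟙 At * (toUnit At ≫ δ)) ≫ (𝟙 At * (toUnit At ≫ δ')) = _
    rw [MonObj.comp_mul, Category.comp_id, ← Category.assoc, toUnit_unique (_ ≫ toUnit At) (toUnit At)]
    simp only [s, MonObj.comp_mul, _root_.mul_assoc]
  have hiso : ∀ δ, IsIso (s δ).left := fun δ => by
    have h1 : s (1 : 𝟙_ (Over (Spec (CommRingCat.of k))) ⟶ At) = 𝟙 At := by simp [s]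
    haveI : IsIso (s δ) := ⟨s δ⁻¹, by rw [hs, mul_inv_cancel, h1], by rw [hs, inv_mul_cancel, h1]⟩
    exact inferInstanceAs (IsIso ((Over.forget _).map (s δ)))
  have hα : ∀ α δ, CubeField.rpt (α * δ) = (s δ).left (CubeField.rpt α) := fun α δ => by
    rw [show α * δ = α ≫ s δ by simp [s, MonObj.comp_mul]]
    exact CubeField.rpt_comp α (s δ)
  constructor <;> intro h' i hi <;> obtain ⟨Z, hZ, hd, hsub⟩ := h' i hi
  · haveI := hiso pt0
    haveI : IsFinite (s pt0).left := inferInstance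
    refine ⟨(s pt0).left '' Z, Scheme.Hom.isClosedMap (s pt0).left Z hZ, (dim_image_of_finite (s pt0).left hZ).symm ▸ hd, fun α hpos => ?_⟩
    rw [range_base_eq, Set.singleton_subset_iff]
    refine ⟨CubeField.rpt (pt0⁻¹ * α), (hsub (pt0⁻¹ * α) (Nat.pos_of_ne_zero fun h0 => hpos.ne' ?_))
      (range_base_eq (pt0⁻¹ * α) ▸ rfl), ?_⟩
    · simpa using (h (pt0⁻¹ * α) i).1 h0
    · rw [← hα, mul_comm pt0⁻¹, inv_mul_cancel_right]
  · haveI := hiso pt0⁻¹
    haveI : IsFinite (s pt0⁻¹).left := inferInstance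
    refine ⟨(s pt0⁻¹).left '' Z, Scheme.Hom.isClosedMap (s pt0⁻¹).left Z hZ, (dim_image_of_finite (s pt0⁻¹).left hZ).symm ▸ hd, fun α hpos => ?_⟩
    rw [range_base_eq, Set.singleton_subset_iff]
    refine ⟨CubeField.rpt (pt0 * α), (hsub (pt0 * α) (Nat.pos_of_ne_zero fun h0 => hpos.ne' ((h α i).2 h0)))
      (range_base_eq (pt0 * α) ▸ rfl), ?_⟩
    rw [← hα, mul_comm pt0, mul_inv_cancel_right]

section rescale

variable (g : ℕ) {F L L' : A.left.Modules} (hF : Coh.IsCoh F) (hL : CohB1.IsAmple L)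
  (hLL' : Nonempty (CohB1.tensorMod L L' ≅ Coh.structureModule A.left))

include hφ hP hξ hF hL hLL' in
/-- Generic vanishing does not depend on the representative of the rational twist. -/
theorem gv_rescale (b : ℕ) (m : ℤ) (d : ℕ) (hd : 0 < d) :
    (∀ i : ℕ, 1 ≤ i → ∃ Z : Set ↥At.left, IsClosed Z ∧
        topologicalKrullDim ↥Z < ((g - i + 1 : ℕ) : WithBot ℕ∞) ∧
        ∀ α : 𝟙_ (Over (Spec (CommRingCat.of k))) ⟶ At,
          0 < W4c5cohrankabvar.hAt k P (W4c5cohrankabvar.twist A F L L' b m) α i → Set.range α.left.base ⊆ Z) ↔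
      ∀ i : ℕ, 1 ≤ i → ∃ Z : Set ↥At.left, IsClosed Z ∧
        topologicalKrullDim ↥Z < ((g - i + 1 : ℕ) : WithBot ℕ∞) ∧
        ∀ α : 𝟙_ (Over (Spec (CommRingCat.of k))) ⟶ At,
          0 < W4c5cohrankabvar.hAt k P (W4c5cohrankabvar.twist A F L L' (b * d) (m * ((d * d : ℕ) : ℤ))) α i →
            Set.range α.left.base ⊆ Z := by
  haveI : GeometricallyIntegral A.hom := AbRigid.geometricallyIntegral_of_smooth A
  haveI := isCommMonObj_of_isProper_of_geometricallyIntegral A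
  have hL' := isInvertible_of_ample_inverse hL.1 hLL'
  obtain ⟨N, hN, hInv, ⟨e⟩⟩ := exists_pull_pow_twist F hL.1 hL' hLL' b m d
  obtain ⟨hf, -, hs⟩ := AVDegree22.isFinite_flat_surjective_pow A hd
  haveI := hf; haveI := hs
  haveI : IsMonHom ((𝟙 A) ^ d) := AVDegree22.isMonHom_pow_rel A d
  have hT := isCoh_twist hF hL.1 hL' b m
  rw [gv_pullback_iff hφ hP hξ hφ hP hξ ((𝟙 A) ^ d) hT g,
    ← gv_shift hφ hP hξ hL (isCoh_twist hF hL.1 hL' (b * d) (m * ((d * d : ℕ) : ℤ))) hN hInv g]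
  refine forall₂_congr fun i _ => exists_congr fun Z => and_congr_right fun _ => and_congr_right fun _ =>
    forall_congr' fun β => imp_congr_left ?_
  rw [Nat.pos_iff_ne_zero, Nat.pos_iff_ne_zero]
  exact not_congr (hAt_eq_zero_congr hP e (M1.isCoh_pullback _ hT) β i)

include hφ hP hξ hF hL hLL' in
/-- Vanishing for all twists does not depend on the representative of the rational twist. -/
theorem it0_rescale (b : ℕ) (m : ℤ) (d : ℕ) (hd : 0 < d) :
    (∀ (i : ℕ) (α : 𝟙_ (Over (Spec (CommRingCat.of k))) ⟶ At), 1 ≤ i →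
        W4c5cohrankabvar.hAt k P (W4c5cohrankabvar.twist A F L L' b m) α i = 0) ↔
      ∀ (i : ℕ) (α : 𝟙_ (Over (Spec (CommRingCat.of k))) ⟶ At), 1 ≤ i →
        W4c5cohrankabvar.hAt k P (W4c5cohrankabvar.twist A F L L' (b * d) (m * ((d * d : ℕ) : ℤ))) α i = 0 := by
  haveI : GeometricallyIntegral A.hom := AbRigid.geometricallyIntegral_of_smooth A
  haveI := isCommMonObj_of_isProper_of_geometricallyIntegral A
  have hL' := isInvertible_of_ample_inverse hL.1 hLL'
  obtain ⟨N, hN, hInv, ⟨e⟩⟩ := exists_pull_pow_twist F hL.1 hL' hLL' b m d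
  obtain ⟨hf, -, hs⟩ := AVDegree22.isFinite_flat_surjective_pow A hd
  haveI := hf; haveI := hs
  haveI : IsMonHom ((𝟙 A) ^ d) := AVDegree22.isMonHom_pow_rel A d
  have hT := isCoh_twist hF hL.1 hL' b m
  rw [it0_pullback_iff hφ hP hξ hφ hP hξ ((𝟙 A) ^ d) hT,
    ← it0_shift hφ hP hξ hL (isCoh_twist hF hL.1 hL' (b * d) (m * ((d * d : ℕ) : ℤ))) hN hInv]
  exact forall₂_congr fun i β => imp_congr_right fun _ => hAt_eq_zero_congr hP e (M1.isCoh_pullback _ hT) β i

end rescale

include hφ hP hξ in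
/-- A module with generic vanishing tensored with a bundle without higher twisted cohomology has none either. -/
theorem it0_tensor_of_gv {g : ℕ} (hg : topologicalKrullDim A.left = g) {M H : A.left.Modules} (hM : Coh.IsCoh M)
    (hH : FlatMod.IsFinLocFree H)
    (hgv : ∀ i : ℕ, 1 ≤ i → topologicalKrullDim ↥(CohB1.support (fmH P M i)) < ((g - i + 1 : ℕ) : WithBot ℕ∞))
    (hit : ∀ (i : ℕ) (α : 𝟙_ (Over (Spec (CommRingCat.of k))) ⟶ At), 1 ≤ i → W4c5cohrankabvar.hAt k P H α i = 0)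
    (i : ℕ) (α : 𝟙_ (Over (Spec (CommRingCat.of k))) ⟶ At) (hi : 1 ≤ i) :
    W4c5cohrankabvar.hAt k P (CohB1.tensorMod M H) α i = 0 := by
  haveI : IsLocallyNoetherian A.left := LocallyOfFiniteType.isLocallyNoetherian A.hom
  haveI : CompactSpace A.left := QuasiCompact.compactSpace_of_compactSpace A.hom
  haveI : DCoh.HasRΓ A.left := KInjLib.hasRightDerivedFunctor KInjLib.enoughKInj_of_grothendieck _
  haveI : GeometricallyIntegral At.hom := AbRigid.geometricallyIntegral_of_smooth At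
  haveI : AlgebraicGeometry.IsIntegral At.left := GeometricallyIntegral.isIntegral_of_subsingleton At.hom
  haveI : IrreducibleSpace At.left := inferInstance
  have hHc : Coh.IsCoh H := CohFound.isCoh_of_isFinLocFree hH
  obtain ⟨hgt, -⟩ := isPLike_swP hφ hP hξ hg
  let S := (DerivedCategory.singleFunctor A.left.Modules 0).obj M
  have hp := isPerfect_single (A := A) hM
  obtain ⟨hc, c, b, hc', hb⟩ := exists_bounds_phiK hP hp
  haveI := hc'
  have hcodim : ∀ (j : ℕ) (y : At.left), y ∈ CohB1.support (fmH P M (j : ℤ)) →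
      (j : WithBot ℕ∞) ≤ ringKrullDim (At.left.presheaf.stalk y) := by
    intro j y hy
    rcases Nat.eq_zero_or_pos j with rfl | hj
    · exact_mod_cast ringKrullDim_nonneg_of_nontrivial
    have hcl := M1.isClosed_support (isCoh_fmH hP hM (j : ℤ)).2
    refine le_dim_stalk_of_mem_closure hgt (subset_closure hy) j ?_
    rw [hcl.closure_eq]
    have hle := Snapper.le_of_lt_natCast_succ (hgv j hj)
    rcases le_or_gt j g with hjg | hjg
    · refine (add_le_add hle le_rfl).trans ?_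
      exact_mod_cast (show g - j + j ≤ g by omega)
    · exfalso
      haveI : JacobsonSpace At.left := LocallyOfFiniteType.jacobsonSpace At.hom
      obtain ⟨x, hx, hxc⟩ := nonempty_inter_closedPoints ⟨y, hy⟩ hcl.isLocallyClosed
      obtain ⟨t, rfl⟩ := CubeField.exists_rpt (X := At) hxc
      obtain ⟨l, hl, hpos⟩ := exists_hAt_of_mem_support hP hM t j hj hx
      refine hpos.ne' ((hAt_eq_zero_iff hP hM t l).2 ?_)
      rw [CohFound.subsingleton_HH_iff]
      exact subsingleton_hc_of_dim_stalk hg.le _ 0 (fun z _ => by exact_mod_cast ringKrullDim_nonneg_of_nontrivial)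
        l (by omega)
  let Pα := W4c5cohrankabvar.ptLB P α
  have hPα : PicF.IsInvertible Pα := PicLoc.isInvertible_pullback _ hP
  haveI : DCoh.HasLTensorMod Pα := KFlat.Sch.hasLTensorMod _
  haveI : DCoh.HasLTensorMod H := KFlat.Sch.hasLTensorMod _
  haveI : DCoh.HasLTensorCx (Exact8.FMVanish.sgl H) := KFlat.Sch.hasLTensorCx _
  have hSc : DCoh.IsCohD S := fun j => by
    rcases eq_or_ne j 0 with rfl | hj
    · exact BC8.isCoh_iso ((DerivedCategory.singleFunctorCompHomologyFunctorIso A.left.Modules 0).app M).symm hM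
    · rcases lt_or_gt_of_ne hj with h | h
      · exact DPerf.isCoh_of_isZero (DerivedCategory.isZero_of_isGE S 0 j h)
      · exact DPerf.isCoh_of_isZero (DerivedCategory.isZero_of_isLE S 0 j h)
  have hz := isZero_rGamma_tensor hφ hP hξ hHc (fun β l hl => (hAt_eq_zero_iff hP hHc β l).1 (hit l β hl))
    hSc 0 0 inferInstance inferInstance c hcodim α i hi
  -- the derived twist of a module by a bundle
  haveI := LocFreeDual.preservesFiniteLimits_tensor H hH
  obtain ⟨tw⟩ := PnKoszul9.nonempty_ltensorMod_twD (M := H)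
  let eW : (DCoh.LTensorMod H).obj S ≅ (DerivedCategory.singleFunctor A.left.Modules 0).obj (CohB1.tensorMod M H) :=
    tw.app S ≪≫ PnKoszul9.twDSingle H M 0
  obtain ⟨c'⟩ := nonempty_LT_tenF Pα hPα
  obtain ⟨m⟩ := nonempty_modM_tensor (CohB1.tensorMod M H) Pα hPα
  rw [hAt_eq_zero_iff hP (CohFound.isCoh_tensor hM hHc)]
  refine subsingleton_HH_of_isZero_rGamma _ i hi (hz.of_iso ((DerivedCategory.homologyFunctor AddCommGrpCat.{u} (i : ℤ)).mapIso
    ((DCoh.RΓ A.left).mapIso ?_)))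
  exact (m : (tenF Pα).obj ((DerivedCategory.singleFunctor _ 0).obj (CohB1.tensorMod M H)) ≅
      (DerivedCategory.singleFunctor A.left.Modules 0).obj (CohB1.tensorMod (CohB1.tensorMod M H) Pα)).symm ≪≫
    c'.symm.app _ ≪≫ (DCoh.LTensorMod Pα).mapIso eW.symm

include hφ hP hξ in
/-- Tensor products of twists: generic vanishing plus none gives none. -/
theorem it0_twist_tensor {g : ℕ} (hg : topologicalKrullDim A.left = g) {F G L L' : A.left.Modules} (hF : Coh.IsCoh F)
    (hG : FlatMod.IsFinLocFree G) (hL : CohB1.IsAmple L)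
    (hLL' : Nonempty (CohB1.tensorMod L L' ≅ Coh.structureModule A.left)) (a c : ℤ) (b d : ℕ) (hb : 0 < b) (hd : 0 < d)
    (hFgv : ∀ i : ℕ, 1 ≤ i → ∃ Z : Set ↥At.left, IsClosed Z ∧
        topologicalKrullDim ↥Z < ((g - i + 1 : ℕ) : WithBot ℕ∞) ∧
        ∀ α : 𝟙_ (Over (Spec (CommRingCat.of k))) ⟶ At,
          0 < W4c5cohrankabvar.hAt k P (W4c5cohrankabvar.twist A F L L' b (a * b)) α i → Set.range α.left.base ⊆ Z)
    (hGit : ∀ (i : ℕ) (α : 𝟙_ (Over (Spec (CommRingCat.of k))) ⟶ At), 1 ≤ i →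
      W4c5cohrankabvar.hAt k P (W4c5cohrankabvar.twist A G L L' d (c * d)) α i = 0) :
    ∀ (i : ℕ) (α : 𝟙_ (Over (Spec (CommRingCat.of k))) ⟶ At), 1 ≤ i →
      W4c5cohrankabvar.hAt k P (W4c5cohrankabvar.twist A (CohB1.tensorMod F G) L L' (b * d)
        ((a * d + b * c) * ((b * d : ℕ) : ℤ))) α i = 0 := by
  haveI : GeometricallyIntegral A.hom := AbRigid.geometricallyIntegral_of_smooth A
  haveI : IsLocallyNoetherian A.left := LocallyOfFiniteType.isLocallyNoetherian A.hom
  have hL' := isInvertible_of_ample_inverse hL.1 hLL'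
  rw [gv_rescale hφ hP hξ g hF hL hLL' b (a * b) d hd] at hFgv
  rw [it0_rescale hφ hP hξ (CohFound.isCoh_of_isFinLocFree hG) hL hLL' d (c * d) b hb] at hGit
  have hM := isCoh_twist hF hL.1 hL' (b * d) (a * b * ((d * d : ℕ) : ℤ))
  have hH : FlatMod.IsFinLocFree (W4c5cohrankabvar.twist A G L L' (d * b) (c * d * ((b * b : ℕ) : ℤ))) :=
    M2.isFinLocFree_tensor (M2.isFinLocFree_pullback _ hG)
      (M2.isFinLocFree_of_isInvertible (isInvertible_zpow hL.1 hL' _))
  intro i α hi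
  have h := it0_tensor_of_gv hφ hP hξ hg hM hH ((gv_iff hP hM g).1 hFgv) hGit i α hi
  have z₁ := isInvertible_zpow hL.1 hL' (a * b * ((d * d : ℕ) : ℤ))
  have z₂ := isInvertible_zpow hL.1 hL' (c * d * ((b * b : ℕ) : ℤ))
  obtain ⟨ez⟩ : Nonempty (CohB1.tensorMod (W4c5cohrankabvar.zpow L L' (a * b * ((d * d : ℕ) : ℤ)))
      (W4c5cohrankabvar.zpow L L' (c * d * ((b * b : ℕ) : ℤ))) ≅
      W4c5cohrankabvar.zpow L L' ((a * d + b * c) * ((b * d : ℕ) : ℤ))) := by
    refine FMBase13.nonempty_iso_of_cls (hL := M2.isInvertible_tensor z₁ z₂) (hM := isInvertible_zpow hL.1 hL' _) ?_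
    rw [← AlgEquiv22.cls_tensor z₁ z₂, cls_zpow hL.1 hL' hLL', cls_zpow hL.1 hL' hLL', cls_zpow hL.1 hL' hLL', ← zpow_add]
    congr 1
    push_cast
    ring
  obtain ⟨p⟩ : Nonempty ((Scheme.Modules.pullback ((𝟙 A) ^ (d * b)).left).obj G ≅
      (Scheme.Modules.pullback ((𝟙 A) ^ (b * d)).left).obj G) := by rw [Nat.mul_comm d b]; exact ⟨Iso.refl _⟩
  refine (hAt_eq_zero_congr hP ?_ (CohFound.isCoh_tensor hM (CohFound.isCoh_of_isFinLocFree hH)) α i).1 h
  exact M2.tensorAssoc _ _ _ ≪≫ M2.tensorIso (Iso.refl _)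
      ((M2.tensorAssoc _ _ _).symm ≪≫ M2.tensorIso (M2.tensorComm _ _) (Iso.refl _) ≪≫ M2.tensorAssoc _ _ _) ≪≫
    (M2.tensorAssoc _ _ _).symm ≪≫
    M2.tensorIso (M2.tensorIso (Iso.refl _) p ≪≫ (M2.pullTensorIso _ _ _).symm) ez

include hφ hP hξ in
/-- A restriction of the Poincaré module is additive. -/
theorem add_slice [GeometricallyIntegral A.hom] (α : 𝟙_ (Over (Spec (CommRingCat.of k))) ⟶ At) :
    Add (PicGrp.cls (W4c5cohrankabvar.ptLB P α) (PicLoc.isInvertible_pullback _ hP)) := fun V f g => by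
  have e : ∀ q : V ⟶ A, q ≫ lift (𝟙 A) (toUnit A ≫ α) = lift q (toUnit V ≫ α) := fun q => by
    apply CartesianMonoidalCategory.hom_ext <;> simp
  rw [← RosTrace22.pb_cls (lift (𝟙 A) (toUnit A ≫ α)) hP, pb_pb, pb_pb, pb_pb, e, e, e]
  apply Subtype.ext
  rw [PicGrp.mul_val, PicGrp.pullHom_apply_val, PicGrp.pullHom_apply_val, PicGrp.pullHom_apply_val, PicGrp.cls_val]
  exact Poincare22.pull_lift_mul hφ hξ f g (toUnit V ≫ α)

include hφ hP hξ in
/-- A positive power of an ample module has no higher twisted cohomology. -/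
theorem it0_twist_unit [GeometricallyIntegral A.hom] {L L' : A.left.Modules} (hL : CohB1.IsAmple L) (d n : ℕ) (hn : 0 < n)
    (i : ℕ) (α : 𝟙_ (Over (Spec (CommRingCat.of k))) ⟶ At) (hi : 1 ≤ i) :
    W4c5cohrankabvar.hAt k P (W4c5cohrankabvar.twist A (Coh.structureModule A.left) L L' d (n : ℤ)) α i = 0 := by
  haveI : IsLocallyNoetherian A.left := LocallyOfFiniteType.isLocallyNoetherian A.hom
  haveI : CompactSpace A.left := QuasiCompact.compactSpace_of_compactSpace A.hom
  have hn' := M2.isInvertible_tensorPow hL.1 n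
  let e : CohB1.tensorMod ((Scheme.Modules.pullback ((𝟙 A) ^ d).left).obj (Coh.structureModule A.left))
      (CohB1.tensorPow L n) ≅ CohB1.tensorPow L n :=
    M2.tensorIso (PicLoc.pullbackStructureIso _) (Iso.refl _) ≪≫ M2.tensorLUnit _
  show W4c5cohrankabvar.hAt k P (CohB1.tensorMod _ (CohB1.tensorPow L n)) α i = 0
  rw [hAt_eq_zero_congr hP e (CohFound.isCoh_tensor (M1.isCoh_pullback _ (CohFound.isCoh_of_isFinLocFree
      (M2.isFinLocFree_of_isInvertible (PicLoc.isInvertible_structureModule A.left)))) (CubeField.isCoh_of_isInvertible hn')),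
    hAt_eq_zero_iff hP (CubeField.isCoh_of_isInvertible hn')]
  exact subsingleton_of_isAmple (isAmple_tensor_of_add ((Amp.isAmple_tensorPow_iff hL.1 hn).2 hL)
    (PicLoc.isInvertible_pullback _ hP) (add_slice hφ hP hξ α)) hi

end Groth.Agent.FMHyp13


end
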