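import Groth.Agent.Lib.FMHyp13.HgenMul
import Groth.Agent.Lib.FMHyp13.TwistArith
import Groth.Agent.Lib.FMHyp13.GVLimit
import Groth.Agent.Lib.HodgeDim13.Hodge

/-!
# Dimensions of cohomology as ranks over the ground field, and their formal rules
-/

set_option autoImplicit false
set_option linter.style.haveILetI false
set_option linter.unusedSectionVars false
set_option backward.isDefEq.respectTransparency false
set_option backward.isDefEq.respectTransparency.types false
set_option maxHeartbeats 1600000

universe u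

open CategoryTheory CategoryTheory.Limits MonoidalCategory CartesianMonoidalCategory AlgebraicGeometry
open TopologicalSpace
open scoped MonObj GrpObj

noncomputable section

namespace Groth.Agent.FMHyp13

open Groth.Agent Groth.Agent.AgPol22

noncomputable local instance instLawPointRank (Y : Scheme.{u}) : PicGrp.Law Y := M2.law Y

variable {k : Type u} [Field k]

/-- A direct sum of copies. -/
theorem finrank_HH_biproduct_const {X : Scheme.{u}} [X.Over (Spec (CommRingCat.of k))] (M : X.Modules) (r n : ℕ)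
    [Module.Finite k (Coh.HH X M n)] :
    Module.finrank k (Coh.HH X (⨁ fun _ : Fin r => M) n) = r * Module.finrank k (Coh.HH X M n) := by
  open CurveCoh17 in
  let G : Fin r → X.Modules := fun _ => M
  let a : Coh.HH X (⨁ G) n ≃ₗ[k] (Fin r → Coh.HH X M n) :=
    { toFun := fun x i => CurveCoh17.hmap k (biproduct.π G i) n x
      map_add' := fun x y => funext fun i => map_add _ x y
      map_smul' := fun c x => funext fun i => map_smul _ c x
      invFun := fun y => ∑ i, CurveCoh17.hmap k (biproduct.ι G i) n (y i)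
      left_inv := fun x => by
        show ∑ i, CurveCoh17.hmap k (biproduct.ι G i) n (CurveCoh17.hmap k (biproduct.π G i) n x) = x
        conv_rhs => rw [← CurveCoh17.hmap_id k (⨁ G) n x, ← biproduct.total, CurveCM.hmap_sum]
        exact Finset.sum_congr rfl fun i _ => (CurveCoh17.hmap_comp k _ _ n x).symm
      right_inv := fun y => funext fun j => by
        show CurveCoh17.hmap k (biproduct.π G j) n (∑ i, CurveCoh17.hmap k (biproduct.ι G i) n (y i)) = y j
        rw [map_sum, Finset.sum_eq_single j]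
        · rw [← CurveCoh17.hmap_comp, biproduct.ι_π_self, CurveCoh17.hmap_id]
        · intro i _ hij
          rw [← CurveCoh17.hmap_comp, biproduct.ι_π_ne G hij, CurveCoh17.hmap_zero]
        · simp }
  rw [a.finrank_eq, Module.finrank_pi_fintype, Finset.sum_const, Finset.card_univ, Fintype.card_fin, smul_eq_mul]

variable {A : Over (Spec (CommRingCat.of k))} [IsProper A.hom]

/-- Cohomology is the rank of the higher direct image over the ground field. -/
theorem genRk_rpush_point [HasInjectiveResolutions A.left.Modules] {M : A.left.Modules} (hM : Coh.IsCoh M) (p : ℕ) :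
    genRk ((Coh.Rpush A.hom p).obj M) =
      (letI : A.left.Over (Spec (CommRingCat.of k)) := ⟨A.hom⟩; Module.finrank k (Coh.HH A.left M p)) := by
  letI : A.left.Over (Spec (CommRingCat.of k)) := ⟨A.hom⟩
  haveI : IsNoetherian (Spec (CommRingCat.of k)) := inferInstance
  rw [← fiberRank_genericPoint A.hom hM (fun x => NumPoly18.isFlatOver_field _ _ x) p,
    show genericPoint (Spec (CommRingCat.of k)) = (𝟙 (Spec (CommRingCat.of k))) ⟨⊥, Ideal.isPrime_bot⟩ from
      Subsingleton.elim (α := PrimeSpectrum k) _ _,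
    NumPoly18.fiberRank_eq_finrank (X' := A.left) A.hom hM (fun x => NumPoly18.isFlatOver_field _ _ x) (𝟙 A.left)
      (𝟙 _) (IsPullback.of_horiz_isIso ⟨by simp only [Category.id_comp, Category.comp_id]; rfl⟩) p]
  exact (CBC10.hmapLinEquiv k ((Scheme.Modules.pullbackId A.left).app M) p).finrank_eq

variable [IsAlgClosed k] {At : Over (Spec (CommRingCat.of k))} [Smooth A.hom]
  {P : (PicF.XT A.hom At).Modules} (hP : PicF.IsInvertible P)

/-- Isomorphic modules have the same twisted dimensions. -/
theorem hAt_congr {G G' : A.left.Modules} (e : G ≅ G') (α : 𝟙_ (Over (Spec (CommRingCat.of k))) ⟶ At) (i : ℕ) :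
    W4c5cohrankabvar.hAt k P G α i = W4c5cohrankabvar.hAt k P G' α i := by
  letI : A.left.Over (Spec (CommRingCat.of k)) := ⟨A.hom⟩
  exact (CBC10.hmapLinEquiv k (M2.tensorIso e (Iso.refl (W4c5cohrankabvar.ptLB P α))) i).finrank_eq

/-- Isomorphic modules have the same generic dimensions. -/
theorem hgen_congr {G G' : A.left.Modules} (e : G ≅ G') (i : ℕ) :
    W4c5cohrankabvar.hgen k P G i = W4c5cohrankabvar.hgen k P G' i :=
  iInf_congr fun α => hAt_congr e α i

include hP in
/-- Twisted dimensions of a multiple. -/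
theorem hAt_free_tensor {G : A.left.Modules} (hG : Coh.IsCoh G) (r : ℕ)
    (α : 𝟙_ (Over (Spec (CommRingCat.of k))) ⟶ At) (i : ℕ) :
    W4c5cohrankabvar.hAt k P (CohB1.tensorMod (FlatMod.freeMod A.left r) G) α i =
      r * W4c5cohrankabvar.hAt k P G α i := by
  letI : A.left.Over (Spec (CommRingCat.of k)) := ⟨A.hom⟩
  haveI : IsProper (A.left ↘ Spec (CommRingCat.of k)) := inferInstanceAs (IsProper A.hom)
  haveI : IsLocallyNoetherian A.left := LocallyOfFiniteType.isLocallyNoetherian A.hom
  haveI : CompactSpace A.left := QuasiCompact.compactSpace_of_compactSpace A.hom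
  let Pα := W4c5cohrankabvar.ptLB P α
  have hc : Coh.IsCoh (CohB1.tensorMod G Pα) :=
    CohFound.isCoh_tensor hG (CubeField.isCoh_of_isInvertible (PicLoc.isInvertible_pullback _ hP))
  haveI := CohFound.finite_HH_of_isProper (A := k) _ hc i
  let e : CohB1.tensorMod (CohB1.tensorMod (FlatMod.freeMod A.left r) G) Pα ≅ ⨁ fun _ : Fin r => CohB1.tensorMod G Pα :=
    M2.tensorAssoc _ _ _ ≪≫ PreservesCoproduct.iso (M2.tensorR (CohB1.tensorMod G Pα)) _ ≪≫
      (Sigma.mapIso fun _ => M2.tensorLUnit _) ≪≫ (biproduct.isoCoproduct _).symm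
  exact ((CBC10.hmapLinEquiv k e i).finrank_eq).trans (finrank_HH_biproduct_const _ r i)

include hP in
/-- Generic dimensions of a multiple. -/
theorem hgen_free_tensor [Nonempty (𝟙_ (Over (Spec (CommRingCat.of k))) ⟶ At)] {G : A.left.Modules}
    (hG : Coh.IsCoh G) (r i : ℕ) :
    W4c5cohrankabvar.hgen k P (CohB1.tensorMod (FlatMod.freeMod A.left r) G) i =
      r * W4c5cohrankabvar.hgen k P G i := by
  refine le_antisymm ?_ (le_ciInf fun α => ?_)
  · obtain ⟨α, hα⟩ := Nat.sInf_mem (Set.range_nonempty fun α => W4c5cohrankabvar.hAt k P G α i)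
    refine (ciInf_le' _ α).trans ?_
    rw [hAt_free_tensor hP hG r α i]
    exact le_of_eq (congrArg (r * ·) hα)
  · rw [hAt_free_tensor hP hG r α i]
    exact Nat.mul_le_mul_left r (ciInf_le' _ α)

variable [GrpObj A] [GrpObj At] [GeometricallyConnected A.hom] [IsProper At.hom] [Smooth At.hom]
  [GeometricallyConnected At.hom] {φ : AgPol.DualMap A At} (hφ : AbDual.IsDualAV Scheme.fppfPrecoverage A At φ)
  (hξ : AbDual.IsPoincareCl A At φ (PicF.cl P))

include hφ hP hξ in
/-- Twisting by a restriction of the Poincaré module translates the dimensions. -/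
theorem hAt_shift_eq (G : A.left.Modules) (pt0 α : 𝟙_ (Over (Spec (CommRingCat.of k))) ⟶ At) (i : ℕ) :
    W4c5cohrankabvar.hAt k P (CohB1.tensorMod G (W4c5cohrankabvar.ptLB P pt0)) α i =
      W4c5cohrankabvar.hAt k P G (pt0 * α) i := by
  letI : A.left.Over (Spec (CommRingCat.of k)) := ⟨A.hom⟩
  have hpt0 : PicF.IsInvertible (W4c5cohrankabvar.ptLB P pt0) := PicLoc.isInvertible_pullback _ hP
  have hα : PicF.IsInvertible (W4c5cohrankabvar.ptLB P α) := PicLoc.isInvertible_pullback _ hP
  obtain ⟨e⟩ : Nonempty (CohB1.tensorMod (W4c5cohrankabvar.ptLB P pt0) (W4c5cohrankabvar.ptLB P α) ≅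
      W4c5cohrankabvar.ptLB P (pt0 * α)) := by
    refine FMBase13.nonempty_iso_of_cls (hL := M2.isInvertible_tensor hpt0 hα)
      (hM := PicLoc.isInvertible_pullback _ hP) ?_
    rw [← AlgEquiv22.cls_tensor hpt0 hα, ← FMBase13.ev_eq_cls hP hξ, ← FMBase13.ev_eq_cls hP hξ, ← FMBase13.ev_eq_cls hP hξ,
      ← ev_mul_right hφ hξ, ← MonObj.comp_mul]
  exact (CBC10.hmapLinEquiv k (M2.tensorAssoc _ _ _ ≪≫ M2.tensorIso (Iso.refl _) e) i).finrank_eq

include hφ hP hξ in
/-- Translation invariant twists do not change the generic dimensions. -/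
theorem hgen_shift [GeometricallyIntegral A.hom] {L : A.left.Modules} (hL : CohB1.IsAmple L) (G : A.left.Modules)
    {N : A.left.Modules} (hN : PicF.IsInvertible N) (hInv : AlgEquiv22.Inv (PicGrp.cls N hN)) (i : ℕ) :
    W4c5cohrankabvar.hgen k P (CohB1.tensorMod G N) i = W4c5cohrankabvar.hgen k P G i := by
  obtain ⟨pt0, ⟨e⟩⟩ := exists_point_of_inv hφ hP hξ hL hN hInv
  exact (iInf_congr fun α => (hAt_congr (M2.tensorIso (Iso.refl G) e) α i).trans
      (hAt_shift_eq hP hφ hξ G pt0 α i)).trans
    ((Equiv.mulLeft pt0).surjective.iInf_comp fun α => W4c5cohrankabvar.hAt k P G α i)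

include hφ hP hξ in
/-- The generic dimensions are unchanged by inversion. -/
theorem hgen_inv {G : A.left.Modules} (hG : Coh.IsCoh G) (i : ℕ) :
    W4c5cohrankabvar.hgen k P ((Scheme.Modules.pullback ((𝟙 A)⁻¹).left).obj G) i =
      W4c5cohrankabvar.hgen k P G i :=
  (iInf_congr fun α => hAt_inv_eq hφ hP hξ hG α i).trans
    ((Equiv.inv _).surjective.iInf_comp fun α => W4c5cohrankabvar.hAt k P G α i)

end Groth.Agent.FMHyp13

end
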