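import Groth.Agent.Lib.FMHyp13.GVLimit
import Groth.Agent.Lib.FMHyp13.PointRank
import Groth.Agent.Lib.FMHyp13.AcyclicPush
import Groth.Agent.Lib.FMHyp13.SwapS
import Groth.Agent.Lib.RR22.Kunneth
import Groth.Agent.Lib.MumVan22.Surj

/-!
# The generic dimensions of small negative twists from the transform
-/

set_option autoImplicit false
set_option linter.style.haveILetI false
set_option linter.unusedSectionVars false
set_option backward.isDefEq.respectTransparency false
set_option backward.isDefEq.respectTransparency.types false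
set_option maxHeartbeats 3200000

universe u

open CategoryTheory CategoryTheory.Limits MonoidalCategory CartesianMonoidalCategory AlgebraicGeometry
open TopologicalSpace
open scoped MonObj GrpObj

attribute [local instance] HasDerivedCategory.standard

noncomputable section

namespace Groth.Agent.FMHyp13

open DMon9 DBC9 TwistBC9 FMBase13 Groth.Agent Groth.Agent.RosTrace22

attribute [local instance] DBC9.hasRpush

noncomputable local instance instLawExPos (Y : Scheme.{u}) : PicGrp.Law Y := M2.law Y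

variable {k : Type u} [Field k]

variable [IsAlgClosed k] {A At : Over (Spec (CommRingCat.of k))} [GrpObj A] [GrpObj At]
  [IsProper A.hom] [Smooth A.hom] [GeometricallyConnected A.hom]
  [IsProper At.hom] [Smooth At.hom] [GeometricallyConnected At.hom]
  {φ : AgPol.DualMap A At} (hφ : AbDual.IsDualAV Scheme.fppfPrecoverage A At φ)
  {P : (PicF.XT A.hom At).Modules} (hP : PicF.IsInvertible P) (hξ : AbDual.IsPoincareCl A At φ (PicF.cl P))

variable {g : ℕ} {L L' : A.left.Modules} (hL : CohB1.IsAmple L)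
  (hLL' : Nonempty (CohB1.tensorMod L L' ≅ Coh.structureModule A.left))

include hφ hP hξ hLL' in
/-- The shape of the pulled back transform of a positive power. -/
theorem exists_positive_transform {n : ℕ} (hn : 0 < n)
    (f : A ⟶ At) (hf : f = lamOf φ (PicGrp.cls L hL.1)) [Flat f.left]
    (h : A ⟶ A) [Flat h.left] [Surjective h.left] (hh : h = (𝟙 A) ^ n) :
    (∀ i : ℤ, i ≠ 0 → IsZero (DCoh.HD ((lP f.left).obj ((phiK (fst A At).left (snd A At).left P).obj
        ((DerivedCategory.singleFunctor A.left.Modules 0).obj (CohB1.tensorPow L n)))) i)) ∧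
      ∃ r : ℕ, Nonempty ((Scheme.Modules.pullback h.left).obj (DCoh.HD ((lP f.left).obj
          ((phiK (fst A At).left (snd A At).left P).obj
            ((DerivedCategory.singleFunctor A.left.Modules 0).obj (CohB1.tensorPow L n)))) (0 : ℤ)) ≅
        CohB1.tensorMod (FlatMod.freeMod A.left r) (CohB1.tensorPow L' n)) ∧
        r = (letI : A.left.Over (Spec (CommRingCat.of k)) := ⟨A.hom⟩; Module.finrank k (Coh.HH A.left (CohB1.tensorPow L n) 0)) := by
  haveI : GeometricallyIntegral A.hom := AbRigid.geometricallyIntegral_of_smooth A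
  haveI := isCommMonObj_of_isProper_of_geometricallyIntegral A
  have hL' := isInvertible_of_ample_inverse hL.1 hLL'
  let M := CohB1.tensorPow L n
  let M' := CohB1.tensorPow L' n
  have hM : PicF.IsInvertible M := M2.isInvertible_tensorPow hL.1 n
  have hM' : PicF.IsInvertible M' := M2.isInvertible_tensorPow hL' n
  have hMM' : Nonempty (CohB1.tensorMod M M' ≅ Coh.structureModule A.left) :=
    nonempty_tensorPow_inverse hLL' n
  have hMc : PicGrp.cls M hM = PicGrp.cls L hL.1 ^ n := FGA3.cls_tensorPow hL.1 n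
  let Λ : (PicF.XT A.hom A).Modules := CohB1.tensorMod (CohB1.tensorMod ((Scheme.Modules.pullback μ[A].left).obj M)
    ((Scheme.Modules.pullback (fst A A).left).obj M')) ((Scheme.Modules.pullback (snd A A).left).obj M')
  have hΛc : PicF.cl Λ = (RR22.mumC (PicGrp.cls M hM)).1 := RR22.cl_mumford hM hMM' ⟨Iso.refl _⟩
  obtain ⟨pl⟩ := nonempty_pull_lambda hφ hP hξ hM hMM' (Λ := Λ) ⟨Iso.refl _⟩
    (by rw [hΛc]; exact picZero_mumC _)
  let fM : A ⟶ At := φ A (PicF.cl Λ)
  have hfM : fM = lamOf φ (PicGrp.cls M hM) := by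
    show φ A (PicF.cl Λ) = φ A _
    rw [hΛc]
  have hev : AgPol22.ev hξ (fst A A) (snd A A ≫ h ≫ f) = AgPol22.ev hξ (fst A A) (snd A A ≫ fM) := by
    rw [hfM, ← bil_eq_ev hφ hξ, ← Category.assoc, hf, ← bil_eq_ev hφ hξ, hMc, hh, MonObj.comp_pow,
      Category.comp_id, NS22.bil_pow_right]
    let B : PicLoc.PicSet A.left →* PicLoc.PicSet (A ⊗ A).left :=
      MonoidHom.mk' (fun c => Index22.bil c (fst A A) (snd A A)) fun c d => NS22.bil_cls_mul c d _ _
    exact (map_pow B (PicGrp.cls L hL.1) n).symm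
  let X₀ := (phiK (fst A At).left (snd A At).left P).obj ((DerivedCategory.singleFunctor A.left.Modules 0).obj M)
  let R := (DCoh.Rpush A.hom).obj ((DerivedCategory.singleFunctor A.left.Modules 0).obj M)
  obtain ⟨cg⟩ := nonempty_lP_phiK_congr hP hξ hev M hM
  let e : (lP h.left).obj ((lP f.left).obj X₀) ≅ (tenF M').obj ((lP A.hom).obj R) :=
    (lPComp h.left f.left (Over.comp_left _ _ _ h f).symm).app X₀ ≪≫ cg ≪≫ pl
  have key : ∀ i : ℤ, Nonempty ((Scheme.Modules.pullback h.left).obj (DCoh.HD ((lP f.left).obj X₀) i) ≅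
      CohB1.tensorMod ((Scheme.Modules.pullback A.hom).obj (DCoh.HD R i)) M') := fun i => by
    obtain ⟨a⟩ := nonempty_HD_lP_flat h.left ((lP f.left).obj X₀) i
    obtain ⟨b⟩ := nonempty_HD_tenF M' hM' ((lP A.hom).obj R) i
    obtain ⟨c⟩ := nonempty_HD_lP_flat A.hom R i
    exact ⟨a.symm ≪≫ (DerivedCategory.homologyFunctor _ i).mapIso e ≪≫ b ≪≫ M2.tensorIso c (Iso.refl _)⟩
  haveI : IsNoetherian (Spec (CommRingCat.of k)) := inferInstance
  haveI : HasInjectiveResolutions A.left.Modules := CohFound.hasInjectiveResolutions_modules _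
  haveI : IsLocallyNoetherian A.left := LocallyOfFiniteType.isLocallyNoetherian A.hom
  haveI : CompactSpace A.left := QuasiCompact.compactSpace_of_compactSpace A.hom
  letI : A.left.Over (Spec (CommRingCat.of k)) := ⟨A.hom⟩
  haveI : IsProper (A.left ↘ Spec (CommRingCat.of k)) := inferInstanceAs (IsProper A.hom)
  have hcoh : ∀ p : ℕ, Coh.IsCoh ((Coh.Rpush A.hom p).obj M) := fun p =>
    CohFound.isCoh_rpush A.hom (Snapper.isCoh_of_isInvertible hM) p
  refine ⟨fun i hi => ?_, ?_⟩
  · obtain ⟨k₀⟩ := key i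
    have hR : IsZero (DCoh.HD R i) := by
      rcases lt_or_ge i 0 with h' | h'
      · exact Poinc13.isZero_hd_rpush_neg A.hom M i h'
      · obtain ⟨p, rfl⟩ := Int.eq_ofNat_of_zero_le h'
        obtain ⟨r⟩ := Poinc13.nonempty_hd_rpush A.hom M p
        refine IsZero.of_iso ?_ r
        haveI : Subsingleton (Coh.HH A.left M p) := MumVan22.subsingleton_of_isAmple
          ((Amp.isAmple_tensorPow_iff hL.1 hn).2 hL) (Nat.pos_of_ne_zero fun h => hi (by exact_mod_cast h))
        exact isZero_rpush_affine A.hom (Snapper.isCoh_of_isInvertible hM).1 p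
    have hz := ((M2.tensorR M').map_isZero ((Scheme.Modules.pullback A.hom).map_isZero hR)).of_iso k₀
    have hq : Coh.IsCoh (DCoh.HD ((lP f.left).obj X₀) i) := by
      obtain ⟨a⟩ := nonempty_HD_lP_flat f.left X₀ i
      exact CohFound.isCoh_of_iso a.symm (M1.isCoh_pullback _ (isCoh_fmH hP (Snapper.isCoh_of_isInvertible hM) i))
    refine SerreCl8.isZero_of_support_eq_empty (Set.eq_empty_iff_forall_notMem.2 fun x hx => ?_)
    obtain ⟨z, rfl⟩ := h.left.surjective x
    have hz' : z ∈ CohB1.support ((Scheme.Modules.pullback h.left).obj (DCoh.HD ((lP f.left).obj X₀) i)) := by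
      rw [M2.support_pullback h.left hq.1 hq.2]; exact hx
    exact hz' (AddCommGrpCat.subsingleton_of_isZero ((M1.stalkAb z).map_isZero hz))
  · obtain ⟨k₀⟩ := key 0
    obtain ⟨r₀⟩ := Poinc13.nonempty_hd_rpush A.hom M 0
    haveI := CohFound.finite_HH_of_isProper (A := k) _ (Snapper.isCoh_of_isInvertible hM) 0
    obtain ⟨er⟩ := RR22.nonempty_push_iso_free (k := k) (Snapper.isCoh_of_isInvertible hM).1
    exact ⟨_, ⟨k₀ ≪≫ M2.tensorIso ((Scheme.Modules.pullback A.hom).mapIso
      (r₀ ≪≫ (Scheme.Modules.pushforward A.hom).rightDerivedZeroIsoSelf.app M ≪≫ er) ≪≫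
      M2.freeModPullbackIso _ _) (Iso.refl _)⟩, rfl⟩


include hφ hP hξ in
/-- The transform of a module twisted by a restriction of the Poincaré module is translated. -/
theorem nonempty_fmH_translate {G : A.left.Modules} (hG : Coh.IsCoh G) (α : 𝟙_ (Over (Spec (CommRingCat.of k))) ⟶ At)
    [Flat (𝟙 At * (toUnit At ≫ α)).left] (i : ℤ) :
    Nonempty (fmH P (CohB1.tensorMod G (W4c5cohrankabvar.ptLB P α)) i ≅
      (Scheme.Modules.pullback (𝟙 At * (toUnit At ≫ α)).left).obj (fmH P G i)) := by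
  haveI : IsProper (snd A At).left := inferInstanceAs (IsProper (pullback.snd A.hom At.hom))
  haveI : Flat (snd A At).left := inferInstanceAs (Flat (pullback.snd A.hom At.hom))
  let t := 𝟙 At * (toUnit At ≫ α)
  have hα : PicF.IsInvertible (W4c5cohrankabvar.ptLB P α) := PicLoc.isInvertible_pullback _ hP
  obtain ⟨c⟩ := nonempty_phiK_BC (fst A At).left (snd A At).left (isPullback_whisker A t) hP
  have h1 : (A ◁ t).left ≫ (fst A At).left = (fst A At).left := by rw [← Over.comp_left, whiskerLeft_fst]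
  obtain ⟨e⟩ := nonempty_translate_right hP hξ hφ α
  obtain ⟨w⟩ := FMBase13.nonempty_twist_phiK (fst A At).left (snd A At).left hα hP
  obtain ⟨m⟩ := FMBase13.nonempty_modM_tensor G (W4c5cohrankabvar.ptLB P α) hα
  obtain ⟨a⟩ := nonempty_HD_lP_flat t.left ((phiK (fst A At).left (snd A At).left P).obj
    ((DerivedCategory.singleFunctor A.left.Modules 0).obj G)) i
  exact ⟨(DerivedCategory.homologyFunctor _ i).mapIso
    ((phiK (fst A At).left (snd A At).left P).mapIso
        (m : (tenF (W4c5cohrankabvar.ptLB P α)).obj ((DerivedCategory.singleFunctor _ 0).obj G) ≅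
          (DerivedCategory.singleFunctor A.left.Modules 0).obj (CohB1.tensorMod G (W4c5cohrankabvar.ptLB P α))).symm ≪≫
      w.app _ ≪≫ (phiKIso _ _ e).symm.app _ ≪≫ (phiKCongr _ _ h1 _).symm.app _ ≪≫
      (c.app ⟨_, TwistBC9.isQCohD_inD G hG.1 0⟩).symm) ≪≫ a⟩

/-- Without higher cohomology the sections count the Euler characteristic. -/
theorem finrank_HH_zero_eq_euler {X : Scheme.{u}} [X.Over (Spec (CommRingCat.of k))] {M : X.Modules}
    (h : ∀ i : ℕ, 1 ≤ i → Subsingleton (Coh.HH X M i)) :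
    (Module.finrank k (Coh.HH X M 0) : ℤ) = Curv2.euler k X M := by
  refine Eq.symm ((finsum_eq_single _ 0 fun i hi => ?_).trans (by simp))
  haveI := h i (Nat.one_le_iff_ne_zero.2 hi)
  simp [Module.finrank_zero_of_subsingleton]

/-- Cohomology is unchanged by automorphisms over the field. -/
theorem finrank_HH_pullback_aut (t : A ⟶ A) [IsIso t.left] {M : A.left.Modules} (hM : Coh.IsQCoh M) (i : ℕ) :
    (letI : A.left.Over (Spec (CommRingCat.of k)) := ⟨A.hom⟩;
      Module.finrank k (Coh.HH A.left ((Scheme.Modules.pullback t.left).obj M) i) =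
        Module.finrank k (Coh.HH A.left M i)) := by
  letI : A.left.Over (Spec (CommRingCat.of k)) := ⟨A.hom⟩
  haveI : IsProper (A.left ↘ Spec (CommRingCat.of k)) := inferInstanceAs (IsProper A.hom)
  haveI : IsProper (A.left ↘ Spec (CommRingCat.of k)) := inferInstanceAs (IsProper A.hom)
  haveI : CompactSpace A.left := QuasiCompact.compactSpace_of_compactSpace A.hom
  haveI : QuasiSeparatedSpace A.left := AlgebraicGeometry.quasiSeparatedSpace_of_quasiSeparated A.hom
  have hid : Spec.map (CommRingCat.ofHom (RingHom.id k)) = 𝟙 _ := Spec.map_id _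
  haveI : IsIso (Spec.map (CommRingCat.ofHom (RingHom.id k))) := by rw [hid]; infer_instance
  have hpb : IsPullback t.left (A.left ↘ Spec (CommRingCat.of k)) (A.left ↘ Spec (CommRingCat.of k))
      (Spec.map (CommRingCat.ofHom (RingHom.id k))) := IsPullback.of_horiz_isIso ⟨by
    rw [hid, Category.comp_id]; exact Over.w t⟩
  exact PicTan20.finrank_HH_pullback_mod (RingHom.id k) hpb hM i

include hφ hP hξ hL hLL' in
/-- Sections of the twisted transforms compute the cohomology of the twisted module. -/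
theorem finrank_exchange {G : A.left.Modules} (hG : Coh.IsCoh G) {n : ℕ} (hn : 0 < n)
    (f : A ⟶ At) (hf : f = lamOf φ (PicGrp.cls L hL.1)) [Flat f.left]
    (hW : ∀ i : ℤ, i ≠ 0 → IsZero (DCoh.HD ((lP f.left).obj ((phiK (fst A At).left (snd A At).left P).obj
      ((DerivedCategory.singleFunctor A.left.Modules 0).obj (CohB1.tensorPow L n)))) i))
    (hWf : FlatMod.IsFinLocFree (DCoh.HD ((lP f.left).obj ((phiK (fst A At).left (snd A At).left P).obj
      ((DerivedCategory.singleFunctor A.left.Modules 0).obj (CohB1.tensorPow L n)))) (0 : ℤ)))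
    (hv : ∀ (q p : ℕ), 1 ≤ p → Subsingleton (Coh.HH A.left
      (CohB1.tensorMod ((Scheme.Modules.pullback f.left).obj (fmH P G q)) (CohB1.tensorPow L n)) p)) (j : ℕ) :
    (letI : A.left.Over (Spec (CommRingCat.of k)) := ⟨A.hom⟩;
      Module.finrank k (Coh.HH A.left (CohB1.tensorMod G (DCoh.HD ((lP f.left).obj
        ((phiK (fst A At).left (snd A At).left P).obj
          ((DerivedCategory.singleFunctor A.left.Modules 0).obj (CohB1.tensorPow L n)))) (0 : ℤ))) j) =
      Module.finrank k (Coh.HH A.left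
        (CohB1.tensorMod ((Scheme.Modules.pullback f.left).obj (fmH P G j)) (CohB1.tensorPow L n)) 0)) := by
  haveI : GeometricallyIntegral A.hom := AbRigid.geometricallyIntegral_of_smooth A
  haveI := isCommMonObj_of_isProper_of_geometricallyIntegral A
  haveI : IsLocallyNoetherian A.left := LocallyOfFiniteType.isLocallyNoetherian A.hom
  haveI : IsNoetherian (Spec (CommRingCat.of k)) := inferInstance
  haveI : CompactSpace A.left := QuasiCompact.compactSpace_of_compactSpace A.hom
  haveI : HasInjectiveResolutions A.left.Modules := CohFound.hasInjectiveResolutions_modules _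
  let M := CohB1.tensorPow L n
  have hM : PicF.IsInvertible M := M2.isInvertible_tensorPow hL.1 n
  haveI : IsProper (snd A At).left := inferInstanceAs (IsProper (pullback.snd A.hom At.hom))
  haveI : Flat (snd A At).left := inferInstanceAs (Flat (pullback.snd A.hom At.hom))
  let Φ := phiK (fst A At).left (snd A At).left P
  let T := (lP f.left).obj (Φ.obj ((DerivedCategory.singleFunctor A.left.Modules 0).obj M))
  let W := DCoh.HD T (0 : ℤ)
  let X₁ := (lP f.left).obj (Φ.obj ((DerivedCategory.singleFunctor A.left.Modules 0).obj G))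
  let Z := (tenF M).obj X₁
  -- the kernel on the square
  let s : A ⊗ A ⟶ A ⊗ At := lift (fst A A) (snd A A ≫ f)
  let s' : A ⊗ A ⟶ A ⊗ At := lift (snd A A) (fst A A ≫ f)
  let Λ : (PicF.XT A.hom A).Modules := (Scheme.Modules.pullback s.left).obj P
  have hΛ : PicF.IsInvertible Λ := PicLoc.isInvertible_pullback _ hP
  have hs : s = A ◁ f := by apply CartesianMonoidalCategory.hom_ext <;> simp [s]
  have hH : IsPullback s.left (snd A A).left (snd A At).left f.left := hs ▸ isPullback_whisker A f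
  haveI : IsIso (AbDual22.sw A A) := ⟨AbDual22.sw A A,
    by apply CartesianMonoidalCategory.hom_ext <;> simp [AbDual22.sw],
    by apply CartesianMonoidalCategory.hom_ext <;> simp [AbDual22.sw]⟩
  haveI : IsIso (AbDual22.sw A A).left := inferInstanceAs (IsIso ((Over.forget _).map (AbDual22.sw A A)))
  have hH' : IsPullback s'.left (fst A A).left (snd A At).left f.left := by
    have h := (IsPullback.of_horiz_isIso (fst := (AbDual22.sw A A).left) (snd := (fst A A).left)
      (f := (snd A A).left) (g := 𝟙 A.left) ⟨by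
        rw [← Over.comp_left, Category.comp_id, show AbDual22.sw A A ≫ snd A A = fst A A by simp [AbDual22.sw]]⟩
      ).paste_horiz hH
    rw [Category.id_comp, ← Over.comp_left, show AbDual22.sw A A ≫ s = s' by
      apply CartesianMonoidalCategory.hom_ext <;> simp [s, s', AbDual22.sw]] at h
    exact h
  obtain ⟨eΛ⟩ : Nonempty ((Scheme.Modules.pullback s'.left).obj P ≅ Λ) := by
    refine nonempty_kernel_iso hP hξ ?_
    rw [hf, ← bil_eq_ev hφ hξ, ← bil_eq_ev hφ hξ, Index22.bil_comm]
  obtain ⟨cG⟩ := nonempty_phiK_BC (fst A At).left (snd A At).left hH hP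
  obtain ⟨cM⟩ := nonempty_phiK_BC (fst A At).left (snd A At).left hH' hP
  have hsf : s.left ≫ (fst A At).left = (fst A A).left := by rw [← Over.comp_left, lift_fst]
  have hsf' : s'.left ≫ (fst A At).left = (snd A A).left := by rw [← Over.comp_left, lift_fst]
  let Gs := Exact8.FMVanish.sgl G
  let Ms := Exact8.FMVanish.sgl M
  let Ps : CochainComplex (A ⊗ A).left.Modules ℤ := Exact8.FMVanish.sgl (X := (A ⊗ A).left) Λ
  haveI : DCoh.HasLTensorCx Gs := KFlat.Sch.hasLTensorCx _
  haveI : DCoh.HasLTensorCx Ms := KFlat.Sch.hasLTensorCx _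
  haveI : DCoh.HasLTensorCx Ps := KFlat.Sch.hasLTensorCx _
  haveI : DCoh.HasLTensorCx (Exact8.FMVanish.sgl Λ) := KFlat.Sch.hasLTensorCx _
  haveI := KFlat.Sch.hasLpull (fst A A).left
  haveI := KFlat.Sch.hasLpull (snd A A).left
  obtain ⟨tΛ⟩ := nonempty_LTCx_tenF Λ
  obtain ⟨tG⟩ := nonempty_LTCx_tenF G
  obtain ⟨tM⟩ := nonempty_LTCx_tenF M
  obtain ⟨lp⟩ := nonempty_lpull_natIso_lP (fst A A).left
  obtain ⟨lq⟩ := nonempty_lpull_natIso_lP (snd A A).left
  let eG : DCoh.inD A.left G ≅ DCoh.toD A.left Gs :=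
    (DerivedCategory.singleFunctorIsoCompQ A.left.Modules 0).app G
  let eM : DCoh.inD A.left M ≅ DCoh.toD A.left Ms :=
    (DerivedCategory.singleFunctorIsoCompQ A.left.Modules 0).app M
  obtain ⟨sw⟩ := SwapS.nonempty_swap (fst A A).left (snd A A).left A.hom A.hom
    ((Over.w (fst A A)).trans (Over.w (snd A A)).symm) Ps Gs
    (DGen9.isPerfect_of_iso eG (isPerfect_single hG)) Ms
    (DGen9.ResP.isPerfect_toD (DPerf.isStrictlyPerfect_single (M2.isFinLocFree_of_isInvertible hM)))
  let eT : (DCoh.Rpush (fst A A).left).obj ((DCoh.LTensorCx Ps).obj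
      ((DCoh.Lpull (snd A A).left).obj (DCoh.toD A.left Ms))) ≅ T :=
    (Functor.isoWhiskerRight lq _ ≪≫ Functor.isoWhiskerLeft _ (Functor.isoWhiskerRight tΛ _)).app _ ≪≫
      (phiK (snd A A).left (fst A A).left Λ).mapIso eM.symm ≪≫
      (phiKIso (snd A A).left (fst A A).left eΛ).symm.app _ ≪≫
      (phiKCongr (snd A A).left (fst A A).left hsf'.symm _).app _ ≪≫ (cM.app (inQ hM)).symm
  let eX : (DCoh.Rpush (snd A A).left).obj ((DCoh.LTensorCx Ps).obj
      ((DCoh.Lpull (fst A A).left).obj (DCoh.toD A.left Gs))) ≅ X₁ :=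
    (Functor.isoWhiskerRight lp _ ≪≫ Functor.isoWhiskerLeft _ (Functor.isoWhiskerRight tΛ _)).app _ ≪≫
      (phiK (fst A A).left (snd A A).left Λ).mapIso eG.symm ≪≫
      (phiKCongr (fst A A).left (snd A A).left hsf.symm _).app _ ≪≫
      (cG.app ⟨_, TwistBC9.isQCohD_inD G hG.1 0⟩).symm
  -- the left side is one module
  obtain ⟨eW⟩ := nonempty_iso_single_of_concentrated T 0 hW
  obtain ⟨cW⟩ := FMAdj9.nonempty_comm (modM W)
  obtain ⟨mW⟩ := LocFreeDual.nonempty_modM_tensor G W hWf
  let eS : (tenF G).obj T ≅ (DerivedCategory.singleFunctor A.left.Modules 0).obj (CohB1.tensorMod G W) :=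
    (tenF G).mapIso (eW ≪≫ (shiftFunctorZero' (DCoh.D A.left) (-(0 : ℤ)) neg_zero).app _) ≪≫
      ((cW.app (modM G) ≪≫ mW :) : _)
  let E : (DCoh.Rpush A.hom).obj ((DerivedCategory.singleFunctor A.left.Modules 0).obj (CohB1.tensorMod G W)) ≅
      (DCoh.Rpush A.hom).obj Z :=
    (DCoh.Rpush A.hom).mapIso (eS.symm ≪≫ tG.symm.app T ≪≫ (DCoh.LTensorCx Gs).mapIso eT.symm) ≪≫ sw ≪≫
      (DCoh.Rpush A.hom).mapIso ((DCoh.LTensorCx Ms).mapIso eX ≪≫ tM.app X₁)
  -- the right side has acyclic cohomology sheaves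
  let H : ℤ → A.left.Modules := fun i => CohB1.tensorMod ((Scheme.Modules.pullback f.left).obj (fmH P G i)) M
  have hHc : ∀ i, Coh.IsCoh (H i) := fun i =>
    CohFound.isCoh_tensor (M1.isCoh_pullback _ (isCoh_fmH hP hG i)) (CubeField.isCoh_of_isInvertible hM)
  have hZ : ∀ i, Nonempty (DCoh.HD Z i ≅ H i) := fun i => by
    obtain ⟨a⟩ := nonempty_HD_tenF M hM X₁ i
    obtain ⟨b⟩ := nonempty_HD_lP_flat f.left (Φ.obj ((DerivedCategory.singleFunctor A.left.Modules 0).obj G)) i
    exact ⟨a ≪≫ M2.tensorIso b (Iso.refl _)⟩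
  haveI : HasInjectiveResolutions (A ⊗ At).left.Modules := CohFound.hasInjectiveResolutions_modules _
  have hzero : ∀ i : ℤ, IsZero (fmH P G i) → IsZero (DCoh.HD Z i) := fun i h =>
    ((M2.tensorR M).map_isZero ((Scheme.Modules.pullback f.left).map_isZero h)).of_iso (hZ i).some
  have hq : DCoh.IsQCohD Z := fun i => M1.isQCoh_of_isIso (hZ i).some.symm (hHc i).1
  obtain ⟨-, c, b, hc', hb⟩ := exists_bounds_phiK hP (isPerfect_single (A := A) hG)
  haveI := hc'
  haveI := hb
  haveI : Z.IsGE c := (DerivedCategory.isGE_iff _ _).2 fun i hi => hzero i (DerivedCategory.isZero_of_isGE _ c i hi)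
  haveI : Z.IsLE b := (DerivedCategory.isLE_iff _ _).2 fun i hi => hzero i (DerivedCategory.isZero_of_isLE _ b i hi)
  have hac : ∀ i : ℤ, RFPlus.IsAcyclicObj (Scheme.Modules.pushforward A.hom) (DCoh.HD Z i) := fun i => by
    rcases lt_or_ge i 0 with hi | hi
    · exact isAcyclicObj_of_isZero A.hom (hzero i ((nonempty_fmH_rpush hP G).2 i hi))
    · obtain ⟨q, rfl⟩ := Int.eq_ofNat_of_zero_le hi
      refine isAcyclicObj_of_iso A.hom (hZ q).some.symm fun p hp => ?_
      haveI := hv q p hp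
      exact isZero_rpush_affine A.hom (hHc q).1 p
  obtain ⟨dR⟩ := nonempty_HD_rpush_acyclic A.hom Z hq hac c b (j : ℤ)
  obtain ⟨dL⟩ := Poinc13.nonempty_hd_rpush A.hom (CohB1.tensorMod G W) j
  let e : (Coh.Rpush A.hom j).obj (CohB1.tensorMod G W) ≅ (Coh.Rpush A.hom 0).obj (H j) :=
    dL.symm ≪≫ (DerivedCategory.homologyFunctor _ (j : ℤ)).mapIso E ≪≫ dR ≪≫
      (Scheme.Modules.pushforward A.hom).mapIso (hZ j).some ≪≫
      ((Scheme.Modules.pushforward A.hom).rightDerivedZeroIsoSelf.app _).symm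
  exact (genRk_rpush_point (CohFound.isCoh_tensor hG (CohFound.isCoh_of_isFinLocFree hWf)) j).symm.trans
    ((genRk_iso e).trans (genRk_rpush_point (hHc j) 0))

include hφ hP hξ hL hLL' in
/-- The dimensions of the tensor product with a positive transform are the same at every point. -/
theorem hAt_exchange {G : A.left.Modules} (hG : Coh.IsCoh G) {n : ℕ} (hn : 0 < n)
    (f : A ⟶ At) (hf : f = lamOf φ (PicGrp.cls L hL.1)) [Flat f.left]
    (hz : ∀ i : ℤ, i ≠ 0 → IsZero (DCoh.HD ((lP f.left).obj ((phiK (fst A At).left (snd A At).left P).obj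
      ((DerivedCategory.singleFunctor A.left.Modules 0).obj (CohB1.tensorPow L n)))) i))
    (hWf : FlatMod.IsFinLocFree (DCoh.HD ((lP f.left).obj ((phiK (fst A At).left (snd A At).left P).obj
      ((DerivedCategory.singleFunctor A.left.Modules 0).obj (CohB1.tensorPow L n)))) (0 : ℤ)))
    (hIT : ∀ (q : ℕ) (i : ℕ) (α : 𝟙_ (Over (Spec (CommRingCat.of k))) ⟶ At), 1 ≤ i →
      W4c5cohrankabvar.hAt k P
        (CohB1.tensorMod ((Scheme.Modules.pullback f.left).obj (fmH P G q)) (CohB1.tensorPow L n)) α i = 0) (j : ℕ)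
    (α : 𝟙_ (Over (Spec (CommRingCat.of k))) ⟶ At) :
    (W4c5cohrankabvar.hAt k P (CohB1.tensorMod G (DCoh.HD ((lP f.left).obj ((phiK (fst A At).left (snd A At).left P).obj
      ((DerivedCategory.singleFunctor A.left.Modules 0).obj (CohB1.tensorPow L n)))) (0 : ℤ))) α j : ℤ) =
      @Curv2.euler k _ A.left ⟨A.hom⟩
        (CohB1.tensorMod ((Scheme.Modules.pullback f.left).obj (fmH P G j)) (CohB1.tensorPow L n)) := by
  haveI : GeometricallyIntegral A.hom := AbRigid.geometricallyIntegral_of_smooth A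
  haveI : GeometricallyIntegral At.hom := AbRigid.geometricallyIntegral_of_smooth At
  haveI : AlgebraicGeometry.IsIntegral At.left := GeometricallyIntegral.isIntegral_of_subsingleton At.hom
  haveI := isCommMonObj_of_isProper_of_geometricallyIntegral A
  haveI := isCommMonObj_of_isProper_of_geometricallyIntegral At
  haveI : IsLocallyNoetherian A.left := LocallyOfFiniteType.isLocallyNoetherian A.hom
  haveI : JacobsonSpace A.left := LocallyOfFiniteType.jacobsonSpace A.hom
  letI : A.left.Over (Spec (CommRingCat.of k)) := ⟨A.hom⟩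
  haveI : IsProper (A.left ↘ Spec (CommRingCat.of k)) := inferInstanceAs (IsProper A.hom)
  haveI : IsMonHom f := hf ▸ isMonHom_lamOf hφ _
  haveI : IsFinite f.left := hf ▸ isFinite_lamOf hφ hL
  haveI : Surjective f.left := hf ▸ (exists_endo hφ hL).choose_spec.2.1
  have hM : PicF.IsInvertible (CohB1.tensorPow L n) := M2.isInvertible_tensorPow hL.1 n
  let H : ℕ → A.left.Modules := fun q =>
    CohB1.tensorMod ((Scheme.Modules.pullback f.left).obj (fmH P G q)) (CohB1.tensorPow L n)
  have hHc : ∀ q, Coh.IsCoh (H q) := fun q =>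
    CohFound.isCoh_tensor (M1.isCoh_pullback _ (isCoh_fmH hP hG _)) (CubeField.isCoh_of_isInvertible hM)
  let Pα := W4c5cohrankabvar.ptLB P α
  obtain ⟨c, hc, hcc⟩ := nonempty_inter_closedPoints (Z := f.left.base ⁻¹' closure {CubeField.rpt α})
    (by obtain ⟨x, hx⟩ := f.left.surjective (CubeField.rpt α); exact ⟨x, subset_closure hx⟩)
    (isClosed_closure.preimage f.left.continuous).isLocallyClosed
  obtain ⟨a, rfl⟩ := CubeField.exists_rpt (X := A) hcc
  have ha : a ≫ f = α := CubeField.rpt_injective (by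
    have hcl : IsClosed ({CubeField.rpt α} : Set At.left) := MumVan22.isClosed_rpt α
    rw [CubeField.rpt_comp]
    simpa [hcl.closure_eq] using hc)
  let u : A ⟶ A := 𝟙 A * (toUnit A ≫ a)
  let v : A ⟶ A := 𝟙 A * (toUnit A ≫ a⁻¹)
  let t : At ⟶ At := 𝟙 At * (toUnit At ≫ α)
  have huv : ∀ {B : Over (Spec (CommRingCat.of k))} [GrpObj B] (x y : 𝟙_ (Over (Spec (CommRingCat.of k))) ⟶ B),
      y * x = 1 → (𝟙 B * (toUnit B ≫ x)) ≫ (𝟙 B * (toUnit B ≫ y)) = 𝟙 B := fun {B} _ x y hxy => by
    rw [MonObj.comp_mul, Category.comp_id, ← Category.assoc, toUnit_unique (_ ≫ toUnit B) (toUnit B),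
      _root_.mul_assoc, ← MonObj.comp_mul]
    have : x * y = 1 := mul_eq_one_comm.1 hxy
    rw [this, MonObj.comp_one, _root_.mul_one]
  haveI : IsIso u := ⟨v, huv a a⁻¹ (inv_mul_cancel a), huv a⁻¹ a (mul_inv_cancel a)⟩
  haveI : IsIso t := ⟨𝟙 At * (toUnit At ≫ α⁻¹), huv α α⁻¹ (inv_mul_cancel α), huv α⁻¹ α (mul_inv_cancel α)⟩
  haveI : IsIso u.left := inferInstanceAs (IsIso ((Over.forget _).map u))
  haveI : IsIso t.left := inferInstanceAs (IsIso ((Over.forget _).map t))
  have hft : f ≫ t = u ≫ f := by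
    simp only [u, t, MonObj.comp_mul, MonObj.mul_comp, Category.comp_id, Category.id_comp, Category.assoc]
    rw [← Category.assoc f (toUnit At), toUnit_unique (f ≫ toUnit At) (toUnit A), ← ha]
  have hN : ∃ β : 𝟙_ (Over (Spec (CommRingCat.of k))) ⟶ At, Nonempty ((Scheme.Modules.pullback u.left).obj
      (CohB1.tensorMod (CohB1.tensorPow L n) (W4c5cohrankabvar.ptLB P β)) ≅ CohB1.tensorPow L n) := by
    refine ⟨a⁻¹ ≫ lamOf φ (PicGrp.cls (CohB1.tensorPow L n) hM), ?_⟩
    have hb := PicLoc.isInvertible_pullback (lift (𝟙 A) (toUnit A ≫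
      (a⁻¹ ≫ lamOf φ (PicGrp.cls (CohB1.tensorPow L n) hM)))).left hP
    refine FMBase13.nonempty_iso_of_cls (hL := PicLoc.isInvertible_pullback _ (M2.isInvertible_tensor hM hb))
      (hM := hM) ?_
    rw [← RosTrace22.pb_cls u (M2.isInvertible_tensor hM hb), ← AlgEquiv22.cls_tensor hM hb,
      ← FMBase13.ev_eq_cls hP hξ, ← Category.assoc, ← bil_eq_ev hφ hξ, ← pb_translate, AgPol22.pb_pb,
      show u ≫ (𝟙 A * (toUnit A ≫ a⁻¹)) = 𝟙 A from huv a a⁻¹ (inv_mul_cancel a), AlgEquiv22.pb_id]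
  obtain ⟨β, ⟨eN⟩⟩ := hN
  let Pβ := W4c5cohrankabvar.ptLB P β
  have hG' : Coh.IsCoh (CohB1.tensorMod G Pα) :=
    CohFound.isCoh_tensor hG (CubeField.isCoh_of_isInvertible (PicLoc.isInvertible_pullback _ hP))
  have eH : ∀ q : ℕ, Nonempty (CohB1.tensorMod ((Scheme.Modules.pullback f.left).obj
      (fmH P (CohB1.tensorMod G Pα) q)) (CohB1.tensorPow L n) ≅
        (Scheme.Modules.pullback u.left).obj (CohB1.tensorMod (H q) Pβ)) := fun q => by
    obtain ⟨e⟩ := nonempty_fmH_translate hφ hP hξ hG α (q : ℤ)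
    exact ⟨M2.tensorIso ((Scheme.Modules.pullback f.left).mapIso e ≪≫
        (Scheme.Modules.pullbackComp _ _).app _ ≪≫
        (Scheme.Modules.pullbackCongr ((Over.comp_left _ _ _ f t).symm.trans
          ((congrArg Over.Hom.left hft).trans (Over.comp_left _ _ _ u f)))).app _ ≪≫
        ((Scheme.Modules.pullbackComp _ _).app _).symm) eN.symm ≪≫ (M2.pullTensorIso _ _ _).symm ≪≫
      (Scheme.Modules.pullback u.left).mapIso (M2.tensorAssoc _ _ _).symm⟩
  have hHβ : ∀ q, Coh.IsCoh (CohB1.tensorMod (H q) Pβ) := fun q =>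
    CohFound.isCoh_tensor (hHc q) (CubeField.isCoh_of_isInvertible (PicLoc.isInvertible_pullback _ hP))
  have hdim : ∀ q p : ℕ, Module.finrank k (Coh.HH A.left (CohB1.tensorMod ((Scheme.Modules.pullback f.left).obj
      (fmH P (CohB1.tensorMod G Pα) q)) (CohB1.tensorPow L n)) p) = W4c5cohrankabvar.hAt k P (H q) β p :=
    fun q p => ((CBC10.hmapLinEquiv k (eH q).some p).finrank_eq).trans (finrank_HH_pullback_aut u (hHβ q).1 p)
  have hex := finrank_exchange hφ hP hξ hL hLL' hG' hn f hf hz hWf (fun q p hp => by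
    haveI := CohFound.finite_HH_of_isProper (A := k) _ (CohFound.isCoh_tensor (M1.isCoh_pullback f.left
      (isCoh_fmH hP hG' (q : ℤ))) (CubeField.isCoh_of_isInvertible hM)) p
    exact Module.finrank_zero_iff.1 ((hdim q p).trans (hIT q p β hp))) j
  have heul : @Curv2.euler k _ A.left ⟨A.hom⟩ (CohB1.tensorMod (H j) Pβ) =
      @Curv2.euler k _ A.left ⟨A.hom⟩ (H j) := by
    rw [euler_twist_eq hP (hHc j), euler_eq_finsum_genRk hφ hP hξ (hHc j)]
  refine Eq.trans ?_ ((finrank_HH_zero_eq_euler (k := k) (M := CohB1.tensorMod (H j) Pβ)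
    (fun p hp => (hAt_eq_zero_iff hP (hHc j) β p).1 (hIT j p β hp))).trans heul)
  rw [show Module.finrank k (Coh.HH A.left (CohB1.tensorMod (H j) Pβ) 0) =
    W4c5cohrankabvar.hAt k P (H j) β 0 from rfl, ← hdim, ← hex]
  exact congrArg (Nat.cast (R := ℤ)) ((CBC10.hmapLinEquiv k (M2.tensorAssoc _ _ _ ≪≫
    M2.tensorIso (Iso.refl G) (M2.tensorComm _ _) ≪≫ (M2.tensorAssoc _ _ _).symm) j).finrank_eq)

include hφ hP hξ hL hLL' in
/-- The generic dimensions of a negative twist from the sections of the twisted transform. -/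
theorem hgen_exchange (hg : topologicalKrullDim A.left = g) {G : A.left.Modules} (hG : Coh.IsCoh G) {n : ℕ}
    (hn : 0 < n) (f : A ⟶ At) (hf : f = lamOf φ (PicGrp.cls L hL.1))
    (hIT : ∀ (q : ℕ) (i : ℕ) (α : 𝟙_ (Over (Spec (CommRingCat.of k))) ⟶ At), 1 ≤ i →
      W4c5cohrankabvar.hAt k P
        (CohB1.tensorMod ((Scheme.Modules.pullback f.left).obj (fmH P G q)) (CohB1.tensorPow L n)) α i = 0) (j : ℕ) :
    @Curv2.euler k _ A.left ⟨A.hom⟩ (CohB1.tensorPow L n) *
        ((W4c5cohrankabvar.hgen k P (CohB1.tensorMod ((Scheme.Modules.pullback ((𝟙 A) ^ n).left).obj G)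
          (CohB1.tensorPow L' n)) j : ℕ) : ℤ) =
      (n : ℤ) ^ (2 * g) * @Curv2.euler k _ A.left ⟨A.hom⟩
        (CohB1.tensorMod ((Scheme.Modules.pullback f.left).obj (fmH P G j)) (CohB1.tensorPow L n)) := by
  haveI : GeometricallyIntegral A.hom := AbRigid.geometricallyIntegral_of_smooth A
  haveI : GeometricallyIntegral At.hom := AbRigid.geometricallyIntegral_of_smooth At
  haveI : AlgebraicGeometry.IsIntegral At.left := GeometricallyIntegral.isIntegral_of_subsingleton At.hom
  haveI := isCommMonObj_of_isProper_of_geometricallyIntegral A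
  haveI := isCommMonObj_of_isProper_of_geometricallyIntegral At
  haveI : IsLocallyNoetherian A.left := LocallyOfFiniteType.isLocallyNoetherian A.hom
  haveI : JacobsonSpace A.left := LocallyOfFiniteType.jacobsonSpace A.hom
  letI : A.left.Over (Spec (CommRingCat.of k)) := ⟨A.hom⟩
  haveI : IsProper (A.left ↘ Spec (CommRingCat.of k)) := inferInstanceAs (IsProper A.hom)
  have hL' := isInvertible_of_ample_inverse hL.1 hLL'
  haveI : IsMonHom f := hf ▸ isMonHom_lamOf hφ _
  haveI : IsFinite f.left := hf ▸ isFinite_lamOf hφ hL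
  haveI : Surjective f.left := hf ▸ (exists_endo hφ hL).choose_spec.2.1
  haveI : Flat f.left := AbRigid.flat_of_surjective A At f
  let h : A ⟶ A := (𝟙 A) ^ n
  obtain ⟨hhf, hhfl, hhs⟩ := AVDegree22.isFinite_flat_surjective_pow A hn
  haveI := hhf; haveI := hhfl; haveI := hhs
  obtain ⟨hz, r, ⟨eW⟩, hr⟩ := exists_positive_transform hφ hP hξ hL hLL' hn f hf h rfl
  let T := (lP f.left).obj ((phiK (fst A At).left (snd A At).left P).obj
    ((DerivedCategory.singleFunctor A.left.Modules 0).obj (CohB1.tensorPow L n)))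
  let W := DCoh.HD T (0 : ℤ)
  have hM : PicF.IsInvertible (CohB1.tensorPow L n) := M2.isInvertible_tensorPow hL.1 n
  have hWc : Coh.IsCoh W := by
    obtain ⟨a⟩ := nonempty_HD_lP_flat f.left ((phiK (fst A At).left (snd A At).left P).obj
      ((DerivedCategory.singleFunctor A.left.Modules 0).obj (CohB1.tensorPow L n))) 0
    exact CohFound.isCoh_of_iso a.symm (M1.isCoh_pullback _ (isCoh_fmH hP (Snapper.isCoh_of_isInvertible hM) _))
  have hWf : FlatMod.IsFinLocFree W :=
    M1.isFinLocFree_of_pullback_fpqc h.left hWc.1 (M2.isFinLocFree_of_iso eW.symm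
      (M2.isFinLocFree_tensor (KFlat.Sch.isFinLocFree_freeMod _ r)
        (M2.isFinLocFree_of_isInvertible (M2.isInvertible_tensorPow hL' n))))
  let H : ℕ → A.left.Modules := fun q =>
    CohB1.tensorMod ((Scheme.Modules.pullback f.left).obj (fmH P G q)) (CohB1.tensorPow L n)
  have hHc : ∀ q, Coh.IsCoh (H q) := fun q =>
    CohFound.isCoh_tensor (M1.isCoh_pullback _ (isCoh_fmH hP hG _)) (CubeField.isCoh_of_isInvertible hM)
  -- every twist has the same dimensions
  have hconst : ∀ α : 𝟙_ (Over (Spec (CommRingCat.of k))) ⟶ At,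
      (W4c5cohrankabvar.hAt k P (CohB1.tensorMod G W) α j : ℤ) = @Curv2.euler k _ A.left ⟨A.hom⟩ (H j) :=
    hAt_exchange hφ hP hξ hL hLL' hG hn f hf hz hWf hIT j
  have hgW : (W4c5cohrankabvar.hgen k P (CohB1.tensorMod G W) j : ℤ) = @Curv2.euler k _ A.left ⟨A.hom⟩ (H j) := by
    have hc : ∀ α, W4c5cohrankabvar.hAt k P (CohB1.tensorMod G W) α j =
        W4c5cohrankabvar.hAt k P (CohB1.tensorMod G W) 1 j := fun α => by
      exact_mod_cast (hconst α).trans (hconst 1).symm
    rw [show W4c5cohrankabvar.hgen k P (CohB1.tensorMod G W) j = W4c5cohrankabvar.hAt k P (CohB1.tensorMod G W) 1 j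
      from (iInf_congr hc).trans ciInf_const]
    exact hconst 1
  haveI : Nonempty (𝟙_ (Over (Spec (CommRingCat.of k))) ⟶ At) := ⟨1⟩
  have hR : Coh.IsCoh (CohB1.tensorMod ((Scheme.Modules.pullback h.left).obj G) (CohB1.tensorPow L' n)) :=
    CohFound.isCoh_tensor (M1.isCoh_pullback _ hG) (CubeField.isCoh_of_isInvertible (M2.isInvertible_tensorPow hL' n))
  let e : (Scheme.Modules.pullback h.left).obj (CohB1.tensorMod G W) ≅ CohB1.tensorMod (FlatMod.freeMod A.left r)
      (CohB1.tensorMod ((Scheme.Modules.pullback h.left).obj G) (CohB1.tensorPow L' n)) :=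
    M2.pullTensorIso _ _ _ ≪≫ M2.tensorIso (Iso.refl _) eW ≪≫ (M2.tensorAssoc _ _ _).symm ≪≫
      M2.tensorIso (M2.tensorComm _ _) (Iso.refl _) ≪≫ M2.tensorAssoc _ _ _
  have hmul := hgen_pullback_pow hφ hP hξ hg (CohFound.isCoh_tensor hG hWc) j n hn
  rw [hgen_congr e, hgen_free_tensor hP hR] at hmul
  have hχ : @Curv2.euler k _ A.left ⟨A.hom⟩ (CohB1.tensorPow L n) = (r : ℤ) := by
    rw [hr]
    exact (finrank_HH_zero_eq_euler (k := k) fun p hp =>
      MumVan22.subsingleton_of_isAmple ((Amp.isAmple_tensorPow_iff hL.1 hn).2 hL) hp).symm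
  rw [hχ, ← hgW]
  exact_mod_cast hmul

end Groth.Agent.FMHyp13

end
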