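import Groth.Agent.Lib.MumVan22.Surj
import Groth.Agent.Lib.CIProj14.Van
import Groth.Agent.Lib.CBC10.Rows0

/-!
# Fibres of a coherent module over rational points and locally free direct images
-/

universe u

open CategoryTheory Limits MonoidalCategory CartesianMonoidalCategory AlgebraicGeometry TopologicalSpace Opposite
open scoped MonObj GrpObj

set_option linter.style.haveILetI false
set_option linter.unusedSectionVars false
set_option maxHeartbeats 1000000
set_option backward.isDefEq.respectTransparency false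

noncomputable section

namespace Groth.Agent.FMHyp13

open Groth.Agent.CBC10 Groth.Agent.MumVan22

open CohFound in
attribute [-instance] abelianAb hasExtAb isGrothendieckAbelianAb enoughInjectivesAb

/-- Cohomology is unchanged by an isomorphism of schemes. -/
theorem subsingleton_HH_iso_iff {X Y : Scheme.{u}} (f : X ⟶ Y) [IsIso f] {L : Y.Modules} (hL : Coh.IsQCoh L)
    (p : ℕ) : Subsingleton (Coh.HH X ((Scheme.Modules.pullback f).obj L) p) ↔ Subsingleton (Coh.HH Y L p) := by
  let a := (Scheme.Modules.pullbackPushforwardAdjunction f).unit.app L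
  haveI : IsIso a := CIProj14.isIso_unit_of_isIso f L hL
  have hN : Coh.IsQCoh ((Scheme.Modules.pullback f).obj L) := M1.isQCoh_pullback f hL
  have hinj := pullF_injective f hN a p
  haveI : IsIso (abMap f a) := Functor.map_isIso _ _
  have hsurj : Function.Surjective (pullF f.base (abMap f a) p) := by
    intro y
    obtain ⟨x, hx⟩ := (bijective_edgeF_affine f hN p).2 y
    refine ⟨Sheaf.H.map (inv (abMap f a)) p x, ?_⟩
    rw [pullF_eq_edgeF, ← Sheaf.H.map_comp_apply, IsIso.inv_hom_id, Sheaf.H.map_id_apply]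
    exact hx
  exact (Equiv.ofBijective _ ⟨hinj, hsurj⟩).subsingleton_congr.symm

variable {k : Type u} [Field k] [IsAlgClosed k] {A T P : Over (Spec (CommRingCat.of k))}
  [LocallyOfFiniteType T.hom]


variable {k : Type u} [Field k] [IsAlgClosed k] {A T P : Over (Spec (CommRingCat.of k))}
  [LocallyOfFiniteType T.hom]

/-- The fibre over a rational point is the slice. -/
theorem subsingleton_fiber_iff (f : P ⟶ T) (s : A ⟶ P) (t : 𝟙_ (Over (Spec (CommRingCat.of k))) ⟶ T)
    (hpb : IsPullback s.left A.hom f.left t.left) {L : P.left.Modules} (hL : Coh.IsQCoh L) (p : ℕ) :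
    Subsingleton (CohIII.fiberH f.left L (CubeField.rpt t) p) ↔
      Subsingleton (Coh.HH A.left ((Scheme.Modules.pullback s.left).obj L) p) := by
  let g : Spec (CommRingCat.of k) ⟶ T.left := t.left
  have hg : g ≫ T.hom = 𝟙 _ := Over.w t
  have hxc : IsClosed ({CubeField.rpt t} : Set T.left) := by
    haveI : LocallyOfFiniteType (g ≫ T.hom) := by rw [hg]; infer_instance
    haveI : LocallyOfFiniteType g := locallyOfFiniteType_of_comp g T.hom
    haveI : JacobsonSpace T.left := LocallyOfFiniteType.jacobsonSpace T.hom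
    exact g.closePoints_subset_preimage_closedPoints (isClosed_discrete (α := Spec (CommRingCat.of k)) _)
  let x := CubeField.rpt t
  let r := residueFieldIsoBase T.hom x hxc
  have hgr : g = Spec.map r.hom ≫ T.left.fromSpecResidueField x := by
    refine ext_of_apply_closedPoint_eq T.hom hg ?_ ?_
    · rw [Category.assoc, ← SpecMap_residueFieldIsoBase_inv T.hom x hxc, ← Spec.map_comp, Iso.inv_hom_id, Spec.map_id]
    · rw [Scheme.Hom.comp_apply, Scheme.fromSpecResidueField_apply]
      rfl
  haveI : IsIso (Spec.map r.hom) := inferInstance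
  have hpb' : IsPullback s.left (A.hom ≫ Spec.map r.hom) f.left (T.left.fromSpecResidueField x) := by
    refine IsPullback.of_iso hpb (Iso.refl _) (Iso.refl _) (asIso (Spec.map r.hom)) (Iso.refl _) ?_ ?_ ?_ ?_
    · simp
    · simp
    · simp
    · simpa using hgr
  let φ : A.left ≅ f.left.fiber x := hpb'.isoIsPullback _ _ (IsPullback.of_hasPullback _ _)
  have hφ : φ.hom ≫ f.left.fiberι x = s.left := IsPullback.isoIsPullback_hom_fst _ _ _ _
  have hF : Coh.IsQCoh (CohIII.fiberMod f.left L x) := M1.isQCoh_pullback _ hL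
  show Subsingleton (Coh.HH _ (CohIII.fiberMod f.left L x) p) ↔ _
  rw [← subsingleton_HH_iso_iff φ.hom hF p]
  let i := (Scheme.Modules.pullbackComp φ.hom (f.left.fiberι x)).app L ≪≫ (Scheme.Modules.pullbackCongr hφ).app L
  exact (CBC10.hmapEquiv i p).toEquiv.subsingleton_congr

variable {S : Over (Spec (CommRingCat.of k))} [LocallyOfFiniteType S.hom] {X : Scheme.{u}}

/-- Vanishing of the higher cohomology on the fibres at rational points gives a locally free direct image and no
higher ones. -/
theorem push_of_closed_fibres (f : X ⟶ S.left) [IsProper f] [LocallyOfFinitePresentation f]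
    [HasInjectiveResolutions X.Modules] {F : X.Modules} [IsLocallyNoetherian X] (hF : Coh.IsCoh F)
    (hfl : FlatMod.IsFlatOver f F)
    (h : ∀ t : 𝟙_ (Over (Spec (CommRingCat.of k))) ⟶ S, ∀ i : ℕ, 0 < i →
      Subsingleton (CohIII.fiberH f F (CubeField.rpt t) i)) :
    (∀ i : ℕ, 0 < i → IsZero ((Coh.Rpush f i).obj F)) ∧
      FlatMod.IsFinLocFree ((Scheme.Modules.pushforward f).obj F) := by
  haveI hq : Coh.IsQCoh F := hF.1
  have hfp : CohB1.IsFP F := M1.isFP_of_isCoh hF
  haveI : JacobsonSpace S.left := LocallyOfFiniteType.jacobsonSpace S.hom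
  have near : ∀ (y : S.left) (W : (t : 𝟙_ (Over (Spec (CommRingCat.of k))) ⟶ S) → S.left.Opens),
      (∀ t, CubeField.rpt t ∈ W t) → ∃ t, y ∈ W t := fun y W hW => by
    obtain ⟨c, hcy, hc⟩ := nonempty_inter_closedPoints (Z := closure {y}) ⟨y, subset_closure rfl⟩
      isClosed_closure.isLocallyClosed
    obtain ⟨t, rfl⟩ := CubeField.exists_rpt (X := S) hc
    exact ⟨t, (specializes_iff_mem_closure.2 hcy).mem_open (W t).isOpen (hW t)⟩
  refine ⟨fun i hi => ?_, isFinLocFree_push fun y => ?_⟩
  · have key : ∀ t : 𝟙_ (Over (Spec (CommRingCat.of k))) ⟶ S,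
        ∃ V : S.left.Opens, CubeField.rpt t ∈ V ∧ IsZero (((Coh.Rpush f i).obj F).restrict V.ι) := fun t => by
      obtain ⟨V₀, -, M₀, hs⟩ := exists_model_at f F hfp hfl (U := ⊤) (s := CubeField.rpt t) trivial
      obtain ⟨V, -, M, hsV, -, -, hz, -⟩ := M₀.exists_zero_nhd hq hs i (h t i hi)
      exact ⟨V, hsV, isZero_restrict_of_models i V fun y hy => ⟨V, M, hy, le_rfl, hz⟩⟩
    choose V hV hz using key
    exact DPerf.isZero_of_cover V (fun y => near y V hV) hz
  · choose V M hV hM _hz using fun t => exists_nhd_H1 hfp hfl (CubeField.rpt t) (h t 1 Nat.one_pos)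
    obtain ⟨t, ht⟩ := near y V hV
    exact ⟨V t, M t, ht, hM t⟩

end Groth.Agent.FMHyp13
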