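import Groth.Agent.Lib.FMHyp13.Top
import Groth.Agent.Lib.DGen9.PerfMain

/-!
# Supports of a perfect object and cohomology of its derived fibres
-/

set_option autoImplicit false
set_option linter.style.haveILetI false
set_option linter.unusedSectionVars false
set_option backward.isDefEq.respectTransparency false
set_option backward.isDefEq.respectTransparency.types false
set_option maxHeartbeats 1600000

universe u

open CategoryTheory CategoryTheory.Limits AlgebraicGeometry Pretriangulated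

attribute [local instance] HasDerivedCategory.standard

noncomputable section

namespace Groth.Agent.FMHyp13

open DMon9 DBC9 TwistBC9

attribute [local instance] DBC9.hasRpush

variable {X Z : Scheme.{u}} [IsLocallyNoetherian X] (f : Z ⟶ X) {G : DCoh.D X} (hG : DCoh.IsPerfect G) (z : Z)
  (hZ : ∀ z' : Z, z' = z)

include hG hZ in
/-- A point has an affine neighbourhood on which a perfect object is bounded above, through which the point factors. -/
theorem exists_local :
    ∃ (V : X.Opens) (f' : Z ⟶ V) (b : ℤ), f' ≫ V.ι = f ∧ ((DPerf.resD V.ι).obj G).IsLE b ∧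
      DCoh.IsCohD ((DPerf.resD V.ι).obj G) ∧
      (∀ l, CohB1.support (DCoh.HD ((DPerf.resD V.ι).obj G) l) = V.ι.base ⁻¹' CohB1.support (DCoh.HD G l)) ∧
      Nonempty ((lP f').obj ((DPerf.resD V.ι).obj G) ≅ (lP f).obj G) := by
  obtain ⟨V, hV, hzV, -⟩ := exists_isAffineOpen_mem_and_subset (X := X) (x := f z) (U := ⊤) trivial
  haveI : IsAffine (V : Scheme.{u}) := hV
  haveI : CompactSpace (V : Scheme.{u}) := inferInstance
  let f' : Z ⟶ V := IsOpenImmersion.lift V.ι f (by
    rintro _ ⟨z', rfl⟩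
    rw [hZ z', Scheme.Opens.range_ι]
    exact hzV)
  have hf : f' ≫ V.ι = f := IsOpenImmersion.lift_fac _ _ _
  have hcG : DCoh.IsCohD G := fun i => DPerf.isCoh_HD_of_pseudoCoherent (DGen9.isPseudoCoherentD_of_isPerfect hG i)
    (DGen9.isQCohD_of_isPerfect hG i) le_rfl
  have hp : DCoh.IsPerfect ((DPerf.resD V.ι).obj G) := DGen9.isPerfect_resD V.ι hG
  obtain ⟨b, hb⟩ := DPerf.exists_isLE_of_pseudoCoherent (DGen9.isPseudoCoherentD_of_isPerfect hp 0)
  have hH : ∀ l, Nonempty (DCoh.HD ((DPerf.resD V.ι).obj G) l ≅ (Scheme.Modules.pullback V.ι).obj (DCoh.HD G l)) :=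
    fun l => ⟨DPerf.hdResIso V.ι G l ≪≫ (Scheme.Modules.restrictFunctorIsoPullback V.ι).app _⟩
  exact ⟨V, f', b, hf, hb, fun l => CohFound.isCoh_of_iso (hH l).some.symm (M1.isCoh_pullback V.ι (hcG l)),
    fun l => by rw [support_iso (hH l).some, M2.support_pullback V.ι (hcG l).1 (hcG l).2],
    ⟨(lP f').mapIso ((lPRes V.ι).app G).symm ≪≫ (lPComp f' V.ι hf).app G⟩⟩

include hG hZ in
/-- A nonzero derived fibre in degree `i` forces a nonzero cohomology sheaf in some degree at least `i`. -/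
theorem exists_support_of_not_isZero (i : ℤ) (h : ¬ IsZero (DCoh.HD ((lP f).obj G) i)) :
    ∃ l, i ≤ l ∧ f z ∈ CohB1.support (DCoh.HD G l) := by
  obtain ⟨V, f', b, hf, hb, hc, hs, ⟨e⟩⟩ := exists_local f hG z hZ
  by_contra hcon
  push Not at hcon
  refine h (IsZero.of_iso ?_ ((DerivedCategory.homologyFunctor _ i).mapIso e.symm))
  let G' := (DPerf.resD V.ι).obj G
  let U : (V : Scheme.{u}).Opens := ⟨⋂ l ∈ Finset.Icc i b, (CohB1.support (DCoh.HD G' l))ᶜ,
    isOpen_biInter_finset fun l _ => (M1.isClosed_support (hc l).2).isOpen_compl⟩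
  have hzU : f' z ∈ U := by
    refine Set.mem_iInter₂.2 fun l hl hm => hcon l (Finset.mem_Icc.1 hl).1 ?_
    rw [hs l] at hm
    rw [← hf, Scheme.Hom.comp_apply]
    exact hm
  let g : Z ⟶ U := IsOpenImmersion.lift U.ι f' (by
    rintro _ ⟨z', rfl⟩
    rw [hZ z', Scheme.Opens.range_ι]
    exact hzU)
  have hg : g ≫ U.ι = f' := IsOpenImmersion.lift_fac _ _ _
  have hH : ∀ l, Nonempty (DCoh.HD ((DPerf.resD U.ι).obj G') l ≅ (Scheme.Modules.pullback U.ι).obj (DCoh.HD G' l)) :=
    fun l => ⟨DPerf.hdResIso U.ι G' l ≪≫ (Scheme.Modules.restrictFunctorIsoPullback U.ι).app _⟩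
  haveI : ((DPerf.resD U.ι).obj G').IsLE (i - 1) := (DerivedCategory.isLE_iff _ _).2 fun l hl => by
    rcases le_or_gt l b with hlb | hlb
    · refine SerreCl8.isZero_of_support_eq_empty ?_
      rw [support_iso (hH l).some, M2.support_pullback U.ι (hc l).1 (hc l).2]
      refine Set.eq_empty_iff_forall_notMem.2 fun u hu => ?_
      exact (Set.mem_iInter₂.1 u.2 l (Finset.mem_Icc.2 ⟨by omega, hlb⟩)) hu
    · exact ((Scheme.Modules.pullback U.ι).map_isZero (DerivedCategory.isZero_of_isLE G' b l hlb)).of_iso (hH l).some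
  haveI := BC8.isLE_lP g ((DPerf.resD U.ι).obj G') (i - 1)
  exact (DerivedCategory.isZero_of_isLE _ (i - 1) i (by omega)).of_iso ((DerivedCategory.homologyFunctor _ i).mapIso
    ((lP g).mapIso ((lPRes U.ι).app G').symm ≪≫ (lPComp g U.ι hg).app G').symm)

include hG hZ in
/-- A nonzero cohomology sheaf in degree `i` forces a nonzero derived fibre in some degree at least `i`. -/
theorem exists_not_isZero_of_support (i : ℤ) (h : f z ∈ CohB1.support (DCoh.HD G i)) :
    ∃ l, i ≤ l ∧ ¬ IsZero (DCoh.HD ((lP f).obj G) l) := by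
  classical
  obtain ⟨V, f', b, hf, hb, hc, hs, ⟨e⟩⟩ := exists_local f hG z hZ
  let G' := (DPerf.resD V.ι).obj G
  haveI : IsLocallyNoetherian (V : Scheme.{u}) := inferInstance
  have hi : f' z ∈ CohB1.support (DCoh.HD G' i) := by
    rw [hs i]
    show V.ι (f' z) ∈ CohB1.support (DCoh.HD G i)
    rw [← Scheme.Hom.comp_apply, hf]
    exact h
  have hb' : ∀ l, f' z ∈ CohB1.support (DCoh.HD G' l) → l ≤ b := fun l hl => not_lt.1 fun hlt =>
    hl (AddCommGrpCat.subsingleton_of_isZero ((M1.stalkAb _).map_isZero (DerivedCategory.isZero_of_isLE G' b l hlt)))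
  obtain ⟨l, ⟨hl, hil⟩, hmax⟩ := Int.exists_greatest_of_bdd
    (P := fun l => f' z ∈ CohB1.support (DCoh.HD G' l) ∧ i ≤ l) ⟨b, fun l h => hb' l h.1⟩ ⟨i, hi, le_rfl⟩
  refine ⟨l, hil, fun hz => not_isZero_HD_lP_local f' G' hc b l z hl
    (fun m hm hmem => absurd (hmax m ⟨hmem, hil.trans hm.le⟩) (by omega)) hZ ?_⟩
  exact hz.of_iso ((DerivedCategory.homologyFunctor _ l).mapIso e)

end Groth.Agent.FMHyp13

end
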