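import Groth.Agent.Lib.CanElt.Acyclicity
import Groth.Agent.Lib.Depth.CM
import Groth.Agent.Lib.Depth.More
import Groth.Agent.Lib.DBaseChange.Fibre

/-!
# Homology supported in high codimension over Cohen-Macaulay rings
-/

set_option autoImplicit false
set_option linter.style.haveILetI false
set_option linter.unusedSectionVars false
set_option backward.isDefEq.respectTransparency false
set_option backward.isDefEq.respectTransparency.types false
set_option maxHeartbeats 1600000

universe u

open CategoryTheory CategoryTheory.Limits IsLocalRing RingTheory.Sequence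
open scoped TensorProduct ZeroObject

attribute [local instance] HasDerivedCategory.standard

namespace Groth.Agent.FMHyp13.GVAlg

variable {A : Type u} [CommRing A] [IsNoetherianRing A] [IsLocalRing A]

/-- Every element of the homology is killed outside the prime. -/
def KilledAt {R : Type u} [CommRing R] (H : Type u) [AddCommGroup H] [Module R H] (p : Ideal R) : Prop :=
  ∀ h : H, ∃ s, s ∉ p ∧ s • h = 0

/-- A flat complex whose homology sits in high codimension is exact. -/
theorem exact_of_codim (hCM : LocCoh.IsCohenMacaulayModule A A) (X : ℕ → Type u) [∀ n, AddCommGroup (X n)]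
    [∀ n, Module A (X n)] [∀ n, Module.Finite A (X n)] [∀ n, Module.Flat A (X n)]
    (dX : ∀ n, X (n + 1) →ₗ[A] X n) (hdd : ∀ n w, dX n (dX (n + 1) w) = 0) (k : ℕ)
    (hbd : ∀ i, k < i → Subsingleton (X i)) (h0 : Subsingleton (X 0))
    (hcd : ∀ (n : ℕ) (q : Ideal A), q.IsPrime →
      (∀ w, dX n w = 0 → ∃ s, s ∉ q ∧ s • w ∈ LinearMap.range (dX (n + 1))) ∨ (k : ℕ∞) < (n + 1 : ℕ) + q.height) :
    ∀ n w, dX n w = 0 → w ∈ LinearMap.range (dX (n + 1)) := by
  classical
  suffices H : ∀ (h : ℕ) (q : Ideal A), q.IsPrime → q.height = h → ∀ n w, dX n w = 0 →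
      ∃ s, s ∉ q ∧ s • w ∈ LinearMap.range (dX (n + 1)) by
    intro n w hw
    obtain ⟨h, hh⟩ := ENat.ne_top_iff_exists.1 (Ideal.height_ne_top (I := maximalIdeal A) (maximalIdeal.isMaximal A).ne_top)
    obtain ⟨s, hs, hsw⟩ := H h _ inferInstance hh.symm n w hw
    obtain ⟨t, rfl⟩ := IsLocalRing.notMem_maximalIdeal.1 hs
    simpa [smul_smul] using Submodule.smul_mem _ (↑t⁻¹ : A) hsw
  intro h
  induction h using Nat.strong_induction_on with
  | _ h ih =>
  intro q hq hh n w hw
  rcases hcd n q hq with hc | hc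
  · exact hc w hw
  let S := q.primeCompl
  let A' := Localization.AtPrime q
  let X' : ℕ → Type u := fun i => LocalizedModule S (X i)
  let ι' : ∀ i, X i →ₗ[A] X' i := fun i => LocalizedModule.mkLinearMap S (X i)
  let dX' : ∀ i, X' (i + 1) →ₗ[A'] X' i := fun i => LocalizedModule.map S (dX i)
  have hmap : ∀ i x s, dX' i (LocalizedModule.mk x s) = LocalizedModule.mk (dX i x) s := fun i x s =>
    LocalizedModule.map_mk S _ _ _
  have hdd' : ∀ i v, dX' i (dX' (i + 1) v) = 0 := fun i v => by
    induction v using LocalizedModule.induction_on with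
    | _ x s => rw [hmap, hmap, hdd, LocalizedModule.zero_mk]
  have hz : ∀ {i : ℕ}, Subsingleton (X i) → Subsingleton (X' i) := fun {i} hi => ⟨fun a b => by
    induction a using LocalizedModule.induction_on with
    | _ x s => induction b using LocalizedModule.induction_on with
      | _ y t => rw [@Subsingleton.elim _ hi x 0, @Subsingleton.elim _ hi y 0, LocalizedModule.zero_mk, LocalizedModule.zero_mk]⟩
  haveI : ∀ i, Module.Flat A' (X' i) := fun i => inferInstance
  -- the homology of the localised complex has finite length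
  have hN : ∀ i, ∃ N : ℕ, ∀ v, dX' i v = 0 → ∀ a ∈ maximalIdeal A' ^ N, a • v ∈ LinearMap.range (dX' (i + 1)) := by
    intro i
    let Z := LinearMap.ker (dX' i)
    let Q := Z ⧸ Submodule.comap Z.subtype (LinearMap.range (dX' (i + 1)))
    haveI : IsNoetherian A' (X' (i + 1)) := isNoetherian_of_isNoetherianRing_of_finite A' _
    haveI : Module.Finite A' Q := inferInstance
    have hrad : maximalIdeal A' ≤ (Module.annihilator A' Q).radical := by
      rw [Ideal.radical_eq_sInf]
      refine le_sInf fun J hJ => ?_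
      by_contra hne
      haveI := hJ.2
      have hlt : J.comap (algebraMap A A') < q := by
        refine lt_of_le_of_ne ?_ ?_
        · exact (Ideal.comap_mono (le_maximalIdeal hJ.2.ne_top)).trans
            (Localization.AtPrime.comap_maximalIdeal (I := q)).le
        · intro e
          exact hne ((Localization.AtPrime.map_eq_maximalIdeal (I := q)).symm.le.trans
            ((Ideal.map_mono e.ge).trans Ideal.map_comap_le))
      have hJp : (J.comap (algebraMap A A')).IsPrime := Ideal.IsPrime.comap _
      obtain ⟨h', hh'⟩ := ENat.ne_top_iff_exists.1 (Ideal.height_ne_top (I := J.comap (algebraMap A A')) hJp.ne_top)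
      have hhh : h' < h := by
        have := Ideal.height_strict_mono_of_isPrime hlt
        rw [← hh', hh] at this
        exact_mod_cast this
      refine (?_ : (⟨J, hJ.2⟩ : PrimeSpectrum A') ∉ Module.support A' Q)
        (by rw [Module.support_eq_zeroLocus]; exact hJ.1)
      rw [Module.notMem_support_iff']
      intro qv
      obtain ⟨⟨v, hv⟩, rfl⟩ := Submodule.Quotient.mk_surjective _ qv
      induction v using LocalizedModule.induction_on with
      | _ x s =>
      have hv' : LocalizedModule.mk (dX i x) s = LocalizedModule.mk 0 (1 : S) := by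
        rw [LocalizedModule.zero_mk, ← hmap]; exact hv
      obtain ⟨t, ht⟩ := LocalizedModule.mk_eq.1 hv'
      rw [smul_zero, smul_zero, one_smul] at ht
      obtain ⟨s', hs', hs'x⟩ := ih h' hhh _ hJp hh'.symm i ((t : A) • x) (by rw [map_smul]; exact ht)
      obtain ⟨z, hz'⟩ := hs'x
      refine ⟨algebraMap A A' (s' * t), fun hm => ?_, ?_⟩
      · rw [map_mul] at hm
        rcases hJ.2.mem_or_mem hm with hm | hm
        · exact hs' hm
        · exact hJ.2.ne_top (Ideal.eq_top_of_isUnit_mem _ hm (IsLocalization.map_units A' t))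
      rw [← Submodule.Quotient.mk_smul, Submodule.Quotient.mk_eq_zero]
      refine ⟨LocalizedModule.mk z s, ?_⟩
      rw [hmap, hz']
      show _ = algebraMap A A' (s' * t) • LocalizedModule.mk x s
      rw [algebraMap_smul, LocalizedModule.smul'_mk, mul_smul]
    obtain ⟨N, hN⟩ := Ideal.exists_pow_le_of_le_radical_of_fg hrad (IsNoetherian.noetherian _)
    refine ⟨N, fun v hv a ha => ?_⟩
    have := Module.mem_annihilator.1 (hN ha) (Submodule.Quotient.mk ⟨v, hv⟩)
    rwa [← Submodule.Quotient.mk_smul, Submodule.Quotient.mk_eq_zero] at this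
  choose N hN using hN
  let N₀ := (Finset.range (k + 1)).sup N
  have hN₀ : ∀ i v, dX' i v = 0 → ∀ a : A', a ∈ maximalIdeal A' ^ N₀ → a • v ∈ LinearMap.range (dX' (i + 1)) := by
    intro i v hv a ha
    by_cases hi : i ≤ k
    · exact hN i v hv a (Ideal.pow_le_pow_right (Finset.le_sup (Finset.mem_range.2 (by omega))) ha)
    · haveI := hz (hbd (i + 1) (by omega))
      exact ⟨0, Subsingleton.elim _ _⟩
  haveI : Subsingleton (X' 0) := hz h0
  -- a regular sequence of length the height
  have hdep : LocCoh.depth A' A' = q.height := by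
    have h1 := (DepthLib.isCohenMacaulayModule_localizedModule hCM q
      (by rw [Module.mem_support_iff_of_finite]; intro a ha; have h1 := Module.mem_annihilator.1 ha 1; rw [smul_eq_mul, mul_one] at h1; rw [h1]; exact q.zero_mem)).1
    rw [LocCoh.IsCohenMacaulayModule, DepthLib.supportDim_eq_ringKrullDim_of_isPrime,
      DepthLib.depth_localizedModule_self] at h1
    exact_mod_cast h1.symm
  obtain ⟨rs, hreg, hrs, hlen⟩ := DepthLib.exists_isWeaklyRegular_of_le_idealDepth (R := A') (M := A')
    (I := maximalIdeal A') (n := h) (by rw [smul_eq_mul, Ideal.mul_top]; exact (maximalIdeal.isMaximal _).ne_top)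
    (by rw [show LocCoh.idealDepth (maximalIdeal A') A' = _ from hdep, hh])
  have hex := CanElt.acyclicity rs hrs X' dX' (fun i => CanElt.isWeaklyRegular_of_free hreg (X' i)) hdd' k
    (fun i hi => hz (hbd i hi)) N₀ (fun a _ v => ⟨0, Subsingleton.elim _ _⟩) hN₀ n
    (by rw [hh] at hc; rw [hlen]; exact_mod_cast hc) (ι' (n + 1) w)
    (by show dX' n (LocalizedModule.mk w 1) = 0; rw [hmap, hw, LocalizedModule.zero_mk])
  obtain ⟨v, hv⟩ := hex
  induction v using LocalizedModule.induction_on with
  | _ x s =>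
  rw [hmap] at hv
  obtain ⟨u, hu⟩ := LocalizedModule.mk_eq.1 (hv : _ = LocalizedModule.mk w 1)
  rw [one_smul] at hu
  refine ⟨((u * s : S) : A), (u * s).2, (u : A) • x, ?_⟩
  rw [map_smul]
  show (u : A) • dX (n + 1) x = ((u : A) * (s : A)) • w
  rw [mul_smul]
  exact hu

open DBaseChange DPerf.LocalFibre

variable (F : DRing.Cx A) (hF : DRing.TermwiseFiniteFree F) (i : ℤ)

include hF in
/-- Fibre exactness propagates one step up when the homology above sits in high codimension. -/
theorem fibreExact_succ (hCM : LocCoh.IsCohenMacaulayModule A A) (B : ℤ) [F.IsStrictlyLE B] (h : FibreExact F i)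
    (hcd : ∀ (m : ℤ) (q : Ideal A), q.IsPrime → i < m →
      KilledAt (F.homology m) q ∨ ∃ c : ℕ, m ≤ i + c ∧ (c : ℕ∞) ≤ q.height) :
    FibreExact F (i + 1) := by
  let T := DMod.truncFrom F (i + 1)
  let B' := max (B + 1) (i + 2)
  have hzero : ∀ j, (j < i + 1 ∨ B < j) → Subsingleton (T.X j) := fun j hj =>
    ModuleCat.subsingleton_of_isZero (DMod.vanishesOutside_truncFrom F (i + 1) B j hj)
  haveI hproj : _root_.Module.Projective A (T.X (i + 1)) := by
    have := (split_of_fibreExact F hF i h).2
    have key : ∀ j, j = i → _root_.Module.Projective A (F.X (i + 1) ⧸ LinearMap.range (F.d j (i + 1)).hom) := by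
      rintro j rfl
      exact this
    haveI := key (i + 1 - 1) (by omega)
    exact _root_.Module.Projective.of_equiv (DMod.truncFromBotEquiv F (i + 1))
  have hfl : ∀ j, _root_.Module.Flat A (T.X j) ∧ _root_.Module.Finite A (T.X j) := fun j =>
    ⟨DMod.truncFrom_mem DMod.modClass_flat F (i + 1) (fun l _ => have := (hF l).2; inferInstance)
        inferInstance j,
      have := (hF j).1
      _root_.Module.Finite.of_surjective ((DMod.truncFromπ F (i + 1)).f j).hom (DMod.truncFromπ_surjective F _ j)⟩
  have hπd : ∀ a b x, T.d a b ((DMod.truncFromπ F (i + 1)).f a x) = (DMod.truncFromπ F (i + 1)).f b (F.d a b x) :=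
    fun a b x => by
      rw [← ModuleCat.comp_apply, ← ModuleCat.comp_apply, (DMod.truncFromπ F (i + 1)).comm]
  haveI : ∀ n : ℕ, _root_.Module.Flat A (T.X (B' - n)) := fun n => (hfl _).1
  haveI : ∀ n : ℕ, _root_.Module.Finite A (T.X (B' - n)) := fun n => (hfl _).2
  have hex := exact_of_codim hCM (fun n : ℕ => T.X (B' - (n : ℤ)))
    (fun n => (T.d (B' - (n + 1 : ℕ)) (B' - n)).hom)
    (fun n w => by rw [← LinearMap.comp_apply, ← ModuleCat.hom_comp, T.d_comp_d]; rfl)
    (B' - i - 1).toNat (fun l hl => hzero _ (Or.inl (by omega))) (hzero _ (Or.inr (by omega)))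
    fun n q hq => ?_
  swap
  · set m := B' - ((n + 1 : ℕ) : ℤ) with hm
    by_cases hmi : i < m
    · rcases hcd m q hq hmi with hk | ⟨c, hc, hcq⟩
      · refine Or.inl fun w hw => ?_
        obtain ⟨x, rfl⟩ := DMod.truncFromπ_surjective F (i + 1) m w
        have hx : F.d m (m + 1) x = 0 := by
          have hw' : T.d m (m + 1) ((DMod.truncFromπ F (i + 1)).f m x) = 0 := by
            have key : ∀ j, j = m + 1 → T.d m j ((DMod.truncFromπ F (i + 1)).f m x) = 0 →
                T.d m (m + 1) ((DMod.truncFromπ F (i + 1)).f m x) = 0 := by rintro j rfl h; exact h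
            exact key _ (by omega) hw
          rw [hπd, DMod.truncFromπ_eq_zero_iff, DMod.ltSub_of_gt F (show i + 1 < m + 1 by omega), Submodule.mem_bot] at hw'
          exact hw'
        obtain ⟨z, hz⟩ := DMod.exists_cycle (K := F) (j := m) (k := m + 1) (by simp) x hx
        obtain ⟨s, hs, hsz⟩ := hk (F.homologyπ m z)
        obtain ⟨y, hy⟩ := (DMod.homologyπ_eq_zero_iff (K := F) (i := m - 1) (j := m) (by simp) (s • z)).1
          (by rw [map_smul, hsz])
        refine ⟨s, hs, ?_⟩
        have key : ∀ j, j = m - 1 → s • ((DMod.truncFromπ F (i + 1)).f m x) ∈ LinearMap.range (T.d j m).hom := by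
          rintro j rfl
          refine ⟨(DMod.truncFromπ F (i + 1)).f (m - 1) y, ?_⟩
          show T.d (m - 1) m _ = _
          rw [hπd, hy, map_smul, hz, map_smul]
        exact key _ (by omega)
      · exact Or.inr ((by exact_mod_cast (by omega : (B' - i - 1).toNat < n + 1 + c) :
          ((B' - i - 1).toNat : ℕ∞) < (n + 1 : ℕ) + (c : ℕ∞)).trans_le (by gcongr))
    · refine Or.inl fun w _ => ⟨1, hq.one_notMem, ?_⟩
      haveI : Subsingleton (T.X (B' - ((n + 1 : ℕ) : ℤ))) := hzero _ (Or.inl (by omega))
      rw [Subsingleton.elim w 0, smul_zero]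
      exact Submodule.zero_mem _
  -- the truncation is exact
  haveI : T.IsStrictlyLE B' := (CochainComplex.isStrictlyLE_iff _ _).2 fun j hj =>
    DMod.vanishesOutside_truncFrom F (i + 1) B j (Or.inr (by omega))
  have hT : ∀ j, Subsingleton (T.homology j) := fun j => by
    rw [DMod.subsingleton_homology_iff T (i := j - 1) (k := j + 1) (by simp) (by simp)]
    intro x hx
    by_cases hj : j < B'
    · obtain ⟨n, rfl⟩ : ∃ n : ℕ, j = B' - ((n + 1 : ℕ) : ℤ) := ⟨(B' - j - 1).toNat, by omega⟩
      have h1 : (T.d (B' - ((n + 1 : ℕ) : ℤ)) (B' - n)).hom x = 0 := by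
        have key : ∀ l, l = B' - (n : ℤ) → T.d (B' - ((n + 1 : ℕ) : ℤ)) l x = 0 →
            (T.d (B' - ((n + 1 : ℕ) : ℤ)) (B' - n)).hom x = 0 := by rintro l rfl h; exact h
        exact key _ (by omega) hx
      have key : ∀ l, l = B' - ((n + 1 + 1 : ℕ) : ℤ) → ∃ y, T.d l (B' - ((n + 1 : ℕ) : ℤ)) y = x := by
        rintro l rfl
        exact hex n x h1
      exact key _ (by omega)
    · haveI := hzero j (Or.inr (by omega))
      exact ⟨0, Subsingleton.elim _ _⟩
  have hTF : DRing.TermwiseFiniteFree T := fun j => by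
    obtain ⟨h1, h2⟩ := hfl j
    exact ⟨h2, _root_.Module.free_of_flat_of_isLocalRing⟩
  haveI : (DRing.toD T).IsGE (B' + 1) := (DMod.isGE_iff _ _).2 fun j _ => (DMod.subsingleton_HD_toD_iff T j).2 (hT j)
  haveI : (DRing.toD T).IsLE B' := (DMod.isLE_iff _ _).2 fun j _ => (DMod.subsingleton_HD_toD_iff T j).2 (hT j)
  have hflT : ∀ j, _root_.Module.Flat A (T.X j) := fun j => (hfl j).1
  have hfib : FibreExact T (i + 1) := by
    refine fibreExact_of_ext T (i + 1) ?_
    refine subsingleton_homology_ext (residue A) B' hflT (a := i) (b := i) ?_ (i + 1) (Or.inr (by omega))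
    have hz : IsZero (DRing.toD T) := (DMod.tS A).isZero (DRing.toD T) B' (B' + 1) (by omega)
    refine ⟨0, fun l _ => ((HomologicalComplex.eval _ _ l).map_isZero (isZero_zero _)), fun l => ?_,
      ⟨(IsZero.iso ((DerivedCategory.Q).map_isZero (isZero_zero _)) hz)⟩⟩
    haveI : Subsingleton ((0 : DRing.Cx A).X l) :=
      ModuleCat.subsingleton_of_isZero ((HomologicalComplex.eval _ _ l).map_isZero (isZero_zero (DRing.Cx A)))
    exact DMod.modClass_flat.subsingleton _
  -- back to the original complex
  intro z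
  constructor
  · intro hz
    obtain ⟨w, hw⟩ := (hfib ((((DMod.truncFromπ F (i + 1)).f (i + 1)).hom.lTensor (ResidueField A)) z)).1 (by
      rw [← LinearMap.comp_apply, ← LinearMap.lTensor_comp]
      show ((T.d (i + 1) (i + 1 + 1)).hom ∘ₗ _).lTensor _ z = 0
      rw [show (T.d (i + 1) (i + 1 + 1)).hom ∘ₗ ((DMod.truncFromπ F (i + 1)).f (i + 1)).hom =
        ((DMod.truncFromπ F (i + 1)).f (i + 1 + 1)).hom ∘ₗ (F.d (i + 1) (i + 1 + 1)).hom from
          LinearMap.ext fun x => hπd _ _ x, LinearMap.lTensor_comp, LinearMap.comp_apply]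
      erw [hz]
      exact map_zero _)
    haveI : Subsingleton (T.X (i + 1 - 1)) := hzero _ (Or.inl (by omega))
    rw [Subsingleton.elim w 0, map_zero] at hw
    obtain ⟨y, rfl⟩ := (lTensor_exact (ResidueField A) (LinearMap.exact_iff.2 (by
      ext x
      exact (DMod.truncFromπ_eq_zero_iff F (i + 1) (i + 1) x).trans (by rw [DMod.ltSub_self]) :
        LinearMap.ker ((DMod.truncFromπ F (i + 1)).f (i + 1)).hom = LinearMap.range (F.d (i + 1 - 1) (i + 1)).hom))
      (DMod.truncFromπ_surjective F (i + 1) (i + 1)) z).1 hw.symm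
    exact ⟨y, rfl⟩
  · rintro ⟨y, rfl⟩
    rw [← LinearMap.comp_apply, ← LinearMap.lTensor_comp,
      show (F.d (i + 1) (i + 1 + 1)).hom ∘ₗ (F.d (i + 1 - 1) (i + 1)).hom = 0 by
        rw [← ModuleCat.hom_comp, F.d_comp_d]; rfl, LinearMap.lTensor_zero, LinearMap.zero_apply]

end Groth.Agent.FMHyp13.GVAlg
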