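import Groth.Agent.Lib.FMHyp13.GVFibre
import Groth.Agent.Lib.CanElt.AB
import Groth.Agent.Lib.CanElt.Acyclicity

/-!
# The lowest fibre of a perfect complex
-/

set_option autoImplicit false
set_option linter.style.haveILetI false
set_option linter.unusedSectionVars false
set_option backward.isDefEq.respectTransparency false
set_option backward.isDefEq.respectTransparency.types false
set_option maxHeartbeats 1600000

universe u

open CategoryTheory CategoryTheory.Limits AlgebraicGeometry IsLocalRing

attribute [local instance] HasDerivedCategory.standard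

noncomputable section

namespace Groth.Agent.FMHyp13

open DBaseChange DPerf.LocalFibre RegLoc KFlat KFlat.Sch DMon9 Exact8.PerfFibres

/-- A cohomology free complex below `c` has exact fibres below `c` minus a bound for the cokernel in degree `c`. -/
theorem fibreExact_of_pd {A : Type u} [CommRing A] [IsNoetherianRing A] [IsLocalRing A] (F : DRing.Cx A)
    (hF : DRing.TermwiseFiniteFree F) (a₀ c : ℤ) (h₀ : ∀ l, l < a₀ → FibreExact F l)
    (hex : ∀ l, l < c → Subsingleton (F.homology l)) (t : ℕ)
    (hpd : (∃ n, PD A (F.X c ⧸ LinearMap.range (F.d (c - 1) c).hom) n) →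
      PD A (F.X c ⧸ LinearMap.range (F.d (c - 1) c).hom) t)
    (l : ℤ) (hl : l + t < c) : FibreExact F l := by
  have hd : ∀ j k₁ : ℤ, j + 1 = k₁ → ∀ y, F.d j k₁ (F.d (j - 1) j y) = 0 := fun j k₁ _ y => by
    rw [← ModuleCat.comp_apply, F.d_comp_d]; rfl
  haveI : ∀ i, Module.Finite A (F.X i) := fun i => (hF i).1
  haveI : ∀ i, Module.Projective A (F.X i) := fun i => have := (hF i).2; inferInstance
  let N : ℤ → Type u := fun j => F.X j ⧸ LinearMap.range (F.d (j - 1) j).hom
  have hstep : ∀ j : ℤ, j < c → ∀ n : ℕ, PD A (N (j + 1)) (n + 1) ↔ PD A (N j) n := by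
    intro j hj n
    let g : (F.X j ⧸ LinearMap.range (F.d (j - 1) j).hom) →ₗ[A] F.X (j + 1) :=
      (LinearMap.range (F.d (j - 1) j).hom).liftQ (F.d j (j + 1)).hom (by
        rintro _ ⟨y, rfl⟩; exact hd j _ rfl y)
    have hginj : Function.Injective g := by
      rw [injective_iff_map_eq_zero]
      intro w hw
      obtain ⟨x, rfl⟩ := Submodule.mkQ_surjective _ w
      obtain ⟨y, hy⟩ := (DMod.subsingleton_homology_iff F (i := j - 1) (k := j + 1) (by simp) (by simp)).1 (hex j hj) x hw
      exact (Submodule.Quotient.mk_eq_zero _).2 ⟨y, hy⟩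
    have hr : LinearMap.range g = LinearMap.range (F.d (j + 1 - 1) (j + 1)).hom := by
      rw [Submodule.range_liftQ, show j + 1 - 1 = j by omega]
    rw [pd_succ_iff (Submodule.mkQ (LinearMap.range (F.d (j + 1 - 1) (j + 1)).hom)) (Submodule.mkQ_surjective _)]
    exact pd_congr ((LinearEquiv.ofEq _ _ ((Submodule.ker_mkQ _).trans hr.symm)).trans
      (LinearEquiv.ofInjective g hginj).symm)
  -- below the range the cokernels are projective
  have hlow : ∀ j, j ≤ a₀ → PD A (N j) 0 := fun j hj => by
    have := (split_of_fibreExact F hF (j - 1) (h₀ _ (by omega))).2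
    have key : ∀ m, m = j → Module.Projective A (F.X m ⧸ LinearMap.range (F.d (j - 1) m).hom) →
        Module.Projective A (N j) := by rintro m rfl h; exact h
    exact pd_zero_iff.2 (key _ (by omega) this)
  have hfin : ∀ (m : ℕ) (j : ℤ), j ≤ a₀ + m → j ≤ c → PD A (N j) m := by
    intro m
    induction m with
    | zero => exact fun j hj _ => hlow j (by omega)
    | succ m ih =>
      intro j hj hjc
      obtain ⟨j, rfl⟩ : ∃ j', j = j' + 1 := ⟨j - 1, by omega⟩
      exact (hstep j (by omega) m).2 (ih j (by omega) (by omega))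
  have hdown : ∀ m : ℕ, PD A (N (c - m)) (t - m) := by
    intro m
    induction m with
    | zero =>
      rw [Nat.sub_zero, Int.natCast_zero, sub_zero]
      exact hpd ⟨_, hfin (c - a₀).toNat c (by omega) le_rfl⟩
    | succ m ih =>
      have h := hstep (c - (m + 1 : ℕ)) (by omega) (t - (m + 1))
      rw [show c - ((m + 1 : ℕ) : ℤ) + 1 = c - m by omega] at h
      exact h.1 (ih.mono (by omega))
  have hproj : ∀ j : ℤ, j + t ≤ c → Module.Projective A (N j) := fun j hj => by
    obtain ⟨m, hm⟩ : ∃ m : ℕ, j = c - m := ⟨(c - j).toNat, by omega⟩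
    have h := hdown m
    rw [show t - m = 0 by omega, ← hm] at h
    exact pd_zero_iff.1 h
  -- exact with a projective cokernel
  intro z
  constructor
  · intro hz
    let g : (F.X l ⧸ LinearMap.range (F.d (l - 1) l).hom) →ₗ[A] F.X (l + 1) :=
      (LinearMap.range (F.d (l - 1) l).hom).liftQ (F.d l (l + 1)).hom (by
        rintro _ ⟨y, rfl⟩; exact hd l _ rfl y)
    have hginj : Function.Injective g := by
      rw [injective_iff_map_eq_zero]
      intro w hw
      obtain ⟨x, rfl⟩ := Submodule.mkQ_surjective _ w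
      obtain ⟨y, hy⟩ := (DMod.subsingleton_homology_iff F (i := l - 1) (k := l + 1) (by simp) (by simp)).1
        (hex l (by omega)) x hw
      exact (Submodule.Quotient.mk_eq_zero _).2 ⟨y, hy⟩
    have hr : LinearMap.range g = LinearMap.range (F.d l (l + 1)).hom := Submodule.range_liftQ _ _ _
    have hp : Module.Projective A (F.X (l + 1) ⧸ LinearMap.range g) := by
      have h := hproj (l + 1) (by omega)
      have key : ∀ m, m = l → Module.Projective A (F.X (l + 1) ⧸ LinearMap.range (F.d m (l + 1)).hom) →
          Module.Projective A (F.X (l + 1) ⧸ LinearMap.range g) := by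
        rintro m rfl h
        exact Module.Projective.of_equiv (Submodule.quotEquivOfEq _ _ hr.symm)
      exact key _ (by omega) h
    have hinj : Function.Injective (g.lTensor (ResidueField A)) := by
      haveI : Module.Flat A (F.X (l + 1) ⧸ LinearMap.range g) := inferInstance
      obtain ⟨s, hs⟩ := Module.projective_lifting_property (LinearMap.range g).mkQ LinearMap.id
        (Submodule.mkQ_surjective _)
      obtain ⟨r, hrr⟩ : ∃ r : F.X (l + 1) →ₗ[A] (F.X l ⧸ LinearMap.range (F.d (l - 1) l).hom), r ∘ₗ g = LinearMap.id := by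
        let π : F.X (l + 1) →ₗ[A] LinearMap.range g :=
          (LinearMap.id - s ∘ₗ (LinearMap.range g).mkQ).codRestrict _ fun x =>
            (Submodule.Quotient.mk_eq_zero _).1 (by
              show (LinearMap.range g).mkQ (x - s ((LinearMap.range g).mkQ x)) = 0
              rw [map_sub, ← LinearMap.comp_apply (LinearMap.range g).mkQ s, hs]
              simp)
        refine ⟨(LinearEquiv.ofInjective g hginj).symm.toLinearMap ∘ₗ π, LinearMap.ext fun w => ?_⟩
        show (LinearEquiv.ofInjective g hginj).symm (π (g w)) = w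
        rw [LinearEquiv.symm_apply_eq]
        refine Subtype.ext ?_
        show g w - s ((LinearMap.range g).mkQ (g w)) = g w
        rw [(Submodule.Quotient.mk_eq_zero _).2 ⟨w, rfl⟩ |> fun (h : (LinearMap.range g).mkQ (g w) = 0) => h,
          map_zero, sub_zero]
      exact Function.LeftInverse.injective (g := r.lTensor (ResidueField A)) fun x => by
        rw [← LinearMap.comp_apply, ← LinearMap.lTensor_comp, hrr, LinearMap.lTensor_id, LinearMap.id_apply]
    have hg : g ∘ₗ (LinearMap.range (F.d (l - 1) l).hom).mkQ = (F.d l (l + 1)).hom := Submodule.liftQ_mkQ _ _ _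
    rw [← hg, LinearMap.lTensor_comp, LinearMap.comp_apply] at hz
    exact (lTensor_exact (ResidueField A) (LinearMap.exact_iff.2 (Submodule.ker_mkQ _))
      (Submodule.mkQ_surjective _) z).1 (hinj (hz.trans (map_zero _).symm))
  · rintro ⟨y, rfl⟩
    rw [← LinearMap.comp_apply, ← LinearMap.lTensor_comp,
      show (F.d l (l + 1)).hom ∘ₗ (F.d (l - 1) l).hom = 0 from LinearMap.ext (hd l _ rfl),
      LinearMap.lTensor_zero, LinearMap.zero_apply]

/-- A cohomology free complex below `c` has exact fibres below `c` minus the depth. -/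
theorem fibreExact_of_depth {A : Type u} [CommRing A] [IsNoetherianRing A] [IsLocalRing A] (F : DRing.Cx A)
    (hF : DRing.TermwiseFiniteFree F) (a₀ c : ℤ) (h₀ : ∀ l, l < a₀ → FibreExact F l)
    (hex : ∀ l, l < c → Subsingleton (F.homology l)) (t : ℕ) (ht : LocCoh.depth A A = t)
    (l : ℤ) (hl : l + t < c) : FibreExact F l :=
  haveI := (hF c).1
  fibreExact_of_pd F hF a₀ c h₀ hex t (fun h => CanElt.pd_le_depth t A ht _ h) l hl

/-- With a regular element on the top cohomology, one gains one degree. -/
theorem fibreExact_of_regular {A : Type u} [CommRing A] [IsNoetherianRing A] [IsLocalRing A] (F : DRing.Cx A)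
    (hF : DRing.TermwiseFiniteFree F) (a₀ c : ℤ) (h₀ : ∀ l, l < a₀ → FibreExact F l)
    (hex : ∀ l, l < c → Subsingleton (F.homology l)) (t : ℕ) (ht : LocCoh.depth A A = (t + 1 : ℕ)) {x : A}
    (hx : x ∈ maximalIdeal A) (hxA : IsSMulRegular A x) (hxH : ∀ h : F.homology c, x • h = 0 → h = 0)
    (l : ℤ) (hl : l + t < c) : FibreExact F l := by
  haveI := (hF c).1
  haveI := (hF (c + 1)).2
  refine fibreExact_of_pd F hF a₀ c h₀ hex t (fun h => ?_) l hl
  cases subsingleton_or_nontrivial (F.X c ⧸ LinearMap.range (F.d (c - 1) c).hom) with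
  | inl hs =>
    exact PD.of_projective (h := Module.Projective.of_free) t
  | inr hn =>
    have hreg : IsSMulRegular (F.X c ⧸ LinearMap.range (F.d (c - 1) c).hom) x := by
      refine IsSMulRegular.of_right_eq_zero_of_smul (fun w hw => ?_)
      obtain ⟨v, rfl⟩ := Submodule.mkQ_surjective _ w
      rw [← map_smul, Submodule.mkQ_apply, Submodule.Quotient.mk_eq_zero] at hw
      obtain ⟨y, hy⟩ := hw
      have hdv : F.d c (c + 1) v = 0 := by
        have h1 : x • F.d c (c + 1) v = 0 := by
          rw [← map_smul]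
          show (F.d c (c + 1)).hom (x • v) = 0
          rw [← hy]
          show F.d c (c + 1) (F.d (c - 1) c y) = 0
          rw [← ModuleCat.comp_apply, F.d_comp_d]; rfl
        have hfree : IsSMulRegular (F.X (c + 1)) x :=
          (RingTheory.Sequence.isWeaklyRegular_singleton_iff _ _).1 (CanElt.isWeaklyRegular_of_free
            ((RingTheory.Sequence.isWeaklyRegular_singleton_iff A x).2 hxA) (F.X (c + 1)))
        exact hfree (h1.trans (smul_zero x).symm)
      obtain ⟨ζ, hζ⟩ := DMod.exists_cycle (K := F) (j := c) (k := c + 1) (by simp) v hdv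
      have h2 := hxH (F.homologyπ c ζ) (by
        rw [← map_smul, DMod.homologyπ_eq_zero_iff (i := c - 1) (by simp)]
        exact ⟨y, hy.trans (by rw [map_smul, hζ])⟩)
      obtain ⟨y', hy'⟩ := (DMod.homologyπ_eq_zero_iff (i := c - 1) (by simp) ζ).1 h2
      exact (Submodule.Quotient.mk_eq_zero _).2 ⟨y', hy'.trans hζ⟩
    obtain ⟨t', ht', hP⟩ := CanElt.pd_lt_depth_of_regular _ h hx hreg
    obtain rfl : t = t' := by
      have := ht.symm.trans ht'
      have h' : t + 1 = t' + 1 := by exact_mod_cast this
      omega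
    exact hP

variable {Y : Scheme.{u}} [IsLocallyNoetherian Y] {Z : Scheme.{u}} (f : Z ⟶ Y) (z : Z)

/-- The derived fibre of a perfect object read on a free complex over the local ring. -/
theorem exists_fibre_model (hZ : ∀ z' : Z, z' = z) (hfield : IsField (Z.presheaf.stalk z))
    {G : DCoh.D Y} (hG : DCoh.IsPerfect G) :
    ∃ F : DRing.Cx (Y.presheaf.stalk (f z) : Type u), DRing.TermwiseFiniteFree F ∧
      (∀ l, IsZero (DCoh.HD ((lP f).obj G) l) ↔ FibreExact F l) ∧
      (∀ l, f z ∉ CohB1.support (DCoh.HD G l) ↔ Subsingleton (F.homology l)) ∧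
      ∀ l, Nonempty (F.homology l ≅ (stF (f z)).obj (DCoh.HD G l)) := by
  haveI : DCoh.HasLpull f := KFlat.Sch.hasLpull f
  obtain ⟨n⟩ := nonempty_lpull_natIso_lP f
  obtain ⟨K, hK, ⟨eK⟩⟩ := exists_adapted_rep G
  have hK' : DCoh.IsPerfect (DCoh.toD Y K) := DGen9.isPerfect_of_iso eK.symm hG
  have hpc : ∀ m : ℤ, DCoh.IsPseudoCoherentD m (DCoh.toD Y K) := fun m => DGen9.isPseudoCoherentD_of_isPerfect hK' m
  obtain ⟨F, B, hB, hF, ⟨eF⟩⟩ := exists_free_stalk K hpc (f z)
  haveI := hB
  have hflat : ∀ l, Module.Flat (Y.presheaf.stalk (f z) : Type u) (F.X l) := fun l =>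
    have := (hF l).2
    inferInstance
  haveI : (stF (f z)).PreservesHomology := ((stF (f z)).exact_tfae.out 0 2).1 fun S hS => DPerf.shortExact_stF hS (f z)
  have hH : ∀ l, Nonempty (F.homology l ≅ (stF (f z)).obj (DCoh.HD G l)) := fun l =>
    ⟨((DerivedCategory.homologyFunctorFactors _ l).app F).symm ≪≫ (DMod.HH l).mapIso eF ≪≫
      (DerivedCategory.homologyFunctorFactors _ l).app (stC (f z) K) ≪≫ (K.sc l).mapHomologyIso (stF (f z)) ≪≫
        (stF (f z)).mapIso (((DerivedCategory.homologyFunctorFactors _ l).app K).symm ≪≫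
          (DerivedCategory.homologyFunctor _ l).mapIso eK)⟩
  refine ⟨F, hF, fun l => ?_, fun l => ?_, hH⟩
  · let L := ((Scheme.Modules.pullback f).mapHomologicalComplex (ComplexShape.up ℤ)).obj K
    let eL : DCoh.toD Z L ≅ (lP f).obj G :=
      (lpullObjIso f K hK).symm ≪≫ (DCoh.Lpull f).mapIso eK ≪≫ n.app G
    haveI : (stF z).PreservesHomology := ((stF z).exact_tfae.out 0 2).1 fun S hS => DPerf.shortExact_stF hS z
    let e₁ : (stC z L).homology l ≅ (stF z).obj (DCoh.HD ((lP f).obj G) l) :=
      (L.sc l).mapHomologyIso (stF z) ≪≫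
        (stF z).mapIso (((DerivedCategory.homologyFunctorFactors _ l).app L).symm ≪≫
          (DerivedCategory.homologyFunctor _ l).mapIso eL)
    have h1 : IsZero (DCoh.HD ((lP f).obj G) l) ↔ Subsingleton ((stC z L).homology l) :=
      ⟨fun h => ModuleCat.subsingleton_of_isZero (((stF z).map_isZero h).of_iso e₁),
        fun h => DPerf.isZero_of_stalks fun w => by rw [hZ w]; exact e₁.toLinearEquiv.toEquiv.subsingleton_congr.1 h⟩
    let ψ := (f.stalkMap z).hom
    let Kx := stC (f z) K
    haveI hKflat : ∀ i, Module.Flat (Y.presheaf.stalk (f z) : Type u) (Kx.X i) := fun i =>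
      (KFlat.Sch.isFlat_iff _).1 (hK.2.2 i) (f z)
    have hKad : Adapted Kx := ⟨isKFlat_stF hK.1 (f z),
      KFlat.DT.isKFlat_flip ((KFlat.Module.isKFlat_iff _).1 (isKFlat_stF hK.1 (f z))),
      fun i => (KFlat.Module.isFlat_iff _).2 (hKflat i)⟩
    haveI := DQC.hasLBaseChange ψ
    let e : DRing.toD ((extCx ψ).obj F) ≅ DRing.toD (stC z L) :=
      (valueIso ψ F (adapted_of_flat F B hflat)).symm ≪≫ (DRing.LBaseChange ψ).mapIso eF ≪≫
        valueIso ψ Kx hKad ≪≫ DerivedCategory.Q.mapIso (Exact8.stKIso f z K).symm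
    have h2 : Subsingleton ((stC z L).homology l) ↔ Subsingleton (((extCx ψ).obj F).homology l) := by
      rw [← DMod.subsingleton_HD_toD_iff, ← DMod.subsingleton_HD_toD_iff]
      exact ((DMod.HH l).mapIso e).toLinearEquiv.toEquiv.subsingleton_congr.symm
    rw [h1, h2]
    haveI : IsLocalHom ψ := inferInstanceAs (IsLocalHom (f.stalkMap z).hom)
    let κ := ResidueField.map ψ
    have hκ : κ.comp (residue (Y.presheaf.stalk (f z) : Type u)) = (residue (Z.presheaf.stalk z : Type u)).comp ψ :=
      ResidueField.map_comp_residue ψ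
    have hres : Function.Bijective (residue (Z.presheaf.stalk z : Type u)) := by
      refine ⟨(injective_iff_map_eq_zero _).2 fun w hw => ?_, residue_surjective⟩
      rwa [residue_eq_zero_iff, isField_iff_maximalIdeal_eq.1 hfield, Ideal.mem_bot] at hw
    constructor
    · intro h
      refine fibreExact_of_ext F l ?_
      have h1 := extCx_comp_homology ψ (residue _) (RingHom.Flat.of_bijective hres) F l h
      rw [← hκ] at h1
      exact subsingleton_of_ext_field κ _ l (((HomologicalComplex.homologyFunctor _ _ l).mapIso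
        (extCompIso (residue (Y.presheaf.stalk (f z) : Type u)) κ F)).toLinearEquiv.toEquiv.subsingleton_congr.1 h1)
    · intro h
      let er := RingEquiv.ofBijective (residue (Z.presheaf.stalk z : Type u)) hres
      have hκf : κ.Flat := by
        letI := κ.toAlgebra
        exact @Module.Flat.of_free _ _ _ _ κ.toAlgebra.toModule (@Module.Free.of_divisionRing _ _ _ _ κ.toAlgebra.toModule)
      have h3 := extCx_comp_homology (residue _) (er.symm.toRingHom.comp κ)
        (hκf.comp (RingHom.Flat.of_bijective er.symm.bijective)) F l (subsingleton_ext_of_fibreExact F l h)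
      rwa [RingHom.comp_assoc, hκ, ← RingHom.comp_assoc,
        show er.symm.toRingHom.comp (residue _) = RingHom.id _ from RingHom.ext er.symm_apply_apply,
        RingHom.id_comp] at h3
  · exact (not_not (a := Subsingleton ((stF (f z)).obj (DCoh.HD G l)))).trans
      (hH l).some.toLinearEquiv.toEquiv.subsingleton_congr.symm

end Groth.Agent.FMHyp13

end
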