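import Groth.Agent.Lib.FMHyp13.GVDepth
import Groth.Agent.Lib.FMHyp13.PointDual

/-!
# The dual of a perfect object with cohomology in an interval
-/

set_option autoImplicit false
set_option linter.style.haveILetI false
set_option linter.unusedSectionVars false
set_option backward.isDefEq.respectTransparency false
set_option backward.isDefEq.respectTransparency.types false
set_option maxHeartbeats 1600000

universe u

open CategoryTheory CategoryTheory.Limits MonoidalCategory AlgebraicGeometry IsLocalRing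

attribute [local instance] HasDerivedCategory.standard

noncomputable section

namespace Groth.Agent.FMHyp13

open DMon9 DBaseChange DPerf.LocalFibre

/-- The dual of an object with cohomology in `[lo, hi]` lives in degrees `≥ -hi` and satisfies a codimension condition. -/
theorem gv_of_dual {Y : Scheme.{u}} [IsLocallyNoetherian Y]
    (hCM : ∀ y : Y, LocCoh.IsCohenMacaulayLocalRing (Y.presheaf.stalk y))
    (G DG : DM Y) [ExactPairing G DG] (hG : DCoh.IsPerfect (G : DCoh.D Y)) (hD : DCoh.IsPerfect (DG : DCoh.D Y))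
    (lo hi : ℤ) (hW : ∀ l, l < lo ∨ hi < l → IsZero (DCoh.HD (G : DCoh.D Y) l))
    (j : ℤ) (y : Y) (hy : y ∈ CohB1.support (DCoh.HD (DG : DCoh.D Y) j)) :
    -hi ≤ j ∧ ∀ c : ℕ, (c : ℤ) ≤ j + lo → ((c : ℕ∞) : WithBot ℕ∞) ≤ ringKrullDim (Y.presheaf.stalk y) := by
  obtain ⟨f, z, hfz⟩ : ∃ (f : Spec (Y.residueField y) ⟶ Y) (z : Spec (Y.residueField y)), f z = y :=
    ⟨Y.fromSpecResidueField y, closedPoint (Y.residueField y), Scheme.fromSpecResidueField_apply _ _⟩
  rw [← hfz] at hy ⊢
  let R := Y.residueField y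
  haveI : Subsingleton (Spec R) := inferInstanceAs (Subsingleton (PrimeSpectrum R))
  have hZ : ∀ z' : Spec R, z' = z := fun z' => Subsingleton.elim _ _
  have hfield : IsField ((Spec R).presheaf.stalk z) :=
    Residual14.isField_stalk_of_etale_field (𝟙 (Spec (CommRingCat.of (Y.residueField y)))) z
  obtain ⟨F, hF, hFf, hFh, -⟩ := exists_fibre_model f z hZ hfield hD
  have hj : ¬ IsZero (DCoh.HD ((lP f).obj (DG : DCoh.D Y)) j) := fun h0 => by
    refine (hFh j).2 ?_ hy
    rw [DMod.subsingleton_homology_iff F (i := j - 1) (k := j + 1) (by simp) (by simp)]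
    exact (split_of_fibreExact F hF j ((hFf j).1 h0)).1
  letI : ExactPairing ((dPull f).obj G) ((dPull f).obj DG) := Dual8.mapPairing (dPull f) G DG
  have hgj : ¬ IsZero (DCoh.HD ((lP f).obj (G : DCoh.D Y)) (-j)) := fun h0 => hj
    (PointDual.isZero_dual (Field.toIsField (Y.residueField y)) ((dPull f).obj G) ((dPull f).obj DG)
      (isQCohD_lP f (DGen9.isQCohD_of_isPerfect hG)) (isQCohD_lP f (DGen9.isQCohD_of_isPerfect hD)) j h0)
  have hout : ∀ l, l < lo ∨ hi < l → f z ∉ CohB1.support (DCoh.HD (G : DCoh.D Y) l) := fun l hl hm =>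
    hm (AddCommGrpCat.subsingleton_of_isZero ((M1.stalkAb _).map_isZero (hW l hl)))
  refine ⟨?_, fun c hc => ?_⟩
  · obtain ⟨l, hl, hl'⟩ := exists_support_of_not_isZero f hG z hZ (-j) hgj
    by_contra hlt
    exact hout l (Or.inr (by omega)) hl'
  obtain ⟨Fg, hFg, hgf, hgh, -⟩ := exists_fibre_model f z hZ hfield hG
  haveI := hCM (f z)
  obtain ⟨t, ht⟩ := DepthLib.exists_depth_eq_natCast (R := Y.presheaf.stalk (f z)) (M := Y.presheaf.stalk (f z))
  have hdim : ringKrullDim (Y.presheaf.stalk (f z)) = ((t : ℕ∞) : WithBot ℕ∞) := by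
    rw [← Module.supportDim_self_eq_ringKrullDim, LocCoh.IsCohenMacaulayLocalRing.supportDim_eq_depth, ht]
  rw [hdim]
  haveI : DCoh.HasLpull f := KFlat.Sch.hasLpull f
  obtain ⟨n⟩ := nonempty_lpull_natIso_lP f
  obtain ⟨a₀, ha₀⟩ := DPerf.exists_isGE_of_perfect
    (DGen9.isPerfect_of_iso (n.app (G : DCoh.D Y)) (KFlat.Sch.isPerfect_lpull f hG))
  haveI := ha₀
  have hbound : ¬ (-j + t < lo) := fun hlt => hgj ((hgf (-j)).2 (fibreExact_of_depth Fg hFg a₀ lo
    (fun l hl => (hgf l).1 (DerivedCategory.isZero_of_isGE ((lP f).obj (G : DCoh.D Y)) a₀ l hl))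
    (fun l hl => (hgh l).1 (hout l (Or.inl hl))) t ht (-j) hlt))
  exact_mod_cast (show c ≤ t by omega)

end Groth.Agent.FMHyp13

end
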