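import Groth.Agent.Lib.FMHyp13.GVAlg
import Groth.Agent.Lib.FMHyp13.Fibres
import Groth.Agent.Lib.Exact8.PerfFibres
import Groth.Agent.Lib.Residual14.OnePoint

/-!
# Derived fibres of a perfect object with cohomology sheaves in high codimension
-/

set_option autoImplicit false
set_option linter.style.haveILetI false
set_option linter.unusedSectionVars false
set_option backward.isDefEq.respectTransparency false
set_option backward.isDefEq.respectTransparency.types false
set_option maxHeartbeats 1600000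

universe u

open CategoryTheory CategoryTheory.Limits AlgebraicGeometry IsLocalRing
open scoped TensorProduct

attribute [local instance] HasDerivedCategory.standard

noncomputable section

namespace Groth.Agent.FMHyp13

open DBaseChange DPerf.LocalFibre KFlat KFlat.Sch DMon9 Exact8.PerfFibres Exact8.StalkSpread GVAlg

theorem subsingleton_ext_of_fibreExact {A : Type u} [CommRing A] [IsLocalRing A] (F : DRing.Cx A) (l : ℤ)
    (h : FibreExact F l) : Subsingleton (((extCx (residue A)).obj F).homology l) :=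
  (DMod.subsingleton_homology_iff ((extCx (residue A)).obj F) (i := l - 1) (k := l + 1) (by simp) (by simp)).2
    fun z hz => (h z).1 hz

/-- Killed elements stay killed after extension of scalars. -/
theorem killedAt_ext {R S : Type u} [CommRing R] [CommRing S] (φ : R →+* S) (hφ : φ.Flat) (F : DRing.Cx R) (m : ℤ)
    (q : Ideal S) [q.IsPrime] (h : KilledAt (F.homology m) (q.comap φ)) :
    KilledAt (((extCx φ).obj F).homology m) q := by
  let e := (homologyExtIso φ hφ F m).toLinearEquiv
  letI := φ.toAlgebra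
  suffices H : ∀ w : S ⊗[R] (F.homology m : Type u), ∃ s, s ∉ q ∧ s • w = 0 by
    intro x
    obtain ⟨s, hs, hsw⟩ := H (e x)
    refine ⟨s, hs, e.injective ?_⟩
    rw [map_smul, map_zero]
    exact hsw
  intro w
  induction w using TensorProduct.induction_on with
  | zero => exact ⟨1, (Ideal.IsPrime.one_notMem ‹_›), smul_zero _⟩
  | tmul a x =>
    obtain ⟨r, hr, hrx⟩ := h x
    refine ⟨φ r, hr, ?_⟩
    rw [show φ r = algebraMap R S r from rfl, algebraMap_smul, ← TensorProduct.tmul_smul, hrx, TensorProduct.tmul_zero]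
  | add x y hx hy =>
    obtain ⟨s, hs, hsx⟩ := hx
    obtain ⟨t, ht, hty⟩ := hy
    refine ⟨s * t, fun hm => (Ideal.IsPrime.mem_or_mem ‹_› hm).elim hs ht, ?_⟩
    rw [smul_add, mul_smul, mul_smul, hty, smul_zero, add_zero, smul_comm, hsx, smul_zero]

/-- The dimension of a stalk of an affine chart is the height of the prime. -/
theorem ringKrullDim_stalk_chart {R : CommRingCat.{u}} {Y : Scheme.{u}} (j : Spec R ⟶ Y) [IsOpenImmersion j] (p : Spec R) :
    ringKrullDim (Y.presheaf.stalk (j p)) = (p.asIdeal.height : WithBot ℕ∞) := by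
  rw [ringKrullDim_eq_of_ringEquiv (asIso (j.stalkMap p)).commRingCatIsoToRingEquiv]
  let S := ((Spec R).presheaf.stalk p : Type u)
  let σ : (R : Type u) →+* S := (StructureSheaf.toStalk R p).hom
  letI := σ.toAlgebra
  haveI : IsLocalization p.asIdeal.primeCompl S := isLocalization_toStalk p
  haveI : IsLocalization.AtPrime S p.asIdeal := ‹_›
  exact IsLocalization.AtPrime.ringKrullDim_eq_height p.asIdeal S

/-- The map to a stalk of a chart is flat. -/
theorem flat_toStalk {R : CommRingCat.{u}} (p : Spec R) : (StructureSheaf.toStalk R p).hom.Flat := by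
  let S := ((Spec R).presheaf.stalk p : Type u)
  let σ : (R : Type u) →+* S := (StructureSheaf.toStalk R p).hom
  letI := σ.toAlgebra
  haveI : IsLocalization p.asIdeal.primeCompl S := isLocalization_toStalk p
  exact (IsLocalization.flat _ p.asIdeal.primeCompl : Module.Flat R S)

/-- Pulling a prime back along a chart keeps its height. -/
theorem height_comap_chart {R : CommRingCat.{u}} {Y : Scheme.{u}} (j : Spec R ⟶ Y) [IsOpenImmersion j] (p : Spec R)
    (q : Ideal (Y.presheaf.stalk (j p))) :
    (q.comap ((inv (j.stalkMap p)).hom.comp (StructureSheaf.toStalk R p).hom)).height = q.height := by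
  let S := ((Spec R).presheaf.stalk p : Type u)
  let σ : (R : Type u) →+* S := (StructureSheaf.toStalk R p).hom
  let e : S ≃+* (Y.presheaf.stalk (j p) : Type u) := (asIso (inv (j.stalkMap p))).commRingCatIsoToRingEquiv
  letI := σ.toAlgebra
  haveI : IsLocalization p.asIdeal.primeCompl S := isLocalization_toStalk p
  rw [← RingEquiv.height_comap e q, ← IsLocalization.height_under p.asIdeal.primeCompl (q.comap e)]
  rfl

/-- Outside the support of a tilde, elements are killed. -/
theorem killedAt_of_notMem_support {R : CommRingCat.{u}} (N : ModuleCat.{u} R) (p : Spec R)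
    (h : p ∉ CohB1.support ((tilde.functor R).obj N)) : KilledAt (N : Type u) p.asIdeal := by
  let S := ((Spec R).presheaf.stalk p : Type u)
  let σ : (R : Type u) →+* S := (StructureSheaf.toStalk R p).hom
  letI := σ.toAlgebra
  haveI : IsLocalization p.asIdeal.primeCompl S := isLocalization_toStalk p
  haveI h0 : Subsingleton ((tilde.functor R ⋙ stF p).obj N) := (not_not.1 h :)
  haveI : Subsingleton (S ⊗[R] (N : Type u)) := subsingleton_tensor_of_ext (S := S) N
    (((tildeStalkNatIso R p).app N).toLinearEquiv.toEquiv.subsingleton_congr.1 h0)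
  haveI : IsLocalizedModule p.asIdeal.primeCompl (TensorProduct.mk R S (N : Type u) 1) :=
    (isLocalizedModule_iff_isBaseChange p.asIdeal.primeCompl S _).2 (TensorProduct.isBaseChange R (N : Type u) S)
  intro x
  obtain ⟨s, hs⟩ := (IsLocalizedModule.eq_zero_iff p.asIdeal.primeCompl (TensorProduct.mk R S (N : Type u) 1)).1
    (Subsingleton.elim (TensorProduct.mk R S (N : Type u) 1 x) 0)
  exact ⟨s, s.2, hs⟩

variable {Y : Scheme.{u}} [IsLocallyNoetherian Y] {Z : Scheme.{u}} (f : Z ⟶ Y) (z : Z)

/-- If the cohomology sheaves above a degree sit in high codimension, a vanishing derived fibre propagates up. -/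
theorem isZero_HD_lP_succ (hZ : ∀ z' : Z, z' = z) (hfield : IsField (Z.presheaf.stalk z))
    [LocCoh.IsCohenMacaulayLocalRing (Y.presheaf.stalk (f z))] {G : DCoh.D Y} (hG : DCoh.IsPerfect G) (i : ℤ)
    (hcd : ∀ (m : ℤ) (y : Y), i < m → y ∈ CohB1.support (DCoh.HD G m) →
      ∃ c : ℕ, m ≤ i + c ∧ ((c : ℕ∞) : WithBot ℕ∞) ≤ ringKrullDim (Y.presheaf.stalk y))
    (h : IsZero (DCoh.HD ((lP f).obj G) i)) : IsZero (DCoh.HD ((lP f).obj G) (i + 1)) := by
  haveI : DCoh.HasLpull f := KFlat.Sch.hasLpull f
  obtain ⟨n⟩ := nonempty_lpull_natIso_lP f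
  obtain ⟨K, hK, ⟨eK⟩⟩ := exists_adapted_rep G
  have hK' : DCoh.IsPerfect (DCoh.toD Y K) := DGen9.isPerfect_of_iso eK.symm hG
  have hpc : ∀ m : ℤ, DCoh.IsPseudoCoherentD m (DCoh.toD Y K) := fun m => DGen9.isPseudoCoherentD_of_isPerfect hK' m
  let x := f z
  -- a free model near the point
  obtain ⟨U₀, hU₀, hxU₀, -⟩ := exists_isAffineOpen_mem_and_subset (x := x) (U := ⊤) trivial
  let R := Γ(Y, U₀)
  let j : Spec R ⟶ Y := hU₀.fromSpec
  obtain ⟨p, hp⟩ : ∃ p : Spec R, j p = x := ⟨hU₀.primeIdealOf ⟨x, hxU₀⟩, hU₀.fromSpec_primeIdealOf _⟩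
  obtain ⟨M, ⟨eM⟩⟩ := DQC.exists_iso_of_isQCohD ((DPerf.resD j).obj (DCoh.toD Y K))
    (DQC.isQCohD_resD j (RelT.isQCohD_of_pc hpc))
  obtain ⟨F₀, B, hB, hF₀, ⟨eF₀⟩⟩ := (DMod.pc'_iff M).2 fun m => (DPerf.pc_tilde_iff m M).1
    (DPerf.isPseudoCoherentD_of_approx
      ((RelPCS8.approx_res (DPerf.approx_of_isPseudoCoherentD (hpc m)) j).of_iso eM.symm))
  haveI := (DMod.vanishesAbove_iff F₀ B).1 hB
  let σ := (StructureSheaf.toStalk R p).hom
  let τ := (inv (j.stalkMap p)).hom
  let φ := τ.comp σ
  obtain ⟨t⟩ := nonempty_stalk_back j p (H := (DPerf.tildeX R).obj F₀) (G := K)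
    (((tilde.functor R).mapDerivedCategoryFactors.app F₀).symm ≪≫ (DPerf.tildeDD R).mapIso eF₀ ≪≫ eM ≪≫
      (DPerf.resFac j).app K)
  let A := (Y.presheaf.stalk (j p) : Type u)
  haveI : LocCoh.IsCohenMacaulayLocalRing A := by
    show LocCoh.IsCohenMacaulayLocalRing (Y.presheaf.stalk (j p))
    rw [hp]
    infer_instance
  let F : DRing.Cx A := (extCx φ).obj F₀
  let eF : DRing.toD F ≅ DRing.toD (stC (j p) K) :=
    DerivedCategory.Q.mapIso ((extCompIso σ τ F₀) ≪≫ (extCx τ).mapIso
      ((NatIso.mapHomologicalComplex (tildeStalkNatIso R p) (ComplexShape.up ℤ)).app F₀).symm) ≪≫ t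
  have hσ : σ.Flat := flat_toStalk p
  have hφ : φ.Flat := hσ.comp (flat_of_isIso (inv (j.stalkMap p)))
  have hF : DRing.TermwiseFiniteFree F := termwiseFiniteFree_ext φ hF₀
  haveI : F.IsStrictlyLE B := (CochainComplex.isStrictlyLE_iff _ _).2 fun l hl =>
    Functor.map_isZero (ModuleCat.extendScalars.{u, u, u} φ) (F₀.isZero_of_isStrictlyLE B l hl)
  have hflat : ∀ l, Module.Flat A (F.X l) := fun l =>
    have := (hF l).2
    inferInstance
  -- homology in high codimension
  have hcd' : ∀ (m : ℤ) (q : Ideal A), q.IsPrime → i < m →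
      KilledAt (F.homology m) q ∨ ∃ c : ℕ, m ≤ i + c ∧ (c : ℕ∞) ≤ q.height := by
    intro m q hq hm
    let p' : Spec R := ⟨q.comap φ, Ideal.IsPrime.comap φ⟩
    by_cases hmem : j p' ∈ CohB1.support (DCoh.HD G m)
    · obtain ⟨c, hc, hcd⟩ := hcd m _ hm hmem
      refine Or.inr ⟨c, hc, ?_⟩
      have h1 := ringKrullDim_stalk_chart j p'
      have h2 : p'.asIdeal.height = q.height := height_comap_chart j p q
      rw [h1, h2] at hcd
      exact WithBot.coe_le_coe.1 hcd
    · refine Or.inl (killedAt_ext φ hφ F₀ m q ?_)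
      let N : ModuleCat.{u} R := (DerivedCategory.homologyFunctor _ m).obj (DRing.toD F₀)
      let eT : DCoh.HD ((DPerf.resD j).obj G) m ≅ (tilde.functor R).obj N :=
        (DerivedCategory.homologyFunctor _ m).mapIso ((DPerf.resD j).mapIso eK.symm ≪≫ eM.symm ≪≫
          (DPerf.tildeDD R).mapIso eF₀.symm) ≪≫ DPerf.hdTildeIso _ m
      let eR : DCoh.HD ((DPerf.resD j).obj G) m ≅ (Scheme.Modules.pullback j).obj (DCoh.HD G m) :=
        DPerf.hdResIso j G m ≪≫ (Scheme.Modules.restrictFunctorIsoPullback j).app _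
      have hc : Coh.IsCoh (DCoh.HD G m) := DPerf.isCoh_HD_of_pseudoCoherent
        (DGen9.isPseudoCoherentD_of_isPerfect hG m) (DGen9.isQCohD_of_isPerfect hG m) le_rfl
      have hnot : p' ∉ CohB1.support ((tilde.functor R).obj N) := by
        rw [← support_iso eT, support_iso eR, M2.support_pullback j hc.1 hc.2]
        exact hmem
      intro x
      let eH := ((DerivedCategory.homologyFunctorFactors (ModuleCat.{u} R) m).app F₀).toLinearEquiv
      obtain ⟨s, hs, hs0⟩ := killedAt_of_notMem_support N p' hnot (eH.symm x)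
      exact ⟨s, hs, eH.symm.injective (by rw [map_smul, map_zero]; exact hs0)⟩
  -- the fibre
  revert h
  change IsZero _ → IsZero _
  let L := ((Scheme.Modules.pullback f).mapHomologicalComplex (ComplexShape.up ℤ)).obj K
  let eL : DCoh.toD Z L ≅ (lP f).obj G :=
    (lpullObjIso f K hK).symm ≪≫ (DCoh.Lpull f).mapIso eK ≪≫ n.app G
  have hiff : ∀ l, IsZero (DCoh.HD ((lP f).obj G) l) ↔ Subsingleton ((stC z L).homology l) := fun l => by
    haveI : (stF z).PreservesHomology := ((stF z).exact_tfae.out 0 2).1 fun S hS => DPerf.shortExact_stF hS z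
    let e : (stC z L).homology l ≅ (stF z).obj (DCoh.HD ((lP f).obj G) l) :=
      (L.sc l).mapHomologyIso (stF z) ≪≫
        (stF z).mapIso (((DerivedCategory.homologyFunctorFactors _ l).app L).symm ≪≫
          (DerivedCategory.homologyFunctor _ l).mapIso eL)
    refine ⟨fun h => ModuleCat.subsingleton_of_isZero (((stF z).map_isZero h).of_iso e),
      fun h => DPerf.isZero_of_stalks fun w => ?_⟩
    rw [hZ w]
    exact e.toLinearEquiv.toEquiv.subsingleton_congr.1 h
  let ψ₀ := (f.stalkMap z).hom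
  have hpz : j p = f z := hp
  obtain ⟨ψ, hψloc, eψ⟩ : ∃ (ψ : A →+* (Z.presheaf.stalk z : Type u)), IsLocalHom ψ ∧
      ∀ l, Subsingleton ((stC z L).homology l) ↔ Subsingleton (((extCx ψ).obj F).homology l) := by
    have aux : ∀ (y : Y), y = f z → ∀ (Fy : DRing.Cx (Y.presheaf.stalk y : Type u)), Fy.IsStrictlyLE B →
        (∀ l, Module.Flat (Y.presheaf.stalk y : Type u) (Fy.X l)) → (DRing.toD Fy ≅ DRing.toD (stC y K)) →
        ∃ (ψ : (Y.presheaf.stalk y : Type u) →+* (Z.presheaf.stalk z : Type u)), IsLocalHom ψ ∧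
          ∀ l, Subsingleton ((stC z L).homology l) ↔ Subsingleton (((extCx ψ).obj Fy).homology l) := by
      rintro y rfl Fy hFy hFf eFy
      haveI := hFy
      let Kx := stC (f z) K
      haveI hKflat : ∀ l, Module.Flat (Y.presheaf.stalk (f z) : Type u) (Kx.X l) := fun l =>
        (KFlat.Sch.isFlat_iff _).1 (hK.2.2 l) (f z)
      have hKad : Adapted Kx := ⟨isKFlat_stF hK.1 (f z),
        KFlat.DT.isKFlat_flip ((KFlat.Module.isKFlat_iff _).1 (isKFlat_stF hK.1 (f z))),
        fun l => (KFlat.Module.isFlat_iff _).2 (hKflat l)⟩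
      haveI := DQC.hasLBaseChange ψ₀
      have e : DRing.toD ((extCx ψ₀).obj Fy) ≅ DRing.toD (stC z L) :=
        (valueIso ψ₀ Fy (adapted_of_flat Fy B hFf)).symm ≪≫ (DRing.LBaseChange ψ₀).mapIso eFy ≪≫
          valueIso ψ₀ Kx hKad ≪≫ DerivedCategory.Q.mapIso (Exact8.stKIso f z K).symm
      refine ⟨ψ₀, inferInstanceAs (IsLocalHom (f.stalkMap z).hom), fun l => ?_⟩
      rw [← DMod.subsingleton_HD_toD_iff, ← DMod.subsingleton_HD_toD_iff]
      exact ((DMod.HH l).mapIso e).toLinearEquiv.toEquiv.subsingleton_congr.symm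
    exact aux _ hpz F inferInstance hflat eF
  intro h
  haveI := hψloc
  let κ := ResidueField.map ψ
  have hκ : κ.comp (residue A) = (residue (Z.presheaf.stalk z : Type u)).comp ψ := ResidueField.map_comp_residue ψ
  have hres : Function.Bijective (residue (Z.presheaf.stalk z : Type u)) := by
    refine ⟨(injective_iff_map_eq_zero _).2 fun w hw => ?_, residue_surjective⟩
    rwa [residue_eq_zero_iff, isField_iff_maximalIdeal_eq.1 hfield, Ideal.mem_bot] at hw
  have h' : Subsingleton (((extCx (residue A)).obj F).homology i) := by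
    have h1 := extCx_comp_homology ψ (residue _) (RingHom.Flat.of_bijective hres) F i ((eψ i).1 ((hiff i).1 h))
    rw [← hκ] at h1
    exact subsingleton_of_ext_field κ _ i (((HomologicalComplex.homologyFunctor _ _ i).mapIso
      (extCompIso (residue A) κ F)).toLinearEquiv.toEquiv.subsingleton_congr.1 h1)
  have hCM : LocCoh.IsCohenMacaulayModule A A := LocCoh.IsCohenMacaulayLocalRing.supportDim_eq_depth
  have h2 := fibreExact_succ F hF i hCM B (fibreExact_of_ext F i h') hcd'
  let e := RingEquiv.ofBijective (residue (Z.presheaf.stalk z : Type u)) hres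
  have hκf : κ.Flat := by
    letI := κ.toAlgebra
    exact @Module.Flat.of_free _ _ _ _ _ (Module.Free.of_divisionRing _ _)
  have h3 := extCx_comp_homology (residue A) (e.symm.toRingHom.comp κ)
    (hκf.comp (RingHom.Flat.of_bijective e.symm.bijective)) F (i + 1) (subsingleton_ext_of_fibreExact F (i + 1) h2)
  rw [RingHom.comp_assoc, hκ, ← RingHom.comp_assoc,
    show e.symm.toRingHom.comp (residue _) = RingHom.id _ from RingHom.ext e.symm_apply_apply, RingHom.id_comp] at h3
  exact (hiff (i + 1)).2 ((eψ (i + 1)).2 h3)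

end Groth.Agent.FMHyp13

end
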