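import Groth.Agent.Lib.FMHyp13.GVLimit

/-!
# Generic vanishing at the left end of an interval of twisted vanishing
-/

set_option autoImplicit false
set_option linter.style.haveILetI false
set_option linter.unusedSectionVars false
set_option backward.isDefEq.respectTransparency false
set_option backward.isDefEq.respectTransparency.types false
set_option maxHeartbeats 1600000

universe u

open CategoryTheory CategoryTheory.Limits MonoidalCategory CartesianMonoidalCategory AlgebraicGeometry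
open scoped MonObj GrpObj

noncomputable section

namespace Groth.Agent.FMHyp13

open DMon9 DBC9 TwistBC9 FMBase13 Groth.Agent Groth.Agent.RosTrace22

noncomputable local instance instLawGVRight (Y : Scheme.{u}) : PicGrp.Law Y := M2.law Y

variable {k : Type u} [Field k] [IsAlgClosed k] {A At : Over (Spec (CommRingCat.of k))} [GrpObj A] [GrpObj At]
  [IsProper A.hom] [Smooth A.hom] [GeometricallyConnected A.hom]
  [IsProper At.hom] [Smooth At.hom] [GeometricallyConnected At.hom]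
  {φ : AgPol.DualMap A At} (hφ : AbDual.IsDualAV Scheme.fppfPrecoverage A At φ)
  {P : (PicF.XT A.hom At).Modules} (hP : PicF.IsInvertible P) (hξ : AbDual.IsPoincareCl A At φ (PicF.cl P))

include hφ hP hξ in
/-- Twisted vanishing just to the right of a rational number gives generic vanishing at it. -/
theorem gv_of_right_it0 {g : ℕ} (hg : topologicalKrullDim A.left = g) {L L' : A.left.Modules} (hL : CohB1.IsAmple L)
    (hLL' : Nonempty (CohB1.tensorMod L L' ≅ Coh.structureModule A.left)) {F : A.left.Modules} (hF : Coh.IsCoh F)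
    (a : ℤ) (b : ℕ) (hb : 0 < b)
    (hIT : ∃ ε : ℚ, 0 < ε ∧ ∀ (c : ℤ) (d : ℕ), 0 < d → (a : ℚ) / (b : ℚ) < (c : ℚ) / (d : ℚ) →
      (c : ℚ) / (d : ℚ) < (a : ℚ) / (b : ℚ) + ε →
      ∀ (i : ℕ) (α : 𝟙_ (Over (Spec (CommRingCat.of k))) ⟶ At), 1 ≤ i →
        W4c5cohrankabvar.hAt k P (W4c5cohrankabvar.twist A F L L' d (c * d)) α i = 0) :
    ∀ i : ℕ, 1 ≤ i → ∃ Z : Set ↥At.left, IsClosed Z ∧
      topologicalKrullDim ↥Z < ((g - i + 1 : ℕ) : WithBot ℕ∞) ∧
      ∀ α : 𝟙_ (Over (Spec (CommRingCat.of k))) ⟶ At,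
        0 < W4c5cohrankabvar.hAt k P (W4c5cohrankabvar.twist A F L L' b (a * b)) α i → Set.range α.left.base ⊆ Z := by
  haveI : GeometricallyIntegral A.hom := AbRigid.geometricallyIntegral_of_smooth A
  haveI := isCommMonObj_of_isProper_of_geometricallyIntegral A
  have hL' := isInvertible_of_ample_inverse hL.1 hLL'
  refine gv_of_small_twists hφ hP hξ hL hLL' hg (isCoh_twist hF hL.1 hL' b (a * b)) ?_
  obtain ⟨ε, hε, hIT⟩ := hIT
  obtain ⟨n₀, hn₀⟩ := exists_nat_gt (1 / ε)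
  refine ⟨n₀ + 1, fun n hn => ?_⟩
  have hn1 : 0 < n := by omega
  let T := W4c5cohrankabvar.twist A F L L' (b * n) (a * b * ((n * n : ℕ) : ℤ) + n)
  obtain ⟨N, hN, hInv, ⟨e⟩⟩ := exists_pull_pow_twist F hL.1 hL' hLL' b (a * b) n
  have hT : Coh.IsCoh T := isCoh_twist hF hL.1 hL' _ _
  have z₁ := isInvertible_zpow hL.1 hL' (a * b * ((n * n : ℕ) : ℤ))
  have z₂ := isInvertible_zpow hL.1 hL' (n : ℤ)
  obtain ⟨ez⟩ : Nonempty (CohB1.tensorMod (W4c5cohrankabvar.zpow L L' (a * b * ((n * n : ℕ) : ℤ)))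
      (W4c5cohrankabvar.zpow L L' (n : ℤ)) ≅ W4c5cohrankabvar.zpow L L' (a * b * ((n * n : ℕ) : ℤ) + n)) := by
    refine FMBase13.nonempty_iso_of_cls (hL := M2.isInvertible_tensor z₁ z₂) (hM := isInvertible_zpow hL.1 hL' _) ?_
    rw [← AlgEquiv22.cls_tensor z₁ z₂, cls_zpow hL.1 hL' hLL', cls_zpow hL.1 hL' hLL', cls_zpow hL.1 hL' hLL', ← zpow_add]
  let e' : W4c5cohrankabvar.twist A (W4c5cohrankabvar.twist A F L L' b (a * b)) L L' n (n : ℤ) ≅
      CohB1.tensorMod T N :=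
    M2.tensorIso e (Iso.refl _) ≪≫ M2.tensorAssoc _ _ _ ≪≫ M2.tensorIso (Iso.refl _) (M2.tensorComm _ _) ≪≫
      (M2.tensorAssoc _ _ _).symm ≪≫
      M2.tensorIso (M2.tensorAssoc _ _ _ ≪≫ M2.tensorIso (Iso.refl _) ez) (Iso.refl N)
  have hbn : 0 < b * n := Nat.mul_pos hb hn1
  have hIT' : ∀ (i : ℕ) (α : 𝟙_ (Over (Spec (CommRingCat.of k))) ⟶ At), 1 ≤ i →
      W4c5cohrankabvar.hAt k P T α i = 0 := by
    rw [it0_rescale hφ hP hξ hF hL hLL' _ _ b hb]
    have hc := hIT (a * b * n + 1) (b * n * b) (Nat.mul_pos hbn hb) ?_ ?_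
    · have hval : (a * (b : ℤ) * ((n * n : ℕ) : ℤ) + (n : ℤ)) * ((b * b : ℕ) : ℤ) =
          (a * (b : ℤ) * (n : ℤ) + 1) * ((b * n * b : ℕ) : ℤ) := by push_cast; ring
      rw [hval]; exact hc
    · rw [div_lt_div_iff₀ (by exact_mod_cast hb) (by exact_mod_cast Nat.mul_pos hbn hb)]
      have : (0 : ℚ) < b := by exact_mod_cast hb
      push_cast; nlinarith
    · have hbq : (1 : ℚ) ≤ b := by exact_mod_cast hb
      have hnq : 1 / ε < (n : ℚ) := hn₀.trans_le (by exact_mod_cast (show n₀ ≤ n by omega))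
      rw [div_lt_iff₀ hε] at hnq
      have hn1q : (0 : ℚ) < n := by exact_mod_cast hn1
      rw [show (((a * (b : ℤ) * (n : ℤ) + 1 : ℤ)) : ℚ) / ((b * n * b : ℕ) : ℚ) =
        (a : ℚ) / b + 1 / ((b : ℚ) * b * n) by push_cast; field_simp]
      rw [add_lt_add_iff_left, div_lt_iff₀ (by positivity)]
      nlinarith [mul_le_mul hbq hbq zero_le_one (by positivity : (0:ℚ) ≤ b), mul_pos hε hn1q]
  intro i α hi
  rw [hAt_eq_zero_congr hP e' (isCoh_twist (isCoh_twist hF hL.1 hL' _ _) hL.1 hL' _ _) α i]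
  exact (it0_shift hφ hP hξ hL hT hN hInv).2 hIT' i α hi

end Groth.Agent.FMHyp13

end
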