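import Groth.Agent.Lib.FMHyp13.GenericRank
import Groth.Agent.Lib.AVDegree22.MulRank
import Groth.Agent.Lib.AbDual22.Transpose

/-!
# The generic twisted cohomology of a pullback along multiplication
-/

set_option autoImplicit false
set_option linter.style.haveILetI false
set_option linter.unusedSectionVars false
set_option backward.isDefEq.respectTransparency false
set_option backward.isDefEq.respectTransparency.types false
set_option maxHeartbeats 1600000

universe u

open CategoryTheory CategoryTheory.Limits MonoidalCategory CartesianMonoidalCategory AlgebraicGeometry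
open TopologicalSpace
open scoped MonObj GrpObj

attribute [local instance] HasDerivedCategory.standard

noncomputable section

namespace Groth.Agent.FMHyp13

open DMon9 DBC9 TwistBC9 FMBase13 Groth.Agent Groth.Agent.AgPol22

noncomputable local instance instLawHgenMul (Y : Scheme.{u}) : PicGrp.Law Y := M2.law Y

variable {k : Type u} [Field k] [IsAlgClosed k] {A At : Over (Spec (CommRingCat.of k))} [GrpObj A] [GrpObj At]
  [IsProper A.hom] [Smooth A.hom] [GeometricallyConnected A.hom]
  [IsProper At.hom] [Smooth At.hom] [GeometricallyConnected At.hom]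
  {φ : AgPol.DualMap A At} (hφ : AbDual.IsDualAV Scheme.fppfPrecoverage A At φ)
  {P : (PicF.XT A.hom At).Modules} (hP : PicF.IsInvertible P) (hξ : AbDual.IsPoincareCl A At φ (PicF.cl P))

include hP hξ hφ in
/-- The twisted dimensions of the pullback along the inverse. -/
theorem hAt_inv_eq {G : A.left.Modules} (hG : Coh.IsCoh G) (α : 𝟙_ (Over (Spec (CommRingCat.of k))) ⟶ At) (i : ℕ) :
    W4c5cohrankabvar.hAt k P ((Scheme.Modules.pullback ((𝟙 A)⁻¹).left).obj G) α i =
      W4c5cohrankabvar.hAt k P G α⁻¹ i := by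
  letI : A.left.Over (Spec (CommRingCat.of k)) := ⟨A.hom⟩
  haveI : IsProper (A.left ↘ Spec (CommRingCat.of k)) := inferInstanceAs (IsProper A.hom)
  haveI : CompactSpace A.left := QuasiCompact.compactSpace_of_compactSpace A.hom
  haveI : QuasiSeparatedSpace A.left := AlgebraicGeometry.quasiSeparatedSpace_of_quasiSeparated A.hom
  let j := ((𝟙 A)⁻¹ : A ⟶ A)
  have hj : j.left ≫ j.left = 𝟙 A.left := by
    rw [← Over.comp_left, GrpObj.comp_inv, Category.comp_id, inv_inv, Over.id_left]
  haveI : IsIso j.left := ⟨j.left, hj, hj⟩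
  have hQ : Coh.IsQCoh (CohB1.tensorMod G (W4c5cohrankabvar.ptLB P α⁻¹)) :=
    (CohFound.isCoh_tensor hG (CubeField.isCoh_of_isInvertible (PicLoc.isInvertible_pullback _ hP))).1
  obtain ⟨e⟩ : Nonempty ((Scheme.Modules.pullback j.left).obj (W4c5cohrankabvar.ptLB P α⁻¹) ≅
      W4c5cohrankabvar.ptLB P α) := by
    refine FMBase13.nonempty_iso_of_cls
      (hL := PicLoc.isInvertible_pullback _ (PicLoc.isInvertible_pullback _ hP))
      (hM := PicLoc.isInvertible_pullback _ hP) ?_
    rw [← PicGrp.pullHom_cls j.left (M2.pullMul _) (W4c5cohrankabvar.ptLB P α⁻¹)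
        (PicLoc.isInvertible_pullback _ hP), ← FMBase13.ev_eq_cls hP hξ, ← FMBase13.ev_eq_cls hP hξ]
    show pb j (ev hξ (𝟙 A) (toUnit A ≫ α⁻¹)) = _
    have hl : ∀ (x : A ⟶ A) (y : A ⟶ At), ev hξ x⁻¹ y = (ev hξ x y)⁻¹ := fun x y => by
      refine eq_inv_of_mul_eq_one_left ?_
      rw [← FMBase13.ev_mul_left hξ hφ, inv_mul_cancel, ev_one_left]
    have hr : ∀ (x : A ⟶ A) (y : A ⟶ At), ev hξ x y⁻¹ = (ev hξ x y)⁻¹ := fun x y => by
      refine eq_inv_of_mul_eq_one_left ?_
      rw [← ev_mul_right hφ hξ, inv_mul_cancel, ev_one_right hφ hξ]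
    rw [pb_ev, Category.comp_id, ← Category.assoc, toUnit_unique (j ≫ toUnit A) (toUnit A), GrpObj.comp_inv,
      hl, hr, inv_inv]
  have hid : Spec.map (CommRingCat.ofHom (RingHom.id k)) = 𝟙 _ := Spec.map_id _
  haveI : IsIso (Spec.map (CommRingCat.ofHom (RingHom.id k))) := by rw [hid]; infer_instance
  have hpb : IsPullback j.left (A.left ↘ Spec (CommRingCat.of k)) (A.left ↘ Spec (CommRingCat.of k))
      (Spec.map (CommRingCat.ofHom (RingHom.id k))) := IsPullback.of_horiz_isIso ⟨by
    rw [hid, Category.comp_id]; exact Over.w j⟩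
  refine Eq.trans ?_ (PicTan20.finrank_HH_pullback_mod (RingHom.id k) hpb hQ i)
  exact (CBC10.hmapLinEquiv k (M2.tensorIso (Iso.refl _) e.symm ≪≫ (M2.pullTensorIso _ _ _).symm) i).finrank_eq

include hP hξ hφ in
/-- Generic twisted cohomology is multiplied by the degree of a multiplication. -/
theorem hgen_pullback_pow {g : ℕ} (hg : topologicalKrullDim A.left = g) {F : A.left.Modules} (hF : Coh.IsCoh F)
    (i m : ℕ) (hm : 0 < m) :
    W4c5cohrankabvar.hgen k P ((Scheme.Modules.pullback ((𝟙 A) ^ m).left).obj F) i =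
      m ^ (2 * g) * W4c5cohrankabvar.hgen k P F i := by
  haveI : GeometricallyIntegral A.hom := AbRigid.geometricallyIntegral_of_smooth A
  haveI : GeometricallyIntegral At.hom := AbRigid.geometricallyIntegral_of_smooth At
  haveI : AlgebraicGeometry.IsIntegral At.left := GeometricallyIntegral.isIntegral_of_subsingleton At.hom
  haveI := isCommMonObj_of_isProper_of_geometricallyIntegral A
  haveI := isCommMonObj_of_isProper_of_geometricallyIntegral At
  obtain ⟨hgt, -⟩ := isPLike_swP hφ hP hξ hg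
  obtain ⟨hf, hfl, hs⟩ := AVDegree22.isFinite_flat_surjective_pow A hm
  haveI := hfl
  haveI : IsMonHom ((𝟙 A) ^ m) := AVDegree22.isMonHom_pow_rel A m
  obtain ⟨htf, htl, hts⟩ := AVDegree22.isFinite_flat_surjective_pow At hm
  haveI := htf; haveI := htl; haveI := hts
  have hjB : ((𝟙 At)⁻¹).left ≫ ((𝟙 At)⁻¹).left = 𝟙 At.left := by
    rw [← Over.comp_left, GrpObj.comp_inv, Category.comp_id, inv_inv, Over.id_left]
  haveI : IsIso ((𝟙 At)⁻¹).left := ⟨_, hjB, hjB⟩
  have hdeg : ∀ (f : At.left ⟶ At.left) [IsFinite f] [Flat f] [Surjective f] (d : ℕ),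
      f.finrank (genericPoint At.left) = d → f.residueDegree (genericPoint At.left) = d := fun f _ _ _ d hd => by
    obtain ⟨h1, h2⟩ := eq_genericPoint_of_image f
    rw [← CurveCoh17.finrank_genericPoint_eq_residueDegree f h1 h2, hd]
  have hG' := M1.isCoh_pullback ((𝟙 A)⁻¹).left hF
  obtain ⟨e⟩ := nonempty_HD_transform_pullback hφ hP hξ hφ hP hξ hg hg ((𝟙 A) ^ m)
    (AbDual22.isTranspose_pow hφ m) hF (i : ℤ)
  have hinv : W4c5cohrankabvar.hgen k P ((Scheme.Modules.pullback ((𝟙 A)⁻¹).left).obj F) i =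
      W4c5cohrankabvar.hgen k P F i := by
    refine Eq.trans (iInf_congr fun α => hAt_inv_eq hφ hP hξ hF α i) ?_
    exact (Equiv.inv _).surjective.iInf_comp fun α => W4c5cohrankabvar.hAt k P F α i
  rw [hgen_eq_genRk hP (M1.isCoh_pullback _ hF), genRk_iso e, genRk_push, genRk_push,
    ← hgen_eq_genRk hP hG', hinv, hdeg _ _ (AVDegree22.finrank_pow At hgt hm _),
    hdeg ((𝟙 At)⁻¹).left 1 (by rw [Scheme.Hom.finrank_eq_one_of_isIso]; rfl), one_mul]

include hP hξ hφ in
/-- The Euler characteristic is that of the generic ranks of the transform. -/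
theorem euler_eq_finsum_genRk [IsIntegral At.left] {G : A.left.Modules} (hG : Coh.IsCoh G) :
    @Curv2.euler k _ A.left ⟨A.hom⟩ G = finsum fun p : ℕ => (-1 : ℤ) ^ p * (genRk (fmH P G p) : ℤ) := by
  letI : A.left.Over (Spec (CommRingCat.of k)) := ⟨A.hom⟩
  obtain ⟨e⟩ : Nonempty (W4c5cohrankabvar.ptLB P (1 : 𝟙_ (Over (Spec (CommRingCat.of k))) ⟶ At) ≅
      Coh.structureModule A.left) := by
    refine FMBase13.nonempty_iso_of_cls (hL := PicLoc.isInvertible_pullback _ hP)
      (hM := PicLoc.isInvertible_structureModule A.left) ?_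
    rw [← FMBase13.ev_eq_cls hP hξ, CubeField.cls_structureModule, MonObj.comp_one, ev_one_right hφ hξ]
  rw [← euler_twist_eq hP hG 1]
  exact (CurveCoh17.euler_iso (k := k) (M2.tensorIso (Iso.refl G) e ≪≫ M2.tensorRUnit G)).symm

end Groth.Agent.FMHyp13

end
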