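import Groth.Agent.Lib.FMHyp13.Vanish
import Groth.Agent.Lib.CohFound.HHBridge

/-!
# Vanishing of hypercohomology of a module is vanishing of its cohomology
-/

set_option autoImplicit false
set_option backward.isDefEq.respectTransparency false
set_option backward.isDefEq.respectTransparency.types false
set_option linter.style.haveILetI false

universe u

open CategoryTheory CategoryTheory.Limits AlgebraicGeometry TopologicalSpace Opposite

attribute [local instance] HasDerivedCategory.standard

namespace Groth.Agent.FMHyp13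

open CohFound Exact8.FMVanish

variable {X : Scheme.{u}}

/-- The cohomology of a module read on a resolution by acyclic modules. -/
theorem subsingleton_hc_of_gamma_homology (K : CochainComplex X.Modules ℤ) [K.IsStrictlyGE 0]
    (hX : ∀ n, Ac (K.X n)) (hex : ∀ n : ℤ, n ≠ 0 → IsZero (K.homology n)) (i : ℕ)
    (h : IsZero ((((DCoh.gammaAb X).mapHomologicalComplex (ComplexShape.up ℤ)).obj K).homology ((i : ℤ) + 1))) :
    Subsingleton (Hc ((abF X).obj (K.homology 0)) (i + 1) ⊤) := by
  let F := DCoh.gammaAb X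
  -- the boundaries are the cycles in positive degrees
  have hbd : ∀ n : ℤ, n ≠ 0 → IsIso (kernel.ι (K.homologyπ n)) := fun n hn => by
    have : K.homologyπ n = 0 := (hex n hn).eq_of_tgt _ _
    exact KernelFork.IsLimit.isIso_ι (KernelFork.ofι (kernel.ι (K.homologyπ n)) (kernel.condition _)) (kernelIsKernel _) this
  -- sections surject
  have hepi : Function.Surjective (F.map (K.toCycles (i : ℤ) ((i : ℤ) + 1))) := by
    intro z
    have hex' := ((((F.mapHomologicalComplex (ComplexShape.up ℤ)).obj K).exactAt_iff' (i : ℤ) ((i : ℤ) + 1)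
      ((i : ℤ) + 1 + 1) (by simp) (by simp)).1 ((HomologicalComplex.exactAt_iff_isZero_homology _ _).2 h))
    obtain ⟨x, hx⟩ := (ShortComplex.ab_exact_iff _).1 hex' (F.map (K.iCycles ((i : ℤ) + 1)) z) (by
      change F.map (K.d ((i : ℤ) + 1) ((i : ℤ) + 1 + 1)) (F.map (K.iCycles ((i : ℤ) + 1)) z) = 0
      rw [← ConcreteCategory.comp_apply, ← F.map_comp, K.iCycles_d, F.map_zero]
      rfl)
    refine ⟨x, ?_⟩
    have hinj : Function.Injective (F.map (K.iCycles ((i : ℤ) + 1))) :=
      (AddCommGrpCat.mono_iff_injective _).1 inferInstance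
    refine hinj ?_
    rw [← ConcreteCategory.comp_apply, ← F.map_comp, K.toCycles_i]
    exact hx
  -- first cohomology of the last cycles
  have h1 : Subsingleton (Hc ((abF X).obj (K.cycles (i : ℤ))) 1 ⊤) := by
    have hS := shortExact_abF (shortExact_toBd K (i : ℤ) ((i : ℤ) + 1) rfl)
    refine subsingleton_of_forall_eq 0 fun x => ?_
    obtain ⟨y, hy⟩ := exact₁ hS 0 ⊤ x (@Subsingleton.elim _ (hX (i : ℤ) 0) _ _)
    haveI := hbd ((i : ℤ) + 1) (by omega)
    let y' : F.obj (bd K ((i : ℤ) + 1)) := hc0 _ ⊤ y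
    obtain ⟨w, hw⟩ := hepi (F.map (kernel.ι (K.homologyπ ((i : ℤ) + 1))) y')
    have hfac : F.map (toBd K (i : ℤ) ((i : ℤ) + 1)) w = y' := by
      apply (ConcreteCategory.bijective_of_isIso (F.map (kernel.ι (K.homologyπ ((i : ℤ) + 1))))).1
      refine Eq.trans ?_ hw
      rw [← ConcreteCategory.comp_apply, ← F.map_comp]
      exact congrArg (fun t => F.map t w) (kernel.lift_ι _ _ _)
    have hyw : mp ((abF X).map (toBd K (i : ℤ) ((i : ℤ) + 1))) 0 ⊤ ((hc0 _ ⊤).symm w) = y := by
      apply (hc0 _ ⊤).injective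
      rw [hc0_mp, AddEquiv.apply_symm_apply]
      exact hfac
    rw [← hy, ← hyw]
    exact delta_mp hS 0 ⊤ _
  -- dimension shifting
  have hstep : ∀ (j p : ℕ), j + p = i → Subsingleton (Hc ((abF X).obj (K.cycles (j : ℤ))) (p + 1) ⊤) := by
    intro j p
    induction p generalizing j with
    | zero => intro hj; obtain rfl : j = i := by omega
              exact h1
    | succ p ih =>
      intro hj
      have hZ := ih (j + 1) (by omega)
      haveI := hbd ((j : ℤ) + 1) (by omega)
      haveI : Subsingleton (Hc ((abF X).obj (bd K ((j : ℤ) + 1))) (p + 1) ⊤) :=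
        subsingleton_hc_of_iso (asIso (kernel.ι (K.homologyπ ((j : ℤ) + 1)))).symm (p + 1) ⊤ (by exact_mod_cast hZ)
      have hS := shortExact_abF (shortExact_toBd K (j : ℤ) ((j : ℤ) + 1) rfl)
      refine subsingleton_of_forall_eq 0 fun x => ?_
      obtain ⟨y, hy⟩ := exact₁ hS (p + 1) ⊤ x (@Subsingleton.elim _ (hX (j : ℤ) (p + 1)) _ _)
      rw [← hy, @Subsingleton.elim _ this y 0, map_zero]
  haveI : IsIso (K.homologyπ 0) := K.isIso_homologyπ (-1) 0 ((ComplexShape.up ℤ).prev_eq' (by simp))
    ((K.isZero_of_isStrictlyGE 0 (-1) (by omega)).eq_of_src _ _)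
  exact subsingleton_hc_of_iso (asIso (K.homologyπ 0)) (i + 1) ⊤ (hstep 0 i (zero_add i))

/-- Vanishing of the hypercohomology of a module in a positive degree is vanishing of its cohomology. -/
theorem subsingleton_HH_of_isZero_rGamma [DCoh.HasRΓ X] (M : X.Modules) (i : ℕ) (hi : 1 ≤ i)
    (h : IsZero ((DerivedCategory.homologyFunctor AddCommGrpCat.{u} (i : ℤ)).obj
      ((DCoh.RΓ X).obj ((DerivedCategory.singleFunctor X.Modules 0).obj M)))) :
    Subsingleton (Coh.HH X M i) := by
  obtain ⟨i, rfl⟩ : ∃ m, i = m + 1 := ⟨i - 1, by omega⟩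
  let G := (DerivedCategory.singleFunctor X.Modules 0).obj M
  obtain ⟨K, hK, ⟨eK⟩⟩ := DerivedCategory.exists_iso_Q_obj_of_isGE G 0
  haveI := hK
  obtain ⟨I, φ, _, _, _⟩ := CochainComplex.Plus.modelCategoryQuillen.exists_quasiIso_injective K 0
  haveI : I.IsKInjective := CochainComplex.isKInjective_of_injective I 0
  let e : G ≅ DerivedCategory.Q.obj I := eK ≪≫ asIso (DerivedCategory.Q.map φ)
  let hI : ∀ n, DCoh.HD G n ≅ I.homology n := fun n => (DerivedCategory.homologyFunctor X.Modules n).mapIso e ≪≫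
    (DerivedCategory.homologyFunctorFactors X.Modules n).app I
  rw [subsingleton_HH_iff]
  refine subsingleton_hc_of_iso ((hI 0).symm ≪≫ (DerivedCategory.singleFunctorCompHomologyFunctorIso X.Modules 0).app M)
    (i + 1) ⊤ (subsingleton_hc_of_gamma_homology I (fun n => ac_injective _) (fun n hn => ?_) i ?_)
  · refine IsZero.of_iso ?_ (hI n).symm
    rcases lt_or_gt_of_ne hn with h' | h'
    · exact DerivedCategory.isZero_of_isGE G 0 n h'
    · exact DerivedCategory.isZero_of_isLE G 0 n h'
  · refine h.of_iso (((DerivedCategory.homologyFunctorFactors AddCommGrpCat.{u} ((i : ℤ) + 1)).app _).symm ≪≫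
      (DerivedCategory.homologyFunctor AddCommGrpCat.{u} ((i : ℤ) + 1)).mapIso
        ((DCoh.RΓ X).mapIso e ≪≫ (DMV.gammaIso X I).symm).symm ≪≫ ?_)
    exact eqToIso (by push_cast; rfl)

end Groth.Agent.FMHyp13
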