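import Groth.Agent.Lib.FMHyp13.Fibre
import Groth.Agent.Lib.FMBase13.Inversion
import Groth.Agent.Lib.Exact8.StalkBC2
import Groth.Agent.Lib.NumPoly18.FamilyEuler
import Groth.Agent.Lib.FlatTwist13.Main

/-!
# The transform of a module without higher cohomology against all twists
-/

set_option autoImplicit false
set_option linter.style.haveILetI false
set_option linter.unusedSectionVars false
set_option backward.isDefEq.respectTransparency false
set_option backward.isDefEq.respectTransparency.types false
set_option maxHeartbeats 1600000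

universe u

open CategoryTheory CategoryTheory.Limits MonoidalCategory CartesianMonoidalCategory AlgebraicGeometry

attribute [local instance] HasDerivedCategory.standard

noncomputable section

namespace Groth.Agent.FMHyp13

open DMon9 DBC9 TwistBC9 FMBase13

attribute [local instance] DBC9.hasRpush

variable {k : Type u} [Field k] {A At : Over (Spec (CommRingCat.of k))}

/-- Derived pullback of a module along a projection over a field. -/
theorem nonempty_lP_fst [Flat A.hom] (M : A.left.Modules) :
    Nonempty ((lP (fst A At).left).obj ((DerivedCategory.singleFunctor A.left.Modules 0).obj M) ≅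
      (DerivedCategory.singleFunctor (A ⊗ At).left.Modules 0).obj
        ((Scheme.Modules.pullback (fst A At).left).obj M)) := by
  haveI := KFlat.Sch.hasLpull (fst A At).left
  let K := (HomologicalComplex.single A.left.Modules (ComplexShape.up ℤ) 0).obj M
  obtain ⟨e⟩ := Exact8.nonempty_lpull_relFlat (f := A.hom) (h := At.hom) (g := (fst A At).left)
    (f' := (snd A At).left) (IsPullback.of_hasPullback A.hom At.hom) K 0 (fun i => NumPoly18.isFlatOver_field _ _)
  obtain ⟨a⟩ := nonempty_lpull_natIso_lP (fst A At).left
  exact ⟨a.symm.app _ ≪≫ (DCoh.Lpull _).mapIso ((DerivedCategory.singleFunctorIsoCompQ _ 0).app M) ≪≫ e ≪≫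
    DerivedCategory.Q.mapIso ((HomologicalComplex.singleMapHomologicalComplex (Scheme.Modules.pullback _)
      (ComplexShape.up ℤ) 0).app M) ≪≫ ((DerivedCategory.singleFunctorIsoCompQ _ 0).app _).symm⟩

variable [IsAlgClosed k] [IsProper A.hom] [Smooth A.hom] [IsProper At.hom]

/-- A module with no higher cohomology against all `P_α` has a locally free transform in degree zero. -/
theorem exists_locFree_transform {P : (PicF.XT A.hom At).Modules} (hP : PicF.IsInvertible P)
    {E : A.left.Modules} (hE : Coh.IsCoh E)
    (h0 : ∀ (α : 𝟙_ (Over (Spec (CommRingCat.of k))) ⟶ At) (i : ℕ), 1 ≤ i →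
      Subsingleton (Coh.HH A.left (CohB1.tensorMod E
        ((Scheme.Modules.pullback (lift (𝟙 A) (toUnit A ≫ α)).left).obj P)) i)) :
    ∃ W : At.left.Modules, FlatMod.IsFinLocFree W ∧
      Nonempty ((phiK (fst A At).left (snd A At).left P).obj
          ((DerivedCategory.singleFunctor A.left.Modules 0).obj E) ≅
        (DerivedCategory.singleFunctor At.left.Modules 0).obj W) := by
  haveI : IsProper (snd A At).left := inferInstanceAs (IsProper (pullback.snd A.hom At.hom))
  haveI : Flat (snd A At).left := inferInstanceAs (Flat (pullback.snd A.hom At.hom))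
  haveI : IsLocallyNoetherian At.left := LocallyOfFiniteType.isLocallyNoetherian At.hom
  haveI : LocallyOfFinitePresentation (snd A At).left :=
    inferInstanceAs (LocallyOfFinitePresentation (pullback.snd A.hom At.hom))
  haveI : IsLocallyNoetherian (A ⊗ At).left := LocallyOfFiniteType.isLocallyNoetherian (snd A At).left
  haveI : HasInjectiveResolutions (A ⊗ At).left.Modules := CohFound.hasInjectiveResolutions_modules _
  let M := CohB1.tensorMod ((Scheme.Modules.pullback (fst A At).left).obj E) P
  have hM : Coh.IsCoh M :=
    CohFound.isCoh_tensor (M1.isCoh_pullback _ hE) (CubeField.isCoh_of_isInvertible hP)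
  have hfl : FlatMod.IsFlatOver (snd A At).left M := FlatTwist13.isFlatOver_tensor _
    (Exact8.isFlatOver_pullback (IsPullback.of_hasPullback A.hom At.hom) (NumPoly18.isFlatOver_field A.hom E)) hP
  obtain ⟨hz, hW⟩ := push_of_closed_fibres (S := At) (snd A At).left hM hfl fun t i hi => by
    refine (subsingleton_fiber_iff (snd A At) (lift (𝟙 A) (toUnit A ≫ t)) t (isPullback_section t) hM.1 i).2 ?_
    have hs : (lift (𝟙 A) (toUnit A ≫ t)).left ≫ (fst A At).left = 𝟙 A.left := by
      rw [← Over.comp_left, lift_fst, Over.id_left]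
    refine (CBC10.hmapEquiv (M2.pullTensorIso _ _ _ ≪≫ M2.tensorIso
      ((Scheme.Modules.pullbackComp _ _).app E ≪≫ (Scheme.Modules.pullbackCongr hs).app E ≪≫
        (Scheme.Modules.pullbackId _).app E) (Iso.refl _)) i).toEquiv.subsingleton_congr.2 (h0 t i hi)
  obtain ⟨a⟩ := nonempty_lP_fst (At := At) E
  obtain ⟨b⟩ := nonempty_modM_tensor ((Scheme.Modules.pullback (fst A At).left).obj E) P hP
  obtain ⟨c⟩ := nonempty_rpush_inD_of_acyclic (snd A At).left M hM.1 hz
  refine ⟨_, hW, ⟨(tenF P ⋙ DCoh.Rpush (snd A At).left).mapIso a ≪≫ ?_ ≪≫ c⟩⟩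
  exact (DCoh.Rpush (snd A At).left).mapIso
    (b : (tenF P).obj ((DerivedCategory.singleFunctor _ 0).obj _) ≅
      (DerivedCategory.singleFunctor (A ⊗ At).left.Modules 0).obj M)

end Groth.Agent.FMHyp13

end
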