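import Groth.Agent.Lib.FMHyp13.IdealUnitDual
import Groth.Agent.Lib.FMBase13.Inversion
import Groth.Agent.Lib.FMBase13.Lambda
import Groth.Agent.Lib.AVQuotH1.Isog
import Groth.Agent.Lib.Quot18.MatHom
import Groth.Agent.Lib.BC8.BidualSch

/-!
# The transform of the dual of the ideal of the origin
-/

set_option autoImplicit false
set_option linter.style.haveILetI false
set_option linter.unusedSectionVars false
set_option backward.isDefEq.respectTransparency false
set_option backward.isDefEq.respectTransparency.types false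
set_option maxHeartbeats 1600000

universe u

open CategoryTheory CategoryTheory.Limits MonoidalCategory CartesianMonoidalCategory AlgebraicGeometry Pretriangulated
open scoped MonObj GrpObj

attribute [local instance] HasDerivedCategory.standard

noncomputable section

namespace Groth.Agent.FMHyp13.UnitDual

open DMon9 DBC9 TwistBC9 FMAdj9 FMBase13

attribute [local instance] DBC9.hasRpush

variable {k : Type u} [Field k]

/-- Internal hom out of a zero complex vanishes. -/
theorem isZero_rhom_of_isZero {X : Scheme.{u}} (K : CochainComplex X.Modules ℤ) [DCoh.HasLTensorCx K]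
    [DCoh.HasRSheafHom K] (hK : IsZero (DCoh.toD X K)) (Y : DCoh.D X) : IsZero ((DCoh.RSheafHom K).obj Y) := by
  obtain ⟨t⟩ := nonempty_ltIso K
  have hz : ∀ W : DCoh.D X, IsZero ((DCoh.LTensorCx K).obj W) := fun W => by
    obtain ⟨E, ⟨eE⟩⟩ := exists_qM W
    haveI := KFlat.Sch.hasLTensorCx E.obj
    haveI : DCoh.HasRSheafHom E.obj := RHom.hasRSheafHom E.obj
    haveI : (DCoh.RSheafHom E.obj).Additive := (DCoh.RSheafHomAdj E.obj).right_adjoint_additive
    haveI : (DCoh.LTensorCx E.obj).Additive := (DCoh.RSheafHomAdj E.obj).left_adjoint_additive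
    obtain ⟨t'⟩ := nonempty_ltIso E.obj
    let Z : DM X := DCoh.toD X K
    obtain ⟨c⟩ := nonempty_commIso E
    let e : @Iso (DCoh.D X) _ ((tRD Z).obj W) ((DCoh.LTensorCx E.obj).obj (Z : DCoh.D X)) :=
      (tRD Z).mapIso eE.symm ≪≫ (c.app Z :) ≪≫ (t'.app _).symm
    exact ((Functor.map_isZero _ hK).of_iso (t.app W ≪≫ e))
  rw [IsZero.iff_id_eq_zero]
  exact ((DCoh.RSheafHomAdj K).homEquiv _ _).symm.injective ((hz _).eq_of_src _ _)

/-- On a point the ideal of the origin is zero. -/
theorem isZero_idealOne (A : Over (Spec (CommRingCat.of k))) [GrpObj A] [IsProper A.hom] [Smooth A.hom]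
    [GeometricallyConnected A.hom] [IsAlgClosed k] (hg : topologicalKrullDim A.left = (0 : ℕ)) :
    IsZero (idealOne A) := by
  haveI : ConnectedSpace A.left := GeometricallyConnected.connectedSpace_of_subsingleton A.hom
  haveI := AbRigid.irreducibleSpace_of_isAlgClosed A
  haveI : Subsingleton A.left := AVQuotH1.subsingleton_of_dim_eq_zero (by exact_mod_cast hg)
  haveI : IsReduced A.left := AbRigid.isReduced_of_smooth_over_field A.hom
  haveI : IsClosedImmersion η[A].left := isClosedImmersion_of_comp_eq_id A.hom η[A].left (Over.w η[A])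
  haveI : Surjective η[A].left := ⟨fun x => ⟨IsLocalRing.closedPoint k, Subsingleton.elim _ _⟩⟩
  haveI : IsIso η[A].left := isIso_of_isClosedImmersion_of_surjective _
  haveI : Mono (ClSub.unitToPush η[A].left) := CohFound.mono_of_injective_moduleApp _ fun U =>
    (ConcreteCategory.bijective_of_isIso (η[A].left.app U)).1
  exact isZero_kernel_of_mono _

/-- A nonzero map to the origin is the restriction followed by an automorphism. -/
theorem exists_fac (A : Over (Spec (CommRingCat.of k))) [GrpObj A]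
    (u : Coh.structureModule A.left ⟶ skyOne A) (hu : u ≠ 0) :
    ∃ m : skyOne A ≅ skyOne A, u = ClSub.unitToPush η[A].left ≫ m.hom := by
  let one : Γ(Coh.structureModule A.left, ⊤) := (1 : Γ(A.left, ⊤))
  let S := Spec (CommRingCat.of k)
  let c : Γ(S, ⊤) := u.app ⊤ one
  let e := (Scheme.ΓSpecIso (CommRingCat.of k)).commRingCatIsoToRingEquiv
  have hc : e c ≠ 0 := fun h => hu (FGA3.hom_ext_one u 0 (by
    show c = 0
    exact e.injective (h.trans (map_zero e).symm)))
  let c' : Γ(S, ⊤) := e.symm (e c)⁻¹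
  have hcc : c' * c = 1 := e.injective (by rw [map_mul, e.apply_symm_apply, inv_mul_cancel₀ hc, map_one])
  have hcomp : ∀ a b : Γ(S, ⊤), b * a = 1 → Quot18.MatHom.scal a ≫ Quot18.MatHom.scal b = 𝟙 _ := fun a b h =>
    Quot18.MatHom.val_injective (by
      rw [Quot18.MatHom.val_comp, Quot18.MatHom.val_scal, Quot18.MatHom.val_scal, Quot18.MatHom.val_id, mul_comm, h])
  let m : Coh.structureModule S ≅ Coh.structureModule S :=
    ⟨Quot18.MatHom.scal c, Quot18.MatHom.scal c', hcomp c c' hcc, hcomp c' c (by rw [mul_comm, hcc])⟩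
  have hfac : u = ClSub.unitToPush η[A].left ≫ ((Scheme.Modules.pushforward η[A].left).mapIso m).hom := by
    refine FGA3.hom_ext_one _ _ ?_
    show c = (Quot18.MatHom.scal c).app ⊤ ((η[A].left.app ⊤).hom (1 : Γ(A.left, ⊤)))
    rw [map_one]
    exact (M1.secHom_app_one _).symm
  exact ⟨_, hfac⟩

/-- Any nonzero map to the origin has the ideal of the origin as kernel. -/
theorem nonempty_kernel_iso (A : Over (Spec (CommRingCat.of k))) [GrpObj A]
    (u : Coh.structureModule A.left ⟶ skyOne A) (hu : u ≠ 0) : Nonempty (kernel u ≅ idealOne A) := by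
  obtain ⟨m, hm⟩ := exists_fac A u hu
  exact ⟨kernelIsoOfEq hm ≪≫ kernelCompMono _ _⟩

/-- A nonzero map to the origin is an epimorphism. -/
theorem epi_of_ne_zero (A : Over (Spec (CommRingCat.of k))) [GrpObj A] [IsProper A.hom]
    (u : Coh.structureModule A.left ⟶ skyOne A) (hu : u ≠ 0) : Epi u := by
  haveI : IsClosedImmersion η[A].left := isClosedImmersion_of_comp_eq_id A.hom η[A].left (Over.w η[A])
  obtain ⟨m, hm⟩ := exists_fac A u hu
  haveI := FGA3.epi_unitToPush η[A].left
  rw [hm]
  infer_instance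

variable {A At : Over (Spec (CommRingCat.of k))} [GrpObj A] [GrpObj At]
  [IsProper A.hom] [Smooth A.hom] [GeometricallyConnected A.hom]
  [IsProper At.hom] [Smooth At.hom] [GeometricallyConnected At.hom]
  {φ : AgPol.DualMap A At} (hφ : AbDual.IsDualAV Scheme.fppfPrecoverage A At φ)
  {P : (PicF.XT A.hom At).Modules} (hP : PicF.IsInvertible P) (hξ : AbDual.IsPoincareCl A At φ (PicF.cl P))
  {g : ℕ} (hg : topologicalKrullDim A.left = g)

include hφ hP hξ hg in
/-- The transform of the structure sheaf is the origin in degree `g`. -/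
theorem nonempty_transform_structure :
    Nonempty ((phiK (fst A At).left (snd A At).left P).obj (DCoh.inD A.left (Coh.structureModule A.left)) ≅
      (shiftFunctor (DCoh.D At.left) (-(g : ℤ))).obj (DCoh.inD At.left (skyOne At))) := by
  haveI : GeometricallyIntegral A.hom := AbRigid.geometricallyIntegral_of_smooth A
  haveI : GeometricallyIntegral At.hom := AbRigid.geometricallyIntegral_of_smooth At
  obtain ⟨hgt, -⟩ := Poincare22.exists_local hφ hP hξ hg
  have hD : Poinc13.IsPLike A At P := ⟨fun f h t => Poincare22.pull_lift_mul hφ hξ f h t,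
    fun q => Poincare22.triv_iff hφ hξ q, le_of_eq (hg.trans hgt.symm)⟩
  obtain ⟨e⟩ := Poinc13.nonempty_rpush_origin hP hD hg
  obtain ⟨r⟩ := nonempty_sky_single At
  obtain ⟨s⟩ := nonempty_phiK_single (fst A At).left (snd A At).left
    (PicLoc.isInvertible_structureModule A.left) hP
  exact ⟨s ≪≫ (DCoh.Rpush _).mapIso ((DerivedCategory.singleFunctor _ 0).mapIso
      (M2.tensorIso (PicLoc.pullbackStructureIso _) (Iso.refl P) ≪≫ M2.tensorLUnit P)) ≪≫ e ≪≫
    (shiftFunctor (DCoh.D At.left) (-(g : ℤ))).mapIso r⟩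

variable [IsAlgClosed k]

include hφ hP hξ hg in
/-- The transform of the origin is the structure sheaf. -/
theorem nonempty_transform_origin [(phiK (fst A At).left (snd A At).left P).CommShift ℤ] :
    Nonempty ((phiK (fst A At).left (snd A At).left P).obj (DCoh.inD A.left (skyOne A)) ≅ DCoh.inD At.left (Coh.structureModule At.left)) := by
  haveI : GeometricallyIntegral A.hom := AbRigid.geometricallyIntegral_of_smooth A
  haveI : GeometricallyIntegral At.hom := AbRigid.geometricallyIntegral_of_smooth At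
  obtain ⟨hgt, hD'⟩ := isPLike_swP hφ hP hξ hg
  have hQ : PicF.IsInvertible (swP P) := PicLoc.isInvertible_pullback _ hP
  obtain ⟨e⟩ := Poinc13.nonempty_rpush_origin (A := At) (At := A) hQ hD' hgt
  obtain ⟨r⟩ := nonempty_sky_single A
  obtain ⟨s⟩ := nonempty_phiK_single (fst At A).left (snd At A).left
    (PicLoc.isInvertible_structureModule At.left) hQ
  obtain ⟨inv⟩ := nonempty_inversion_swP hφ hP hξ hg
  let oT : DCoh.DQCoh At.left := ⟨DCoh.inD At.left (Coh.structureModule At.left),
    isQCohD_inD _ (M1.isQCoh_structureModule At.left) 0⟩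
  let Ψ := phiK (fst At A).left (snd At A).left (swP P)
  let e₁ : Ψ.obj oT.obj ≅ (shiftFunctor (DCoh.D A.left) (-(g : ℤ))).obj (DCoh.inD A.left (skyOne A)) :=
    s ≪≫ (DCoh.Rpush _).mapIso ((DerivedCategory.singleFunctor _ 0).mapIso
      (M2.tensorIso (PicLoc.pullbackStructureIso _) (Iso.refl _) ≪≫ M2.tensorLUnit _)) ≪≫ e ≪≫
    (shiftFunctor (DCoh.D A.left) (-(g : ℤ))).mapIso r
  obtain ⟨l⟩ := nonempty_lP_oneM ((𝟙 At)⁻¹).left 0
  let o := fun (X : Scheme.{u}) => ((DerivedCategory.singleFunctorIsoCompQ X.Modules 0).app (Coh.structureModule X) :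
    DCoh.inD X (Coh.structureModule X) ≅ oneD X 0)
  let e₂ : (phiK (fst A At).left (snd A At).left P).obj (Ψ.obj oT.obj) ≅
      (shiftFunctor (DCoh.D At.left) (-(g : ℤ))).obj (DCoh.inD At.left (Coh.structureModule At.left)) :=
    inv.app oT ≪≫ (shiftFunctor (DCoh.D At.left) (-(g : ℤ))).mapIso
      ((lP _).mapIso (o _) ≪≫ l ≪≫ (o _).symm)
  exact ⟨(Functor.FullyFaithful.ofFullyFaithful (shiftFunctor (DCoh.D At.left) (-(g : ℤ)))).preimageIso
    ((((phiK (fst A At).left (snd A At).left P).commShiftIso (-(g : ℤ))).app _).symm ≪≫ (phiK (fst A At).left (snd A At).left P).mapIso e₁.symm ≪≫ e₂)⟩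

include hφ hP hξ hg in
/-- Integral transform on quasi-coherent objects is faithful. -/
theorem eq_zero_of_transform {M N : DCoh.D A.left} (hM : DCoh.IsQCohD M) (hN : DCoh.IsQCohD N) (f : M ⟶ N)
    (h : (phiK (fst A At).left (snd A At).left P).map f = 0) : f = 0 := by
  obtain ⟨inv⟩ := nonempty_inversion hφ hP hξ hg
  let f' : (⟨M, hM⟩ : DCoh.DQCoh A.left) ⟶ ⟨N, hN⟩ := ObjectProperty.homMk f
  haveI : IsIso ((𝟙 A)⁻¹ : A ⟶ A).left := by
    haveI : IsIso ((𝟙 A)⁻¹ : A ⟶ A) := ⟨(𝟙 A)⁻¹, by simp [GrpObj.comp_inv], by simp [GrpObj.comp_inv]⟩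
    exact inferInstanceAs (IsIso ((Over.forget _).map ((𝟙 A)⁻¹ : A ⟶ A)))
  haveI := BC8.isEquivalence_lP_iso ((𝟙 A)⁻¹ : A ⟶ A).left
  have hn := inv.hom.naturality f'
  have hp : (phiK (fst At A).left (snd At A).left (swP P)).map ((phiK (fst A At).left (snd A At).left P).map f) = 0 := by
    rw [h]
    haveI : (DCoh.Rpush (snd At A).left).Additive := Dual8.additive_rpush
    haveI : (DCoh.Rpush (fst At A).left).Additive := Dual8.additive_rpush
    haveI : (lP (fst At A).left).Additive := (adjLP (fst At A).left).left_adjoint_additive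
    haveI := PnKoszul9.preservesFiniteLimits_tensorRightMod (swP P) (PicLoc.isInvertible_pullback _ hP)
    obtain ⟨b⟩ := nonempty_tenF_twD (swP P) (PicLoc.isInvertible_pullback _ hP)
    haveI : (tenF (swP P)).Additive := Functor.additive_of_iso b.symm
    show (DCoh.Rpush (snd At A).left).map ((tenF (swP P)).map ((lP (fst At A).left).map 0)) = 0
    rw [Functor.map_zero, Functor.map_zero, Functor.map_zero]
  have h2 : (lP ((𝟙 A)⁻¹ : A ⟶ A).left ⋙ shiftFunctor (DCoh.D A.left) (-(g : ℤ))).map f = 0 := by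
    rw [← cancel_epi (inv.hom.app ⟨M, hM⟩), comp_zero]
    refine hn.symm.trans ?_
    show (phiK (fst At A).left (snd At A).left (swP P)).map ((phiK (fst A At).left (snd A At).left P).map f) ≫ _ = 0
    rw [hp, zero_comp]
  haveI : (DCoh.Rpush ((𝟙 A)⁻¹ : A ⟶ A).left).Additive := Dual8.additive_rpush
  haveI : (lP ((𝟙 A)⁻¹ : A ⟶ A).left).Additive := (adjLP _).left_adjoint_additive
  exact (lP ((𝟙 A)⁻¹ : A ⟶ A).left ⋙ shiftFunctor (DCoh.D A.left) (-(g : ℤ))).map_injective
    (h2.trans ((lP ((𝟙 A)⁻¹ : A ⟶ A).left ⋙ shiftFunctor (DCoh.D A.left) (-(g : ℤ))).map_zero _ _).symm)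

include hφ hP hξ hg in
/-- The transform of the dual of the ideal of the origin. -/
theorem nonempty_transform_dual_idealOne
    [DCoh.HasLTensorCx ((HomologicalComplex.single A.left.Modules (ComplexShape.up ℤ) 0).obj (idealOne A))]
    [DCoh.HasRSheafHom ((HomologicalComplex.single A.left.Modules (ComplexShape.up ℤ) 0).obj (idealOne A))] :
    Nonempty ((phiK (fst A At).left (snd A At).left P).obj ((DCoh.RSheafHom ((HomologicalComplex.single A.left.Modules (ComplexShape.up ℤ) 0).obj
        (idealOne A))).obj (DCoh.inD A.left (Coh.structureModule A.left))) ≅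
      (shiftFunctor (DCoh.D At.left) (-((g : ℤ) - 1))).obj (DCoh.inD At.left (idealOne At))) := by
  haveI := PnKoszul9.preservesFiniteLimits_tensorRightMod P hP
  let p := (fst A At).left
  let q := (snd A At).left
  obtain ⟨hps, hpt⟩ := DPush.exists_commShift_isTriangulated p
  letI := hps
  haveI := hpt
  letI := (adjLP p).leftAdjointCommShift ℤ
  haveI : (adjLP p).CommShift ℤ := (adjLP p).commShift_of_rightAdjoint ℤ
  haveI : (lP p).IsTriangulated := (adjLP p).isTriangulated_leftAdjoint
  obtain ⟨hqs, hqt⟩ := DPush.exists_commShift_isTriangulated q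
  letI := hqs
  haveI := hqt
  obtain ⟨b⟩ := nonempty_tenF_twD P hP
  letI : (tenF P).CommShift ℤ := Functor.CommShift.ofIso b.symm ℤ
  haveI : NatTrans.CommShift b.symm.hom ℤ := Functor.CommShift.ofIso_compatibility b.symm ℤ
  haveI : (tenF P).IsTriangulated := Functor.isTriangulated_of_iso b.symm
  letI : (phiK (fst A At).left (snd A At).left P).CommShift ℤ :=
    (inferInstance : (lP p ⋙ tenF P ⋙ DCoh.Rpush q).CommShift ℤ)
  haveI : (phiK (fst A At).left (snd A At).left P).IsTriangulated :=
    (inferInstance : (lP p ⋙ tenF P ⋙ DCoh.Rpush q).IsTriangulated)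
  obtain ⟨hgt, -⟩ := isPLike_swP hφ hP hξ hg
  let n : ℤ := -((g : ℤ) - 1)
  rcases Nat.eq_zero_or_pos g with rfl | hg1
  · have hS : IsZero (DCoh.toD A.left ((HomologicalComplex.single A.left.Modules (ComplexShape.up ℤ) 0).obj
        (idealOne A))) :=
      (Functor.map_isZero (DerivedCategory.singleFunctor A.left.Modules 0) (isZero_idealOne A hg)).of_iso
        (((DerivedCategory.singleFunctorIsoCompQ A.left.Modules 0).app (idealOne A)).symm)
    exact ⟨((phiK (fst A At).left (snd A At).left P).map_isZero (isZero_rhom_of_isZero _ hS _)).iso ((shiftFunctor _ _).map_isZero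
      (Functor.map_isZero (DerivedCategory.singleFunctor At.left.Modules 0) (isZero_idealOne At hgt)))⟩
  obtain ⟨T, hT, ⟨e₁⟩, ⟨e₂⟩, ⟨e₃⟩, hδ⟩ := exists_idealOne_triangle A hg hg1
  obtain ⟨tO⟩ := nonempty_transform_structure hφ hP hξ hg
  obtain ⟨tK⟩ := nonempty_transform_origin hφ hP hξ hg
  let oAt : DCoh.D At.left := DCoh.inD At.left (Coh.structureModule At.left)
  let kAt : DCoh.D At.left := DCoh.inD At.left (skyOne At)
  let R := ((phiK (fst A At).left (snd A At).left P).mapTriangle.obj T).rotate.rotate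
  have hR : R ∈ distTriang _ := rot_of_distTriang _ (rot_of_distTriang _ ((phiK (fst A At).left (snd A At).left P).map_distinguished T hT))
  let r₁ : R.obj₁ ≅ (shiftFunctor (DCoh.D At.left) n).obj oAt :=
    (phiK (fst A At).left (snd A At).left P).mapIso e₃ ≪≫ ((phiK (fst A At).left (snd A At).left P).commShiftIso n).app _ ≪≫ (shiftFunctor (DCoh.D At.left) n).mapIso tK
  let r₂ : R.obj₂ ≅ (shiftFunctor (DCoh.D At.left) n).obj kAt :=
    (shiftFunctor (DCoh.D At.left) (1 : ℤ)).mapIso ((phiK (fst A At).left (snd A At).left P).mapIso e₁ ≪≫ tO) ≪≫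
      ((shiftFunctorAdd' (DCoh.D At.left) (-(g : ℤ)) 1 n (by omega)).app kAt).symm
  have hR0 : R.mor₁ ≠ 0 := by
    show (phiK (fst A At).left (snd A At).left P).map T.mor₃ ≫ ((phiK (fst A At).left (snd A At).left P).commShiftIso (1 : ℤ)).hom.app T.obj₁ ≠ 0
    intro h0
    refine hδ (eq_zero_of_transform hφ hP hξ hg ?_ ?_ _ ((cancel_mono _).1 (h0.trans zero_comp.symm)))
    · exact DQC.isQCohD_of_iso e₃.symm (DMV.isQCohD_shift _ (isQCohD_inD _
        (M1.isQCoh_push η[A].left (M1.isQCoh_structureModule _)) 0) _)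
    · exact DMV.isQCohD_shift _ (DQC.isQCohD_of_iso e₁.symm (isQCohD_inD _ (M1.isQCoh_structureModule _) 0)) _
  let ū : (shiftFunctor (DCoh.D At.left) n).obj oAt ⟶ (shiftFunctor (DCoh.D At.left) n).obj kAt :=
    r₁.inv ≫ R.mor₁ ≫ r₂.hom
  obtain ⟨u', hu'⟩ := (shiftFunctor (DCoh.D At.left) n).map_surjective (n.negOnePow • ū)
  obtain ⟨u, rfl⟩ := (DerivedCategory.singleFunctor At.left.Modules 0).map_surjective u'
  have hu0 : u ≠ 0 := fun h => hR0 (by
    rw [h, Functor.map_zero, Functor.map_zero] at hu'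
    have hū : ū = 0 := by rw [← one_smul ℤˣ ū, ← Int.units_mul_self n.negOnePow, mul_smul, ← hu', smul_zero]
    rw [show R.mor₁ = r₁.hom ≫ ū ≫ r₂.inv by simp [ū], hū, zero_comp, comp_zero])
  haveI : IsClosedImmersion η[At].left := isClosedImmersion_of_comp_eq_id At.hom η[At].left (Over.w η[At])
  haveI : Epi u := epi_of_ne_zero At u hu0
  let S := ShortComplex.mk (kernel.ι u) u (kernel.condition u)
  have hS : S.ShortExact := { exact := ShortComplex.exact_of_f_is_kernel _ (kernelIsKernel u) }
  let T₁ := (Triangle.shiftFunctor (DCoh.D At.left) n).obj hS.singleTriangle.rotate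
  have hT₁ : T₁ ∈ distTriang _ :=
    Triangle.shift_distinguished _ (rot_of_distTriang _ hS.singleTriangle_distinguished) n
  let i₃ := Triangle.π₃.mapIso (isoTriangleOfIso₁₂ R T₁ hR hT₁ r₁ r₂ (by
    show R.mor₁ ≫ r₂.hom = r₁.hom ≫ (n.negOnePow • (shiftFunctor (DCoh.D At.left) n).map
      ((DerivedCategory.singleFunctor At.left.Modules 0).map u))
    rw [hu', smul_smul, Int.units_mul_self, one_smul]
    simp [ū]))
  let a : (shiftFunctor (DCoh.D At.left) (1 : ℤ)).obj ((phiK (fst A At).left (snd A At).left P).obj T.obj₂) ≅ (shiftFunctor (DCoh.D At.left) n).obj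
      ((shiftFunctor (DCoh.D At.left) (1 : ℤ)).obj (DCoh.inD At.left (kernel u))) := i₃
  obtain ⟨i⟩ := nonempty_kernel_iso At u hu0
  exact ⟨(phiK (fst A At).left (snd A At).left P).mapIso e₂.symm ≪≫ (Functor.FullyFaithful.ofFullyFaithful
      (shiftFunctor (DCoh.D At.left) (1 : ℤ))).preimageIso (a ≪≫ shiftComm _ 1 n) ≪≫
    (shiftFunctor (DCoh.D At.left) n).mapIso ((DerivedCategory.singleFunctor At.left.Modules 0).mapIso i)⟩

end Groth.Agent.FMHyp13.UnitDual

end
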