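import Groth.Agent.Lib.FMHyp13.TwistPow
import Groth.Agent.Lib.FMHyp13.DualEnd
import Groth.Agent.Lib.FMHyp13.IdealUnitFM
import Groth.Agent.Lib.CohFound.ClosedImmPush
import Groth.Agent.Lib.CurveCoh17.AffPush
import Groth.Agent.Lib.MumVan22.PushShear
import Groth.Agent.Lib.PicAV13.Main
import Groth.Agent.Lib.DMV.Induct
import Groth.Agent.Lib.PP13.Filt
import Groth.Agent.Lib.SyzMult.Basic

/-!
# The transform of the ideal of the origin twisted by an ample module
-/

set_option autoImplicit false
set_option linter.style.haveILetI false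
set_option linter.unusedSectionVars false
set_option backward.isDefEq.respectTransparency false
set_option backward.isDefEq.respectTransparency.types false
set_option maxHeartbeats 3200000

universe u

open CategoryTheory CategoryTheory.Limits MonoidalCategory CartesianMonoidalCategory AlgebraicGeometry Pretriangulated
open TopologicalSpace
open scoped MonObj GrpObj

attribute [local instance] HasDerivedCategory.standard

noncomputable section

namespace Groth.Agent.FMHyp13

open DMon9 DBC9 TwistBC9 FMBase13 Groth.Agent Groth.Agent.RosTrace22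
open UnitDual (idealOne skyOne)

attribute [local instance] DBC9.hasRpush

noncomputable local instance instLawIdealAmple (Y : Scheme.{u}) : PicGrp.Law Y := M2.law Y

variable {k : Type u} [Field k]

/-- Morphisms out of the structure sheaf are sections. -/
def secEquiv0 {X : Scheme.{u}} (M : X.Modules) : (Coh.structureModule X ⟶ M) ≃ Coh.HH X M 0 :=
  (DMV.homOne M).trans (CurveCoh17.hh0 M).symm.toEquiv

theorem secEquiv0_comp {X : Scheme.{u}} [X.Over (Spec (CommRingCat.of k))] {M N : X.Modules} (f : M ⟶ N)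
    (t : Coh.structureModule X ⟶ M) : secEquiv0 N (t ≫ f) = CurveCoh17.hmap k f 0 (secEquiv0 M t) := by
  refine (CurveCoh17.hh0 N).injective ?_
  rw [CurveCoh17.hh0_hmap]
  show CurveCoh17.hh0 N ((CurveCoh17.hh0 N).symm (DMV.homOne N (t ≫ f))) =
    f.app ⊤ (CurveCoh17.hh0 M ((CurveCoh17.hh0 M).symm (DMV.homOne M t)))
  rw [AddEquiv.apply_symm_apply, AddEquiv.apply_symm_apply]
  rfl

/-- Composition is bijective on morphisms from the structure sheaf as soon as it is on sections. -/
theorem bijective_comp_of_hmap {X : Scheme.{u}} [X.Over (Spec (CommRingCat.of k))] {M N : X.Modules} (f : M ⟶ N)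
    (h : Function.Bijective (CurveCoh17.hmap k f 0)) :
    Function.Bijective fun t : Coh.structureModule X ⟶ M => t ≫ f := by
  have : (fun t : Coh.structureModule X ⟶ M => t ≫ f) =
      (secEquiv0 N).symm ∘ CurveCoh17.hmap k f 0 ∘ secEquiv0 M := funext fun t => by
    simp only [Function.comp_apply, ← secEquiv0_comp, Equiv.symm_apply_apply]
  rw [this]
  exact (secEquiv0 N).symm.bijective.comp (h.comp (secEquiv0 M).bijective)

/-- Two presentations bijective on morphisms from the generator have isomorphic kernels. -/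
theorem nonempty_kernel_iso_of_bijective {C : Type*} [Category C] [Abelian C] {I J : Type*} {U X : C}
    [HasCoproduct fun _ : I => U] [HasCoproduct fun _ : J => U]
    (e : (∐ fun _ : I => U) ⟶ X) (e' : (∐ fun _ : J => U) ⟶ X)
    (he : Function.Bijective fun t : U ⟶ ∐ fun _ : I => U => t ≫ e)
    (he' : Function.Bijective fun t : U ⟶ ∐ fun _ : J => U => t ≫ e') :
    Nonempty (kernel e ≅ kernel e') := by
  let g : (∐ fun _ : I => U) ⟶ ∐ fun _ : J => U := Sigma.desc fun i => (he'.2 (Sigma.ι (fun _ : I => U) i ≫ e)).choose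
  let g' : (∐ fun _ : J => U) ⟶ ∐ fun _ : I => U := Sigma.desc fun j => (he.2 (Sigma.ι (fun _ : J => U) j ≫ e')).choose
  have hg : g ≫ e' = e := Sigma.hom_ext _ _ fun i => by
    rw [← Category.assoc, Sigma.ι_desc]
    exact (he'.2 (Sigma.ι (fun _ : I => U) i ≫ e)).choose_spec
  have hg' : g' ≫ e = e' := Sigma.hom_ext _ _ fun j => by
    rw [← Category.assoc, Sigma.ι_desc]
    exact (he.2 (Sigma.ι (fun _ : J => U) j ≫ e')).choose_spec
  let i : (∐ fun _ : I => U) ≅ ∐ fun _ : J => U :=
    ⟨g, g', Sigma.hom_ext _ _ fun i => he.1 (by simp only [Category.assoc, hg', hg, Category.comp_id]),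
      Sigma.hom_ext _ _ fun j => he'.1 (by simp only [Category.assoc, hg', hg, Category.comp_id])⟩
  haveI : IsIso g := Iso.isIso_hom i
  exact ⟨kernelIsoOfEq hg.symm ≪≫ kernelIsIsoComp g e'⟩

variable {A : Over (Spec (CommRingCat.of k))} [GrpObj A] [IsProper A.hom]

/-- The cohomology of the module at the origin. -/
theorem sky_cohomology :
    letI : A.left.Over (Spec (CommRingCat.of k)) := ⟨A.hom⟩
    Module.finrank k (Coh.HH A.left (skyOne A) 0) = 1 ∧
      ∀ p : ℕ, 0 < p → Subsingleton (Coh.HH A.left (skyOne A) p) := by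
  letI : A.left.Over (Spec (CommRingCat.of k)) := ⟨A.hom⟩
  letI : (Spec (CommRingCat.of k)).Over (Spec (CommRingCat.of k)) := ⟨𝟙 _⟩
  haveI : IsClosedImmersion η[A].left := isClosedImmersion_of_comp_eq_id A.hom η[A].left (Over.w η[A])
  haveI : (Coh.structureModule (Spec (CommRingCat.of k))).IsQuasicoherent := M1.isQCoh_structureModule _
  have h1 := PushShear22.finrank_H0_structure (𝟙 (Spec (CommRingCat.of k))) (Iso.refl _) (B := k) (by simp)
  rw [Module.finrank_self] at h1
  refine ⟨?_, fun p hp => ?_⟩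
  · obtain ⟨E⟩ := CurveCoh17.nonempty_hequiv_push k (Y := Spec (CommRingCat.of k)) η[A].left (Over.w η[A]) (Coh.structureModule _) 0
    exact E.finrank_eq.trans h1
  · obtain ⟨E⟩ := CurveCoh17.nonempty_hequiv_push k (Y := Spec (CommRingCat.of k)) η[A].left (Over.w η[A]) (Coh.structureModule _) p
    haveI := CohFound.subsingleton_HH_affine (Coh.structureModule (Spec (CommRingCat.of k))) p hp
    exact E.toEquiv.subsingleton

/-- The module at the origin absorbs invertible modules. -/
theorem nonempty_sky_tensor {M : A.left.Modules} (hM : PicF.IsInvertible M) :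
    Nonempty (CohB1.tensorMod (skyOne A) M ≅ skyOne A) := by
  haveI : IsClosedImmersion η[A].left := isClosedImmersion_of_comp_eq_id A.hom η[A].left (Over.w η[A])
  obtain ⟨ψ⟩ := CohFound.nonempty_push_tensor_iso η[A].left (Coh.structureModule (Spec (CommRingCat.of k)))
    (M1.isQCoh_structureModule _) M (CubeField.isCoh_of_isInvertible hM).1
  obtain ⟨e⟩ := CubeField.nonempty_trivial_field _ (PicLoc.isInvertible_pullback η[A].left hM)
  exact ⟨ψ.symm ≪≫ (Scheme.Modules.pushforward η[A].left).mapIso (M2.tensorLUnit _ ≪≫ e)⟩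

variable [Smooth A.hom] [GeometricallyConnected A.hom] [IsAlgClosed k] {At : Over (Spec (CommRingCat.of k))} [GrpObj At]
  [IsProper At.hom] [Smooth At.hom] [GeometricallyConnected At.hom]
  {φ : AgPol.DualMap A At} (hφ : AbDual.IsDualAV Scheme.fppfPrecoverage A At φ)
  {P : (PicF.XT A.hom At).Modules} (hP : PicF.IsInvertible P) (hξ : AbDual.IsPoincareCl A At φ (PicF.cl P))
  {g : ℕ} (hg : topologicalKrullDim A.left = g)
  {N : A.left.Modules} (hN : CohB1.IsAmple N) {J : Type u}
  (ev : (SheafOfModules.free J : A.left.Modules) ⟶ N) [Epi ev]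

include hN in
/-- The ideal of the origin has no sections. -/
theorem finrank_HH_idealOne :
    (letI : A.left.Over (Spec (CommRingCat.of k)) := ⟨A.hom⟩;
      Module.finrank k (Coh.HH A.left (idealOne A) 0) = 0) := by
  haveI : GeometricallyIntegral A.hom := AbRigid.geometricallyIntegral_of_smooth A
  letI : A.left.Over (Spec (CommRingCat.of k)) := ⟨A.hom⟩
  haveI : ConnectedSpace A.left := GeometricallyConnected.connectedSpace_of_subsingleton A.hom
  obtain ⟨x₀, hg₀, -⟩ := VarDim.exists_dim_eq A.hom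
  have h1 : Module.finrank k (Coh.HH A.left (Coh.structureModule A.left) 0) = 1 := by
    rw [PicAV13.finrank_HH_structure A hg₀ rfl 0, Nat.choose_zero_right]
  have hS := UnitDual.shortExact_origin A
  haveI : Subsingleton (Coh.HH A.left (idealOne A) 0) := by
    refine ⟨fun x y => CurveCoh17.hmap_f_injective k hS ?_⟩
    let u := ClSub.unitToPush η[A].left
    have hu : u ≠ 0 := fun h => UnitDual.not_isZero_skyOne A (by
      haveI : Epi u := FGA3.epi_unitToPush η[A].left
      rw [IsZero.iff_id_eq_zero, ← cancel_epi u, h]; simp)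
    have hu0 : CurveCoh17.hmap k u 0 (secEquiv0 _ (𝟙 (Coh.structureModule A.left))) ≠ 0 := fun h => hu (by
      rw [← secEquiv0_comp, Category.id_comp] at h
      have h0 := secEquiv0_comp (k := k) (0 : Coh.structureModule A.left ⟶ skyOne A) (𝟙 _)
      rw [Category.id_comp, CurveCoh17.hmap_zero] at h0
      exact (secEquiv0 _).injective (h.trans h0.symm))
    have hne : secEquiv0 _ (𝟙 (Coh.structureModule A.left)) ≠ 0 := fun h => hu0 (by rw [h, map_zero])
    obtain ⟨a, ha⟩ := exists_smul_eq_of_finrank_eq_one h1 hne (CurveCoh17.hmap k (kernel.ι u) 0 x)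
    obtain ⟨b, hb⟩ := exists_smul_eq_of_finrank_eq_one h1 hne (CurveCoh17.hmap k (kernel.ι u) 0 y)
    have hx := (CurveCoh17.exact_hmap_hmap k hS 0).apply_apply_eq_zero x
    have hy := (CurveCoh17.exact_hmap_hmap k hS 0).apply_apply_eq_zero y
    change CurveCoh17.hmap k u 0 (CurveCoh17.hmap k (kernel.ι u) 0 x) = 0 at hx
    change CurveCoh17.hmap k u 0 (CurveCoh17.hmap k (kernel.ι u) 0 y) = 0 at hy
    rw [← ha, map_smul] at hx
    rw [← hb, map_smul] at hy
    show CurveCoh17.hmap k (kernel.ι u) 0 x = CurveCoh17.hmap k (kernel.ι u) 0 y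
    rw [← ha, ← hb, (smul_eq_zero.1 hx).resolve_right hu0, (smul_eq_zero.1 hy).resolve_right hu0]
  exact Module.finrank_zero_of_subsingleton

include hφ hP hξ hN ev in
/-- The ideal of the origin twisted by a globally generated ample module has no higher twisted cohomology. -/
theorem it0_idealOne_tensor (i : ℕ) (α : 𝟙_ (Over (Spec (CommRingCat.of k))) ⟶ At) (hi : 1 ≤ i) :
    W4c5cohrankabvar.hAt k P (CohB1.tensorMod (idealOne A) N) α i = 0 := by
  haveI : GeometricallyIntegral A.hom := AbRigid.geometricallyIntegral_of_smooth A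
  haveI : GeometricallyIntegral At.hom := AbRigid.geometricallyIntegral_of_smooth At
  haveI := isCommMonObj_of_isProper_of_geometricallyIntegral A
  letI : A.left.Over (Spec (CommRingCat.of k)) := ⟨A.hom⟩
  haveI : IsProper (A.left ↘ Spec (CommRingCat.of k)) := inferInstanceAs (IsProper A.hom)
  haveI : Surjective (lamOf φ (PicGrp.cls N hN.1)).left := (exists_endo hφ hN).choose_spec.2.1
  obtain ⟨a, ha⟩ := exists_point_of_surjective (lamOf φ (PicGrp.cls N hN.1)) α
  let Pα := W4c5cohrankabvar.ptLB P α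
  have hPα : PicF.IsInvertible Pα := PicLoc.isInvertible_pullback _ hP
  let M := CohB1.tensorMod N Pα
  have hM : PicF.IsInvertible M := M2.isInvertible_tensor hN.1 hPα
  let t : A ⟶ A := 𝟙 A * (toUnit A ≫ a)
  obtain ⟨et⟩ : Nonempty ((Scheme.Modules.pullback t.left).obj N ≅ M) := by
    refine FMBase13.nonempty_iso_of_cls (hL := PicLoc.isInvertible_pullback _ hN.1) (hM := hM) ?_
    rw [← RosTrace22.pb_cls t hN.1, pb_translate, ← AlgEquiv22.cls_tensor hN.1 hPα, ← FMBase13.ev_eq_cls hP hξ,
      bil_eq_ev hφ hξ, Category.assoc, ha]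
  have hMa : CohB1.IsAmple M := by
    have huv : ∀ x y : 𝟙_ (Over (Spec (CommRingCat.of k))) ⟶ A,
        y * x = 1 → (𝟙 A * (toUnit A ≫ x)) ≫ (𝟙 A * (toUnit A ≫ y)) = 𝟙 A := fun x y hxy => by
      rw [MonObj.comp_mul, Category.comp_id, ← Category.assoc, toUnit_unique (_ ≫ toUnit A) (toUnit A),
        _root_.mul_assoc, ← MonObj.comp_mul]
      have : x * y = 1 := mul_eq_one_comm.1 hxy
      rw [this, MonObj.comp_one, _root_.mul_one]
    haveI : IsIso t := ⟨𝟙 A * (toUnit A ≫ a⁻¹), huv a a⁻¹ (inv_mul_cancel a), huv a⁻¹ a (mul_inv_cancel a)⟩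
    haveI : IsIso t.left := inferInstanceAs (IsIso ((Over.forget _).map t))
    exact Amp.isAmple_of_iso et (Amp.isAmple_pullback_of_isAffineHom t.left hN)
  let S := (ShortComplex.mk (kernel.ι (ClSub.unitToPush η[A].left)) (ClSub.unitToPush η[A].left)
      (kernel.condition _)).map (M2.tensorR M)
  have hS : S.ShortExact :=
    CurveCoh17.shortExact_tensorR (UnitDual.shortExact_origin A) M fun x => Snapper.flat_stalk hM x
  obtain ⟨e3⟩ := nonempty_sky_tensor (A := A) hM
  let e2 : S.X₂ ≅ M := M2.tensorLUnit M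
  have h30 : Module.finrank k (Coh.HH A.left S.X₃ 0) = 1 :=
    ((CBC10.hmapLinEquiv k e3 0).finrank_eq).trans sky_cohomology.1
  have h3p : ∀ p : ℕ, 0 < p → Subsingleton (Coh.HH A.left S.X₃ p) := fun p hp =>
    haveI := (sky_cohomology (A := A)).2 p hp
    (CBC10.hmapLinEquiv k e3 p).toEquiv.subsingleton
  have h2p : ∀ p : ℕ, 0 < p → Subsingleton (Coh.HH A.left S.X₂ p) := fun p hp =>
    haveI : Subsingleton (Coh.HH A.left M p) := MumVan22.subsingleton_of_isAmple hMa hp
    (CBC10.hmapLinEquiv k e2 p).toEquiv.subsingleton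
  haveI := hS.epi_g
  have hg0 : Function.Surjective (CurveCoh17.hmap k S.g 0) := by
    have h3z : ¬ IsZero S.X₃ := fun h => UnitDual.not_isZero_skyOne A (h.of_iso e3.symm)
    let q : (Scheme.Modules.pullback t.left).obj (SheafOfModules.free J) ⟶ S.X₃ :=
      (Scheme.Modules.pullback t.left).map ev ≫ et.hom ≫ e2.inv ≫ S.g
    haveI : Epi ((Scheme.Modules.pullback t.left).map ev) := by
      haveI : (Scheme.Modules.pullback t.left).IsLeftAdjoint :=
        (Scheme.Modules.pullbackPushforwardAdjunction t.left).isLeftAdjoint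
      infer_instance
    have hq : q ≠ 0 := fun h => h3z (by
      rw [IsZero.iff_id_eq_zero, ← cancel_epi q, h]; simp)
    haveI : PreservesColimitsOfSize.{u, u} (Scheme.Modules.pullback t.left) :=
      (Scheme.Modules.pullbackPushforwardAdjunction t.left).leftAdjoint_preservesColimits
    obtain ⟨j, hj⟩ : ∃ j : J, (Scheme.Modules.pullback t.left).map
        (Sigma.ι (fun _ : J => Coh.structureModule A.left) j) ≫ q ≠ 0 := by
      by_contra hne
      simp only [not_exists, not_not] at hne
      exact hq (Cofan.IsColimit.hom_ext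
        (isColimitOfHasCoproductOfPreservesColimit (Scheme.Modules.pullback t.left)
          (fun _ : J => Coh.structureModule A.left)) _ _ fun j => (hne j).trans comp_zero.symm)
    let s : Coh.structureModule A.left ⟶ S.X₂ := (PicLoc.pullbackStructureIso t.left).inv ≫
      (Scheme.Modules.pullback t.left).map (Sigma.ι (fun _ : J => Coh.structureModule A.left) j) ≫
        (Scheme.Modules.pullback t.left).map ev ≫ et.hom ≫ e2.inv
    have hs : s ≫ S.g ≠ 0 := fun h => hj (by
      rw [← cancel_epi (PicLoc.pullbackStructureIso t.left).inv, comp_zero, ← h]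
      simp only [s, q, Category.assoc])
    have hne : CurveCoh17.hmap k S.g 0 (secEquiv0 _ s) ≠ 0 := fun h => hs (by
      rw [← secEquiv0_comp] at h
      have h0 := secEquiv0_comp (k := k) (0 : S.X₂ ⟶ S.X₃) s
      rw [comp_zero, CurveCoh17.hmap_zero] at h0
      exact (secEquiv0 _).injective (h.trans h0.symm))
    intro z
    obtain ⟨c, hc⟩ := exists_smul_eq_of_finrank_eq_one h30 hne z
    exact ⟨c • secEquiv0 _ s, by rw [map_smul, hc]⟩
  obtain ⟨p, rfl⟩ : ∃ p, i = p + 1 := ⟨i - 1, by omega⟩
  haveI : Subsingleton (Coh.HH A.left S.X₁ (p + 1)) := by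
    haveI := h2p (p + 1) p.succ_pos
    refine subsingleton_of_forall_eq 0 fun x => ?_
    obtain ⟨y, rfl⟩ := (CurveCoh17.exact_hdelta_hmap k hS p x).1 (Subsingleton.elim _ _)
    rcases Nat.eq_zero_or_pos p with rfl | hp
    · exact (CurveCoh17.exact_hmap_hdelta k hS 0 y).2 (hg0 y)
    · haveI := h3p p hp
      rw [Subsingleton.elim y 0, map_zero]
  exact (CBC10.hmapLinEquiv k (M2.tensorAssoc (idealOne A) N Pα) (p + 1)).finrank_eq.trans
    (Module.finrank_zero_of_subsingleton (R := k) (M := Coh.HH A.left S.X₁ (p + 1)))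

include hφ hP hξ hN ev in
/-- The transform of the twisted ideal sits in degree zero. -/
theorem isZero_fmH_idealOne_tensor (hc : Coh.IsCoh (CohB1.tensorMod (idealOne A) N)) (i : ℤ) (hi : i ≠ 0) :
    IsZero (fmH P (CohB1.tensorMod (idealOne A) N) i) := by
  haveI : IsLocallyNoetherian A.left := LocallyOfFiniteType.isLocallyNoetherian A.hom
  haveI : IsLocallyNoetherian At.left := LocallyOfFiniteType.isLocallyNoetherian At.hom
  rcases lt_or_ge i 0 with h | h
  · haveI : CompactSpace A.left := QuasiCompact.compactSpace_of_compactSpace A.hom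
    haveI : IsProper (snd A At).left := isProper_snd
    haveI : IsLocallyNoetherian (A ⊗ At).left := LocallyOfFiniteType.isLocallyNoetherian (snd A At).left
    haveI : CompactSpace At.left := QuasiCompact.compactSpace_of_compactSpace At.hom
    haveI : AlgebraicGeometry.IsNoetherian At.left := {}
    haveI : HasInjectiveResolutions (A ⊗ At).left.Modules := CohFound.hasInjectiveResolutions_modules _
    exact (nonempty_fmH_rpush hP _).2 i h
  · obtain ⟨q, rfl⟩ := Int.eq_ofNat_of_zero_le h
    exact SerreCl8.isZero_of_support_eq_empty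
      ((it0_iff hP hc).1 (fun i α hi => it0_idealOne_tensor hφ hP hξ hN ev i α hi) q (by omega))

variable (hev : Function.Bijective (Sheaf.H.map ((SheafOfModules.toSheaf A.left.ringCatSheaf).map ev) 0))
  {N' : A.left.Modules} (hNN' : Nonempty (CohB1.tensorMod N N' ≅ Coh.structureModule A.left))

include hφ hP hξ hg hN hev hNN' in
/-- The twisted ideal transforms to the kernel of evaluation. -/
theorem nonempty_transform_syzygy (f : A ⟶ At) (hf : f = lamOf φ (PicGrp.cls N hN.1)) :
    Coh.IsCoh (CohB1.tensorMod (idealOne A) N) ∧ Nonempty ((Scheme.Modules.pullback f.left).obj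
        (fmH P (CohB1.tensorMod (idealOne A) N) (0 : ℤ)) ≅ CohB1.tensorMod (kernel ev) N') := by
  haveI : GeometricallyIntegral A.hom := AbRigid.geometricallyIntegral_of_smooth A
  haveI : GeometricallyIntegral At.hom := AbRigid.geometricallyIntegral_of_smooth At
  haveI : AlgebraicGeometry.IsIntegral At.left := GeometricallyIntegral.isIntegral_of_subsingleton At.hom
  haveI := isCommMonObj_of_isProper_of_geometricallyIntegral A
  haveI : IsLocallyNoetherian A.left := LocallyOfFiniteType.isLocallyNoetherian A.hom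
  haveI : CompactSpace A.left := QuasiCompact.compactSpace_of_compactSpace A.hom
  letI : A.left.Over (Spec (CommRingCat.of k)) := ⟨A.hom⟩
  haveI : IsProper (A.left ↘ Spec (CommRingCat.of k)) := inferInstanceAs (IsProper A.hom)
  haveI : IsClosedImmersion η[A].left := isClosedImmersion_of_comp_eq_id A.hom η[A].left (Over.w η[A])
  have hN' := isInvertible_of_ample_inverse hN.1 hNN'
  let M := CohB1.tensorPow N 1
  have hM : PicF.IsInvertible M := M2.isInvertible_tensorPow hN.1 1
  have hMa : CohB1.IsAmple M := (Amp.isAmple_tensorPow_iff hN.1 Nat.one_pos).2 hN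
  let eM : M ≅ N := M2.tensorLUnit N
  let S := (ShortComplex.mk (kernel.ι (ClSub.unitToPush η[A].left)) (ClSub.unitToPush η[A].left)
      (kernel.condition _)).map (M2.tensorR M)
  have hS : S.ShortExact :=
    CurveCoh17.shortExact_tensorR (UnitDual.shortExact_origin A) M fun x => Snapper.flat_stalk hM x
  obtain ⟨e3⟩ := nonempty_sky_tensor (A := A) hM
  have hskyc : Coh.IsCoh (skyOne A) :=
    CohFound.isCoh_push_closedImm η[A].left (CubeField.isCoh_of_isInvertible (PicLoc.isInvertible_structureModule _))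
  have hIc : Coh.IsCoh (idealOne A) :=
    M1.isCoh_kernel (CubeField.isCoh_of_isInvertible (PicLoc.isInvertible_structureModule A.left)) hskyc.1 _
  have hGM : Coh.IsCoh S.X₁ := CohFound.isCoh_tensor hIc (CubeField.isCoh_of_isInvertible hM)
  have hGN : Coh.IsCoh (CohB1.tensorMod (idealOne A) N) :=
    CohFound.isCoh_tensor hIc (CubeField.isCoh_of_isInvertible hN.1)
  refine ⟨hGN, ?_⟩
  let eG : S.X₁ ≅ CohB1.tensorMod (idealOne A) N := M2.tensorIso (Iso.refl _) eM
  let Φ := phiK (fst A At).left (snd A At).left P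
  obtain ⟨hΦs, hΦt⟩ := exists_triangulated_phiK (fst A At).left (snd A At).left hP
  letI := hΦs
  haveI := hΦt
  have hc0 : ∀ i : ℤ, i ≠ 0 → IsZero (fmH P S.X₁ i) := fun i hi =>
    (isZero_fmH_idealOne_tensor hφ hP hξ hN ev hGN i hi).of_iso ((DerivedCategory.homologyFunctor _ i).mapIso
      (Φ.mapIso ((DerivedCategory.singleFunctor A.left.Modules 0).mapIso eG)))
  -- the transformed sequence
  obtain ⟨tK⟩ := UnitDual.nonempty_transform_origin hφ hP hξ hg
  let T : Triangle (DCoh.D At.left) := Φ.mapTriangle.obj hS.singleTriangle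
  have hT : T ∈ distTriang _ := Φ.map_distinguished _ hS.singleTriangle_distinguished
  let eT3 : T.obj₃ ≅ DCoh.inD At.left (Coh.structureModule At.left) :=
    Φ.mapIso ((DerivedCategory.singleFunctor A.left.Modules 0).mapIso e3) ≪≫ tK
  haveI hmono : Mono ((DerivedCategory.homologyFunctor At.left.Modules 0).map T.mor₁) := by
    refine (DerivedCategory.HomologySequence.mono_homologyMap_mor₁_iff T hT (-1) 0 (by omega)).2 (IsZero.eq_of_src ?_ _ _)
    exact (DerivedCategory.isZero_of_isGE (DCoh.inD At.left (Coh.structureModule At.left)) 0 (-1) (by omega)).of_iso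
      ((DerivedCategory.homologyFunctor _ (-1)).mapIso eT3)
  haveI hepi : Epi ((DerivedCategory.homologyFunctor At.left.Modules 0).map T.mor₂) :=
    (DerivedCategory.HomologySequence.epi_homologyMap_mor₂_iff T hT 0 1 (by omega)).2
      ((hc0 1 one_ne_zero).eq_of_tgt _ _)
  let C := ShortComplex.mk ((DerivedCategory.homologyFunctor At.left.Modules 0).map T.mor₁)
    ((DerivedCategory.homologyFunctor At.left.Modules 0).map T.mor₂)
    (by rw [← Functor.map_comp, comp_distTriang_mor_zero₁₂ _ hT, Functor.map_zero])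
  have hC : C.ShortExact :=
    { exact := DerivedCategory.HomologySequence.exact₂ T hT 0, mono_f := hmono, epi_g := hepi }
  haveI : IsMonHom f := hf ▸ isMonHom_lamOf hφ _
  haveI : IsFinite f.left := hf ▸ isFinite_lamOf hφ hN
  haveI : Surjective f.left := hf ▸ (exists_endo hφ hN).choose_spec.2.1
  haveI : Flat f.left := AbRigid.flat_of_surjective A At f
  let Sf := (C.map (Scheme.Modules.pullback f.left)).map (M2.tensorR M)
  have hSf : Sf.ShortExact :=
    CurveCoh17.shortExact_tensorR (PP13.shortExact_pullback f.left hC) M fun x => Snapper.flat_stalk hM x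
  -- the middle term is free
  let h : A ⟶ A := (𝟙 A) ^ 1
  have hh1 : h.left = 𝟙 A.left := by rw [show h = 𝟙 A from pow_one _]; rfl
  haveI : IsIso h.left := by rw [hh1]; infer_instance
  obtain ⟨hz, r, ⟨eW⟩, hr⟩ := exists_positive_transform hφ hP hξ hN hNN' Nat.one_pos f hf h rfl
  let W := DCoh.HD ((lP f.left).obj (Φ.obj ((DerivedCategory.singleFunctor A.left.Modules 0).obj M))) (0 : ℤ)
  let eW' : W ≅ CohB1.tensorMod (FlatMod.freeMod A.left r) (CohB1.tensorPow N' 1) :=
    ((Scheme.Modules.pullbackId _).app W).symm ≪≫ (Scheme.Modules.pullbackCongr hh1.symm).app W ≪≫ eW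
  obtain ⟨aW⟩ := nonempty_HD_lP_flat f.left (Φ.obj ((DerivedCategory.singleFunctor A.left.Modules 0).obj M)) 0
  obtain ⟨uM⟩ := nonempty_tensorPow_inverse hNN' 1
  let eF : ∀ F : A.left.Modules, CohB1.tensorMod (CohB1.tensorMod F (CohB1.tensorPow N' 1)) M ≅ F := fun F =>
    M2.tensorAssoc _ _ _ ≪≫ M2.tensorIso (Iso.refl _) (M2.tensorComm _ _ ≪≫ uM) ≪≫ M2.tensorRUnit F
  let i2 : Sf.X₂ ≅ FlatMod.freeMod A.left r :=
    M2.tensorIso ((Scheme.Modules.pullback f.left).mapIso ((DerivedCategory.homologyFunctor _ 0).mapIso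
      (Φ.mapIso ((DerivedCategory.singleFunctor A.left.Modules 0).mapIso (M2.tensorLUnit M)))) ≪≫ aW.symm ≪≫ eW')
      (Iso.refl M) ≪≫ eF _
  let i3 : Sf.X₃ ≅ N :=
    M2.tensorIso ((Scheme.Modules.pullback f.left).mapIso ((DerivedCategory.homologyFunctor _ 0).mapIso eT3 ≪≫
      (DerivedCategory.singleFunctorCompHomologyFunctorIso At.left.Modules 0).app _) ≪≫ PicLoc.pullbackStructureIso _)
      (Iso.refl M) ≪≫ M2.tensorLUnit M ≪≫ eM
  let ev' : FlatMod.freeMod A.left r ⟶ N := i2.inv ≫ Sf.g ≫ i3.hom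
  haveI := hSf.mono_f
  haveI := hSf.epi_g
  let eK : kernel ev' ≅ Sf.X₁ := kernelIsIsoComp i2.inv _ ≪≫ kernelCompMono Sf.g i3.hom ≪≫
    (kernelIsKernel Sf.g).conePointUniqueUpToIso hSf.fIsKernel
  -- no sections in the kernel
  have hWf : FlatMod.IsFinLocFree W := M2.isFinLocFree_of_iso eW'.symm
    (M2.isFinLocFree_tensor (KFlat.Sch.isFinLocFree_freeMod _ r)
      (M2.isFinLocFree_of_isInvertible (M2.isInvertible_tensorPow hN' 1)))
  have hH0 : Module.finrank k (Coh.HH A.left Sf.X₁ 0) = 0 := by
    refine (finrank_exchange_conc hφ hP hξ hN hNN' hGM f hf hz hWf hc0 0).symm.trans ?_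
    let e : CohB1.tensorMod S.X₁ W ≅ ⨁ fun _ : Fin r => idealOne A :=
      M2.tensorIso (Iso.refl _) eW' ≪≫ (M2.tensorAssoc _ _ _).symm ≪≫
        M2.tensorIso (M2.tensorAssoc _ _ _ ≪≫ M2.tensorIso (Iso.refl _) (M2.tensorComm _ _) ≪≫
          (M2.tensorAssoc _ _ _).symm) (Iso.refl _) ≪≫ M2.tensorAssoc _ _ _ ≪≫
        M2.tensorIso (M2.tensorComm _ _) uM ≪≫ M2.tensorRUnit _ ≪≫
        PreservesCoproduct.iso (M2.tensorR (idealOne A)) _ ≪≫
        (Sigma.mapIso fun _ => M2.tensorLUnit _) ≪≫ (biproduct.isoCoproduct _).symm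
    haveI := CohFound.finite_HH_of_isProper (A := k) _ hIc 0
    rw [show CohB1.tensorMod S.X₁ W = CohB1.tensorMod S.X₁ W from rfl]
    refine ((CBC10.hmapLinEquiv k e 0).finrank_eq).trans ?_
    rw [finrank_HH_biproduct_const, finrank_HH_idealOne hN, mul_zero]
  have hSfc : Coh.IsCoh Sf.X₁ :=
    CohFound.isCoh_tensor (M1.isCoh_pullback _ (isCoh_fmH hP hGM 0)) (CubeField.isCoh_of_isInvertible hM)
  haveI := CohFound.finite_HH_of_isProper (A := k) _ hSfc 0
  haveI : Subsingleton (Coh.HH A.left Sf.X₁ 0) := Module.finrank_zero_iff.1 hH0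
  haveI : Subsingleton (Coh.HH A.left (kernel ev') 0) := (CBC10.hmapLinEquiv k eK 0).toEquiv.subsingleton
  -- bijectivity on sections
  have hinj : Function.Injective (CurveCoh17.hmap k ev' 0) := by
    refine (injective_iff_map_eq_zero _).2 fun x hx => ?_
    have hK : (ShortComplex.mk (kernel.ι ev') ev' (kernel.condition _)).ShortExact :=
      { exact := ShortComplex.exact_of_f_is_kernel _ (kernelIsKernel ev') }
    obtain ⟨y, rfl⟩ := (CurveCoh17.exact_hmap_hmap k hK 0 x).1 hx
    rw [Subsingleton.elim y 0, map_zero]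
  have hfree : Module.finrank k (Coh.HH A.left (FlatMod.freeMod A.left r) 0) = r := by
    haveI : ConnectedSpace A.left := GeometricallyConnected.connectedSpace_of_subsingleton A.hom
    obtain ⟨x₀, hg₀, -⟩ := VarDim.exists_dim_eq A.hom
    haveI := CohFound.finite_HH_of_isProper (A := k) _
      (CubeField.isCoh_of_isInvertible (PicLoc.isInvertible_structureModule A.left)) 0
    rw [(CBC10.hmapLinEquiv k (biproduct.isoCoproduct fun _ : Fin r => Coh.structureModule A.left).symm 0).finrank_eq,
      finrank_HH_biproduct_const, PicAV13.finrank_HH_structure A hg₀ rfl 0, Nat.choose_zero_right, mul_one]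
  have hNr : Module.finrank k (Coh.HH A.left N 0) = r := (CBC10.hmapLinEquiv k eM 0).finrank_eq.symm.trans hr.symm
  haveI := CohFound.finite_HH_of_isProper (A := k) _ (CubeField.isCoh_of_isInvertible hN.1) 0
  haveI := CohFound.finite_HH_of_isProper (A := k) _
    (CohFound.isCoh_of_isFinLocFree (KFlat.Sch.isFinLocFree_freeMod A.left r)) 0
  have hbij : Function.Bijective (CurveCoh17.hmap k ev' 0) :=
    ⟨hinj, (LinearMap.injective_iff_surjective_of_finrank_eq_finrank (hfree.trans hNr.symm)).1 hinj⟩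
  obtain ⟨κ⟩ := nonempty_kernel_iso_of_bijective ev ev' (bijective_comp_of_hmap (k := k) ev hev)
    (bijective_comp_of_hmap (k := k) ev' hbij)
  let eback : ∀ F : A.left.Modules, CohB1.tensorMod (CohB1.tensorMod F M) (CohB1.tensorPow N' 1) ≅ F := fun F =>
    M2.tensorAssoc _ _ _ ≪≫ M2.tensorIso (Iso.refl _) uM ≪≫ M2.tensorRUnit F
  exact ⟨(Scheme.Modules.pullback f.left).mapIso ((DerivedCategory.homologyFunctor _ 0).mapIso
      (Φ.mapIso ((DerivedCategory.singleFunctor A.left.Modules 0).mapIso eG.symm))) ≪≫ (eback _).symm ≪≫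
    M2.tensorIso (eK.symm ≪≫ κ.symm) (M2.tensorLUnit N')⟩

end Groth.Agent.FMHyp13

end
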