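import Groth.Agent.Lib.FMHyp13.DualPush
import Groth.Agent.Lib.RHom.Devissage
import Groth.Agent.Lib.DPerf.Noeth

/-!
# The dual of the kernel of a surjection onto a module with concentrated dual
-/

set_option autoImplicit false
set_option linter.style.haveILetI false
set_option linter.unusedSectionVars false
set_option backward.isDefEq.respectTransparency false
set_option backward.isDefEq.respectTransparency.types false
set_option maxHeartbeats 1600000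

universe u

open CategoryTheory CategoryTheory.Limits MonoidalCategory AlgebraicGeometry Pretriangulated
open scoped Groth.Agent.RHom

attribute [local instance] HasDerivedCategory.standard

noncomputable section

namespace Groth.Agent.FMHyp13.KernelDual

open DMon9 DBC9 TwistBC9 FMAdj9

variable {X : Scheme.{u}}

/-- The functor of a shifted object with the adjoint. -/
theorem nonempty_tRDAdj_shift (K D : DM X) [ExactPairing K D] (n : ℤ) (Kn : DM X)
    (e : @Iso (DCoh.D X) _ Kn ((shiftFunctor (DCoh.D X) n).obj K)) :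
    Nonempty (tRD Kn ⊣ shiftFunctor (DCoh.D X) (-n) ⋙ tRD D) := by
  obtain ⟨s⟩ := FMBase13.nonempty_shift_tensor (X := X) (-n)
  rw [neg_neg] at s
  let c : (K ⊗ oneM X (-n) : DM X) ≅ Kn := (s.app _ ≪≫ e.symm :)
  let eL : tRD K ⋙ shiftFunctor (DCoh.D X) n ≅ tRD Kn :=
    Functor.isoWhiskerLeft _ s.symm ≪≫ tRDComp K (oneM X (-n)) ≪≫ tRDMap c
  exact ⟨((tRDAdj K D).comp (shiftEquiv (DCoh.D X) n).toAdjunction).ofNatIsoLeft eL⟩

/-- The dual of a shift. -/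
theorem nonempty_rhom_shift (K D : DM X) [ExactPairing K D] (n : ℤ) (E : CochainComplex X.Modules ℤ)
    [DCoh.HasLTensorCx E] [DCoh.HasRSheafHom E]
    (e : @Iso (DCoh.D X) _ (DCoh.toD X E) ((shiftFunctor (DCoh.D X) n).obj K)) :
    Nonempty ((DCoh.RSheafHom E).obj (DCoh.inD X (Coh.structureModule X)) ≅
      (shiftFunctor (DCoh.D X) (-n)).obj D) := by
  let Kn : DM X := DCoh.toD X E
  obtain ⟨A⟩ := nonempty_tRDAdj_shift K D n Kn e
  obtain ⟨t⟩ := nonempty_ltIso E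
  let oA : DM X := DCoh.inD X (Coh.structureModule X)
  obtain ⟨t'⟩ := DualPush.nonempty_shift_tRD (-n) oA D
  exact ⟨(((DCoh.RSheafHomAdj E).rightAdjointUniq (A.ofNatIsoLeft t.symm))).app _ ≪≫ t' ≪≫
    (shiftFunctor (DCoh.D X) (-n)).mapIso
      ((whiskerRightIso (C := DM X) (DualPush.oneIso : oA ≅ 𝟙_ _) D ≪≫ λ_ D :))⟩

/-- A module placed in one degree. -/
theorem isZero_HD_inD_shift (T : X.Modules) (n p : ℤ) (h : p + n ≠ 0) :
    IsZero (DCoh.HD ((shiftFunctor (DCoh.D X) n).obj (DCoh.inD X T)) p) := by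
  refine IsZero.of_iso ?_ (((DerivedCategory.homologyFunctor X.Modules 0).shiftIso n p (p + n) (by omega)).app _)
  rcases lt_or_gt_of_ne h with h' | h'
  · exact DerivedCategory.isZero_of_isGE ((DerivedCategory.singleFunctor X.Modules 0).obj T) 0 _ h'
  · exact DerivedCategory.isZero_of_isLE ((DerivedCategory.singleFunctor X.Modules 0).obj T) 0 _ h'

/-- The cohomology in the degree of a shifted module. -/
theorem nonempty_HD_inD_shift (T : X.Modules) (n p : ℤ) (h : p + n = 0) :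
    Nonempty (DCoh.HD ((shiftFunctor (DCoh.D X) n).obj (DCoh.inD X T)) p ≅ T) :=
  ⟨((DerivedCategory.homologyFunctor X.Modules 0).shiftIso n p 0 (by omega)).app _ ≪≫
    (DerivedCategory.singleFunctorCompHomologyFunctorIso X.Modules 0).app T⟩

/-- The right end of an exact sequence ending in an epimorphism. -/
def cokIso (S : ShortComplex X.Modules) (hS : S.Exact) (h : Epi S.g) : S.X₃ ≅ cokernel S.f :=
  haveI := h
  hS.gIsCokernel.coconePointUniqueUpToIso (colimit.isColimit _)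

/-- The dual of the kernel of `O → T`, `T` with dual in one degree `g ≥ 1`. -/
theorem exists_triangle {S : ShortComplex X.Modules} (hS : S.ShortExact) (e₂ : S.X₂ ≅ Coh.structureModule X)
    (K₀ D₀ : DM X) [ExactPairing K₀ D₀] (eK : @Iso (DCoh.D X) _ K₀ (DCoh.inD X S.X₃))
    (g : ℕ) (hg : 1 ≤ g) (eD : @Iso (DCoh.D X) _ D₀ ((shiftFunctor (DCoh.D X) (-(g : ℤ))).obj (DCoh.inD X S.X₃)))
    (KI DI : DM X) [ExactPairing KI DI] (eI : @Iso (DCoh.D X) _ KI (DCoh.inD X S.X₁)) :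
    ∃ T : Triangle (DCoh.D X), T ∈ distTriang _ ∧
      Nonempty (T.obj₁ ≅ DCoh.inD X (Coh.structureModule X)) ∧ Nonempty (@Iso (DCoh.D X) _ T.obj₂ DI) ∧
      Nonempty (T.obj₃ ≅ (shiftFunctor (DCoh.D X) (-((g : ℤ) - 1))).obj (DCoh.inD X S.X₃)) ∧
      (¬ IsZero S.X₃ → T.mor₃ ≠ 0) := by
  let T₀ := hS.singleTriangle.invRotate.invRotate
  have hT₀ : T₀ ∈ distTriang _ :=
    inv_rot_of_distTriang _ (inv_rot_of_distTriang _ hS.singleTriangle_distinguished)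
  obtain ⟨K, L, f, ⟨e⟩⟩ := (DerivedCategory.mem_distTriang_iff T₀).1 hT₀
  let oX : DM X := DCoh.inD X (Coh.structureModule X)
  let eO : @Iso (DCoh.D X) _ oX (DCoh.inD X S.X₂) := (DerivedCategory.singleFunctor X.Modules 0).mapIso e₂.symm
  let eu : @Iso (DCoh.D X) _ (𝟙_ (DM X) : DM X) (DCoh.inD X S.X₂) := (DualPush.oneIso.symm :) ≪≫ eO
  let gg := CochainComplex.mappingCone.inr f
  let hh := CochainComplex.mappingCone.inr gg
  let kk := CochainComplex.mappingCone.inr hh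
  obtain ⟨eM⟩ := RHom.nonempty_cone_inr_iso f
  obtain ⟨eN⟩ := RHom.nonempty_cone_inr_iso gg
  let sh := fun (n : ℤ) => shiftFunctor (DCoh.D X) n
  let eKc : DCoh.toD X K ≅ (sh (-1 : ℤ)).obj (𝟙_ (DM X) : DM X) :=
    (Triangle.π₁.mapIso e).symm ≪≫ (sh (-1 : ℤ)).mapIso eu.symm
  let eLc : DCoh.toD X L ≅ (sh (-1 : ℤ)).obj K₀ :=
    (Triangle.π₂.mapIso e).symm ≪≫ (sh (-1 : ℤ)).mapIso eK.symm
  let eMc : DCoh.toD X (CochainComplex.mappingCone f) ≅ (sh 0).obj KI :=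
    (Triangle.π₃.mapIso e).symm ≪≫ eI.symm ≪≫ ((shiftFunctorZero (DCoh.D X) ℤ).app _).symm
  let eNc : DCoh.toD X (CochainComplex.mappingCone gg) ≅ (sh 0).obj (𝟙_ (DM X) : DM X) :=
    eM ≪≫ (sh 1).mapIso eKc ≪≫ (shiftFunctorCompIsoId (DCoh.D X) (-1 : ℤ) 1 (by omega)).app _ ≪≫
      ((shiftFunctorZero (DCoh.D X) ℤ).app _).symm
  let ePc : DCoh.toD X (CochainComplex.mappingCone hh) ≅ (sh 0).obj K₀ :=
    eN ≪≫ (sh 1).mapIso eLc ≪≫ (shiftFunctorCompIsoId (DCoh.D X) (-1 : ℤ) 1 (by omega)).app _ ≪≫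
      ((shiftFunctorZero (DCoh.D X) ℤ).app _).symm
  obtain ⟨rK⟩ := nonempty_rhom_shift (𝟙_ (DM X)) (𝟙_ (DM X)) (-1) K eKc
  obtain ⟨rL⟩ := nonempty_rhom_shift K₀ D₀ (-1) L eLc
  obtain ⟨rM⟩ := nonempty_rhom_shift KI DI 0 _ eMc
  obtain ⟨rN⟩ := nonempty_rhom_shift (𝟙_ (DM X)) (𝟙_ (DM X)) 0 _ eNc
  obtain ⟨rP⟩ := nonempty_rhom_shift K₀ D₀ 0 _ ePc
  let Y := DCoh.inD X (Coh.structureModule X)
  let H := fun p => DerivedCategory.homologyFunctor X.Modules p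
  let a := (RHom.rhomMap kk).app Y
  let b := (RHom.rhomMap hh).app Y
  let c := (RHom.rhomMap gg).app Y
  let d := (RHom.rhomMap f).app Y
  let z := fun (n : ℤ) (hn : -n = (0 : ℤ)) (G : DCoh.D X) =>
    (shiftFunctorZero' (DCoh.D X) (-n) hn).app G
  let rM' : (DCoh.RSheafHom (CochainComplex.mappingCone f)).obj Y ≅ (DI : DCoh.D X) := rM ≪≫ z 0 neg_zero _
  let rN' : (DCoh.RSheafHom (CochainComplex.mappingCone gg)).obj Y ≅ oX :=
    rN ≪≫ z 0 neg_zero _ ≪≫ (DualPush.oneIso.symm :)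
  let rP' : (DCoh.RSheafHom (CochainComplex.mappingCone hh)).obj Y ≅
      (sh (-(g : ℤ))).obj (DCoh.inD X S.X₃) := rP ≪≫ z 0 neg_zero _ ≪≫ eD
  let rL' : (DCoh.RSheafHom L).obj Y ≅ (sh (-((g : ℤ) - 1))).obj (DCoh.inD X S.X₃) :=
    rL ≪≫ (sh (-(-1 : ℤ))).mapIso eD ≪≫
      ((shiftFunctorAdd' (DCoh.D X) (-(g : ℤ)) (-(-1 : ℤ)) (-((g : ℤ) - 1)) (by omega)).app _).symm
  let rK' : (DCoh.RSheafHom K).obj Y ≅ (sh (-(-1 : ℤ))).obj oX := rK ≪≫ (sh (-(-1 : ℤ))).mapIso (DualPush.oneIso.symm :)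
  have hbm : ∀ p, Mono ((H p).map b) := fun p => by
    rcases eq_or_ne p (g : ℤ) with rfl | hp
    · refine IsZero.mono ?_ _
      exact (isZero_HD_inD_shift (Coh.structureModule X) 0 (g : ℤ) (by omega)).of_iso
        ((H (g : ℤ)).mapIso (rN' ≪≫ ((shiftFunctorZero (DCoh.D X) ℤ).app _).symm))
    · refine (RHom.exact_homology_of_homExact a b (RHom.rhomMap_inr_comp hh Y)
        (fun t ht => RHom.rhom_exact_cone hh t ht) p).mono_g ?_
      exact ((isZero_HD_inD_shift S.X₃ (-(g : ℤ)) p (by omega)).of_iso ((H p).mapIso rP')).eq_of_src _ _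
  have hce : ∀ p, Epi ((H p).map c) := fun p => by
    rcases eq_or_ne p (-1 : ℤ) with rfl | hp
    · refine IsZero.epi ?_ _
      exact (isZero_HD_inD_shift S.X₃ (-((g : ℤ) - 1)) (-1) (by omega)).of_iso ((H (-1)).mapIso rL')
    · refine (RHom.exact_homology_of_homExact c d (RHom.rhomMap_inr_comp f Y)
        (fun t ht => RHom.rhom_exact_cone f t ht) p).epi_f ?_
      exact ((isZero_HD_inD_shift (Coh.structureModule X) (-(-1 : ℤ)) p (by omega)).of_iso ((H p).mapIso rK')).eq_of_tgt _ _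
  -- the cone of the map from the structure sheaf
  let oXd : DCoh.D X := oX
  let DId : DCoh.D X := DI
  let i : oXd ⟶ DId := rN'.inv ≫ b ≫ rM'.hom
  obtain ⟨C, q, δ, hT⟩ := distinguished_cocone_triangle i
  have him : ∀ p, Mono ((H p).map i) := fun p => by
    haveI := hbm p
    simp only [i, Functor.map_comp]
    infer_instance
  have hC : ∀ p, Nonempty (DCoh.HD C p ≅ DCoh.HD ((sh (-((g : ℤ) - 1))).obj (DCoh.inD X S.X₃)) p) := fun p => by
    haveI := him (p + 1)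
    haveI := hce p
    have h2 := DerivedCategory.HomologySequence.exact₂ (Triangle.mk i q δ) hT p
    have hzero : DerivedCategory.HomologySequence.δ (Triangle.mk i q δ) p (p + 1) rfl = 0 := by
      rw [← cancel_mono ((H (p + 1)).map i), zero_comp]
      exact DerivedCategory.HomologySequence.δ_comp (Triangle.mk i q δ) hT p (p + 1) rfl
    haveI : Epi ((H p).map q) :=
      (DerivedCategory.HomologySequence.exact₃ (Triangle.mk i q δ) hT p (p + 1) rfl).epi_f hzero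
    have h2' := RHom.exact_homology_of_homExact b c (RHom.rhomMap_inr_comp gg Y)
      (fun t ht => RHom.rhom_exact_cone gg t ht) p
    exact ⟨cokIso _ h2 ‹Epi ((H p).map q)› ≪≫
      cokernel.mapIso ((H p).map i) ((H p).map b) ((H p).mapIso rN'.symm) ((H p).mapIso rM'.symm)
        (by simp [i, ← Functor.map_comp]) ≪≫
      (cokIso _ h2' (hce p)).symm ≪≫ (H p).mapIso rL'⟩
  have hz : ∀ p : ℤ, p ≠ (g : ℤ) - 1 → IsZero (DCoh.HD C p) := fun p hp =>
    (isZero_HD_inD_shift S.X₃ (-((g : ℤ) - 1)) p (by omega)).of_iso (hC p).some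
  haveI : C.IsGE ((g : ℤ) - 1) := (DerivedCategory.isGE_iff _ _).2 fun p hp => hz p (by omega)
  haveI : C.IsLE ((g : ℤ) - 1) := (DerivedCategory.isLE_iff _ _).2 fun p hp => hz p (by omega)
  obtain ⟨W, ⟨eW⟩, ⟨eW'⟩⟩ := DPerf.exists_single_of_concentrated (K := C) ((g : ℤ) - 1)
  let eT : W ≅ S.X₃ := eW' ≪≫ (hC _).some ≪≫
    ((DerivedCategory.homologyFunctor X.Modules 0).shiftIso (-((g : ℤ) - 1)) ((g : ℤ) - 1) 0 (by omega)).app _ ≪≫
      (DerivedCategory.singleFunctorCompHomologyFunctorIso X.Modules 0).app S.X₃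
  let eC : C ≅ (sh (-((g : ℤ) - 1))).obj (DCoh.inD X S.X₃) :=
    ((shiftFunctorCompIsoId (DCoh.D X) ((g : ℤ) - 1) (-((g : ℤ) - 1)) (by omega)).app C).symm ≪≫
      (sh (-((g : ℤ) - 1))).mapIso (eW ≪≫ (DerivedCategory.singleFunctor X.Modules 0).mapIso eT)
  refine ⟨Triangle.mk i q δ, hT, ⟨Iso.refl _⟩, ⟨Iso.refl _⟩, ⟨eC⟩, fun hne h0 => ?_⟩
  -- a section would make a shift of `T` a retract of the kernel
  obtain ⟨s, hs⟩ := Triangle.coyoneda_exact₃ (Triangle.mk i q δ) hT (𝟙 C) ((Category.id_comp _).trans h0)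
  let K1 : DM X := (sh (-1 : ℤ)).obj (DCoh.inD X S.X₃)
  obtain ⟨A₁⟩ := nonempty_tRDAdj_shift K₀ D₀ (-1) K1 ((sh (-1 : ℤ)).mapIso eK.symm)
  obtain ⟨sv⟩ := FMBase13.nonempty_shift_tensor (X := X) (-1)
  let W₁ : DM X := oneM X (-1) ⊗ D₀
  let R₁ : shiftFunctor (DCoh.D X) (-(-1 : ℤ)) ⋙ tRD D₀ ≅ tRD W₁ :=
    Functor.isoWhiskerRight sv.symm _ ≪≫ tRDComp (oneM X (-1)) D₀
  obtain ⟨t⟩ := DualPush.nonempty_shift_tRD (-(-1 : ℤ)) (𝟙_ (DM X)) D₀
  let o1 : @Iso (DCoh.D X) _ (oneM X (-1)) ((sh (-(-1 : ℤ))).obj (𝟙_ (DM X) : DM X)) :=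
    ((λ_ (oneM X (-1))).symm :) ≪≫ sv.app _
  let w : @Iso (DCoh.D X) _ W₁ C := (tRD D₀).mapIso o1 ≪≫ t ≪≫
    (sh (-(-1 : ℤ))).mapIso ((λ_ D₀ :) ≪≫ eD) ≪≫
    ((shiftFunctorAdd' (DCoh.D X) (-(g : ℤ)) (-(-1 : ℤ)) (-((g : ℤ) - 1)) (by omega)).app _).symm ≪≫ eC.symm
  let sD : W₁ ⟶ DI := (w.hom ≫ s :)
  let qD : DI ⟶ W₁ := (q ≫ w.inv :)
  have hsq : sD ≫ qD = 𝟙 W₁ := by
    show (w.hom ≫ s) ≫ q ≫ w.inv = 𝟙 _
    rw [Category.assoc, ← Category.assoc s q w.inv]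
    erw [← hs, Category.id_comp, Iso.hom_inv_id]
  let adjI := tRDAdj KI DI
  let adj1 := A₁.ofNatIsoRight R₁
  let ns : tRD W₁ ⟶ tRD DI := (MonoidalCategory.tensoringRight (DM X)).map sD
  let nq : tRD DI ⟶ tRD W₁ := (MonoidalCategory.tensoringRight (DM X)).map qD
  have hn : ns ≫ nq = 𝟙 _ := by
    show (MonoidalCategory.tensoringRight (DM X)).map sD ≫ (MonoidalCategory.tensoringRight (DM X)).map qD = _
    rw [← Functor.map_comp, hsq]
    exact CategoryTheory.Functor.map_id _ _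
  have hr : (conjugateEquiv adjI adj1).symm nq ≫ (conjugateEquiv adj1 adjI).symm ns = 𝟙 (tRD K1) :=
    conjugateEquiv_symm_comm adj1 adjI hn
  have hzI : IsZero ((H 1).obj ((tRD KI).obj (𝟙_ (DM X) : DM X))) :=
    (isZero_HD_inD_shift S.X₁ 0 1 (by omega)).of_iso
      ((H 1).mapIso ((λ_ KI :) ≪≫ eI ≪≫ ((shiftFunctorZero (DCoh.D X) ℤ).app _).symm))
  have hzK : IsZero ((H 1).obj ((tRD K1).obj (𝟙_ (DM X) : DM X))) := by
    rw [IsZero.iff_id_eq_zero, ← CategoryTheory.Functor.map_id, ← NatTrans.id_app, ← hr, NatTrans.comp_app,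
      Functor.map_comp, hzI.eq_of_tgt ((H 1).map (((conjugateEquiv adjI adj1).symm nq).app (𝟙_ (DM X) : DM X))) 0,
      zero_comp]
  obtain ⟨a1⟩ := nonempty_HD_inD_shift S.X₃ (-1) 1 (by omega)
  exact hne (hzK.of_iso (a1.symm ≪≫ (H 1).mapIso ((λ_ K1).symm :)))

end Groth.Agent.FMHyp13.KernelDual

end
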