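import Groth.Agent.Lib.FMHyp13.UnitDual
import Groth.Agent.Lib.FMHyp13.KernelDual
import Groth.Agent.Lib.FMHyp13.HyperSupp
import Groth.Agent.Lib.FGA3.FormalTriv
import Groth.Agent.Lib.SmoothReg17.Basic

/-!
# The derived dual of the ideal of the origin
-/

set_option autoImplicit false
set_option linter.style.haveILetI false
set_option linter.unusedSectionVars false
set_option backward.isDefEq.respectTransparency false
set_option backward.isDefEq.respectTransparency.types false
set_option maxHeartbeats 1600000

universe u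

open CategoryTheory CategoryTheory.Limits MonoidalCategory CartesianMonoidalCategory AlgebraicGeometry Pretriangulated
open scoped MonObj GrpObj

attribute [local instance] HasDerivedCategory.standard

noncomputable section

namespace Groth.Agent.FMHyp13.UnitDual

open DMon9 DBC9 TwistBC9 FMAdj9

attribute [local instance] DBC9.hasRpush

variable {k : Type u} [Field k]

/-- The ideal of the origin. -/
abbrev idealOne (A : Over (Spec (CommRingCat.of k))) [GrpObj A] : A.left.Modules :=
  kernel (ClSub.unitToPush η[A].left)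

/-- The module at the origin. -/
abbrev skyOne (A : Over (Spec (CommRingCat.of k))) [GrpObj A] : A.left.Modules :=
  (Scheme.Modules.pushforward η[A].left).obj (Coh.structureModule (Spec (CommRingCat.of k)))

variable (A : Over (Spec (CommRingCat.of k))) [GrpObj A] [IsProper A.hom]

/-- The sequence of the origin. -/
theorem shortExact_origin :
    (ShortComplex.mk (kernel.ι (ClSub.unitToPush η[A].left)) (ClSub.unitToPush η[A].left)
      (kernel.condition _)).ShortExact :=
  haveI : IsClosedImmersion η[A].left := isClosedImmersion_of_comp_eq_id A.hom η[A].left (Over.w η[A])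
  haveI := FGA3.epi_unitToPush η[A].left
  { exact := ShortComplex.exact_of_f_is_kernel _ (kernelIsKernel _) }

theorem not_isZero_skyOne : ¬ IsZero (skyOne A) := fun h => by
  have h' : IsZero ((Scheme.Modules.toPresheaf A.left).obj (skyOne A)) :=
    (Scheme.Modules.toPresheaf A.left).map_isZero h
  haveI := AddCommGrpCat.subsingleton_of_isZero (h'.obj (Opposite.op ⊤))
  have : Subsingleton Γ(Spec (CommRingCat.of k), (⊤ : (Spec (CommRingCat.of k)).Opens)) :=
    inferInstanceAs (Subsingleton (((Scheme.Modules.toPresheaf A.left).obj (skyOne A)).obj (Opposite.op ⊤)))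
  exact not_subsingleton k ((Scheme.ΓSpecIso (CommRingCat.of k)).symm.commRingCatIsoToRingEquiv.toEquiv.subsingleton)

variable [Smooth A.hom] [GeometricallyConnected A.hom] [IsAlgClosed k] {g : ℕ}
  (hg : topologicalKrullDim A.left = g)

include hg in
/-- The dual of the ideal of the origin sits in a triangle. -/
theorem exists_idealOne_triangle (hg1 : 1 ≤ g)
    [DCoh.HasLTensorCx ((HomologicalComplex.single A.left.Modules (ComplexShape.up ℤ) 0).obj (idealOne A))]
    [DCoh.HasRSheafHom ((HomologicalComplex.single A.left.Modules (ComplexShape.up ℤ) 0).obj (idealOne A))] :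
    ∃ T : Triangle (DCoh.D A.left), T ∈ distTriang _ ∧
      Nonempty (T.obj₁ ≅ DCoh.inD A.left (Coh.structureModule A.left)) ∧
      Nonempty (T.obj₂ ≅ (DCoh.RSheafHom ((HomologicalComplex.single A.left.Modules (ComplexShape.up ℤ) 0).obj
        (idealOne A))).obj (DCoh.inD A.left (Coh.structureModule A.left))) ∧
      Nonempty (T.obj₃ ≅ (shiftFunctor (DCoh.D A.left) (-((g : ℤ) - 1))).obj (DCoh.inD A.left (skyOne A))) ∧
      T.mor₃ ≠ 0 := by
  obtain ⟨D, pD, ⟨eD⟩⟩ := exists_dual_sky (A := A) hg
  haveI := pD
  obtain ⟨r⟩ := nonempty_sky_single A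
  letI : A.left.Over (Spec (CommRingCat.of k)) := ⟨A.hom⟩
  haveI : IsProper (A.left ↘ (Spec (CommRingCat.of k))) := inferInstanceAs (IsProper A.hom)
  haveI : IsNoetherian A.left := CohFound.isNoetherian_of_isProper A.hom
  let S := ShortComplex.mk (kernel.ι (ClSub.unitToPush η[A].left)) (ClSub.unitToPush η[A].left) (kernel.condition _)
  haveI : IsClosedImmersion η[A].left := isClosedImmersion_of_comp_eq_id A.hom η[A].left (Over.w η[A])
  have hIc : Coh.IsCoh (idealOne A) := M1.isCoh_kernel (M1.isCoh_structureModule A.left)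
    (M1.isQCoh_push η[A].left (M1.isQCoh_structureModule _)) _
  let KI : DM A.left := DCoh.inD A.left (idealOne A)
  have hKI : DCoh.IsPerfect (KI : DCoh.D A.left) := DPerf.isPerfect_iff_approx.2 (DPerf.isPerfect_of_regular
    (fun x => SmoothReg17.isRegularLocalRing_stalk A.hom x) (0 + 1 - 0 : ℤ).toNat 0
    ((DerivedCategory.singleFunctor A.left.Modules 0).obj (idealOne A)) inferInstance
    (fun j hj => DerivedCategory.isZero_of_isLE
      ((DerivedCategory.singleFunctor A.left.Modules 0).obj (idealOne A)) 0 j (by omega))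
    (isCohD_single hIc))
  obtain ⟨DI, -, ⟨pI⟩⟩ := BC8.exists_pairing_left_perfect KI hKI
  haveI := pI
  obtain ⟨T, hT, h₁, ⟨h₂⟩, h₃, h₄⟩ := KernelDual.exists_triangle (S := S) (shortExact_origin A) (Iso.refl _)
    (skyM A) D r g hg1 (eD ≪≫ (shiftFunctor (DCoh.D A.left) (-(g : ℤ))).mapIso r) KI DI (Iso.refl _)
  obtain ⟨rK⟩ := FMAdj9.nonempty_rhomIso
    ((HomologicalComplex.single A.left.Modules (ComplexShape.up ℤ) 0).obj (idealOne A)) (k := KI)
    (((DerivedCategory.singleFunctorIsoCompQ A.left.Modules 0).app (idealOne A)).symm :) DI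
  let oA : DM A.left := DCoh.inD A.left (Coh.structureModule A.left)
  exact ⟨T, hT, h₁, ⟨h₂ ≪≫ ((λ_ DI).symm ≪≫ whiskerRightIso (C := DM A.left) (DualPush.oneIso : oA ≅ 𝟙_ _).symm DI :) ≪≫
    (rK.app _).symm⟩, h₃, h₄ (not_isZero_skyOne A)⟩

end Groth.Agent.FMHyp13.UnitDual

end
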