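import Mathlib

/-!
# Denominators of polynomials with integral values
-/

set_option autoImplicit false

noncomputable section

namespace Groth.Agent.FMHyp13

open Polynomial Finset

/-- A polynomial integral at `0, …, n` of degree at most `n` in the binomial basis. -/
theorem exists_binomial_expansion : ∀ (n : ℕ) (R : ℚ[X]), R.natDegree ≤ n →
    (∀ s : ℕ, s ≤ n → ∃ z : ℤ, R.eval (s : ℚ) = z) →
    ∃ z : ℕ → ℤ, R = ∑ j ∈ range (n + 1), C ((z j : ℚ) / j.factorial) * descPochhammer ℚ j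
  | 0, R, hd, hv => by
    obtain ⟨z, hz⟩ := hv 0 le_rfl
    refine ⟨fun _ => z, ?_⟩
    rw [sum_range_one, descPochhammer_zero, mul_one, Nat.factorial_zero, Nat.cast_one, div_one]
    conv_lhs => rw [eq_C_of_natDegree_le_zero hd]
    rw [coeff_zero_eq_eval_zero, ← hz, Nat.cast_zero]
  | n + 1, R, hd, hv => by
    let a := R.coeff (n + 1)
    let R' := R - C a * descPochhammer ℚ (n + 1)
    have hP : (descPochhammer ℚ (n + 1)).coeff (n + 1) = 1 := by
      conv_lhs => arg 2; rw [← descPochhammer_natDegree ℚ (n + 1)]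
      exact monic_descPochhammer ℚ (n + 1)
    have hd' : R'.natDegree ≤ n := by
      refine natDegree_le_iff_coeff_eq_zero.2 fun m hm => ?_
      rw [coeff_sub, coeff_C_mul]
      rcases eq_or_ne m (n + 1) with rfl | hne
      · rw [hP, mul_one, sub_self]
      · rw [coeff_eq_zero_of_natDegree_lt (lt_of_le_of_lt hd (by omega)),
          coeff_eq_zero_of_natDegree_lt (lt_of_le_of_lt (descPochhammer_natDegree ℚ (n + 1)).le (by omega)),
          mul_zero, sub_zero]
    have hsame : ∀ s : ℕ, s ≤ n → R'.eval (s : ℚ) = R.eval (s : ℚ) := fun s hs => by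
      rw [eval_sub, eval_mul, eval_C, descPochhammer_eval_eq_descFactorial ℚ s (n + 1),
        Nat.descFactorial_eq_zero_iff_lt.2 (by omega), Nat.cast_zero, mul_zero, sub_zero]
    obtain ⟨z, hz⟩ := exists_binomial_expansion n R' hd' fun s hs => by
      rw [hsame s hs]; exact hv s (by omega)
    have hint : ∃ w : ℤ, R'.eval ((n + 1 : ℕ) : ℚ) = w := by
      refine ⟨∑ j ∈ range (n + 1), z j * ((n + 1).choose j : ℤ), ?_⟩
      rw [hz, eval_finsetSum, Int.cast_sum]
      refine sum_congr rfl fun j _ => ?_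
      rw [eval_mul, eval_C, descPochhammer_eval_eq_descFactorial ℚ (n + 1) j, Nat.descFactorial_eq_factorial_mul_choose]
      push_cast
      field_simp
    obtain ⟨w, hw⟩ := hint
    obtain ⟨v, hvn⟩ := hv (n + 1) le_rfl
    have ha : a * ((n + 1).factorial : ℚ) = ((v - w : ℤ) : ℚ) := by
      rw [eval_sub, eval_mul, eval_C, descPochhammer_eval_eq_descFactorial ℚ (n + 1) (n + 1),
        Nat.descFactorial_self, hvn] at hw
      push_cast
      linarith
    refine ⟨Function.update z (n + 1) (v - w), ?_⟩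
    rw [sum_range_succ, Function.update_self, sum_congr rfl fun j hj => by
      rw [Function.update_of_ne (by have := mem_range.1 hj; omega)], ← hz]
    rw [show ((v - w : ℤ) : ℚ) / ((n + 1).factorial : ℚ) = a by
      rw [← ha, mul_div_assoc, div_self (by positivity), mul_one]]
    simp [R']

/-- The factorial clears the denominators. -/
theorem exists_map_eq_factorial_smul {n : ℕ} {R : ℚ[X]} (hd : R.natDegree ≤ n)
    (hv : ∀ s : ℕ, s ≤ n → ∃ z : ℤ, R.eval (s : ℚ) = z) :
    ∃ T : ℤ[X], T.map (Int.castRingHom ℚ) = C (n.factorial : ℚ) * R := by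
  obtain ⟨z, hz⟩ := exists_binomial_expansion n R hd hv
  refine ⟨∑ j ∈ range (n + 1), C (z j * ((n.factorial / j.factorial : ℕ) : ℤ)) * descPochhammer ℤ j, ?_⟩
  rw [hz, Polynomial.map_sum, mul_sum]
  refine sum_congr rfl fun j hj => ?_
  rw [Polynomial.map_mul, Polynomial.map_C, descPochhammer_map, ← mul_assoc, ← C_mul]
  congr 2
  rw [eq_intCast, Int.cast_mul, Int.cast_natCast, Nat.cast_div (Nat.factorial_dvd_factorial
    (Nat.lt_succ_iff.1 (mem_range.1 hj))) (by positivity : (j.factorial : ℚ) ≠ 0)]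
  ring

/-- Integral values on consecutive rationals with a fixed denominator bound the denominators of the coefficients. -/
theorem exists_coeff_eq_int {g d : ℕ} (hd : 0 < d) {Q : ℚ[X]} (hQ : Q.natDegree ≤ g) (c₀ : ℤ)
    (hv : ∀ s : ℕ, s ≤ g → ∃ z : ℤ, (d : ℚ) ^ (2 * g) * Q.eval (((c₀ + s : ℤ) : ℚ) / d) = z) {j : ℕ} (hj : j ≤ g) :
    ∃ z : ℤ, (g.factorial : ℚ) * Q.coeff j * (d : ℚ) ^ (2 * g - j) = z := by
  let S : ℚ[X] := ∑ i ∈ range (g + 1), C (Q.coeff i * (d : ℚ) ^ (2 * g - i)) * X ^ i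
  have hSd : S.natDegree ≤ g := natDegree_sum_le_of_forall_le _ _ fun i hi =>
    (natDegree_C_mul_X_pow_le _ _).trans (Nat.lt_succ_iff.1 (mem_range.1 hi))
  have hS : ∀ x : ℚ, S.eval x = (d : ℚ) ^ (2 * g) * Q.eval (x / d) := fun x => by
    rw [eval_finsetSum, eval_eq_sum_range' (Nat.lt_succ_of_le hQ), mul_sum]
    refine sum_congr rfl fun i hi => ?_
    rw [eval_mul, eval_C, eval_pow, eval_X, div_pow]
    have hi' : i ≤ 2 * g := by have := mem_range.1 hi; omega
    rw [pow_sub₀ _ (by positivity) hi']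
    field_simp
  have hcoeff : S.coeff j = Q.coeff j * (d : ℚ) ^ (2 * g - j) := by
    rw [finsetSum_coeff, sum_eq_single j]
    · rw [coeff_C_mul_X_pow, if_pos rfl]
    · intro i _ hij; rw [coeff_C_mul_X_pow, if_neg (Ne.symm hij)]
    · intro h; exact absurd (mem_range.2 (Nat.lt_succ_of_le hj)) h
  obtain ⟨T, hT⟩ := exists_map_eq_factorial_smul (R := S.comp (X + C (c₀ : ℚ))) (n := g)
    (by rw [natDegree_comp, natDegree_X_add_C, mul_one]; exact hSd) fun s hs => by
      obtain ⟨z, hz⟩ := hv s hs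
      refine ⟨z, ?_⟩
      rw [eval_comp, eval_add, eval_X, eval_C, hS, ← hz]
      push_cast
      ring_nf
  refine ⟨(T.comp (X - C c₀)).coeff j, ?_⟩
  rw [mul_assoc, ← hcoeff, ← coeff_C_mul, ← eq_intCast (Int.castRingHom ℚ), ← coeff_map, Polynomial.map_comp, hT]
  simp [mul_comp, comp_assoc]

/-- The value at a fraction of a polynomial whose coefficients are integral up to a factor. -/
theorem exists_eval_eq_int {g b : ℕ} (hb : 0 < b) {Q : ℚ[X]} (hQ : Q.natDegree ≤ g) (m : ℚ) (a : ℤ)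
    (hc : ∀ j, j ≤ g → ∃ z : ℤ, m * Q.coeff j = z) :
    ∃ z : ℤ, m * (b : ℚ) ^ g * Q.eval ((a : ℚ) / b) = z := by
  choose z hz using hc
  refine ⟨∑ j ∈ (range (g + 1)).attach, z j.1 (Nat.lt_succ_iff.1 (mem_range.1 j.2)) * a ^ j.1 * (b : ℤ) ^ (g - j.1), ?_⟩
  rw [eval_eq_sum_range' (Nat.lt_succ_of_le hQ), mul_sum, Int.cast_sum, ← sum_attach]
  refine sum_congr rfl fun j _ => ?_
  have hj : j.1 ≤ g := Nat.lt_succ_iff.1 (mem_range.1 j.2)
  push_cast
  rw [← hz j.1 hj, pow_sub₀ _ (by positivity) hj, div_pow]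
  field_simp

/-- Two coprime denominators leave none. -/
theorem exists_eq_int_of_coprime (x : ℚ) (d m : ℕ) (h1 : ∃ z : ℤ, x * (d : ℚ) ^ m = z)
    (h2 : ∃ z : ℤ, x * ((d : ℚ) + 1) ^ m = z) : ∃ z : ℤ, x = z := by
  obtain ⟨z1, h1⟩ := h1
  obtain ⟨z2, h2⟩ := h2
  obtain ⟨u, v, huv⟩ := (show IsCoprime ((d : ℤ)) ((d : ℤ) + 1) from ⟨-1, 1, by ring⟩).pow (m := m) (n := m)
  refine ⟨u * z1 + v * z2, ?_⟩
  have := congrArg (Int.cast (R := ℚ)) huv
  push_cast at this ⊢
  rw [← h1, ← h2]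
  linear_combination -x * this

end Groth.Agent.FMHyp13

end
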