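import Groth.Agent.Lib.FMHyp13.JumpSupp
import Groth.Agent.Lib.FMHyp13.HyperSupp
import Groth.Agent.Lib.Growth13.Bound

/-!
# Sided coefficients off the jump locus
-/

set_option autoImplicit false
set_option linter.style.haveILetI false
set_option linter.unusedSectionVars false
set_option backward.isDefEq.respectTransparency false
set_option backward.isDefEq.respectTransparency.types false
set_option maxHeartbeats 1600000

universe u

open CategoryTheory CategoryTheory.Limits MonoidalCategory CartesianMonoidalCategory AlgebraicGeometry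
open TopologicalSpace Pretriangulated
open scoped MonObj GrpObj

attribute [local instance] HasDerivedCategory.standard

noncomputable section

namespace Groth.Agent.FMHyp13

open DMon9 DBC9 TwistBC9 FMBase13 Groth.Agent Groth.Agent.RosTrace22

attribute [local instance] DBC9.hasRpush

noncomputable local instance instLawJumpLocus (Y : Scheme.{u}) : PicGrp.Law Y := M2.law Y

/-- Polynomial bounds pass to degrees. -/
theorem degree_lt_of_abs_le (D E : Polynomial ℚ) (j : ℕ) (hE : E.degree < (j : WithBot ℕ)) (N : ℕ)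
    (h : ∀ m : ℕ, N ≤ m → |D.eval (m : ℚ)| ≤ E.eval (m : ℚ)) : D.degree < (j : WithBot ℕ) := by
  by_contra hcon
  have hcon' := not_lt.1 hcon
  have hD0 : D ≠ 0 := fun h0 => by simp [h0] at hcon'
  have hδ : (j : WithBot ℕ) ≤ (D.natDegree : WithBot ℕ) := hcon'.trans_eq (Polynomial.degree_eq_natDegree hD0)
  have hlt : (E ^ 2).degree < (D ^ 2).degree := by
    by_cases hE0 : E = 0
    · subst hE0
      rw [zero_pow two_ne_zero, Polynomial.degree_zero, bot_lt_iff_ne_bot, Ne, Polynomial.degree_eq_bot]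
      exact pow_ne_zero 2 hD0
    · refine Polynomial.degree_lt_degree ?_
      rw [Polynomial.natDegree_pow, Polynomial.natDegree_pow]
      have h1 : (E.natDegree : WithBot ℕ) < (D.natDegree : WithBot ℕ) := by
        rw [← Polynomial.degree_eq_natDegree hE0]
        exact hE.trans_le hδ
      have : E.natDegree < D.natDegree := by exact_mod_cast h1
      omega
  let p : Polynomial ℚ := D ^ 2 - E ^ 2
  have hle : ∀ m : ℕ, N ≤ m → p.eval (m : ℚ) ≤ 0 := fun m hm => by
    have h1 := h m hm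
    have h2 := mul_self_le_mul_self (abs_nonneg _) h1
    rw [abs_mul_abs_self] at h2
    simp only [p, Polynomial.eval_sub, Polynomial.eval_pow]
    nlinarith
  by_cases hd : D.natDegree = 0
  · have hj : j = 0 := by
      rw [hd] at hδ
      exact_mod_cast Nat.le_zero.1 (by exact_mod_cast hδ)
    subst hj
    have hE0 : E = 0 := Polynomial.degree_eq_bot.1 (Nat.WithBot.lt_zero_iff.1 hE)
    have h1 := h N le_rfl
    rw [hE0, Polynomial.eval_zero, abs_nonpos_iff, Polynomial.eq_C_of_natDegree_eq_zero hd, Polynomial.eval_C] at h1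
    exact hD0 (by rw [Polynomial.eq_C_of_natDegree_eq_zero hd, h1, map_zero])
  · have hpd : 0 < p.degree := by
      rw [Polynomial.degree_sub_eq_left_of_degree_lt hlt, Polynomial.degree_eq_natDegree (pow_ne_zero 2 hD0),
        Polynomial.natDegree_pow]
      exact_mod_cast (show 0 < 2 * D.natDegree by omega)
    have hpl : 0 ≤ p.leadingCoeff := by
      rw [Polynomial.leadingCoeff_sub_of_degree_lt hlt, Polynomial.leadingCoeff_pow]
      exact sq_nonneg _
    have htop := ((Polynomial.tendsto_atTop_of_leadingCoeff_nonneg p hpd hpl).comp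
      tendsto_natCast_atTop_atTop).eventually_gt_atTop 0
    obtain ⟨n₁, hn₁⟩ := Filter.eventually_atTop.1 htop
    exact absurd (hle (max n₁ N) (le_max_right _ _)) (not_le.2 (hn₁ _ (le_max_left _ _)))

variable {k : Type u} [Field k]

/-- A Hilbert polynomial at negative integers. -/
theorem euler_inverse_pow {X : Scheme.{u}} [X.Over (Spec (CommRingCat.of k))]
    [IsProper (X ↘ Spec (CommRingCat.of k))] {L L' F : X.Modules} (hL : PicF.IsInvertible L)
    (hL' : PicF.IsInvertible L') (e : CohB1.tensorMod L L' ≅ Coh.structureModule X) (hF : Coh.IsCoh F)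
    {Q : Polynomial ℚ} (hQ : ShStab.IsHilbPoly k X L F Q) (n : ℕ) :
    (Curv2.euler k X (CohB1.tensorMod F (CohB1.tensorPow L' n)) : ℚ) = Q.eval (-(n : ℚ)) := by
  haveI : IsLocallyNoetherian X := LocallyOfFiniteType.isLocallyNoetherian (X ↘ Spec (CommRingCat.of k))
  let F' := CohB1.tensorMod F (CohB1.tensorPow L' n)
  have hF' : Coh.IsCoh F' := CurveCoh17.isCoh_tensor hF (Snapper.isCoh_of_isInvertible (M2.isInvertible_tensorPow hL' n))
  obtain ⟨R, hR⟩ := Snapper.exists_isHilbPoly k hL hF'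
  obtain ⟨u⟩ := nonempty_tensorPow_inverse ⟨e⟩ n
  have key : ∀ m : ℕ, R.eval ((m + n : ℕ) : ℚ) = Q.eval (m : ℚ) := fun m => by
    rw [← hR, ← hQ]
    refine congrArg (Int.cast (R := ℚ)) (CurveCoh17.euler_iso ?_)
    exact M2.tensorAssoc _ _ _ ≪≫ M2.tensorIso (Iso.refl F)
      (M2.tensorIso (Iso.refl _) (eqToIso (by rw [add_comm]) ≪≫ M2.tensorPowAdd L n m) ≪≫
        (M2.tensorAssoc _ _ _).symm ≪≫ M2.tensorIso (M2.tensorComm _ _ ≪≫ u) (Iso.refl _) ≪≫
          M2.tensorLUnit _)
  have hpoly : R.comp (Polynomial.X + Polynomial.C (n : ℚ)) = Q := by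
    refine Polynomial.eq_of_infinite_eval_eq _ _ (Set.Infinite.mono ?_ (Set.infinite_range_of_injective
      (f := fun m : ℕ => (m : ℚ)) Nat.cast_injective))
    rintro _ ⟨m, rfl⟩
    rw [Set.mem_setOf_eq, Polynomial.eval_comp, Polynomial.eval_add, Polynomial.eval_X, Polynomial.eval_C,
      ← key m, Nat.cast_add]
  have h0 := hR 0
  rw [← hpoly, Polynomial.eval_comp, Polynomial.eval_add, Polynomial.eval_X, Polynomial.eval_C, neg_add_cancel,
    ← Nat.cast_zero, ← h0]
  exact congrArg (Int.cast (R := ℚ)) (CurveCoh17.euler_iso (M2.tensorRUnit F').symm)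

variable [IsAlgClosed k] {A At : Over (Spec (CommRingCat.of k))} [GrpObj A] [GrpObj At]
  [IsProper A.hom] [Smooth A.hom] [GeometricallyConnected A.hom]
  [IsProper At.hom] [Smooth At.hom] [GeometricallyConnected At.hom]
  {φ : AgPol.DualMap A At} (hφ : AbDual.IsDualAV Scheme.fppfPrecoverage A At φ)
  {P : (PicF.XT A.hom At).Modules} (hP : PicF.IsInvertible P) (hξ : AbDual.IsPoincareCl A At φ (PicF.cl P))
  {g : ℕ} (hg : topologicalKrullDim A.left = g) {L L' : A.left.Modules} (hL : CohB1.IsAmple L)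
  (hLL' : Nonempty (CohB1.tensorMod L L' ≅ Coh.structureModule A.left))

omit [GeometricallyConnected At.hom] [Smooth At.hom] in
/-- The Hilbert polynomial of a pullback supported over a small closed set has small degree. -/
theorem degree_lt_of_support {f : A ⟶ At} [IsFinite f.left] [Surjective f.left] (hL : CohB1.IsAmple L)
    {N : At.left.Modules} (hN : Coh.IsCoh N) {Z : Set At.left} (hZ : IsClosed Z) (hsub : CohB1.support N ⊆ Z)
    (j : ℕ) (hj : topologicalKrullDim ↥Z < (j : WithBot ℕ∞)) {R : Polynomial ℚ}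
    (hR : @ShStab.IsHilbPoly k _ A.left ⟨A.hom⟩ L ((Scheme.Modules.pullback f.left).obj N) R) :
    R.degree < (j : WithBot ℕ) := by
  letI : A.left.Over (Spec (CommRingCat.of k)) := ⟨A.hom⟩
  haveI : IsProper (A.left ↘ Spec (CommRingCat.of k)) := inferInstanceAs (IsProper A.hom)
  haveI : IsLocallyNoetherian A.left := LocallyOfFiniteType.isLocallyNoetherian A.hom
  haveI : IsLocallyNoetherian At.left := LocallyOfFiniteType.isLocallyNoetherian At.hom
  have hc : Coh.IsCoh ((Scheme.Modules.pullback f.left).obj N) := M1.isCoh_pullback _ hN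
  by_cases hne : IsZero ((Scheme.Modules.pullback f.left).obj N)
  · rw [(Snapper.isHilbPoly_eq_zero_iff hL hc hR).2 hne, Polynomial.degree_zero]
    exact WithBot.bot_lt_coe j
  obtain ⟨δ, hδ⟩ := Snapper.exists_dim_support k hne
  have h1 : topologicalKrullDim ↥(CohB1.support ((Scheme.Modules.pullback f.left).obj N)) ≤ topologicalKrullDim ↥Z := by
    rw [M2.support_pullback f.left hN.1 hN.2]
    refine (Topology.IsEmbedding.inclusion (Set.preimage_mono hsub)).isInducing.topologicalKrullDim_le.trans ?_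
    rw [← dim_image_of_finite f.left (hZ.preimage f.left.continuous), Set.image_preimage_eq Z f.left.surjective]
  rw [hδ] at h1
  have h2 : δ < j := by exact_mod_cast h1.trans_lt hj
  exact Polynomial.degree_le_natDegree.trans_lt
    (by exact_mod_cast (Snapper.natDegree_isHilbPoly_le hL.1 hc hδ.le hR).trans_lt h2)

include hP hξ hφ hL in
/-- One power kills the higher cohomology of the twisted duals. -/
theorem exists_vanishing_dual (D : DM At.left) (hD : DCoh.IsPerfect (D : DCoh.D At.left)) (f : A ⟶ At) :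
    ∃ N : ℕ, ∀ n, N ≤ n → ∀ (q : ℤ) (p : ℕ), 1 ≤ p → Subsingleton (Coh.HH A.left
      (CohB1.tensorMod ((Scheme.Modules.pullback f.left).obj (DCoh.HD (D : DCoh.D At.left) q))
        (CohB1.tensorPow L n)) p) := by
  classical
  letI : A.left.Over (Spec (CommRingCat.of k)) := ⟨A.hom⟩
  haveI : GeometricallyIntegral A.hom := AbRigid.geometricallyIntegral_of_smooth A
  haveI : IsProper (A.left ↘ Spec (CommRingCat.of k)) := inferInstanceAs (IsProper A.hom)
  haveI : IsLocallyNoetherian A.left := LocallyOfFiniteType.isLocallyNoetherian A.hom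
  haveI : IsLocallyNoetherian At.left := LocallyOfFiniteType.isLocallyNoetherian At.hom
  haveI : CompactSpace At.left := QuasiCompact.compactSpace_of_compactSpace At.hom
  have hc : ∀ q, Coh.IsCoh ((Scheme.Modules.pullback f.left).obj (DCoh.HD (D : DCoh.D At.left) q)) := fun q =>
    M1.isCoh_pullback _ (DPerf.isCoh_HD_of_pseudoCoherent (DGen9.isPseudoCoherentD_of_isPerfect hD q)
      (DGen9.isQCohD_of_isPerfect hD q) le_rfl)
  obtain ⟨e⟩ : Nonempty (W4c5cohrankabvar.ptLB P (1 : 𝟙_ (Over (Spec (CommRingCat.of k))) ⟶ At) ≅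
      Coh.structureModule A.left) := by
    refine FMBase13.nonempty_iso_of_cls (hL := PicLoc.isInvertible_pullback _ hP)
      (hM := PicLoc.isInvertible_structureModule A.left) ?_
    rw [← FMBase13.ev_eq_cls hP hξ, CubeField.cls_structureModule, MonObj.comp_one, AgPol22.ev_one_right hφ hξ]
  obtain ⟨c₁, hc₁⟩ := DPerf.exists_isGE_of_perfect hD
  obtain ⟨c₂, hc₂⟩ := DPerf.exists_isLE_of_pseudoCoherent (DGen9.isPseudoCoherentD_of_isPerfect hD 0)
  choose n₀ hn₀ using fun q : ℤ => exists_it0_twist_ample hP (At := At) hL (hc q)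
  refine ⟨(Finset.Icc c₁ c₂).sup n₀, fun n hn q p hp => ?_⟩
  have hz : W4c5cohrankabvar.hAt k P (CohB1.tensorMod ((Scheme.Modules.pullback f.left).obj
      (DCoh.HD (D : DCoh.D At.left) q)) (CohB1.tensorPow L n)) 1 p = 0 := by
    by_cases hq : c₁ ≤ q ∧ q ≤ c₂
    · exact hn₀ q n ((Finset.le_sup (Finset.mem_Icc.2 hq)).trans hn) p 1 hp
    · have hz : IsZero (DCoh.HD (D : DCoh.D At.left) q) := by
        rcases not_and_or.1 hq with h | h
        · haveI := hc₁; exact DerivedCategory.isZero_of_isGE (D : DCoh.D At.left) c₁ q (lt_of_not_ge h)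
        · haveI := hc₂; exact DerivedCategory.isZero_of_isLE (D : DCoh.D At.left) c₂ q (lt_of_not_ge h)
      exact hAt_of_isZero hP ((M2.tensorR (CohB1.tensorPow L n)).map_isZero
        ((Scheme.Modules.pullback f.left).map_isZero hz)) 1 p
  have hfin := CohFound.finite_HH_of_isProper (A := k) _ (CurveCoh17.isCoh_tensor (hc q)
    (Snapper.isCoh_of_isInvertible (M2.isInvertible_tensorPow hL.1 n))) p
  refine (Module.finrank_zero_iff (R := k)).1 (Eq.trans ?_ hz)
  exact ((CBC10.hmapLinEquiv k (M2.tensorIso (Iso.refl (CohB1.tensorMod ((Scheme.Modules.pullback f.left).obj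
    (DCoh.HD (D : DCoh.D At.left) q)) (CohB1.tensorPow L n))) e ≪≫ M2.tensorRUnit _)) p).finrank_eq.symm

include hφ hP hξ hg hL hLL' in
/-- Off a small closed set containing the jump locus, the sided coefficients agree up to sign. -/
theorem coeff_sided_of_jump {G : A.left.Modules} (hG : Coh.IsCoh G) (i : ℕ) (f : A ⟶ At)
    (hf : f = lamOf φ (PicGrp.cls L hL.1)) (DX : DM At.left)
    [ExactPairing (C := DM At.left) ((phiK (fst A At).left (snd A At).left P).obj
      ((DerivedCategory.singleFunctor A.left.Modules 0).obj G)) DX]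
    (hDX : DCoh.IsPerfect (DX : DCoh.D At.left)) {Z : Set At.left} (hZ : IsClosed Z)
    (hc : ∀ α : 𝟙_ (Over (Spec (CommRingCat.of k))) ⟶ At, CubeField.rpt α ∉ Z →
      W4c5cohrankabvar.hAt k P G α i = W4c5cohrankabvar.hgen k P G i)
    (j : ℕ) (hj : topologicalKrullDim ↥Z < (j : WithBot ℕ∞)) (Q Q' : Polynomial ℚ)
    (hQ : @ShStab.IsHilbPoly k _ A.left ⟨A.hom⟩ L ((Scheme.Modules.pullback f.left).obj (fmH P G i)) Q)
    (hQ' : @ShStab.IsHilbPoly k _ A.left ⟨A.hom⟩ L ((Scheme.Modules.pullback f.left).obj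
      (DCoh.HD (DX : DCoh.D At.left) (-(i : ℤ)))) Q') :
    Q'.coeff j = (-1) ^ g * (-1) ^ j * Q.coeff j := by
  haveI : GeometricallyIntegral A.hom := AbRigid.geometricallyIntegral_of_smooth A
  haveI : GeometricallyIntegral At.hom := AbRigid.geometricallyIntegral_of_smooth At
  haveI : AlgebraicGeometry.IsIntegral A.left := GeometricallyIntegral.isIntegral_of_subsingleton A.hom
  haveI : AlgebraicGeometry.IsIntegral At.left := GeometricallyIntegral.isIntegral_of_subsingleton At.hom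
  haveI : IsLocallyNoetherian A.left := LocallyOfFiniteType.isLocallyNoetherian A.hom
  haveI : IsLocallyNoetherian At.left := LocallyOfFiniteType.isLocallyNoetherian At.hom
  haveI : CompactSpace A.left := QuasiCompact.compactSpace_of_compactSpace A.hom
  haveI := isCommMonObj_of_isProper_of_geometricallyIntegral A
  letI : A.left.Over (Spec (CommRingCat.of k)) := ⟨A.hom⟩
  haveI : IsProper (A.left ↘ Spec (CommRingCat.of k)) := inferInstanceAs (IsProper A.hom)
  haveI : IsFinite f.left := by rw [hf]; exact isFinite_lamOf hφ hL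
  haveI : Surjective f.left := by rw [hf]; exact (exists_endo hφ hL).choose_spec.2.1
  haveI : IsMonHom f := by rw [hf]; exact isMonHom_lamOf hφ _
  haveI : Flat f.left := AbRigid.flat_of_surjective A At f
  have hL' := isInvertible_of_ample_inverse hL.1 hLL'
  let t := (DerivedCategory.TStructure.t : Triangulated.TStructure (DCoh.D At.left))
  let X : DCoh.D At.left := (phiK (fst A At).left (snd A At).left P).obj
    ((DerivedCategory.singleFunctor A.left.Modules 0).obj G)
  have hX : DCoh.IsPerfect X := isPerfect_phiK hP (isPerfect_single hG)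
  obtain ⟨hXc, c, b, hGE, hLE⟩ := exists_bounds_phiK hP (isPerfect_single (A := A) hG)
  haveI : DerivedCategory.IsGE X c := hGE
  haveI : DerivedCategory.IsLE X b := hLE
  -- the truncations
  let T : DCoh.D At.left := (t.truncGE ((i : ℤ) + 1)).obj X
  let Ai : DCoh.D At.left := (t.truncLT ((i : ℤ) + 1)).obj X
  let Lo : DCoh.D At.left := (t.truncLT (i : ℤ)).obj Ai
  let Mi : DCoh.D At.left := (t.truncGE (i : ℤ)).obj Ai
  haveI : DerivedCategory.IsGE T ((i : ℤ) + 1) := (inferInstance : t.IsGE T ((i : ℤ) + 1))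
  haveI hAiLE : DerivedCategory.IsLE Ai i := t.isLE_truncLT_obj X ((i : ℤ) + 1) i le_rfl
  haveI hLoLE : DerivedCategory.IsLE Lo ((i : ℤ) - 1) := t.isLE_truncLT_obj Ai (i : ℤ) ((i : ℤ) - 1) (by omega)
  haveI : DerivedCategory.IsGE Mi i := (inferInstance : t.IsGE Mi (i : ℤ))
  have cz : ∀ (K : DCoh.D At.left) (q : ℤ), IsZero (DCoh.HD K q) → Coh.IsCoh (DCoh.HD K q) :=
    fun K q h => DPerf.isCoh_of_isZero h
  have hTc : DCoh.IsCohD T := fun q => by
    by_cases hq : (i : ℤ) + 1 ≤ q
    · haveI := DerTrunc.isIso_homology_truncGEπ X ((i : ℤ) + 1) q hq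
      exact CohFound.isCoh_of_iso (asIso ((DerivedCategory.homologyFunctor _ q).map
        ((t.truncGEπ ((i : ℤ) + 1)).app X))) (hXc q)
    · exact cz T q (DerivedCategory.isZero_of_isGE T ((i : ℤ) + 1) q (by omega))
  have hAc : DCoh.IsCohD Ai := fun q => by
    by_cases hq : q < (i : ℤ) + 1
    · haveI := DerTrunc.isIso_homology_truncLTι X ((i : ℤ) + 1) q hq
      exact CohFound.isCoh_of_iso (asIso ((DerivedCategory.homologyFunctor _ q).map
        ((t.truncLTι ((i : ℤ) + 1)).app X))).symm (hXc q)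
    · exact cz Ai q (DerivedCategory.isZero_of_isLE Ai i q (by omega))
  have hLc : DCoh.IsCohD Lo := fun q => by
    by_cases hq : q < (i : ℤ)
    · haveI := DerTrunc.isIso_homology_truncLTι Ai (i : ℤ) q hq
      exact CohFound.isCoh_of_iso (asIso ((DerivedCategory.homologyFunctor _ q).map
        ((t.truncLTι (i : ℤ)).app Ai))).symm (hAc q)
    · exact cz Lo q (DerivedCategory.isZero_of_isLE Lo ((i : ℤ) - 1) q (by omega))
  have hMic : DCoh.IsCohD Mi := fun q => by
    by_cases hq : (i : ℤ) ≤ q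
    · haveI := DerTrunc.isIso_homology_truncGEπ Ai (i : ℤ) q hq
      exact CohFound.isCoh_of_iso (asIso ((DerivedCategory.homologyFunctor _ q).map
        ((t.truncGEπ (i : ℤ)).app Ai))) (hAc q)
    · exact cz Mi q (DerivedCategory.isZero_of_isGE Mi (i : ℤ) q (by omega))
  have hTle : DerivedCategory.IsLE T b := (DerivedCategory.isLE_iff _ _).2 fun q hq => by
    by_cases hq' : (i : ℤ) + 1 ≤ q
    · haveI := DerTrunc.isIso_homology_truncGEπ X ((i : ℤ) + 1) q hq'
      exact (DerivedCategory.isZero_of_isLE X b q hq).of_iso (asIso ((DerivedCategory.homologyFunctor _ q).map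
        ((t.truncGEπ ((i : ℤ) + 1)).app X))).symm
    · exact DerivedCategory.isZero_of_isGE T ((i : ℤ) + 1) q (by omega)
  have hAge : DerivedCategory.IsGE Ai c := (DerivedCategory.isGE_iff _ _).2 fun q hq => by
    by_cases hq' : q < (i : ℤ) + 1
    · haveI := DerTrunc.isIso_homology_truncLTι X ((i : ℤ) + 1) q hq'
      exact (DerivedCategory.isZero_of_isGE X c q hq).of_iso (asIso ((DerivedCategory.homologyFunctor _ q).map
        ((t.truncLTι ((i : ℤ) + 1)).app X)))
    · exact DerivedCategory.isZero_of_isLE Ai i q (by omega)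
  have hLge : DerivedCategory.IsGE Lo c := (DerivedCategory.isGE_iff _ _).2 fun q hq => by
    by_cases hq' : q < (i : ℤ)
    · haveI := DerTrunc.isIso_homology_truncLTι Ai (i : ℤ) q hq'
      exact (DerivedCategory.isZero_of_isGE Ai c q hq).of_iso (asIso ((DerivedCategory.homologyFunctor _ q).map
        ((t.truncLTι (i : ℤ)).app Ai)))
    · exact DerivedCategory.isZero_of_isLE Lo ((i : ℤ) - 1) q (by omega)
  have hMz : ∀ q : ℤ, q ≠ i → IsZero (DCoh.HD Mi q) := fun q hq => by
    rcases lt_or_gt_of_ne hq with h | h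
    · exact DerivedCategory.isZero_of_isGE Mi (i : ℤ) q h
    · haveI := DerTrunc.isIso_homology_truncGEπ Ai (i : ℤ) q h.le
      exact (DerivedCategory.isZero_of_isLE Ai i q h).of_iso (asIso ((DerivedCategory.homologyFunctor _ q).map
        ((t.truncGEπ (i : ℤ)).app Ai))).symm
  haveI hMile : DerivedCategory.IsLE Mi i := (DerivedCategory.isLE_iff _ _).2 fun q hq => hMz q hq.ne'
  haveI := hTle
  haveI := hAge
  haveI := hLge
  have hTp : DCoh.IsPerfect T := isPerfect_of_isCohD ((i : ℤ) + 1) b hTc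
  have hAp : DCoh.IsPerfect Ai := isPerfect_of_isCohD c (i : ℤ) hAc
  have hLp : DCoh.IsPerfect Lo := isPerfect_of_isCohD c ((i : ℤ) - 1) hLc
  have hMp : DCoh.IsPerfect Mi := isPerfect_of_isCohD (i : ℤ) (i : ℤ) hMic
  -- the sheaf in degree `i`
  let M := fmH P G i
  have hM : Coh.IsCoh M := isCoh_fmH hP hG (i : ℤ)
  obtain ⟨eMi⟩ := nonempty_iso_single_of_concentrated Mi (i : ℤ) hMz
  haveI := DerTrunc.isIso_homology_truncGEπ Ai (i : ℤ) (i : ℤ) le_rfl
  haveI := DerTrunc.isIso_homology_truncLTι X ((i : ℤ) + 1) (i : ℤ) (by omega)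
  let eM : DCoh.HD Mi i ≅ M :=
    (asIso ((DerivedCategory.homologyFunctor _ (i : ℤ)).map ((t.truncGEπ (i : ℤ)).app Ai))).symm ≪≫
      asIso ((DerivedCategory.homologyFunctor _ (i : ℤ)).map ((t.truncLTι ((i : ℤ) + 1)).app X))
  let SM : DCoh.D At.left := (DerivedCategory.singleFunctor At.left.Modules 0).obj M
  let eMi' : Mi ≅ SM⟦-(i : ℤ)⟧ := eMi ≪≫ (shiftFunctor (DCoh.D At.left) (-(i : ℤ))).mapIso
    ((DerivedCategory.singleFunctor At.left.Modules 0).mapIso eM)
  have hSMp : DCoh.IsPerfect SM := by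
    haveI : DerivedCategory.IsGE SM 0 := inferInstance
    haveI : DerivedCategory.IsLE SM 0 := inferInstance
    exact isPerfect_of_isCohD 0 0 (isCohD_single hM)
  -- duals
  obtain ⟨DT, hDT, ⟨pT⟩⟩ := BC8.exists_pairing_left_perfect (T : DM At.left) hTp
  haveI := pT
  obtain ⟨DL, hDL, ⟨pL⟩⟩ := BC8.exists_pairing_left_perfect (Lo : DM At.left) hLp
  haveI := pL
  obtain ⟨DS, hDS, ⟨pS⟩⟩ := BC8.exists_pairing_left_perfect (SM : DM At.left) hSMp
  haveI := pS
  have hcoh : ∀ (D : DM At.left), DCoh.IsPerfect (D : DCoh.D At.left) → ∀ q, Coh.IsCoh (DCoh.HD (D : DCoh.D At.left) q) :=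
    fun D hD q => DPerf.isCoh_HD_of_pseudoCoherent (DGen9.isPseudoCoherentD_of_isPerfect hD q)
      (DGen9.isQCohD_of_isPerfect hD q) le_rfl
  have hsT : ∀ q : ℤ, -(i : ℤ) ≤ q → CohB1.support (DCoh.HD (DT : DCoh.D At.left) q) ⊆ Z := fun q hq =>
    support_subset_of_rpt (hcoh DT hDT q) hZ fun α hα => by
      let z : ↥(𝟙_ (Over (Spec (CommRingCat.of k)))).left := IsLocalRing.closedPoint k
      obtain ⟨hfree, hfin, hrk⟩ := free_fmH_of_const hP hG i hZ hc (CubeField.rpt α) hα
      have hpt := point_eq α z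
      refine rpt_notMem_support hDT q α (isZero_fibre_dual (T : DM At.left) DT hTp hDT q α ?_)
      refine isZero_fibre_truncGE α.left z (fun z' => Subsingleton.elim (α := PrimeSpectrum k) _ _)
        (isField_stalk_point z) hX hTp (i : ℤ) (Iso.refl _) (W4c5cohrankabvar.hgen k P G i) ?_ ?_ ?_ ?_ (-q) (by omega)
      · rw [hpt]; exact hfree
      · rw [hpt]; exact hfin
      · rw [hpt]; exact hrk
      · exact (rkAt_fibre hP hG i α z).trans (hc α hα)
  have hsS : ∀ q : ℤ, q ≠ 0 → CohB1.support (DCoh.HD (DS : DCoh.D At.left) q) ⊆ Z := fun q hq =>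
    support_subset_of_rpt (hcoh DS hDS q) hZ fun α hα => by
      let z : ↥(𝟙_ (Over (Spec (CommRingCat.of k)))).left := IsLocalRing.closedPoint k
      obtain ⟨hfree, -, -⟩ := free_fmH_of_const hP hG i hZ hc (CubeField.rpt α) hα
      refine rpt_notMem_support hDS q α (isZero_fibre_dual (SM : DM At.left) DS hSMp hDS q α ?_)
      refine isZero_fibre_single α.left z (fun z' => Subsingleton.elim (α := PrimeSpectrum k) _ _)
        (isField_stalk_point z) M hSMp ?_ (-q) (by omega)
      rw [point_eq α z]; exact hfree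
  have hzL : ∀ q : ℤ, q ≤ -(i : ℤ) → IsZero (DCoh.HD (DL : DCoh.D At.left) q) := fun q hq =>
    isZero_HD_dual_of_isLE (Lo : DM At.left) DL hLp hDL ((i : ℤ) - 1) q (by omega)
  -- polynomials
  have hpoly : ∀ (D : DM At.left), DCoh.IsPerfect (D : DCoh.D At.left) → ∀ q, ∃ R : Polynomial ℚ,
      ShStab.IsHilbPoly k A.left L ((Scheme.Modules.pullback f.left).obj (DCoh.HD (D : DCoh.D At.left) q)) R :=
    fun D hD q => Snapper.exists_isHilbPoly k hL.1 (M1.isCoh_pullback _ (hcoh D hD q))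
  choose RT hRT using hpoly DT hDT
  choose RS hRS using hpoly DS hDS
  let E : Polynomial ℚ := RT (1 - (i : ℤ)) + RT (-(i : ℤ)) + ∑ p ∈ Finset.range g, RS ((g : ℤ) - p)
  have hE : E.degree < (j : WithBot ℕ) := by
    have hd : ∀ (D : DM At.left) (hD : DCoh.IsPerfect (D : DCoh.D At.left)) q R,
        CohB1.support (DCoh.HD (D : DCoh.D At.left) q) ⊆ Z →
        ShStab.IsHilbPoly k A.left L ((Scheme.Modules.pullback f.left).obj (DCoh.HD (D : DCoh.D At.left) q)) R →
        R.degree < (j : WithBot ℕ) :=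
      fun D hD q R hs hR => degree_lt_of_support hL (hcoh D hD q) hZ hs j hj hR
    refine (Polynomial.degree_add_le _ _).trans_lt (max_lt ((Polynomial.degree_add_le _ _).trans_lt
      (max_lt (hd DT hDT _ _ (hsT _ (by omega)) (hRT _)) (hd DT hDT _ _ (hsT _ le_rfl) (hRT _)))) ?_)
    refine (Polynomial.degree_sum_le _ _).trans_lt ((Finset.sup_lt_iff (WithBot.bot_lt_coe j)).2 fun p hp => ?_)
    exact hd DS hDS _ _ (hsS _ (by have := Finset.mem_range.1 hp; omega)) (hRS _)
  obtain ⟨N₁, hv₁⟩ := exists_vanishing_dual hφ hP hξ hL DX hDX f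
  obtain ⟨N₂, hv₂⟩ := exists_vanishing_dual hφ hP hξ hL DT hDT f
  obtain ⟨N₃, hv₃⟩ := exists_vanishing_dual hφ hP hξ hL DL hDL f
  obtain ⟨N₄, hv₄⟩ := exists_vanishing_dual hφ hP hξ hL DS hDS f
  let D : Polynomial ℚ := Q' - Polynomial.C ((-1 : ℚ) ^ g) * Q.comp (-Polynomial.X)
  have hD : D.degree < (j : WithBot ℕ) := by
    refine degree_lt_of_abs_le D E j hE (N₁ + N₂ + N₃ + N₄) fun m hm => ?_
    let Mm := CohB1.tensorPow L' m
    have hMm : PicF.IsInvertible Mm := M2.isInvertible_tensorPow hL' m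
    have val : ∀ (Y DY : DM At.left) [ExactPairing Y DY] (hY : DCoh.IsPerfect (Y : DCoh.D At.left))
        (hDY : DCoh.IsPerfect (DY : DCoh.D At.left))
        (hv : ∀ (q : ℤ) (p : ℕ), 1 ≤ p → Subsingleton (Coh.HH A.left
          (CohB1.tensorMod ((Scheme.Modules.pullback f.left).obj (DCoh.HD (DY : DCoh.D At.left) q))
            (CohB1.tensorPow L m)) p)) (l q : ℤ) (_ : (g : ℤ) - l = q) (R : Polynomial ℚ),
        ShStab.IsHilbPoly k A.left L ((Scheme.Modules.pullback f.left).obj (DCoh.HD (DY : DCoh.D At.left) q)) R →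
        (hTw f Mm (Y : DCoh.D At.left) l : ℚ) = R.eval (m : ℚ) := fun Y DY _ hY hDY hv l q hq R hR => by
      subst hq
      rw [hTw_dual f hL hLL' hg Y DY hY hDY hv l, ← hR m]
      exact_mod_cast congrArg (Int.cast (R := ℚ)) (finrank_HH_zero_eq_euler (k := k) (hv ((g : ℤ) - l)))
    have hXv : (hTw f Mm X ((i : ℤ) + g) : ℚ) = Q'.eval (m : ℚ) :=
      val (X : DM At.left) DX hX hDX (hv₁ m (by omega)) _ _ (by omega) Q' hQ'
    have hT₁ : (hTw f Mm T ((i : ℤ) + g - 1) : ℚ) = (RT (1 - (i : ℤ))).eval (m : ℚ) :=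
      val (T : DM At.left) DT hTp hDT (hv₂ m (by omega)) _ _ (by omega) _ (hRT _)
    have hT₀ : (hTw f Mm T ((i : ℤ) + g) : ℚ) = (RT (-(i : ℤ))).eval (m : ℚ) :=
      val (T : DM At.left) DT hTp hDT (hv₂ m (by omega)) _ _ (by omega) _ (hRT _)
    have hS : ∀ p : ℕ, p < g → (hTw f Mm SM (p : ℤ) : ℚ) = (RS ((g : ℤ) - p)).eval (m : ℚ) := fun p _ =>
      val (SM : DM At.left) DS hSMp hDS (hv₄ m (by omega)) _ _ rfl _ (hRS _)
    have hL0 : ∀ l : ℤ, (i : ℤ) + g ≤ l → hTw f Mm Lo l = 0 := fun l hl => by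
      rw [hTw_dual f hL hLL' hg (Lo : DM At.left) DL hLp hDL (hv₃ m (by omega)) l]
      haveI : Subsingleton (Coh.HH A.left (CohB1.tensorMod ((Scheme.Modules.pullback f.left).obj
          (DCoh.HD (DL : DCoh.D At.left) ((g : ℤ) - l))) (CohB1.tensorPow L m)) 0) := Growth13.subsingleton_HH_of_isZero
        ((M2.tensorR (CohB1.tensorPow L m)).map_isZero
          ((Scheme.Modules.pullback f.left).map_isZero (hzL ((g : ℤ) - l) (by omega)))) 0
      exact Module.finrank_zero_of_subsingleton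
    obtain ⟨a1, a2, -⟩ := hTw_triangle f hMm (t.triangleLTGE_distinguished ((i : ℤ) + 1) X) hAp hX hTp ((i : ℤ) + g)
    obtain ⟨b1, -, b3⟩ := hTw_triangle f hMm (t.triangleLTGE_distinguished (i : ℤ) Ai) hLp hAp hMp ((i : ℤ) + g)
    replace a1 : hTw f Mm X ((i : ℤ) + g) ≤ hTw f Mm Ai ((i : ℤ) + g) + hTw f Mm T ((i : ℤ) + g) := a1
    replace a2 : hTw f Mm Ai ((i : ℤ) + g) ≤ hTw f Mm T ((i : ℤ) + g - 1) + hTw f Mm X ((i : ℤ) + g) := a2
    replace b1 : hTw f Mm Ai ((i : ℤ) + g) ≤ hTw f Mm Lo ((i : ℤ) + g) + hTw f Mm Mi ((i : ℤ) + g) := b1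
    replace b3 : hTw f Mm Mi ((i : ℤ) + g) ≤ hTw f Mm Ai ((i : ℤ) + g) + hTw f Mm Lo ((i : ℤ) + g + 1) := b3
    have hMg : hTw f Mm Mi ((i : ℤ) + g) = hTw f Mm SM (g : ℤ) := by
      rw [hTw_shift f hMm (-(i : ℤ)) eMi' _, show -(i : ℤ) + ((i : ℤ) + g) = (g : ℤ) by omega]
    rw [hL0 _ le_rfl, hMg] at b1
    rw [hL0 _ (by omega), hMg] at b3
    -- Euler characteristic
    let R := (Scheme.Modules.pullback f.left).obj M
    have hR : Coh.IsCoh R := M1.isCoh_pullback _ hM
    have heu : (Q.eval (-(m : ℚ))) = ∑ p ∈ Finset.range (g + 1), (-1 : ℚ) ^ p * (hTw f Mm SM (p : ℤ) : ℚ) := by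
      rw [← euler_inverse_pow hL.1 hL' hLL'.some hR hQ m]
      have hfs : Curv2.euler k A.left (CohB1.tensorMod R Mm) =
          ∑ p ∈ Finset.range (g + 1), (-1 : ℤ) ^ p * (Module.finrank k (Coh.HH A.left (CohB1.tensorMod R Mm) p) : ℤ) := by
        refine finsum_eq_sum_of_support_subset _ fun p hp => ?_
        by_contra hpg
        simp only [Finset.coe_range, Set.mem_Iio, not_lt] at hpg
        haveI := Snapper.subsingleton_HH_of_dim k g hg.le
          (CurveCoh17.isCoh_tensor hR (Snapper.isCoh_of_isInvertible hMm)).1 (n := p) (by omega)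
        exact hp (by simp [Module.finrank_zero_of_subsingleton])
      rw [hfs]
      push_cast
      refine Finset.sum_congr rfl fun p _ => ?_
      rw [hTw_single f hMm hM p]
    rw [Finset.sum_range_succ] at heu
    simp only [D, E, Polynomial.eval_sub, Polynomial.eval_mul, Polynomial.eval_C, Polynomial.eval_comp,
      Polynomial.eval_neg, Polynomial.eval_X, Polynomial.eval_add, Polynomial.eval_finsetSum]
    rw [heu, ← hXv, ← hT₁, ← hT₀]
    have hsum : |∑ p ∈ Finset.range g, (-1 : ℚ) ^ p * (hTw f Mm SM (p : ℤ) : ℚ)| ≤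
        ∑ p ∈ Finset.range g, (RS ((g : ℤ) - p)).eval (m : ℚ) := by
      refine (Finset.abs_sum_le_sum_abs _ _).trans_eq (Finset.sum_congr rfl fun p hp => ?_)
      rw [abs_mul, abs_pow, abs_neg, abs_one, one_pow, one_mul, Nat.abs_cast, hS p (Finset.mem_range.1 hp)]
    have hsq : (-1 : ℚ) ^ g * (-1 : ℚ) ^ g = 1 := by rw [← mul_pow]; norm_num
    rw [mul_add, ← mul_assoc ((-1 : ℚ) ^ g) ((-1 : ℚ) ^ g), hsq, one_mul]
    set S := ∑ p ∈ Finset.range g, (-1 : ℚ) ^ p * (hTw f Mm SM (p : ℤ) : ℚ) with hSdef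
    have h1 : (hTw f Mm X ((i : ℤ) + g) : ℚ) ≤ hTw f Mm SM (g : ℤ) + hTw f Mm T ((i : ℤ) + g) := by
      exact_mod_cast a1.trans (Nat.add_le_add_right (by omega) _)
    have h2 : (hTw f Mm SM (g : ℤ) : ℚ) ≤ hTw f Mm T ((i : ℤ) + g - 1) + hTw f Mm X ((i : ℤ) + g) := by
      exact_mod_cast (by omega : hTw f Mm SM (g : ℤ) ≤ hTw f Mm T ((i : ℤ) + g - 1) + hTw f Mm X ((i : ℤ) + g))
    have h3 : |(-1 : ℚ) ^ g * S| = |S| := by rw [abs_mul, abs_pow, abs_neg, abs_one, one_pow, one_mul]
    have h4 : (0 : ℚ) ≤ hTw f Mm T ((i : ℤ) + g - 1) := Nat.cast_nonneg _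
    have h5 : (0 : ℚ) ≤ hTw f Mm T ((i : ℤ) + g) := Nat.cast_nonneg _
    rw [abs_le]
    obtain ⟨h6, h7⟩ := abs_le.1 (h3.le.trans hsum)
    constructor <;> linarith
  have h0 := Polynomial.coeff_eq_zero_of_degree_lt hD
  simp only [D, Polynomial.coeff_sub, Polynomial.coeff_C_mul] at h0
  rw [show -(Polynomial.X : Polynomial ℚ) = Polynomial.C (-1 : ℚ) * Polynomial.X by simp,
    Polynomial.comp_C_mul_X_coeff] at h0
  linear_combination h0

end Groth.Agent.FMHyp13

end
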