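import Groth.Agent.Lib.FMHyp13.RankCoeff

/-!
# The rank functions are polynomial on either side of a rational number
-/

set_option autoImplicit false
set_option linter.style.haveILetI false
set_option linter.unusedSectionVars false
set_option backward.isDefEq.respectTransparency false
set_option backward.isDefEq.respectTransparency.types false
set_option maxHeartbeats 1600000

universe u

open CategoryTheory CategoryTheory.Limits MonoidalCategory CartesianMonoidalCategory AlgebraicGeometry
open TopologicalSpace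
open scoped MonObj GrpObj

attribute [local instance] HasDerivedCategory.standard

noncomputable section

namespace Groth.Agent.FMHyp13

open DMon9 DBC9 TwistBC9 FMBase13 Groth.Agent Groth.Agent.RosTrace22

attribute [local instance] DBC9.hasRpush

noncomputable local instance instLawRankPoly (Y : Scheme.{u}) : PicGrp.Law Y := M2.law Y

/-- The polynomial `t ↦ (C t + D)^g Q(1/(C t + D)) / K`. -/
def sidePoly (g : ℕ) (Q : Polynomial ℚ) (K C D : ℚ) : Polynomial ℚ :=
  Polynomial.C K⁻¹ * (Q.reflect g).comp (Polynomial.C C * Polynomial.X + Polynomial.C D)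

theorem natDegree_sidePoly (g : ℕ) (Q : Polynomial ℚ) (hQ : Q.natDegree ≤ g) (K C D : ℚ) :
    (sidePoly g Q K C D).natDegree ≤ g := by
  refine (Polynomial.natDegree_C_mul_le _ _).trans (Polynomial.natDegree_comp_le.trans ?_)
  have h1 : (Q.reflect g).natDegree ≤ g := Polynomial.natDegree_reflect_le.trans (max_le le_rfl hQ)
  have h2 : (Polynomial.C C * Polynomial.X + Polynomial.C D).natDegree ≤ 1 := Polynomial.natDegree_linear_le
  calc (Q.reflect g).natDegree * (Polynomial.C C * Polynomial.X + Polynomial.C D).natDegree ≤ g * 1 :=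
        Nat.mul_le_mul h1 h2
    _ = g := mul_one g

theorem eval_sidePoly (g : ℕ) (Q : Polynomial ℚ) (hQ : Q.natDegree ≤ g) (K C D t : ℚ) (h : C * t + D ≠ 0) :
    (sidePoly g Q K C D).eval t = (C * t + D) ^ g * Q.eval (1 / (C * t + D)) / K := by
  rw [sidePoly, Polynomial.eval_mul, Polynomial.eval_C, Polynomial.eval_comp, Polynomial.eval_add,
    Polynomial.eval_mul, Polynomial.eval_C, Polynomial.eval_X, Polynomial.eval_C]
  set s := C * t + D with hs
  letI : Invertible (1 / s : ℚ) := invertibleOfNonzero (one_div_ne_zero h)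
  have := Polynomial.eval₂_reflect_mul_pow (RingHom.id ℚ) (1 / s) g Q hQ
  rw [invOf_eq_inv, one_div, inv_inv, Polynomial.eval₂_id, Polynomial.eval₂_id, inv_pow] at this
  rw [one_div, ← this]
  field_simp

theorem eval_sidePoly_zero (g : ℕ) (Q : Polynomial ℚ) (K C D t : ℚ) (h : C * t + D = 0) :
    (sidePoly g Q K C D).eval t = Q.coeff g / K := by
  rw [sidePoly, Polynomial.eval_mul, Polynomial.eval_C, Polynomial.eval_comp, Polynomial.eval_add,
    Polynomial.eval_mul, Polynomial.eval_C, Polynomial.eval_X, Polynomial.eval_C, h,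
    ← Polynomial.coeff_zero_eq_eval_zero, Polynomial.coeff_reflect, Polynomial.revAt_le (Nat.zero_le _), Nat.sub_zero]
  ring

variable {k : Type u} [Field k] [IsAlgClosed k] {A At : Over (Spec (CommRingCat.of k))} [GrpObj A] [GrpObj At]
  [IsProper A.hom] [Smooth A.hom] [GeometricallyConnected A.hom]
  [IsProper At.hom] [Smooth At.hom] [GeometricallyConnected At.hom]
  {φ : AgPol.DualMap A At} (hφ : AbDual.IsDualAV Scheme.fppfPrecoverage A At φ)
  {P : (PicF.XT A.hom At).Modules} (hP : PicF.IsInvertible P) (hξ : AbDual.IsPoincareCl A At φ (PicF.cl P))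
  {g : ℕ} (hg : topologicalKrullDim A.left = g) {L L' : A.left.Modules} (hL : CohB1.IsAmple L)
  (hLL' : Nonempty (CohB1.tensorMod L L' ≅ Coh.structureModule A.left))

include hφ hP hξ hg hL hLL' in
/-- The value at a rational number does not depend on the representative. -/
theorem value_congr {F : A.left.Modules} (hF : Coh.IsCoh F) (i : ℕ) (a c : ℤ) (b d : ℕ) (hb : 0 < b) (hd : 0 < d)
    (h : a * (d : ℤ) = c * (b : ℤ)) :
    ((W4c5cohrankabvar.hgen k P (W4c5cohrankabvar.twist A F L L' b (a * b)) i : ℕ) : ℚ) / (b : ℚ) ^ (2 * g) =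
      ((W4c5cohrankabvar.hgen k P (W4c5cohrankabvar.twist A F L L' d (c * d)) i : ℕ) : ℚ) / (d : ℚ) ^ (2 * g) := by
  have h1 := hgen_twist_rescale hφ hP hξ hg hL hLL' hF i b (a * b) d hd
  have h2 := hgen_twist_rescale hφ hP hξ hg hL hLL' hF i d (c * d) b hb
  have he : (a * (b : ℤ)) * ((d * d : ℕ) : ℤ) = (c * (d : ℤ)) * ((b * b : ℕ) : ℤ) := by
    push_cast
    linear_combination (d : ℤ) * b * h
  rw [he, mul_comm b d, h2] at h1
  rw [div_eq_div_iff (by positivity) (by positivity)]
  have := congrArg (Nat.cast (R := ℚ)) h1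
  push_cast at this
  linear_combination -this

include hg hL in
/-- The top coefficient of a Hilbert polynomial on an abelian variety. -/
theorem coeff_isHilbPoly_av {R : A.left.Modules} (hR : Coh.IsCoh R) {Q : Polynomial ℚ}
    (hQ : @ShStab.IsHilbPoly k _ A.left ⟨A.hom⟩ L R Q) [AlgebraicGeometry.IsIntegral A.left] :
    Q.coeff g = (genRk R : ℚ) * (@Curv2.euler k _ A.left ⟨A.hom⟩ L : ℚ) := by
  haveI : GeometricallyIntegral A.hom := AbRigid.geometricallyIntegral_of_smooth A
  haveI : IsLocallyNoetherian A.left := LocallyOfFiniteType.isLocallyNoetherian A.hom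
  haveI : CompactSpace A.left := QuasiCompact.compactSpace_of_compactSpace A.hom
  haveI : AlgebraicGeometry.IsNoetherian A.left := {}
  haveI : A.left.IsSeparated := ⟨by
    rw [← terminal.comp_from A.hom]
    infer_instance⟩
  letI : A.left.Over (Spec (CommRingCat.of k)) := ⟨A.hom⟩
  haveI : IsProper (A.left ↘ Spec (CommRingCat.of k)) := inferInstanceAs (IsProper A.hom)
  obtain ⟨Q₀, hQ₀⟩ := Snapper.exists_isHilbPoly k hL.1
    (Snapper.isCoh_of_isInvertible (PicLoc.isInvertible_structureModule A.left))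
  have h0 : Q₀ = Polynomial.C (Curv2.euler k A.left L : ℚ) * Polynomial.X ^ g :=
    RR22.poly_ext 1 fun n hn => by
      rw [Polynomial.eval_mul, Polynomial.eval_C, Polynomial.eval_pow, Polynomial.eval_X, ← hQ₀ n,
        show ShStab.twist A.left L (Coh.structureModule A.left) n =
          CohB1.tensorMod (Coh.structureModule A.left) (CohB1.tensorPow L n) from rfl,
        CurveCoh17.euler_iso (M2.tensorLUnit _), euler_tensorPow_ample hL hg n hn]
      push_cast; ring
  rw [coeff_isHilbPoly_eq hg hL.1 hR hQ hQ₀, h0, Polynomial.coeff_C_mul_X_pow, if_pos rfl]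

include hφ hP hξ hg hL hLL' in
/-- The two polynomials at a rational number. -/
theorem exists_sided_polys {F : A.left.Modules} (hF : Coh.IsCoh F) (i : ℕ) (a : ℤ) (b : ℕ) (hb : 0 < b) :
    ∃ (ε : ℚ) (Pm Pp : Polynomial ℚ), 0 < ε ∧ Pm.natDegree ≤ g ∧ Pp.natDegree ≤ g ∧
      (∀ (c : ℤ) (d : ℕ), 0 < d → (a : ℚ) / b - ε < (c : ℚ) / d → (c : ℚ) / d ≤ (a : ℚ) / b →
        ((W4c5cohrankabvar.hgen k P (W4c5cohrankabvar.twist A F L L' d (c * d)) i : ℕ) : ℚ) / (d : ℚ) ^ (2 * g) =
          Pm.eval ((c : ℚ) / d)) ∧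
      (∀ (c : ℤ) (d : ℕ), 0 < d → (a : ℚ) / b ≤ (c : ℚ) / d → (c : ℚ) / d < (a : ℚ) / b + ε →
        ((W4c5cohrankabvar.hgen k P (W4c5cohrankabvar.twist A F L L' d (c * d)) i : ℕ) : ℚ) / (d : ℚ) ^ (2 * g) =
          Pp.eval ((c : ℚ) / d)) := by
  haveI : GeometricallyIntegral A.hom := AbRigid.geometricallyIntegral_of_smooth A
  haveI : GeometricallyIntegral At.hom := AbRigid.geometricallyIntegral_of_smooth At
  haveI : AlgebraicGeometry.IsIntegral A.left := GeometricallyIntegral.isIntegral_of_subsingleton A.hom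
  haveI : AlgebraicGeometry.IsIntegral At.left := GeometricallyIntegral.isIntegral_of_subsingleton At.hom
  haveI : IsLocallyNoetherian A.left := LocallyOfFiniteType.isLocallyNoetherian A.hom
  haveI : IsLocallyNoetherian At.left := LocallyOfFiniteType.isLocallyNoetherian At.hom
  haveI : CompactSpace A.left := QuasiCompact.compactSpace_of_compactSpace A.hom
  haveI : CompactSpace At.left := QuasiCompact.compactSpace_of_compactSpace At.hom
  haveI : AlgebraicGeometry.IsNoetherian A.left := {}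
  haveI : AlgebraicGeometry.IsNoetherian At.left := {}
  haveI := isCommMonObj_of_isProper_of_geometricallyIntegral A
  letI : A.left.Over (Spec (CommRingCat.of k)) := ⟨A.hom⟩
  haveI : IsProper (A.left ↘ Spec (CommRingCat.of k)) := inferInstanceAs (IsProper A.hom)
  have hL' := isInvertible_of_ample_inverse hL.1 hLL'
  let G := W4c5cohrankabvar.twist A F L L' b (a * b)
  have hG : Coh.IsCoh G := isCoh_twist hF hL.1 hL' b (a * b)
  let f : A ⟶ At := lamOf φ (PicGrp.cls L hL.1)
  haveI : IsFinite f.left := isFinite_lamOf hφ hL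
  haveI : Surjective f.left := (exists_endo hφ hL).choose_spec.2.1
  have hη : f.left (genericPoint A.left) = genericPoint At.left := (eq_genericPoint_of_image f.left).1
  let X : DM At.left := (phiK (fst A At).left (snd A At).left P).obj
    ((DerivedCategory.singleFunctor A.left.Modules 0).obj G)
  have hX : DCoh.IsPerfect (X : DCoh.D At.left) := isPerfect_phiK hP (isPerfect_single hG)
  obtain ⟨DX, hDX, ⟨pX⟩⟩ := BC8.exists_pairing_left_perfect X hX
  haveI := pX
  have hfm := isCoh_fmH hP hG (i : ℤ)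
  have hdc : Coh.IsCoh (DCoh.HD (DX : DCoh.D At.left) (-(i : ℤ))) :=
    DPerf.isCoh_HD_of_pseudoCoherent (DGen9.isPseudoCoherentD_of_isPerfect hDX _)
      (DGen9.isQCohD_of_isPerfect hDX _) le_rfl
  let R := (Scheme.Modules.pullback f.left).obj (fmH P G i)
  let R' := (Scheme.Modules.pullback f.left).obj (DCoh.HD (DX : DCoh.D At.left) (-(i : ℤ)))
  have hR : Coh.IsCoh R := M1.isCoh_pullback _ hfm
  have hR' : Coh.IsCoh R' := M1.isCoh_pullback _ hdc
  obtain ⟨Q, hQ⟩ := Snapper.exists_isHilbPoly k hL.1 hR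
  obtain ⟨Q', hQ'⟩ := Snapper.exists_isHilbPoly k hL.1 hR'
  have hdim : ∀ M : A.left.Modules, topologicalKrullDim (CohB1.support M) ≤ (g : WithBot ℕ∞) := fun M =>
    (Topology.IsInducing.subtypeVal (t := CohB1.support M)).topologicalKrullDim_le.trans hg.le
  have hQd := Snapper.natDegree_isHilbPoly_le hL.1 hR (hdim R) hQ
  have hQd' := Snapper.natDegree_isHilbPoly_le hL.1 hR' (hdim R') hQ'
  obtain ⟨ε₁, hε₁, hl⟩ := exists_left_expansion hφ hP hξ hg hL hLL' hF a b hb f rfl
  obtain ⟨ε₂, hε₂, hr⟩ := exists_right_expansion hφ hP hξ hL hLL' hg hF a b hb f rfl X DX hDX (Iso.refl _)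
  let K : ℚ := (b : ℚ) ^ (2 * g) * (Curv2.euler k A.left L : ℚ)
  have hχ : (0 : ℚ) < (Curv2.euler k A.left L : ℚ) := by exact_mod_cast euler_pos hL
  -- the value at the point
  have hrk : genRk R' = genRk R := by
    rw [genRk_pullback f.left hη hdc, genRk_pullback f.left hη hfm, genRk_dual X DX hX hDX, neg_neg]
  have hval : ∀ (c : ℤ) (d : ℕ), 0 < d → (c : ℚ) / d = (a : ℚ) / b → ∀ (M : A.left.Modules) (T : Polynomial ℚ),
      genRk M = genRk R → Coh.IsCoh M → ShStab.IsHilbPoly k A.left L M T →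
      ((W4c5cohrankabvar.hgen k P (W4c5cohrankabvar.twist A F L L' d (c * d)) i : ℕ) : ℚ) / (d : ℚ) ^ (2 * g) =
        T.coeff g / K := fun c d hd hcd M T hM hMc hT => by
    have hc : c * (b : ℤ) = a * (d : ℤ) := by
      rw [div_eq_div_iff (by exact_mod_cast hd.ne') (by exact_mod_cast hb.ne')] at hcd
      exact_mod_cast hcd
    rw [value_congr hφ hP hξ hg hL hLL' hF i c a d b hd hb hc, coeff_isHilbPoly_av hg hL hMc hT, hM,
      genRk_pullback f.left hη hfm, ← hgen_eq_genRk hP hG i]
    exact (mul_div_mul_right _ _ hχ.ne').symm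
  refine ⟨min ε₁ ε₂, sidePoly g Q K (-((b : ℚ) ^ 2)) ((b : ℚ) ^ 2 * ((a : ℚ) / b)),
    sidePoly g Q' K ((b : ℚ) ^ 2) (-((b : ℚ) ^ 2 * ((a : ℚ) / b))), lt_min hε₁ hε₂, natDegree_sidePoly g Q hQd _ _ _,
    natDegree_sidePoly g Q' hQd' _ _ _, fun c d hd h1 h2 => ?_, fun c d hd h1 h2 => ?_⟩
  · rcases h2.lt_or_eq with h3 | h3
    · rw [eval_sidePoly g Q hQd _ _ _ _ (by
          have : 0 < (b : ℚ) ^ 2 * ((a : ℚ) / b - (c : ℚ) / d) := mul_pos (by positivity) (sub_pos.2 h3)
          linarith),
        hl i Q hQ c d hd (lt_of_le_of_lt (sub_le_sub_left (min_le_left _ _) _) h1) h3]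
      simp only [K]; ring
    · rw [eval_sidePoly_zero g Q _ _ _ _ (by rw [h3]; ring), hval c d hd h3 R Q rfl hR hQ]
  · rcases h1.lt_or_eq with h3 | h3
    · rw [eval_sidePoly g Q' hQd' _ _ _ _ (by
          have : 0 < (b : ℚ) ^ 2 * ((c : ℚ) / d - (a : ℚ) / b) := mul_pos (by positivity) (sub_pos.2 h3)
          linarith),
        hr i Q' hQ' c d hd h3 (h2.trans_le (add_le_add_right (min_le_right _ _) _))]
      simp only [K]; ring
    · rw [eval_sidePoly_zero g Q' _ _ _ _ (by rw [← h3]; ring), hval c d hd h3.symm R' Q' hrk hR' hQ']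

end Groth.Agent.FMHyp13

end
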