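import Groth.Agent.Lib.FMHyp13.DualEnd
import Groth.Agent.Lib.CBC10.GenRows
import Groth.Agent.Lib.FMHyp13.RankPoly

/-!
# Supports of duals of truncations off the jump locus
-/

set_option autoImplicit false
set_option linter.style.haveILetI false
set_option linter.unusedSectionVars false
set_option backward.isDefEq.respectTransparency false
set_option backward.isDefEq.respectTransparency.types false
set_option maxHeartbeats 1600000

universe u

open CategoryTheory CategoryTheory.Limits MonoidalCategory CartesianMonoidalCategory AlgebraicGeometry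
open TopologicalSpace Pretriangulated
open scoped MonObj GrpObj

attribute [local instance] HasDerivedCategory.standard

noncomputable section

namespace Groth.Agent.FMHyp13

open DMon9 DBC9 TwistBC9 FMBase13 Groth.Agent Groth.Agent.RosTrace22

attribute [local instance] DBC9.hasRpush

variable {k : Type u} [Field k] [IsAlgClosed k] {A At : Over (Spec (CommRingCat.of k))} [GrpObj A] [GrpObj At]
  [IsProper A.hom] [Smooth A.hom] [GeometricallyConnected A.hom]
  [IsProper At.hom] [Smooth At.hom] [GeometricallyConnected At.hom]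
  {P : (PicF.XT A.hom At).Modules} (hP : PicF.IsInvertible P)

omit [GrpObj A] [GrpObj At] [GeometricallyConnected A.hom] [GeometricallyConnected At.hom] [IsAlgClosed k] in
/-- A coherent bounded object of a smooth variety is perfect. -/
theorem isPerfect_of_isCohD [Smooth At.hom] {K : DCoh.D At.left} (a b : ℤ) [K.IsGE a] [K.IsLE b]
    (hc : DCoh.IsCohD K) : DCoh.IsPerfect K := by
  haveI : IsLocallyNoetherian At.left := LocallyOfFiniteType.isLocallyNoetherian At.hom
  exact DPerf.isPerfect_iff_approx.2 (DPerf.isPerfect_of_regular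
    (fun x => SmoothReg17.isRegularLocalRing_stalk At.hom x) (b - a + 1).toNat a K inferInstance
    (fun j hj => DerivedCategory.isZero_of_isLE K b j (by omega)) hc)

/-- The point of a rational point. -/
theorem point_eq (α : 𝟙_ (Over (Spec (CommRingCat.of k))) ⟶ At)
    (z : ↥(𝟙_ (Over (Spec (CommRingCat.of k)))).left) : α.left z = CubeField.rpt α :=
  congrArg α.left (Subsingleton.elim (α := PrimeSpectrum k) _ _)

theorem isField_stalk_point (z : ↥(𝟙_ (Over (Spec (CommRingCat.of k)))).left) :
    IsField ((𝟙_ (Over (Spec (CommRingCat.of k)))).left.presheaf.stalk z) :=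
  Residual14.isField_stalk_of_etale_field (𝟙 (Spec (CommRingCat.of k))) _

variable (k) in
/-- The tensor unit is the spectrum of the field. -/
abbrev ptk : Scheme.{u} := (𝟙_ (Over (Spec (CommRingCat.of k)))).left

/-- Fibre zero at a rational point keeps it out of the support. -/
theorem rpt_notMem_support {E : DCoh.D At.left} (hE : DCoh.IsPerfect E) (l : ℤ)
    (α : 𝟙_ (Over (Spec (CommRingCat.of k))) ⟶ At) (h : IsZero (DCoh.HD ((lP α.left).obj E) l)) :
    CubeField.rpt α ∉ CohB1.support (DCoh.HD E l) := by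
  haveI : IsLocallyNoetherian At.left := LocallyOfFiniteType.isLocallyNoetherian At.hom
  let z : ↥(𝟙_ (Over (Spec (CommRingCat.of k)))).left := IsLocalRing.closedPoint k
  rw [← point_eq α z]
  exact notMem_support_of_fibre α.left z (fun z' => Subsingleton.elim (α := PrimeSpectrum k) _ _)
    (isField_stalk_point z) hE l h

/-- A support with no rational point outside a closed set lies in it. -/
theorem support_subset_of_rpt {N : At.left.Modules} (hN : Coh.IsCoh N) {Z : Set At.left} (hZ : IsClosed Z)
    (h : ∀ α : 𝟙_ (Over (Spec (CommRingCat.of k))) ⟶ At, CubeField.rpt α ∉ Z →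
      CubeField.rpt α ∉ CohB1.support N) : CohB1.support N ⊆ Z := by
  haveI : JacobsonSpace At.left := LocallyOfFiniteType.jacobsonSpace At.hom
  by_contra hcon
  obtain ⟨y, hy, hyZ⟩ := Set.not_subset.1 hcon
  obtain ⟨x, ⟨hx, hxZ⟩, hxc⟩ := nonempty_inter_closedPoints (Z := CohB1.support N ∩ Zᶜ) ⟨y, hy, hyZ⟩
    ((M1.isClosed_support hN.2).isLocallyClosed.inter hZ.isOpen_compl.isLocallyClosed)
  obtain ⟨α, rfl⟩ := CubeField.exists_rpt (X := At) hxc
  exact h α hxZ hx

/-- A dual pair over a rational point: fibres vanish in opposite degrees. -/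
theorem isZero_fibre_dual (E D : DM At.left) [ExactPairing E D] (hE : DCoh.IsPerfect (E : DCoh.D At.left))
    (hD : DCoh.IsPerfect (D : DCoh.D At.left)) (l : ℤ) (α : 𝟙_ (Over (Spec (CommRingCat.of k))) ⟶ At)
    (h : IsZero (DCoh.HD ((lP α.left).obj (E : DCoh.D At.left)) (-l))) :
    IsZero (DCoh.HD ((lP α.left).obj (D : DCoh.D At.left)) l) := by
  let f : Spec (CommRingCat.of k) ⟶ At.left := α.left
  letI : ExactPairing ((dPull f).obj E) ((dPull f).obj D) := Dual8.mapPairing (dPull f) E D
  exact PointDual.isZero_dual (R := CommRingCat.of k) (Field.toIsField k) ((dPull f).obj E) ((dPull f).obj D)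
    (isQCohD_lP f (DGen9.isQCohD_of_isPerfect hE)) (isQCohD_lP f (DGen9.isQCohD_of_isPerfect hD)) l h

omit [GrpObj A] [GrpObj At] [GeometricallyConnected A.hom] [GeometricallyConnected At.hom] [IsAlgClosed k] in
/-- The dual of an object bounded above is bounded below. -/
theorem isZero_HD_dual_of_isLE [LocallyOfFiniteType At.hom] (E D : DM At.left) [ExactPairing E D]
    (hE : DCoh.IsPerfect (E : DCoh.D At.left)) (hD : DCoh.IsPerfect (D : DCoh.D At.left)) (b : ℤ)
    [DerivedCategory.IsLE (E : DCoh.D At.left) b] (l : ℤ) (hl : l < -b) : IsZero (DCoh.HD (D : DCoh.D At.left) l) := by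
  haveI : IsLocallyNoetherian At.left := LocallyOfFiniteType.isLocallyNoetherian At.hom
  refine LocFreeDual.isZero_HD_of_fibres hD l fun y => ?_
  let f := At.left.fromSpecResidueField y
  letI : ExactPairing ((dPull f).obj E) ((dPull f).obj D) := Dual8.mapPairing (dPull f) E D
  haveI := BC8.isLE_lP f (E : DCoh.D At.left) b
  exact PointDual.isZero_dual (Field.toIsField (At.left.residueField y)) ((dPull f).obj E) ((dPull f).obj D)
    (isQCohD_lP f (DGen9.isQCohD_of_isPerfect hE)) (isQCohD_lP f (DGen9.isQCohD_of_isPerfect hD)) l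
    (DerivedCategory.isZero_of_isLE ((lP f).obj (E : DCoh.D At.left)) b (-l) (by omega))

include hP in
/-- The derived fibre of the transform at a rational point has the twisted dimensions. -/
theorem rkAt_fibre {G : A.left.Modules} (hG : Coh.IsCoh G) (i : ℕ) (α : 𝟙_ (Over (Spec (CommRingCat.of k))) ⟶ At)
    (z : ↥(𝟙_ (Over (Spec (CommRingCat.of k)))).left) :
    rkAt (DCoh.HD ((lP α.left).obj ((phiK (fst A At).left (snd A At).left P).obj
      ((DerivedCategory.singleFunctor A.left.Modules 0).obj G))) i) z = W4c5cohrankabvar.hAt k P G α i := by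
  haveI : IsLocallyNoetherian A.left := LocallyOfFiniteType.isLocallyNoetherian A.hom
  haveI : IsLocallyNoetherian At.left := LocallyOfFiniteType.isLocallyNoetherian At.hom
  haveI : CompactSpace A.left := QuasiCompact.compactSpace_of_compactSpace A.hom
  haveI : HasInjectiveResolutions A.left.Modules := CohFound.hasInjectiveResolutions_modules _
  haveI : IsProper (snd A At).left := inferInstanceAs (IsProper (pullback.snd A.hom At.hom))
  haveI : Flat (snd A At).left := inferInstanceAs (Flat (pullback.snd A.hom At.hom))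
  let Pt := W4c5cohrankabvar.ptLB P α
  have hPt : PicF.IsInvertible Pt := PicLoc.isInvertible_pullback _ hP
  obtain ⟨bc⟩ := nonempty_phiK_BC (fst A At).left (snd A At).left (isPullback_section (A := A) α) hP
  have h1 : (lift (𝟙 A) (toUnit A ≫ α)).left ≫ (fst A At).left = 𝟙 A.left := by
    rw [← Over.comp_left, lift_fst, Over.id_left]
  let S := (DerivedCategory.singleFunctor A.left.Modules 0).obj G
  let eB : (lP α.left).obj ((phiK (fst A At).left (snd A At).left P).obj S) ≅
      (DCoh.Rpush A.hom).obj ((tenF Pt).obj S) :=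
    bc.app ⟨S, DGen9.isQCohD_of_isPerfect (isPerfect_single hG)⟩ ≪≫ (phiKCongr _ _ h1 _).app S ≪≫
      (DCoh.Rpush A.hom).mapIso ((tenF Pt).mapIso ((lPId A.left).app S))
  obtain ⟨m⟩ := FMBase13.nonempty_modM_tensor G Pt hPt
  obtain ⟨h⟩ := Poinc13.nonempty_hd_rpush A.hom (CohB1.tensorMod G Pt) i
  let e : DCoh.HD ((lP α.left).obj ((phiK (fst A At).left (snd A At).left P).obj S)) i ≅
      (Coh.Rpush A.hom i).obj (CohB1.tensorMod G Pt) :=
    (DerivedCategory.homologyFunctor _ (i : ℤ)).mapIso (eB ≪≫ (DCoh.Rpush A.hom).mapIso ((m :))) ≪≫ h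
  have hz : z = genericPoint (Spec (CommRingCat.of k)) := Subsingleton.elim (α := PrimeSpectrum k) _ _
  subst hz
  exact (genRk_iso (S := Spec (CommRingCat.of k)) e).trans
    (genRk_rpush_point (CohFound.isCoh_tensor hG (CubeField.isCoh_of_isInvertible hPt)) i)

include hP in
/-- Where the twisted dimension is generic near a point, the transform is free there of that rank. -/
theorem free_fmH_of_const [IsIntegral At.left] {G : A.left.Modules} (hG : Coh.IsCoh G) (i : ℕ) {Z : Set At.left}
    (hZ : IsClosed Z) (hc : ∀ α : 𝟙_ (Over (Spec (CommRingCat.of k))) ⟶ At, CubeField.rpt α ∉ Z →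
      W4c5cohrankabvar.hAt k P G α i = W4c5cohrankabvar.hgen k P G i)
    (y : At.left) (hy : y ∉ Z) :
    Module.Free (At.left.presheaf.stalk y) ((fmH P G i).presheaf.stalk y) ∧
      Module.Finite (At.left.presheaf.stalk y) ((fmH P G i).presheaf.stalk y) ∧
      rkAt (fmH P G i) y = W4c5cohrankabvar.hgen k P G i := by
  have hM := isCoh_fmH hP hG (i : ℤ)
  haveI := isProper_snd (A := A) (At := At)
  haveI : IsLocallyNoetherian At.left := LocallyOfFiniteType.isLocallyNoetherian At.hom
  haveI : JacobsonSpace At.left := LocallyOfFiniteType.jacobsonSpace At.hom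
  haveI : CompactSpace At.left := QuasiCompact.compactSpace_of_compactSpace At.hom
  obtain ⟨hF, hfl⟩ := famM_props hP hG
  haveI := hF.1
  haveI : IsLocallyNoetherian (A ⊗ At).left := LocallyOfFiniteType.isLocallyNoetherian (snd A At).left
  haveI : HasInjectiveResolutions (A ⊗ At).left.Modules := CohFound.hasInjectiveResolutions_modules _
  haveI : LocallyOfFinitePresentation (snd A At).left := LimH13.locallyOfFinitePresentation_of_noetherian _
  set h := W4c5cohrankabvar.hgen k P G i with hh
  let r := CohIII.fiberRank (snd A At).left (famM P G) i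
  have hopen : ∀ n, IsOpen {s : At.left | r s < n} := fun n =>
    upperSemicontinuous_iff_isOpen_preimage.1
      (FibEuler9.upperSemicontinuous_betti _ _ (M1.isFP_of_isCoh hF) hfl i) n
  have hgenr : r (genericPoint At.left) = h := by
    rw [hh, hgen_eq_genRk hP hG i, ← fiberRank_eq_genRk hP hG i]
  have hconst : ∀ s : At.left, s ∉ Z → r s = h := fun s hs => by
    refine le_antisymm ?_ (Nat.lt_succ_iff.1 ?_)
    · obtain ⟨c, ⟨hcs, hcZ⟩, hcc⟩ := nonempty_inter_closedPoints (Z := closure ({s} : Set At.left) ∩ Zᶜ)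
        ⟨s, subset_closure rfl, hs⟩ (isClosed_closure.isLocallyClosed.inter hZ.isOpen_compl.isLocallyClosed)
      obtain ⟨α, rfl⟩ := CubeField.exists_rpt (X := At) hcc
      have : r (CubeField.rpt α) < h + 1 := by
        show CohIII.fiberRank (snd A At).left (famM P G) i (CubeField.rpt α) < h + 1
        rw [← hAt_eq_fiberRank hP hG α i, hc α hcZ]
        exact Nat.lt_succ_self _
      exact Nat.lt_succ_iff.1 ((specializes_iff_mem_closure.2 hcs).mem_open (hopen _) this)
    · have h1 := ((genericPoint_spec At.left).mem_open_set_iff (hopen (r s + 1))).2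
        ⟨s, trivial, Nat.lt_succ_self _⟩
      simp only [Set.mem_setOf_eq, hgenr] at h1
      exact h1
  let U₀ : At.left.Opens := ⟨Zᶜ, hZ.isOpen_compl⟩
  obtain ⟨V, hVU, M, hyV⟩ := CBC10.exists_model_at (snd A At).left (famM P G) (M1.isFP_of_isCoh hF) hfl
    (U := U₀) (s := y) hy
  have e : CohIII.dRank M.P (-(i : ℤ)) = fun _ => h := funext fun z => by
    have hz : M.isAffine.fromSpec z ∈ V := by
      rw [← SetLike.mem_coe, ← M.isAffine.range_fromSpec]
      exact ⟨z, rfl⟩
    have hz' : M.isAffine.primeIdealOf ⟨_, hz⟩ = z :=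
      M.isAffine.fromSpec.isOpenEmbedding.injective (M.isAffine.fromSpec_primeIdealOf _)
    exact ((M.fiberRank_eq hF.1 i ⟨_, hz⟩).trans (congrArg _ hz')).symm.trans (hconst _ (hVU hz))
  obtain ⟨f1, f2⟩ := CBC10.flat_cok_of_isLocallyConstant M.P (sub_add_cancel (-(i : ℤ)) 1)
    (e ▸ IsLocallyConstant.const h)
  have hlf := M.isFinLocFree_restrict hF.1 i f1 f2
  obtain ⟨zy, hzy⟩ : y ∈ Set.range M.isAffine.fromSpec := by rw [M.isAffine.range_fromSpec]; exact hyV
  obtain ⟨U', n, hzU, ⟨e'⟩⟩ := hlf zy
  obtain ⟨fr⟩ := M1.nonempty_fr_freeMod (U' : Scheme.{u}) (ULift.{u} (Fin n))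
  let eR := ((nonempty_fmH_rpush hP G).1 i).some
  obtain ⟨U, m, hyU, ⟨eU⟩⟩ := M1.exists_freeMod_of_openImmersion (U'.ι ≫ M.isAffine.fromSpec)
    (M := (fmH P G i)) ((M1.restrictRestrictIso _ M.isAffine.fromSpec U'.ι _ rfl).symm ≪≫
      (Scheme.Modules.restrictFunctor U'.ι).mapIso ((Scheme.Modules.restrictFunctor M.isAffine.fromSpec).mapIso eR) ≪≫
        e' ≪≫ eqToIso (by rw [Nat.card_ulift, Nat.card_fin]) ≪≫ fr.symm) ⟨zy, hzU⟩
  have hyU' : y ∈ U := by
    simpa [hzy] using hyU
  haveI := M1.free_stalk_of_freeMod hM.1 eU hyU'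
  refine ⟨inferInstance, M1.finite_stalk hM.1 hM.2 y, ?_⟩
  have hn := RankFree12.rk_of_freeMod hM.1 eU hyU'
  rw [RankFree12.rk, Module.finrank_baseChange] at hn
  have hg' := genRk_of_freeMod hM.1 eU (((genericPoint_spec At.left).mem_open_set_iff U.isOpen).2 ⟨y, trivial, hyU'⟩)
  rw [hgen_eq_genRk hP hG i] at hh
  exact hn.trans (hg'.symm.trans hh.symm)

end Groth.Agent.FMHyp13

end
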