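import Groth.Agent.Lib.FMHyp13.NearZero

/-!
# The rank functions to the left of a rational number, and their order of vanishing there
-/

set_option autoImplicit false
set_option linter.style.haveILetI false
set_option linter.unusedSectionVars false
set_option backward.isDefEq.respectTransparency false
set_option backward.isDefEq.respectTransparency.types false
set_option maxHeartbeats 1600000

universe u

open CategoryTheory CategoryTheory.Limits MonoidalCategory CartesianMonoidalCategory AlgebraicGeometry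
open TopologicalSpace
open scoped MonObj GrpObj

attribute [local instance] HasDerivedCategory.standard

noncomputable section

namespace Groth.Agent.FMHyp13

open DMon9 DBC9 TwistBC9 FMBase13 Groth.Agent Groth.Agent.RosTrace22

noncomputable local instance instLawLeftExp (Y : Scheme.{u}) : PicGrp.Law Y := M2.law Y

/-- The order of vanishing at zero of `s^g Q(1/s)`. -/
theorem growth_iff {g i : ℕ} (Q : Polynomial ℚ) (hdeg : Q.natDegree ≤ g) (hlead : Q = 0 ∨ 0 < Q.leadingCoeff)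
    (K : ℚ) (hK : 0 < K) (a : ℤ) (b : ℕ) (hb : 0 < b) (ε₀ : ℚ) (hε₀ : 0 < ε₀) (h : ℤ → ℕ → ℚ)
    (hh : ∀ (c : ℤ) (d : ℕ), 0 < d → (a : ℚ) / b - ε₀ < (c : ℚ) / d → (c : ℚ) / d < (a : ℚ) / b →
      h c d = ((b : ℚ) ^ 2 * ((a : ℚ) / b - (c : ℚ) / d)) ^ g *
        Q.eval (1 / ((b : ℚ) ^ 2 * ((a : ℚ) / b - (c : ℚ) / d))) / K) :
    (∃ (C ε : ℚ), 0 < ε ∧ ∀ (c : ℤ) (d : ℕ), 0 < d → (a : ℚ) / b - ε < (c : ℚ) / d → (c : ℚ) / d < (a : ℚ) / b →
        h c d ≤ C * ((a : ℚ) / b - (c : ℚ) / d) ^ i) ↔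
      (Q = 0 ∨ Q.natDegree + i ≤ g) := by
  have hbq : (0 : ℚ) < b := by exact_mod_cast hb
  constructor
  · rintro ⟨C, ε, hε, hC⟩
    rcases hlead with h0 | hlc
    · exact Or.inl h0
    refine Or.inr (not_lt.1 fun hlt => ?_)
    have hQ0 : Q ≠ 0 := Polynomial.leadingCoeff_ne_zero.1 hlc.ne'
    let C' : ℚ := C * K / ((b : ℚ) ^ 2) ^ i
    let p : Polynomial ℚ := Q * Polynomial.X ^ i - Polynomial.C C' * Polynomial.X ^ g
    have hd : (Polynomial.C C' * Polynomial.X ^ g).degree < (Q * Polynomial.X ^ i).degree := by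
      refine (Polynomial.degree_C_mul_X_pow_le g C').trans_lt ?_
      rw [Polynomial.degree_mul, Polynomial.degree_X_pow, Polynomial.degree_eq_natDegree hQ0]
      exact_mod_cast hlt
    have hpd : 0 < p.degree := by
      rw [Polynomial.degree_sub_eq_left_of_degree_lt hd, Polynomial.degree_mul, Polynomial.degree_X_pow,
        Polynomial.degree_eq_natDegree hQ0]
      exact_mod_cast (show 0 < Q.natDegree + i by omega)
    have hpl : 0 ≤ p.leadingCoeff := by
      rw [Polynomial.leadingCoeff_sub_of_degree_lt hd, Polynomial.leadingCoeff_mul_X_pow]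
      exact hlc.le
    have htop := ((Polynomial.tendsto_atTop_of_leadingCoeff_nonneg p hpd hpl).comp
      tendsto_natCast_atTop_atTop).eventually_gt_atTop 0
    obtain ⟨n₁, hn₁⟩ := Filter.eventually_atTop.1 htop
    obtain ⟨n₂, hn₂⟩ := exists_nat_gt (1 / ((b : ℚ) ^ 2 * min ε ε₀))
    let n := max n₁ n₂ + 1
    have hn : 0 < n := Nat.succ_pos _
    have hnq : (0 : ℚ) < n := by exact_mod_cast hn
    let c : ℤ := a * b * n - 1
    let d : ℕ := b * b * n
    have hd0 : 0 < d := Nat.mul_pos (Nat.mul_pos hb hb) hn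
    have hsub : (a : ℚ) / b - (c : ℚ) / d = 1 / ((b : ℚ) ^ 2 * n) := by
      simp only [c, d]; push_cast; field_simp; ring
    have hlt1 : (c : ℚ) / d < (a : ℚ) / b := by
      have : 0 < 1 / ((b : ℚ) ^ 2 * n) := by positivity
      linarith
    have hsmall : 1 / ((b : ℚ) ^ 2 * n) < min ε ε₀ := by
      have hn' : 1 / ((b : ℚ) ^ 2 * min ε ε₀) < (n : ℚ) := hn₂.trans_le (by exact_mod_cast (by omega : n₂ ≤ n))
      rw [div_lt_iff₀ (by positivity)] at hn' ⊢
      linarith
    have hgt : ∀ δ, min ε ε₀ ≤ δ → (a : ℚ) / b - δ < (c : ℚ) / d := fun δ hδ => by linarith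
    have h1 := hC c d hd0 (hgt ε (min_le_left _ _)) hlt1
    rw [hh c d hd0 (hgt ε₀ (min_le_right _ _)) hlt1, hsub] at h1
    have hb2 : ((b : ℚ) ^ 2) * (1 / ((b : ℚ) ^ 2 * n)) = 1 / n := by field_simp
    rw [hb2, one_div_one_div] at h1
    have hp := hn₁ n (by omega)
    simp only [Function.comp, p, C', Polynomial.eval_sub, Polynomial.eval_mul, Polynomial.eval_C, Polynomial.eval_pow,
      Polynomial.eval_X] at hp
    rw [div_le_iff₀ hK, one_div_pow, one_div_pow, one_div_mul_eq_div, div_le_iff₀ (by positivity), mul_pow] at h1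
    have h2 : C * (1 / (((b : ℚ) ^ 2) ^ i * (n : ℚ) ^ i)) * K * (n : ℚ) ^ g * (n : ℚ) ^ i =
        C * K / ((b : ℚ) ^ 2) ^ i * (n : ℚ) ^ g := by field_simp
    nlinarith [mul_le_mul_of_nonneg_right h1 (pow_nonneg hnq.le i)]
  · intro hcases
    refine ⟨(∑ j ∈ Finset.range (Q.natDegree + 1), |Q.coeff j|) * ((b : ℚ) ^ 2) ^ i / K,
      min ε₀ (1 / (b : ℚ) ^ 2), lt_min hε₀ (by positivity), fun c d hd h1 h2 => ?_⟩
    have hm1 := min_le_left ε₀ (1 / (b : ℚ) ^ 2)
    have hm2 := min_le_right ε₀ (1 / (b : ℚ) ^ 2)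
    rw [hh c d hd (by linarith) h2]
    set t := (a : ℚ) / b - (c : ℚ) / d with ht
    have ht0 : 0 < t := by linarith
    have ht1 : t * (b : ℚ) ^ 2 ≤ 1 := by
      rw [← le_div_iff₀ (by positivity)]; linarith
    set s := (b : ℚ) ^ 2 * t with hs
    have hs0 : 0 < s := by positivity
    have hs1 : s ≤ 1 := by rw [hs, mul_comm]; exact ht1
    rw [div_mul_eq_mul_div, mul_assoc, ← mul_pow, ← hs]
    refine (div_le_div_iff_of_pos_right hK).2 ?_
    rcases hcases with rfl | hdi
    · rw [Polynomial.eval_zero, mul_zero]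
      exact mul_nonneg (Finset.sum_nonneg fun j _ => abs_nonneg _) (pow_nonneg hs0.le i)
    rw [Polynomial.eval_eq_sum_range, Finset.mul_sum, Finset.sum_mul]
    refine Finset.sum_le_sum fun j hj => ?_
    have hjg : j + i ≤ g := by have := Finset.mem_range.1 hj; omega
    have e : s ^ g * (1 / s) ^ j = s ^ (g - j) := by
      rw [one_div_pow, mul_one_div, pow_sub₀ s hs0.ne' (by omega), div_eq_mul_inv]
    calc s ^ g * (Q.coeff j * (1 / s) ^ j) = Q.coeff j * s ^ (g - j) := by rw [← e]; ring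
      _ ≤ |Q.coeff j| * s ^ i := by
        refine (mul_le_mul_of_nonneg_right (le_abs_self _) (pow_nonneg hs0.le _)).trans ?_
        exact mul_le_mul_of_nonneg_left (pow_le_pow_of_le_one hs0.le hs1 (by omega)) (abs_nonneg _)

variable {k : Type u} [Field k] [IsAlgClosed k] {A At : Over (Spec (CommRingCat.of k))} [GrpObj A] [GrpObj At]
  [IsProper A.hom] [Smooth A.hom] [GeometricallyConnected A.hom]
  [IsProper At.hom] [Smooth At.hom] [GeometricallyConnected At.hom]
  {φ : AgPol.DualMap A At} (hφ : AbDual.IsDualAV Scheme.fppfPrecoverage A At φ)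
  {P : (PicF.XT A.hom At).Modules} (hP : PicF.IsInvertible P) (hξ : AbDual.IsPoincareCl A At φ (PicF.cl P))
  {g : ℕ} (hg : topologicalKrullDim A.left = g) {L L' : A.left.Modules} (hL : CohB1.IsAmple L)
  (hLL' : Nonempty (CohB1.tensorMod L L' ≅ Coh.structureModule A.left))

include hφ hP hξ hg hL hLL' in
/-- The generic dimensions do not depend on the representative of the rational twist, up to the degree. -/
theorem hgen_twist_rescale {F : A.left.Modules} (hF : Coh.IsCoh F) (i b : ℕ) (m : ℤ) (d : ℕ) (hd : 0 < d) :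
    W4c5cohrankabvar.hgen k P (W4c5cohrankabvar.twist A F L L' (b * d) (m * ((d * d : ℕ) : ℤ))) i =
      d ^ (2 * g) * W4c5cohrankabvar.hgen k P (W4c5cohrankabvar.twist A F L L' b m) i := by
  haveI : GeometricallyIntegral A.hom := AbRigid.geometricallyIntegral_of_smooth A
  haveI := isCommMonObj_of_isProper_of_geometricallyIntegral A
  have hL' := isInvertible_of_ample_inverse hL.1 hLL'
  obtain ⟨N, hN, hInv, ⟨e⟩⟩ := exists_pull_pow_twist F hL.1 hL' hLL' b m d
  rw [← hgen_pullback_pow hφ hP hξ hg (isCoh_twist hF hL.1 hL' b m) i d hd, hgen_congr e,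
    hgen_shift hP hφ hξ hL _ hN hInv]

include hφ hP hξ hg hL hLL' in
/-- Euler characteristics of rational twists are values of the Hilbert polynomial. -/
theorem euler_twist_poly {R : A.left.Modules} (hR : Coh.IsCoh R) {Q : Polynomial ℚ}
    (hQ : @ShStab.IsHilbPoly k _ A.left ⟨A.hom⟩ L R Q) (a : ℕ) (ha : 0 < a) (m : ℕ) :
    (@Curv2.euler k _ A.left ⟨A.hom⟩ (W4c5cohrankabvar.twist A R L L' a ((a * m : ℕ) : ℤ)) : ℚ) =
      (a : ℚ) ^ (2 * g) * Q.eval ((m : ℚ) / a) := by
  haveI : GeometricallyIntegral A.hom := AbRigid.geometricallyIntegral_of_smooth A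
  haveI : GeometricallyIntegral At.hom := AbRigid.geometricallyIntegral_of_smooth At
  haveI : AlgebraicGeometry.IsIntegral At.left := GeometricallyIntegral.isIntegral_of_subsingleton At.hom
  haveI : IsLocallyNoetherian A.left := LocallyOfFiniteType.isLocallyNoetherian A.hom
  haveI := isCommMonObj_of_isProper_of_geometricallyIntegral A
  letI : A.left.Over (Spec (CommRingCat.of k)) := ⟨A.hom⟩
  haveI : IsProper (A.left ↘ Spec (CommRingCat.of k)) := inferInstanceAs (IsProper A.hom)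
  have hL' := isInvertible_of_ample_inverse hL.1 hLL'
  let Ra := (Scheme.Modules.pullback ((𝟙 A) ^ a).left).obj R
  obtain ⟨Qa, hQa⟩ := Snapper.exists_isHilbPoly k hL.1 (M1.isCoh_pullback ((𝟙 A) ^ a).left hR : Coh.IsCoh Ra)
  have key : ∀ n : ℕ, Qa.eval ((a : ℚ) ^ 2 * n) = (a : ℚ) ^ (2 * g) * Q.eval (n : ℚ) := fun n => by
    obtain ⟨hf, hfl, -⟩ := AVDegree22.isFinite_flat_surjective_pow A ha
    haveI := hf; haveI := hfl
    obtain ⟨N, hN, hInv, ⟨e⟩⟩ := exists_pull_pow_twist R hL.1 hL' hLL' 1 (n : ℤ) a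
    obtain ⟨pt0, ⟨eN⟩⟩ := exists_point_of_inv hφ hP hξ hL hN hInv
    let X := W4c5cohrankabvar.twist A R L L' (1 * a) ((n : ℤ) * ((a * a : ℕ) : ℤ))
    have hX : Coh.IsCoh X := isCoh_twist hR hL.1 hL' _ _
    let eX : CohB1.tensorMod Ra (CohB1.tensorPow L (n * (a * a))) ≅ X :=
      M2.tensorIso ((Scheme.Modules.pullbackCongr (by rw [one_mul])).app R) (eqToIso (by rw [← Nat.cast_mul]; rfl))
    have h1 : ((𝟙 A) ^ 1).left = 𝟙 A.left := by rw [pow_one, Over.id_left]
    let e1 : W4c5cohrankabvar.twist A R L L' 1 (n : ℤ) ≅ CohB1.tensorMod R (CohB1.tensorPow L n) :=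
      M2.tensorIso ((Scheme.Modules.pullbackCongr h1).app R ≪≫ (Scheme.Modules.pullbackId _).app R) (Iso.refl _)
    have hN' : @Curv2.euler k _ A.left ⟨A.hom⟩ (CohB1.tensorMod X N) = @Curv2.euler k _ A.left ⟨A.hom⟩ X := by
      rw [CurveCoh17.euler_iso (M2.tensorIso (Iso.refl X) eN), euler_twist_eq hP hX,
        euler_eq_finsum_genRk hφ hP hξ hX]
    have hpb := IsogEuler22.euler_pullback ((𝟙 A) ^ a) (a ^ (2 * g)) (AVDegree22.finrank_pow A hg ha)
      (isCoh_twist hR hL.1 hL' 1 (n : ℤ))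
    rw [CurveCoh17.euler_iso e, hN', CurveCoh17.euler_iso e1, ← CurveCoh17.euler_iso eX] at hpb
    have h2 := hQa (n * (a * a))
    rw [show ShStab.twist A.left L Ra (n * (a * a)) = CohB1.tensorMod Ra (CohB1.tensorPow L (n * (a * a))) from rfl,
      hpb] at h2
    rw [show (a : ℚ) ^ 2 * n = ((n * (a * a) : ℕ) : ℚ) by push_cast; ring, ← h2, ← hQ n]
    push_cast
    rfl
  have hpoly : Qa.comp (Polynomial.C ((a : ℚ) ^ 2) * Polynomial.X) = Polynomial.C ((a : ℚ) ^ (2 * g)) * Q := by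
    refine Polynomial.eq_of_infinite_eval_eq _ _ (Set.Infinite.mono ?_ (Set.infinite_range_of_injective
      (f := fun n : ℕ => (n : ℚ)) Nat.cast_injective))
    rintro _ ⟨n, rfl⟩
    rw [Set.mem_setOf_eq, Polynomial.eval_comp, Polynomial.eval_mul, Polynomial.eval_C, Polynomial.eval_X,
      Polynomial.eval_mul, Polynomial.eval_C]
    exact key n
  have h := congrArg (Polynomial.eval ((m : ℚ) / a)) hpoly
  rw [Polynomial.eval_comp, Polynomial.eval_mul, Polynomial.eval_C, Polynomial.eval_X, Polynomial.eval_mul,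
    Polynomial.eval_C] at h
  have ha' : (a : ℚ) ≠ 0 := Nat.cast_ne_zero.2 ha.ne'
  rw [← h, show (a : ℚ) ^ 2 * ((m : ℚ) / a) = ((a * m : ℕ) : ℚ) by push_cast; field_simp, ← hQa (a * m)]
  rfl

include hL in
omit [GrpObj A] [GeometricallyConnected A.hom] in
/-- The Euler characteristic of an ample module on an abelian variety is positive. -/
theorem euler_pos [GrpObj A] [GeometricallyIntegral A.hom] : 0 < @Curv2.euler k _ A.left ⟨A.hom⟩ L := by
  letI : A.left.Over (Spec (CommRingCat.of k)) := ⟨A.hom⟩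
  haveI : IsProper (A.left ↘ Spec (CommRingCat.of k)) := inferInstanceAs (IsProper A.hom)
  haveI := CohFound.finite_HH_of_isProper (A := k) _ (Snapper.isCoh_of_isInvertible hL.1) 0
  haveI := MumVan22.nontrivial_of_isAmple (k := k) (A := A) hL
  rw [← finrank_HH_zero_eq_euler (k := k) fun i hi => MumVan22.subsingleton_of_isAmple hL hi]
  exact_mod_cast Module.finrank_pos

include hφ hP hξ hg hL hLL' in
/-- The expansion of the rank functions to the left of `a/b`. -/
theorem exists_left_expansion {F : A.left.Modules} (hF : Coh.IsCoh F) (a : ℤ) (b : ℕ) (hb : 0 < b) (f : A ⟶ At)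
    (hf : f = lamOf φ (PicGrp.cls L hL.1)) :
    ∃ ε : ℚ, 0 < ε ∧ ∀ (i : ℕ) (Q : Polynomial ℚ),
      @ShStab.IsHilbPoly k _ A.left ⟨A.hom⟩ L ((Scheme.Modules.pullback f.left).obj
        (fmH P (W4c5cohrankabvar.twist A F L L' b (a * b)) i)) Q →
      ∀ (c : ℤ) (d : ℕ), 0 < d → (a : ℚ) / b - ε < (c : ℚ) / d → (c : ℚ) / d < (a : ℚ) / b →
        ((W4c5cohrankabvar.hgen k P (W4c5cohrankabvar.twist A F L L' d (c * d)) i : ℕ) : ℚ) / (d : ℚ) ^ (2 * g) =
          ((b : ℚ) ^ 2 * ((a : ℚ) / b - (c : ℚ) / d)) ^ g *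
            Q.eval (1 / ((b : ℚ) ^ 2 * ((a : ℚ) / b - (c : ℚ) / d))) /
              ((b : ℚ) ^ (2 * g) * (@Curv2.euler k _ A.left ⟨A.hom⟩ L : ℚ)) := by
  haveI : GeometricallyIntegral A.hom := AbRigid.geometricallyIntegral_of_smooth A
  haveI : IsLocallyNoetherian A.left := LocallyOfFiniteType.isLocallyNoetherian A.hom
  haveI := isCommMonObj_of_isProper_of_geometricallyIntegral A
  have hL' := isInvertible_of_ample_inverse hL.1 hLL'
  let G := W4c5cohrankabvar.twist A F L L' b (a * b)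
  have hG : Coh.IsCoh G := isCoh_twist hF hL.1 hL' b (a * b)
  obtain ⟨N, hN⟩ := exists_uniform_power hP hL hG f
  refine ⟨1 / (((N : ℚ) + 1) * (b : ℚ) ^ 2), by positivity, fun i Q hQ c d hd h1 h2 => ?_⟩
  have hbq : (0 : ℚ) < b := by exact_mod_cast hb
  have hdq : (0 : ℚ) < d := by exact_mod_cast hd
  have hpos : 0 < (b : ℤ) * (a * d - c * b) := by
    rw [div_lt_div_iff₀ hdq hbq] at h2
    have : c * (b : ℤ) < a * (d : ℤ) := by exact_mod_cast h2
    exact mul_pos (by exact_mod_cast hb) (by linarith)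
  obtain ⟨e, he⟩ := Int.eq_ofNat_of_zero_le hpos.le
  have he0 : 0 < e := by exact_mod_cast he ▸ hpos
  have hse : (e : ℚ) / d = (b : ℚ) ^ 2 * ((a : ℚ) / b - (c : ℚ) / d) := by
    have : (e : ℚ) = (b : ℚ) * ((a : ℚ) * d - c * b) := by exact_mod_cast he.symm
    rw [this]; field_simp
  have hlt : (N : ℚ) < (d : ℚ) / (e : ℚ) := by
    have heq : (0 : ℚ) < e := by exact_mod_cast he0
    have hs : (e : ℚ) / d < 1 / ((N : ℚ) + 1) := by
      rw [hse]
      calc (b : ℚ) ^ 2 * ((a : ℚ) / b - (c : ℚ) / d) < (b : ℚ) ^ 2 * (1 / (((N : ℚ) + 1) * (b : ℚ) ^ 2)) :=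
            mul_lt_mul_of_pos_left (by linarith) (by positivity)
        _ = 1 / ((N : ℚ) + 1) := by field_simp
    rw [div_lt_div_iff₀ hdq (by positivity)] at hs
    rw [lt_div_iff₀ heq]
    linarith
  have h := hgen_near_zero hφ hP hξ hL hLL' hg hG f hf N hN e d he0 hlt i
  rw [euler_tensorPow_ample hL hg (e * d) (Nat.mul_pos he0 hd)] at h
  have hev := euler_twist_poly hφ hP hξ hg hL hLL' (M1.isCoh_pullback f.left (isCoh_fmH hP hG (i : ℤ))) hQ e he0 d
  rw [show ((e * d : ℕ) : ℤ) = (e : ℤ) * (d : ℤ) by push_cast; ring] at hev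
  -- back to `F`
  obtain ⟨M, hM, hInv, ⟨eM⟩⟩ := exists_pull_pow_twist F hL.1 hL' hLL' b (a * b) d
  have z₁ := isInvertible_zpow hL.1 hL' (a * b * ((d * d : ℕ) : ℤ))
  have z₂ := isInvertible_zpow hL.1 hL' (-((e : ℤ) * (d : ℤ)))
  obtain ⟨ez⟩ : Nonempty (CohB1.tensorMod (W4c5cohrankabvar.zpow L L' (a * b * ((d * d : ℕ) : ℤ)))
      (W4c5cohrankabvar.zpow L L' (-((e : ℤ) * (d : ℤ)))) ≅
        W4c5cohrankabvar.zpow L L' (c * d * ((b * b : ℕ) : ℤ))) := by
    refine FMBase13.nonempty_iso_of_cls (hL := M2.isInvertible_tensor z₁ z₂) (hM := isInvertible_zpow hL.1 hL' _) ?_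
    rw [← AlgEquiv22.cls_tensor z₁ z₂, cls_zpow hL.1 hL' hLL', cls_zpow hL.1 hL' hLL', cls_zpow hL.1 hL' hLL', ← zpow_add]
    congr 1
    rw [← he]; push_cast; ring
  let e' : W4c5cohrankabvar.twist A G L L' d (-((e : ℤ) * (d : ℤ))) ≅
      CohB1.tensorMod (W4c5cohrankabvar.twist A F L L' (b * d) (c * d * ((b * b : ℕ) : ℤ))) M :=
    M2.tensorIso eM (Iso.refl _) ≪≫ M2.tensorAssoc _ _ _ ≪≫ M2.tensorIso (Iso.refl _) (M2.tensorComm _ _) ≪≫
      (M2.tensorAssoc _ _ _).symm ≪≫
      M2.tensorIso (M2.tensorAssoc _ _ _ ≪≫ M2.tensorIso (Iso.refl _) ez) (Iso.refl M)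
  rw [hgen_congr e', hgen_shift hP hφ hξ hL _ hM hInv, mul_comm b d,
    hgen_twist_rescale hφ hP hξ hg hL hLL' hF i d (c * d) b hb] at h
  have hq := congrArg (Int.cast (R := ℚ)) h
  push_cast at hq
  rw [hev] at hq
  have hχ : (0 : ℚ) < (@Curv2.euler k _ A.left ⟨A.hom⟩ L : ℚ) := by exact_mod_cast euler_pos hL
  have heq : (0 : ℚ) < e := by exact_mod_cast he0
  rw [← hse, one_div_div, div_pow, div_eq_div_iff (by positivity) (by positivity)]
  refine mul_left_cancel₀ (pow_ne_zero g heq.ne') ?_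
  rw [div_mul_eq_mul_div, div_mul_eq_mul_div, mul_div_assoc', eq_div_iff (by positivity)]
  rw [mul_pow] at hq
  ring_nf at hq ⊢
  linarith

include hφ hP hξ hg in
/-- There are no transforms above the dimension. -/
theorem support_fmH_empty {G : A.left.Modules} (hG : Coh.IsCoh G) (i : ℕ) (hi : g < i) :
    CohB1.support (fmH P G i) = ∅ := by
  haveI : JacobsonSpace At.left := LocallyOfFiniteType.jacobsonSpace At.hom
  haveI : IsLocallyNoetherian A.left := LocallyOfFiniteType.isLocallyNoetherian A.hom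
  haveI : CompactSpace A.left := QuasiCompact.compactSpace_of_compactSpace A.hom
  refine Set.eq_empty_iff_forall_notMem.2 fun y hy => ?_
  obtain ⟨x, hx, hxc⟩ := nonempty_inter_closedPoints ⟨y, hy⟩
    (M1.isClosed_support (isCoh_fmH hP hG (i : ℤ)).2).isLocallyClosed
  obtain ⟨t, rfl⟩ := CubeField.exists_rpt (X := At) hxc
  obtain ⟨l, hl, hpos⟩ := exists_hAt_of_mem_support hP hG t i (by omega) hx
  refine hpos.ne' ((hAt_eq_zero_iff hP hG t l).2 ?_)
  rw [CohFound.subsingleton_HH_iff]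
  exact subsingleton_hc_of_dim_stalk hg.le _ 0 (fun z _ => by exact_mod_cast ringKrullDim_nonneg_of_nontrivial)
    l (by omega)

include hφ hP hξ hg hL hLL' in
/-- The order of vanishing on the left measures the supports of the transforms. -/
theorem growth_iff_support {F : A.left.Modules} (hF : Coh.IsCoh F) (a : ℤ) (b : ℕ) (hb : 0 < b) (i j : ℕ) :
    (∃ (C ε : ℚ), 0 < ε ∧ ∀ (c : ℤ) (d : ℕ), 0 < d →
        (a : ℚ) / (b : ℚ) - ε < (c : ℚ) / (d : ℚ) → (c : ℚ) / (d : ℚ) < (a : ℚ) / (b : ℚ) →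
        ((W4c5cohrankabvar.hgen k P (W4c5cohrankabvar.twist A F L L' d (c * d)) i : ℕ) : ℚ) / (d : ℚ) ^ (2 * g) ≤
          C * ((a : ℚ) / (b : ℚ) - (c : ℚ) / (d : ℚ)) ^ j) ↔
      ∀ y ∈ CohB1.support (fmH P (W4c5cohrankabvar.twist A F L L' b (a * b)) i), VarDim.sdim At.hom y + j ≤ g := by
  haveI : GeometricallyIntegral A.hom := AbRigid.geometricallyIntegral_of_smooth A
  haveI : GeometricallyIntegral At.hom := AbRigid.geometricallyIntegral_of_smooth At
  haveI : IsLocallyNoetherian A.left := LocallyOfFiniteType.isLocallyNoetherian A.hom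
  haveI : AlgebraicGeometry.IsIntegral A.left := GeometricallyIntegral.isIntegral_of_subsingleton A.hom
  haveI : AlgebraicGeometry.IsIntegral At.left := GeometricallyIntegral.isIntegral_of_subsingleton At.hom
  haveI := isCommMonObj_of_isProper_of_geometricallyIntegral A
  letI : A.left.Over (Spec (CommRingCat.of k)) := ⟨A.hom⟩
  haveI : IsProper (A.left ↘ Spec (CommRingCat.of k)) := inferInstanceAs (IsProper A.hom)
  have hL' := isInvertible_of_ample_inverse hL.1 hLL'
  let G := W4c5cohrankabvar.twist A F L L' b (a * b)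
  have hG : Coh.IsCoh G := isCoh_twist hF hL.1 hL' b (a * b)
  let f : A ⟶ At := lamOf φ (PicGrp.cls L hL.1)
  haveI : IsFinite f.left := isFinite_lamOf hφ hL
  haveI : Surjective f.left := (exists_endo hφ hL).choose_spec.2.1
  have hfm := isCoh_fmH hP hG (i : ℤ)
  let R := (Scheme.Modules.pullback f.left).obj (fmH P G i)
  have hR : Coh.IsCoh R := M1.isCoh_pullback _ hfm
  obtain ⟨Q, hQ⟩ := Snapper.exists_isHilbPoly k hL.1 hR
  have hdimA : topologicalKrullDim (CohB1.support R) ≤ (g : WithBot ℕ∞) :=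
    (Topology.IsInducing.subtypeVal (t := CohB1.support R)).topologicalKrullDim_le.trans hg.le
  have hlead : Q = 0 ∨ 0 < Q.leadingCoeff := by
    by_cases hz : IsZero R
    · exact Or.inl ((Snapper.isHilbPoly_eq_zero_iff hL hR hQ).2 hz)
    · exact Or.inr (Snapper.leadingCoeff_isHilbPoly_pos hL hR hz hQ)
  obtain ⟨ε, hε, hexp⟩ := exists_left_expansion hφ hP hξ hg hL hLL' hF a b hb f rfl
  have hχ : (0 : ℚ) < (@Curv2.euler k _ A.left ⟨A.hom⟩ L : ℚ) := by exact_mod_cast euler_pos hL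
  rw [growth_iff Q (Snapper.natDegree_isHilbPoly_le hL.1 hR hdimA hQ) hlead
    ((b : ℚ) ^ (2 * g) * (@Curv2.euler k _ A.left ⟨A.hom⟩ L : ℚ)) (by positivity) a b hb ε hε
    (fun c d => ((W4c5cohrankabvar.hgen k P (W4c5cohrankabvar.twist A F L L' d (c * d)) i : ℕ) : ℚ) / (d : ℚ) ^ (2 * g))
    (fun c d hd h1 h2 => hexp i Q hQ c d hd h1 h2)]
  have hsupp : CohB1.support R = f.left.base ⁻¹' CohB1.support (fmH P G i) := M2.support_pullback f.left hfm.1 hfm.2
  have hcl := M1.isClosed_support hfm.2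
  have himg : topologicalKrullDim ↥(CohB1.support (fmH P G i)) = topologicalKrullDim ↥(CohB1.support R) := by
    conv_lhs => rw [← Set.image_preimage_eq (CohB1.support (fmH P G i)) f.left.surjective]
    rw [hsupp, dim_image_of_finite f.left (hcl.preimage f.left.continuous)]
  by_cases hz : IsZero R
  · refine iff_of_true (Or.inl ((Snapper.isHilbPoly_eq_zero_iff hL hR hQ).2 hz)) fun y hy => ?_
    obtain ⟨x, rfl⟩ := f.left.surjective y
    have hx : x ∈ CohB1.support R := by rw [hsupp]; exact hy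
    exact absurd (AddCommGrpCat.subsingleton_of_isZero ((M1.stalkAb x).map_isZero hz)) hx
  · have hQ0 : Q ≠ 0 := fun h => hz ((Snapper.isHilbPoly_eq_zero_iff hL hR hQ).1 h)
    obtain ⟨δ, hδ⟩ := Snapper.exists_dim_support k hz
    rw [Snapper.natDegree_isHilbPoly hL hR hδ hQ, or_iff_right hQ0]
    constructor
    · intro h y hy
      have hy' : closure ({y} : Set At.left) ⊆ CohB1.support (fmH P G i) :=
        closure_minimal (Set.singleton_subset_iff.2 hy) hcl
      have h1 := (Topology.IsEmbedding.inclusion hy').isInducing.topologicalKrullDim_le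
      rw [VarDim.dim_closure_singleton At.hom y, himg, hδ] at h1
      have : VarDim.sdim At.hom y ≤ δ := by exact_mod_cast h1
      omega
    · intro h
      obtain ⟨y₀, hy₀⟩ : (CohB1.support (fmH P G i)).Nonempty := by
        rw [Set.nonempty_iff_ne_empty]
        intro he
        refine hz (SerreCl8.isZero_of_support_eq_empty ?_)
        rw [hsupp, he, Set.preimage_empty]
      have := h y₀ hy₀
      have h1 := ProjDual12.dim_le_of_forall_sdim At.hom hcl (d := g - j) fun y hy => by have := h y hy; omega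
      rw [himg, hδ] at h1
      have : δ ≤ g - j := by exact_mod_cast h1
      omega

end Groth.Agent.FMHyp13

end
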