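import Groth.Agent.Lib.FMHyp13.GVDual

/-!
# An object dual to a torsion-free sheaf is regular
-/

set_option autoImplicit false
set_option linter.style.haveILetI false
set_option linter.unusedSectionVars false
set_option backward.isDefEq.respectTransparency false
set_option backward.isDefEq.respectTransparency.types false
set_option maxHeartbeats 1600000

universe u

open CategoryTheory CategoryTheory.Limits MonoidalCategory AlgebraicGeometry IsLocalRing

attribute [local instance] HasDerivedCategory.standard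

noncomputable section

namespace Groth.Agent.FMHyp13

open DMon9 DBaseChange DPerf.LocalFibre KFlat.Sch

/-- If the dual is a torsion-free sheaf, cohomology in degree `i > 0` avoids points of dimension at most `i`. -/
theorem mreg_of_dual {Y : Scheme.{u}} [IsLocallyNoetherian Y]
    (hCM : ∀ y : Y, LocCoh.IsCohenMacaulayLocalRing (Y.presheaf.stalk y))
    (G DG : DM Y) [ExactPairing G DG] (hG : DCoh.IsPerfect (G : DCoh.D Y)) (hD : DCoh.IsPerfect (DG : DCoh.D Y))
    (M : Y.Modules) (e0 : DCoh.HD (DG : DCoh.D Y) 0 ≅ M) (hlow : ∀ l, l < 0 → IsZero (DCoh.HD (DG : DCoh.D Y) l))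
    (htf : ∀ (y : Y) (r : Y.presheaf.stalk y), r ∈ nonZeroDivisors (Y.presheaf.stalk y) →
      ∀ m : M.presheaf.stalk y, r • m = 0 → m = 0)
    (i : ℕ) (y : Y) (hy : y ∈ CohB1.support (DCoh.HD (G : DCoh.D Y) (i : ℤ)))
    (hpos : 1 ≤ ringKrullDim (Y.presheaf.stalk y)) :
    ((i + 1 : ℕ) : WithBot ℕ∞) ≤ ringKrullDim (Y.presheaf.stalk y) := by
  obtain ⟨f, z, hfz⟩ : ∃ (f : Spec (Y.residueField y) ⟶ Y) (z : Spec (Y.residueField y)), f z = y :=
    ⟨Y.fromSpecResidueField y, closedPoint (Y.residueField y), Scheme.fromSpecResidueField_apply _ _⟩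
  rw [← hfz] at hy hpos ⊢
  let R := Y.residueField y
  haveI : Subsingleton (Spec R) := inferInstanceAs (Subsingleton (PrimeSpectrum R))
  have hZ : ∀ z' : Spec R, z' = z := fun z' => Subsingleton.elim _ _
  have hfield : IsField ((Spec R).presheaf.stalk z) :=
    Residual14.isField_stalk_of_etale_field (𝟙 (Spec (CommRingCat.of (Y.residueField y)))) z
  obtain ⟨F, hF, hFf, hFh, -⟩ := exists_fibre_model f z hZ hfield hG
  have hgi : ¬ IsZero (DCoh.HD ((lP f).obj (G : DCoh.D Y)) (i : ℤ)) := fun h0 => by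
    refine (hFh (i : ℤ)).2 ?_ hy
    rw [DMod.subsingleton_homology_iff F (i := (i : ℤ) - 1) (k := (i : ℤ) + 1) (by simp) (by simp)]
    exact (split_of_fibreExact F hF (i : ℤ) ((hFf (i : ℤ)).1 h0)).1
  letI : ExactPairing ((dPull f).obj G) ((dPull f).obj DG) := Dual8.mapPairing (dPull f) G DG
  have hdi : ¬ IsZero (DCoh.HD ((lP f).obj (DG : DCoh.D Y)) (-(i : ℤ))) := fun h0 => hgi
    (PointDual.isZero_dual' (Field.toIsField (Y.residueField y)) ((dPull f).obj G) ((dPull f).obj DG)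
      (isQCohD_lP f (DGen9.isQCohD_of_isPerfect hG)) (isQCohD_lP f (DGen9.isQCohD_of_isPerfect hD)) (i : ℤ) h0)
  obtain ⟨Fd, hFd, hdf, hdh, hdH⟩ := exists_fibre_model f z hZ hfield hD
  haveI := hCM (f z)
  obtain ⟨t, ht⟩ := DepthLib.exists_depth_eq_natCast (R := Y.presheaf.stalk (f z)) (M := Y.presheaf.stalk (f z))
  have hdim : ringKrullDim (Y.presheaf.stalk (f z)) = ((t : ℕ∞) : WithBot ℕ∞) := by
    rw [← Module.supportDim_self_eq_ringKrullDim, LocCoh.IsCohenMacaulayLocalRing.supportDim_eq_depth, ht]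
  rw [hdim] at hpos ⊢
  obtain ⟨t, rfl⟩ : ∃ t', t = t' + 1 := ⟨t - 1, by
    have h1 : 1 ≤ t := by exact_mod_cast hpos
    omega⟩
  obtain ⟨x, hx, hxA⟩ := DepthLib.exists_isSMulRegular_of_one_le_idealDepth (R := Y.presheaf.stalk (f z))
    (M := Y.presheaf.stalk (f z)) (DepthLib.smul_top_ne_top (maximalIdeal.isMaximal _).ne_top)
    (show 1 ≤ LocCoh.idealDepth (maximalIdeal (Y.presheaf.stalk (f z))) (Y.presheaf.stalk (f z)) by
      rw [show LocCoh.idealDepth (maximalIdeal (Y.presheaf.stalk (f z))) (Y.presheaf.stalk (f z)) = _ from ht]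
      exact_mod_cast Nat.succ_pos t)
  have hxnz : x ∈ nonZeroDivisors (Y.presheaf.stalk (f z)) :=
    ⟨fun a ha => hxA (show x * a = x * 0 by rw [ha, mul_zero]),
      fun a ha => hxA (show x * a = x * 0 by rw [mul_comm, ha, mul_zero])⟩
  haveI : DCoh.HasLpull f := KFlat.Sch.hasLpull f
  obtain ⟨n⟩ := nonempty_lpull_natIso_lP f
  obtain ⟨a₀, ha₀⟩ := DPerf.exists_isGE_of_perfect
    (DGen9.isPerfect_of_iso (n.app (DG : DCoh.D Y)) (KFlat.Sch.isPerfect_lpull f hD))
  haveI := ha₀
  let eM : Fd.homology 0 ≅ (stF (f z)).obj M := (hdH 0).some ≪≫ (stF (f z)).mapIso e0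
  have hxH : ∀ h : Fd.homology 0, x • h = 0 → h = 0 := fun h hh => by
    apply eM.toLinearEquiv.injective
    rw [map_zero]
    exact htf (f z) x hxnz _ (show x • eM.toLinearEquiv h = 0 by rw [← map_smul, hh, map_zero])
  have hbound : ¬ (-(i : ℤ) + t < 0) := fun hlt => hdi ((hdf (-(i : ℤ))).2 (fibreExact_of_regular Fd hFd a₀ 0
    (fun l hl => (hdf l).1 (DerivedCategory.isZero_of_isGE ((lP f).obj (DG : DCoh.D Y)) a₀ l hl))
    (fun l hl => (hdh l).1 fun hm =>
      hm (AddCommGrpCat.subsingleton_of_isZero ((M1.stalkAb _).map_isZero (hlow l hl))))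
    t ht hx hxA hxH (-(i : ℤ)) hlt))
  exact_mod_cast (show i + 1 ≤ t + 1 by omega)

end Groth.Agent.FMHyp13

end
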