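import Groth.Agent.Lib.MumVan22.Acyclic
import Groth.Agent.Lib.MumVan22.Surj
import Groth.Agent.S0051
import Groth.Agent.Lib.MumVan22.AmpleVan
import Groth.Agent.Lib.FMHyp13.GenericRank
import Groth.Agent.Lib.FMHyp13.TwistArith
import Groth.Agent.Lib.UnifBound18.Main

/-!
# Uniform Serre vanishing against a family of twists
-/

set_option autoImplicit false
set_option linter.style.haveILetI false
set_option linter.unusedSectionVars false
set_option maxHeartbeats 1000000
set_option backward.isDefEq.respectTransparency false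

universe u

open CategoryTheory CategoryTheory.Limits AlgebraicGeometry TopologicalSpace Opposite

noncomputable section

namespace Groth.Agent.FMHyp13

open Groth.Agent Groth.Agent.MumVan22 CohFound CBC10

variable {X Y : Scheme.{u}} (f : X ⟶ Y) [IsProper f] [IsLocallyNoetherian Y]

/-- Relative Serre vanishing on fibres. -/
theorem exists_fibres_vanish_coh [CompactSpace Y] [Flat f] {L : X.Modules} (hL : PicF.IsInvertible L)
    (hamp : ∀ U : Y.Opens, IsAffineOpen U →
      CohB1.IsAmple ((Scheme.Modules.pullback (f ⁻¹ᵁ U).ι).obj L))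
    {N : X.Modules} (hN : Coh.IsCoh N) (hfl : FlatMod.IsFlatOver f N) :
    ∃ N₀ : ℕ, ∀ n, N₀ ≤ n → ∀ (y : Y) (p : ℕ), 0 < p →
      Subsingleton (CohIII.fiberH f (CohB1.tensorMod N (CohB1.tensorPow L n)) y p) := by
  classical
  have hone : ∀ y : Y, ∃ (U : Y.Opens) (n₀ : ℕ), y ∈ U ∧ ∀ n, n₀ ≤ n → ∀ z ∈ U, ∀ p : ℕ, 0 < p →
      Subsingleton (CohIII.fiberH f (CohB1.tensorMod N (CohB1.tensorPow L n)) z p) := by
    intro y
    obtain ⟨U, hU, hyU, -⟩ := exists_isAffineOpen_mem_and_subset (X := Y) (x := y) (U := ⊤) trivial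
    let W : X.Opens := f ⁻¹ᵁ U
    haveI : IsNoetherianRing Γ(Y, U) := IsLocallyNoetherian.component_noetherian ⟨U, hU⟩
    letI := overU f hU
    haveI := isProper_overU f hU
    obtain ⟨n₀, hn₀⟩ := (Groth.Agent.S0051.result Γ(Y, U) W.toScheme (W.toScheme ↘ Spec (CommRingCat.of Γ(Y, U)))
      _ (hamp U hU).1).1 (hamp U hU) _
      (M1.isCoh_pullback W.ι hN)
    refine ⟨U, n₀, hyU, fun n hn z hz p hp => ?_⟩
    refine fibres_pos_of_hhon f (CohFound.isCoh_tensor hN (CubeField.isCoh_of_isInvertible (M2.isInvertible_tensorPow hL n)))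
      (FlatTwist13.isFlatOver_tensor _ hfl (M2.isInvertible_tensorPow hL n)) hU (fun m hm => ?_) hz p hp
    let e : resU f (CohB1.tensorMod N (CohB1.tensorPow L n)) U ≅
        CohB1.tensorMod ((Scheme.Modules.pullback W.ι).obj N)
          (CohB1.tensorPow ((Scheme.Modules.pullback W.ι).obj L) n) :=
      (Scheme.Modules.restrictFunctorIsoPullback W.ι).app _ ≪≫ M2.pullTensorIso W.ι N _ ≪≫
        M2.tensorIso (Iso.refl _) (M2.pullTensorPowIso W.ι L n)
    haveI := hn₀ n hn m hm
    exact (CBC10.hmapEquiv e m).toEquiv.subsingleton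
  choose U n₀ hyU hU using hone
  obtain ⟨s, hs⟩ := isCompact_univ.elim_finite_subcover (fun y => (U y : Set Y)) (fun y => (U y).isOpen)
    (fun y _ => Set.mem_iUnion.2 ⟨y, hyU y⟩)
  refine ⟨s.sup n₀, fun n hn y p hp => ?_⟩
  obtain ⟨i, hi, hyi⟩ := Set.mem_iUnion₂.1 (hs (Set.mem_univ y))
  exact hU i n ((Finset.le_sup hi).trans hn) y hyi p hp


section family

open CategoryTheory.MonoidalCategory CategoryTheory.CartesianMonoidalCategory

variable {k : Type u} [Field k] {A At : Over (Spec (CommRingCat.of k))} [IsProper A.hom] [IsProper At.hom]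

/-- The pullback along a projection is relatively ample. -/
theorem isAmple_restrict_sndT {L : A.left.Modules} (hL : CohB1.IsAmple L) {U : At.left.Opens} (hU : IsAffineOpen U) :
    CohB1.IsAmple ((Scheme.Modules.pullback ((snd A At).left ⁻¹ᵁ U).ι).obj
      ((Scheme.Modules.pullback (fst A At).left).obj L)) := by
  haveI : IsAffine (U : Scheme.{u}) := hU
  haveI : IsAffineHom (U.ι ≫ At.hom) := isAffineHom_of_isAffine _
  have h : IsPullback (((snd A At).left ⁻¹ᵁ U).ι ≫ (fst A At).left) ((snd A At).left ∣_ U) A.hom (U.ι ≫ At.hom) :=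
    (isPullback_morphismRestrict (snd A At).left U).flip.paste_horiz (IsPullback.of_hasPullback A.hom At.hom)
  haveI : IsAffineHom (((snd A At).left ⁻¹ᵁ U).ι ≫ (fst A At).left) :=
    MorphismProperty.of_isPullback h.flip ‹IsAffineHom (U.ι ≫ At.hom)›
  exact Amp.isAmple_of_iso ((Scheme.Modules.pullbackComp _ _).app L).symm
    (Amp.isAmple_pullback_of_isAffineHom (((snd A At).left ⁻¹ᵁ U).ι ≫ (fst A At).left) hL)

variable [IsAlgClosed k] [Smooth A.hom] [Smooth At.hom] {P : (PicF.XT A.hom At).Modules} (hP : PicF.IsInvertible P)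

include hP in
/-- A coherent module twisted by a large power of an ample one has no higher twisted cohomology. -/
theorem exists_it0_twist_ample {L : A.left.Modules} (hL : CohB1.IsAmple L) {R : A.left.Modules} (hR : Coh.IsCoh R) :
    ∃ N₀ : ℕ, ∀ n : ℕ, N₀ ≤ n → ∀ (i : ℕ) (α : 𝟙_ (Over (Spec (CommRingCat.of k))) ⟶ At), 1 ≤ i →
      W4c5cohrankabvar.hAt k P (CohB1.tensorMod R (CohB1.tensorPow L n)) α i = 0 := by
  haveI := isProper_snd (A := A) (At := At)
  haveI : Flat (snd A At).left := inferInstanceAs (Flat (pullback.snd A.hom At.hom))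
  haveI : IsLocallyNoetherian A.left := LocallyOfFiniteType.isLocallyNoetherian A.hom
  haveI : IsLocallyNoetherian At.left := LocallyOfFiniteType.isLocallyNoetherian At.hom
  haveI : CompactSpace At.left := QuasiCompact.compactSpace_of_compactSpace At.hom
  obtain ⟨hF, hfl⟩ := famM_props hP hR
  obtain ⟨N₀, hN₀⟩ := exists_fibres_vanish_coh (snd A At).left (PicLoc.isInvertible_pullback (fst A At).left hL.1)
    (fun U hU => isAmple_restrict_sndT hL hU) hF hfl
  refine ⟨N₀, fun n hn i α hi => ?_⟩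
  have hRn : Coh.IsCoh (CohB1.tensorMod R (CohB1.tensorPow L n)) :=
    CohFound.isCoh_tensor hR (CubeField.isCoh_of_isInvertible (M2.isInvertible_tensorPow hL.1 n))
  let e : famM P (CohB1.tensorMod R (CohB1.tensorPow L n)) ≅
      CohB1.tensorMod (famM P R) (CohB1.tensorPow ((Scheme.Modules.pullback (fst A At).left).obj L) n) :=
    M2.tensorIso (M2.pullTensorIso _ _ _ ≪≫ M2.tensorIso (Iso.refl _) (M2.pullTensorPowIso _ L n)) (Iso.refl P) ≪≫
      M2.tensorAssoc _ _ _ ≪≫ M2.tensorIso (Iso.refl _) (M2.tensorComm _ _) ≪≫ (M2.tensorAssoc _ _ _).symm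
  haveI := hN₀ n hn (CubeField.rpt α) i hi
  rw [hAt_eq_fiberRank hP hRn α i]
  exact (UnifBound18.fiberRank_iso (snd A At).left e i (CubeField.rpt α)).trans Module.finrank_zero_of_subsingleton

end family

end Groth.Agent.FMHyp13
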