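import Groth.Agent.Lib.FMHyp13.TwistArith
import Groth.Agent.Lib.SyzMult.Basic
import Groth.Agent.Lib.DPerf.Top

/-!
# Twisted vanishing for tensor powers of syzygy bundles
-/

set_option autoImplicit false
set_option linter.style.haveILetI false
set_option linter.unusedSectionVars false
set_option backward.isDefEq.respectTransparency false
set_option backward.isDefEq.respectTransparency.types false
set_option maxHeartbeats 1600000

universe u

open CategoryTheory CategoryTheory.Limits MonoidalCategory CartesianMonoidalCategory AlgebraicGeometry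
open TopologicalSpace
open scoped MonObj GrpObj

attribute [local instance] HasDerivedCategory.standard

noncomputable section

namespace Groth.Agent.FMHyp13

open Groth.Agent

theorem isFinLocFree_tensorPow {X : Scheme.{u}} {M : X.Modules} (hM : FlatMod.IsFinLocFree M) :
    ∀ n : ℕ, FlatMod.IsFinLocFree (CohB1.tensorPow M n)
  | 0 => M2.isFinLocFree_of_isInvertible (PicLoc.isInvertible_structureModule X)
  | n + 1 => M2.isFinLocFree_tensor (isFinLocFree_tensorPow hM n) hM

/-- The kernel bundle of a globally generated invertible module is finite locally free. -/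
theorem isFinLocFree_syzygy (k : Type u) [Field k] {A : Over (Spec (CommRingCat.of k))} [IsProper A.hom] [Nonempty A.left]
    {N : A.left.Modules} (hN : PicF.IsInvertible N) {J : Type u}
    (ev : (SheafOfModules.free J : A.left.Modules) ⟶ N) [Epi ev]
    (hev : Function.Injective (Sheaf.H.map ((SheafOfModules.toSheaf A.left.ringCatSheaf).map ev) 0)) :
    FlatMod.IsFinLocFree (kernel ev) := by
  letI : A.left.Over (Spec (CommRingCat.of k)) := ⟨A.hom⟩
  haveI : IsProper (A.left ↘ Spec (CommRingCat.of k)) := inferInstanceAs (IsProper A.hom)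
  haveI : Finite J := SyzMult.finite_index k hN ev hev
  obtain ⟨n, ⟨e⟩⟩ := Finite.exists_equiv_fin J
  have hfree : FlatMod.IsFinLocFree (SheafOfModules.free J : A.left.Modules) :=
    M2.isFinLocFree_of_iso (M1.freeModFrIso A.left n ≪≫
      (Sigma.whiskerEquiv (f := fun _ : ULift.{u} (Fin n) => Coh.structureModule A.left)
        (g := fun _ : J => Coh.structureModule A.left) (e.trans Equiv.ulift.symm).symm (fun _ => Iso.refl _)))
      (KFlat.Sch.isFinLocFree_freeMod _ n)
  refine DPerf.isFinLocFree_kernel (kernel.ι ev) ev (kernel.condition ev) ?_ hfree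
    (M2.isFinLocFree_of_isInvertible hN)
  exact { exact := ShortComplex.exact_of_f_is_kernel _ (kernelIsKernel ev) }

variable {k : Type u} [Field k] [IsAlgClosed k] {A At : Over (Spec (CommRingCat.of k))} [GrpObj A] [GrpObj At]
  [IsProper A.hom] [Smooth A.hom] [GeometricallyConnected A.hom]
  [IsProper At.hom] [Smooth At.hom] [GeometricallyConnected At.hom]
  {φ : AgPol.DualMap A At} (hφ : AbDual.IsDualAV Scheme.fppfPrecoverage A At φ)
  {P : (PicF.XT A.hom At).Modules} (hP : PicF.IsInvertible P) (hξ : AbDual.IsPoincareCl A At φ (PicF.cl P))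
  {g : ℕ} (hg : topologicalKrullDim A.left = g)
  {L L' : A.left.Modules} (hL : CohB1.IsAmple L)
  (hLL' : Nonempty (CohB1.tensorMod L L' ≅ Coh.structureModule A.left))

include hP in
/-- Absence of higher twisted cohomology gives generic vanishing. -/
theorem gv_of_it0 {G : A.left.Modules}
    (h : ∀ (i : ℕ) (α : 𝟙_ (Over (Spec (CommRingCat.of k))) ⟶ At), 1 ≤ i → W4c5cohrankabvar.hAt k P G α i = 0) (g : ℕ) :
    ∀ i : ℕ, 1 ≤ i → ∃ Z : Set ↥At.left, IsClosed Z ∧
      topologicalKrullDim ↥Z < ((g - i + 1 : ℕ) : WithBot ℕ∞) ∧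
      ∀ α : 𝟙_ (Over (Spec (CommRingCat.of k))) ⟶ At, 0 < W4c5cohrankabvar.hAt k P G α i →
        Set.range α.left.base ⊆ Z := by
  intro i hi
  refine ⟨∅, isClosed_empty, ?_, fun α hpos => absurd (h i α hi) hpos.ne'⟩
  haveI : IsEmpty (IrreducibleCloseds ↥(∅ : Set ↥At.left)) :=
    ⟨fun Z => Z.isIrreducible'.nonempty.elim fun x _ => isEmptyElim x⟩
  rw [topologicalKrullDim, Order.krullDim_eq_bot]
  exact WithBot.bot_lt_coe _

include hφ hP hξ hg hL hLL' in
/-- Twisted vanishing for the tensor powers of a bundle. -/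
theorem it0_twist_tensorPow (n : ℕ) (hn : 0 < n) {M : A.left.Modules} (hM : FlatMod.IsFinLocFree M)
    (h : ∀ (i : ℕ) (α : 𝟙_ (Over (Spec (CommRingCat.of k))) ⟶ At), 1 ≤ i →
      W4c5cohrankabvar.hAt k P (W4c5cohrankabvar.twist A M L L' n ((n : ℕ) : ℤ)) α i = 0) (j : ℕ) (hj : 1 ≤ j) :
    ∀ (i : ℕ) (α : 𝟙_ (Over (Spec (CommRingCat.of k))) ⟶ At), 1 ≤ i →
      W4c5cohrankabvar.hAt k P (W4c5cohrankabvar.twist A (CohB1.tensorPow M j) L L' n ((j : ℤ) * n)) α i = 0 := by
  haveI : IsLocallyNoetherian A.left := LocallyOfFiniteType.isLocallyNoetherian A.hom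
  have hL' := isInvertible_of_ample_inverse hL.1 hLL'
  induction j, hj using Nat.le_induction with
  | base =>
    intro i α hi
    rw [Nat.cast_one, one_mul]
    let e : M ≅ CohB1.tensorPow M 1 := (M2.tensorLUnit M).symm
    exact (hAt_eq_zero_congr hP (M2.tensorIso ((Scheme.Modules.pullback ((𝟙 A) ^ n).left).mapIso e) (Iso.refl _))
      (isCoh_twist (CohFound.isCoh_of_isFinLocFree hM) hL.1 hL' n (n : ℤ)) α i).1 (h i α hi)
  | succ j hj ih =>
    have hFc := CohFound.isCoh_of_isFinLocFree (isFinLocFree_tensorPow hM j)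
    have := it0_twist_tensor hφ hP hξ hg hFc hM hL hLL' (j : ℤ) 1 n n hn hn (gv_of_it0 hP ih g)
      (by rw [one_mul]; exact h)
    rw [it0_rescale hφ hP hξ (CohFound.isCoh_of_isFinLocFree (isFinLocFree_tensorPow hM (j + 1))) hL hLL' n _ n hn]
    rwa [show (((j + 1 : ℕ) : ℤ) * n) * ((n * n : ℕ) : ℤ) = ((j : ℤ) * n + n * 1) * ((n * n : ℕ) : ℤ) by
      push_cast; ring]

include hφ hP hξ hg hL hLL' in
/-- The power of the bundle twisted once has no higher twisted cohomology. -/
theorem it0_tensorPow_tensor (n : ℕ) (hn : 0 < n) {M : A.left.Modules} (hM : FlatMod.IsFinLocFree M)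
    (h : ∀ (i : ℕ) (α : 𝟙_ (Over (Spec (CommRingCat.of k))) ⟶ At), 1 ≤ i →
      W4c5cohrankabvar.hAt k P (W4c5cohrankabvar.twist A M L L' n ((n : ℕ) : ℤ)) α i = 0) :
    ∀ (i : ℕ) (α : 𝟙_ (Over (Spec (CommRingCat.of k))) ⟶ At), 1 ≤ i →
      W4c5cohrankabvar.hAt k P (CohB1.tensorMod (CohB1.tensorPow M n) L) α i = 0 := by
  haveI : IsLocallyNoetherian A.left := LocallyOfFiniteType.isLocallyNoetherian A.hom
  have hL' := isInvertible_of_ample_inverse hL.1 hLL'
  have hFc := CohFound.isCoh_of_isFinLocFree (isFinLocFree_tensorPow hM n)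
  have hj := it0_twist_tensorPow hφ hP hξ hg hL hLL' n hn hM h n hn
  have h1 : ∀ (i : ℕ) (α : 𝟙_ (Over (Spec (CommRingCat.of k))) ⟶ At), 1 ≤ i →
      W4c5cohrankabvar.hAt k P (W4c5cohrankabvar.twist A (CohB1.tensorPow M n) L L' 1 (1 : ℤ)) α i = 0 := by
    rw [it0_rescale hφ hP hξ hFc hL hLL' 1 1 n hn, one_mul, one_mul]
    simpa only [Nat.cast_mul] using hj
  intro i α hi
  have h' : ((𝟙 A) ^ 1).left = 𝟙 A.left := by rw [pow_one]; rfl
  exact (hAt_eq_zero_congr hP (M2.tensorIso
    ((Scheme.Modules.pullbackCongr h').app _ ≪≫ (Scheme.Modules.pullbackId A.left).app _) (M2.tensorLUnit L))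
    (isCoh_twist hFc hL.1 hL' 1 (1 : ℤ)) α i).1 (h1 i α hi)

include hφ hP hξ hg hL hLL' in
/-- The power of the bundle twisted by any positive power has no higher twisted cohomology. -/
theorem it0_tensorPow_tensor_pow (n : ℕ) (hn : 0 < n) {M : A.left.Modules} (hM : FlatMod.IsFinLocFree M)
    (h : ∀ (i : ℕ) (α : 𝟙_ (Over (Spec (CommRingCat.of k))) ⟶ At), 1 ≤ i →
      W4c5cohrankabvar.hAt k P (W4c5cohrankabvar.twist A M L L' n ((n : ℕ) : ℤ)) α i = 0) (j : ℕ) :
    ∀ (i : ℕ) (α : 𝟙_ (Over (Spec (CommRingCat.of k))) ⟶ At), 1 ≤ i →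
      W4c5cohrankabvar.hAt k P (CohB1.tensorMod (CohB1.tensorPow M n) (CohB1.tensorPow L (j + 1))) α i = 0 := by
  haveI : IsLocallyNoetherian A.left := LocallyOfFiniteType.isLocallyNoetherian A.hom
  haveI : GeometricallyIntegral A.hom := AbRigid.geometricallyIntegral_of_smooth A
  have hL' := isInvertible_of_ample_inverse hL.1 hLL'
  have h1 := it0_tensorPow_tensor hφ hP hξ hg hL hLL' n hn hM h
  have hc : Coh.IsCoh (CohB1.tensorMod (CohB1.tensorPow M n) L) :=
    CohFound.isCoh_tensor (CohFound.isCoh_of_isFinLocFree (isFinLocFree_tensorPow hM n))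
      (CubeField.isCoh_of_isInvertible hL.1)
  intro i α hi
  rcases Nat.eq_zero_or_pos j with rfl | hj
  · exact (hAt_eq_zero_congr hP (M2.tensorIso (Iso.refl _) (M2.tensorLUnit L).symm) hc α i).1 (h1 i α hi)
  · have hj' := M2.isInvertible_tensorPow hL.1 j
    have hit : ∀ (i : ℕ) (α : 𝟙_ (Over (Spec (CommRingCat.of k))) ⟶ At), 1 ≤ i →
        W4c5cohrankabvar.hAt k P (CohB1.tensorPow L j) α i = 0 := fun i α hi =>
      (hAt_eq_zero_congr hP
        (M2.tensorIso (PicLoc.pullbackStructureIso _) (Iso.refl _) ≪≫ M2.tensorLUnit (CohB1.tensorPow L j))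
        (isCoh_twist (CohFound.isCoh_of_isFinLocFree
          (M2.isFinLocFree_of_isInvertible (PicLoc.isInvertible_structureModule A.left))) hL.1 hL' 1 (j : ℤ)) α i).1
        (it0_twist_unit hφ hP hξ (L' := L') hL 1 j hj i α hi)
    have := it0_tensor_of_gv hφ hP hξ hg hc (M2.isFinLocFree_of_isInvertible hj')
      ((gv_iff hP hc g).1 (gv_of_it0 hP h1 g)) hit i α hi
    exact (hAt_eq_zero_congr hP (M2.tensorAssoc _ _ _ ≪≫ M2.tensorIso (Iso.refl _) (M2.tensorComm _ _))
      (CohFound.isCoh_tensor hc (CubeField.isCoh_of_isInvertible hj')) α i).1 this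

end Groth.Agent.FMHyp13

end
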