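import Groth.Agent.Lib.FMHyp13.ExchangePos
import Groth.Agent.Lib.FMHyp13.SerreUnif
import Groth.Agent.Lib.FMHyp13.Syzygy
import Groth.Agent.S18224
import Groth.Agent.Lib.Snapper.Hilb
import Groth.Agent.Lib.RR22.Poly

/-!
# The rank functions near zero, on the left
-/

set_option autoImplicit false
set_option linter.style.haveILetI false
set_option linter.unusedSectionVars false
set_option backward.isDefEq.respectTransparency false
set_option backward.isDefEq.respectTransparency.types false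
set_option maxHeartbeats 1600000

universe u

open CategoryTheory CategoryTheory.Limits MonoidalCategory CartesianMonoidalCategory AlgebraicGeometry
open TopologicalSpace
open scoped MonObj GrpObj

attribute [local instance] HasDerivedCategory.standard

noncomputable section

namespace Groth.Agent.FMHyp13

open DMon9 DBC9 TwistBC9 FMBase13 Groth.Agent Groth.Agent.RosTrace22

noncomputable local instance instLawNearZero (Y : Scheme.{u}) : PicGrp.Law Y := M2.law Y

variable {k : Type u} [Field k] [IsAlgClosed k] {A At : Over (Spec (CommRingCat.of k))} [GrpObj A] [GrpObj At]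
  [IsProper A.hom] [Smooth A.hom] [GeometricallyConnected A.hom]
  [IsProper At.hom] [Smooth At.hom] [GeometricallyConnected At.hom]
  {φ : AgPol.DualMap A At} (hφ : AbDual.IsDualAV Scheme.fppfPrecoverage A At φ)
  {P : (PicF.XT A.hom At).Modules} (hP : PicF.IsInvertible P) (hξ : AbDual.IsPoincareCl A At φ (PicF.cl P))

include hφ hP hξ in
/-- The morphism to the dual of a power of a class. -/
theorem lamOf_pow (c : PicLoc.PicSet A.left) (m : ℕ) :
    lamOf φ (c ^ m) = ((𝟙 A) ^ m) ≫ lamOf φ c := by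
  haveI : GeometricallyIntegral A.hom := AbRigid.geometricallyIntegral_of_smooth A
  haveI := isCommMonObj_of_isProper_of_geometricallyIntegral A
  have hp : ∀ z : A ⟶ At, φ A (AgPol22.ev hξ (fst A A) (snd A A ≫ z)).1 = z := fun z => by
    have h : lift (fst A A) (snd A A ≫ z) = A ◁ z := by apply CartesianMonoidalCategory.hom_ext <;> simp
    rw [AgPol22.ev, h, PicGrp.pullHom_apply_val]
    exact (AbDual21.phi_natural hφ z hξ.1).trans (by rw [hξ.2.1, Category.comp_id])
  have h : AgPol22.ev hξ (fst A A) (snd A A ≫ lamOf φ (c ^ m)) =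
      AgPol22.ev hξ (fst A A) (snd A A ≫ ((𝟙 A) ^ m) ≫ lamOf φ c) := by
    rw [← bil_eq_ev hφ hξ, ← Category.assoc, ← bil_eq_ev hφ hξ, MonObj.comp_pow, Category.comp_id,
      NS22.bil_pow_right]
    let B : PicLoc.PicSet A.left →* PicLoc.PicSet (A ⊗ A).left :=
      MonoidHom.mk' (fun e => Index22.bil e (fst A A) (snd A A)) fun e d => NS22.bil_cls_mul e d _ _
    exact map_pow B c m
  rw [← hp (lamOf φ (c ^ m)), h, hp]

variable {g : ℕ} {L L' : A.left.Modules} (hL : CohB1.IsAmple L)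
  (hLL' : Nonempty (CohB1.tensorMod L L' ≅ Coh.structureModule A.left))

include hφ hP hξ hL hLL' in
/-- Vanishing for an integral twist passes to the larger rational ones. -/
theorem it0_twist_of_it0_pow (hg : topologicalKrullDim A.left = g) {R : A.left.Modules} (hR : Coh.IsCoh R) {N : ℕ}
    (hN : ∀ (i : ℕ) (α : 𝟙_ (Over (Spec (CommRingCat.of k))) ⟶ At), 1 ≤ i →
      W4c5cohrankabvar.hAt k P (CohB1.tensorMod R (CohB1.tensorPow L N)) α i = 0)
    (a b : ℕ) (ha : 0 < a) (hlt : (N : ℚ) < (b : ℚ) / (a : ℚ)) :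
    ∀ (i : ℕ) (α : 𝟙_ (Over (Spec (CommRingCat.of k))) ⟶ At), 1 ≤ i →
      W4c5cohrankabvar.hAt k P (W4c5cohrankabvar.twist A R L L' a ((b : ℤ) * (a : ℤ))) α i = 0 := by
  have h1 : ((𝟙 A) ^ 1).left = 𝟙 A.left := by rw [pow_one, Over.id_left]
  let e : W4c5cohrankabvar.twist A R L L' 1 ((N : ℤ) * ((1 : ℕ) : ℤ)) ≅ CohB1.tensorMod R (CohB1.tensorPow L N) :=
    M2.tensorIso ((Scheme.Modules.pullbackCongr h1).app R ≪≫ (Scheme.Modules.pullbackId _).app R)
      (eqToIso (by rw [Nat.cast_one, mul_one]; rfl))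
  refine S18224.result k A At φ hφ P hP hξ g hg L L' hL hLL' R hR (N : ℤ) 1 Nat.one_pos
    (gv_of_it0 hP (fun i α hi => (hAt_congr e α i).trans (hN i α hi)) g) (b : ℤ) a ha ?_
  simpa using hlt

include hφ hP hξ hL hLL' in
/-- Left of zero, the rank functions are given by the transforms. -/
theorem hgen_near_zero (hg : topologicalKrullDim A.left = g) {F : A.left.Modules} (hF : Coh.IsCoh F)
    (f : A ⟶ At) (hf : f = lamOf φ (PicGrp.cls L hL.1)) (N : ℕ)
    (hN : ∀ (q : ℕ) (i : ℕ) (α : 𝟙_ (Over (Spec (CommRingCat.of k))) ⟶ At), 1 ≤ i →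
      W4c5cohrankabvar.hAt k P (CohB1.tensorMod ((Scheme.Modules.pullback f.left).obj (fmH P F q))
        (CohB1.tensorPow L N)) α i = 0)
    (a b : ℕ) (ha : 0 < a) (hlt : (N : ℚ) < (b : ℚ) / (a : ℚ)) (j : ℕ) :
    @Curv2.euler k _ A.left ⟨A.hom⟩ (CohB1.tensorPow L (a * b)) *
        ((W4c5cohrankabvar.hgen k P (W4c5cohrankabvar.twist A F L L' b (-((a : ℤ) * (b : ℤ)))) j : ℕ) : ℤ) =
      (b : ℤ) ^ (2 * g) * @Curv2.euler k _ A.left ⟨A.hom⟩
        (W4c5cohrankabvar.twist A ((Scheme.Modules.pullback f.left).obj (fmH P F j)) L L' a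
          ((a : ℤ) * (b : ℤ))) := by
  haveI : GeometricallyIntegral A.hom := AbRigid.geometricallyIntegral_of_smooth A
  haveI : GeometricallyIntegral At.hom := AbRigid.geometricallyIntegral_of_smooth At
  haveI : IsLocallyNoetherian A.left := LocallyOfFiniteType.isLocallyNoetherian A.hom
  haveI := isCommMonObj_of_isProper_of_geometricallyIntegral A
  letI : A.left.Over (Spec (CommRingCat.of k)) := ⟨A.hom⟩
  have hb : 0 < b := by
    rcases Nat.eq_zero_or_pos b with rfl | h
    · simp at hlt; exact absurd hlt (not_lt.2 (Nat.cast_nonneg N))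
    · exact h
  have hL' := isInvertible_of_ample_inverse hL.1 hLL'
  have hLa : CohB1.IsAmple (CohB1.tensorPow L a) := (Amp.isAmple_tensorPow_iff hL.1 ha).2 hL
  let fa : A ⟶ At := lamOf φ (PicGrp.cls (CohB1.tensorPow L a) hLa.1)
  have hfa : fa = ((𝟙 A) ^ a) ≫ f := by
    rw [hf, ← lamOf_pow hφ hP hξ]
    exact congrArg (lamOf φ) (FGA3.cls_tensorPow hL.1 a)
  have hR : ∀ q : ℕ, Coh.IsCoh ((Scheme.Modules.pullback f.left).obj (fmH P F q)) := fun q =>
    M1.isCoh_pullback _ (isCoh_fmH hP hF _)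
  let e1 := M2.tensorPowPow L a b
  let e1' := M2.tensorPowPow L' a b
  let eR : ∀ q : ℕ, CohB1.tensorMod ((Scheme.Modules.pullback fa.left).obj (fmH P F q))
      (CohB1.tensorPow (CohB1.tensorPow L a) b) ≅
      W4c5cohrankabvar.twist A ((Scheme.Modules.pullback f.left).obj (fmH P F q)) L L' a ((a : ℤ) * (b : ℤ)) :=
    fun q => M2.tensorIso ((Scheme.Modules.pullbackCongr ((congrArg Over.Hom.left hfa).trans
        (Over.comp_left _ _ _ _ _))).app _ ≪≫ ((Scheme.Modules.pullbackComp _ _).app _).symm)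
      (e1 ≪≫ eqToIso (by rw [← Nat.cast_mul]; rfl))
  have hIT : ∀ (q : ℕ) (i : ℕ) (α : 𝟙_ (Over (Spec (CommRingCat.of k))) ⟶ At), 1 ≤ i →
      W4c5cohrankabvar.hAt k P (CohB1.tensorMod ((Scheme.Modules.pullback fa.left).obj (fmH P F q))
        (CohB1.tensorPow (CohB1.tensorPow L a) b)) α i = 0 := fun q i α hi => by
    rw [hAt_congr (eR q) α i, mul_comm (a : ℤ) (b : ℤ)]
    exact it0_twist_of_it0_pow hφ hP hξ hL hLL' hg (hR q) (hN q) a b ha hlt i α hi
  have h := hgen_exchange hφ hP hξ hLa (nonempty_tensorPow_inverse hLL' a) hg hF hb fa rfl hIT j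
  have hneg : W4c5cohrankabvar.zpow L L' (-((a : ℤ) * (b : ℤ))) = CohB1.tensorPow L' (a * b) := by
    obtain ⟨m, hm⟩ : ∃ m, a * b = m + 1 := ⟨a * b - 1, by have := Nat.mul_pos ha hb; omega⟩
    rw [← Nat.cast_mul, hm, show -((m + 1 : ℕ) : ℤ) = Int.negSucc m from rfl]
    rfl
  let eF : CohB1.tensorMod ((Scheme.Modules.pullback ((𝟙 A) ^ b).left).obj F)
      (CohB1.tensorPow (CohB1.tensorPow L' a) b) ≅
      W4c5cohrankabvar.twist A F L L' b (-((a : ℤ) * (b : ℤ))) :=
    M2.tensorIso (Iso.refl _) (e1' ≪≫ eqToIso hneg.symm)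
  rw [hgen_congr eF, CurveCoh17.euler_iso (eR j), CurveCoh17.euler_iso e1] at h
  exact h

include hP hL in
/-- One power of an ample module kills the higher twisted cohomology of all the transforms. -/
theorem exists_uniform_power {F : A.left.Modules} (hF : Coh.IsCoh F) (f : A ⟶ At) :
    ∃ N : ℕ, ∀ (q : ℕ) (i : ℕ) (α : 𝟙_ (Over (Spec (CommRingCat.of k))) ⟶ At), 1 ≤ i →
      W4c5cohrankabvar.hAt k P (CohB1.tensorMod ((Scheme.Modules.pullback f.left).obj (fmH P F q))
        (CohB1.tensorPow L N)) α i = 0 := by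
  classical
  haveI : IsLocallyNoetherian A.left := LocallyOfFiniteType.isLocallyNoetherian A.hom
  obtain ⟨-, c, b, -, hb⟩ := exists_bounds_phiK hP (isPerfect_single (A := A) hF)
  haveI := hb
  have hR : ∀ q : ℕ, Coh.IsCoh ((Scheme.Modules.pullback f.left).obj (fmH P F q)) := fun q =>
    M1.isCoh_pullback _ (isCoh_fmH hP hF _)
  choose n₀ hn₀ using fun q => exists_it0_twist_ample hP (At := At) hL (hR q)
  refine ⟨(Finset.range (b.toNat + 1)).sup n₀, fun q i α hi => ?_⟩
  rcases le_or_gt q b.toNat with hq | hq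
  · exact hn₀ q _ (Finset.le_sup (Finset.mem_range.2 (Nat.lt_succ_of_le hq))) i α hi
  · have hz : IsZero (fmH P F (q : ℤ)) := DerivedCategory.isZero_of_isLE _ b q (by omega)
    letI : A.left.Over (Spec (CommRingCat.of k)) := ⟨A.hom⟩
    have hz' := (M2.tensorR (W4c5cohrankabvar.ptLB P α)).map_isZero ((M2.tensorR (CohB1.tensorPow L
      ((Finset.range (b.toNat + 1)).sup n₀))).map_isZero ((Scheme.Modules.pullback f.left).map_isZero hz))
    haveI : Subsingleton (Coh.HH A.left (CohB1.tensorMod (CohB1.tensorMod ((Scheme.Modules.pullback f.left).obj (fmH P F q))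
        (CohB1.tensorPow L ((Finset.range (b.toNat + 1)).sup n₀))) (W4c5cohrankabvar.ptLB P α)) i) :=
      HypSq10.subsingleton_of_isZero (k := k) hz' i
    exact Module.finrank_zero_of_subsingleton

include hL in
omit [GeometricallyConnected A.hom] in
/-- The Euler characteristic of the powers of an ample module. -/
theorem euler_tensorPow_ample [GeometricallyIntegral A.hom] (hg : topologicalKrullDim A.left = g) (m : ℕ)
    (hm : 0 < m) :
    @Curv2.euler k _ A.left ⟨A.hom⟩ (CohB1.tensorPow L m) =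
      (m : ℤ) ^ g * @Curv2.euler k _ A.left ⟨A.hom⟩ L := by
  letI : A.left.Over (Spec (CommRingCat.of k)) := ⟨A.hom⟩
  haveI : IsProper (A.left ↘ Spec (CommRingCat.of k)) := inferInstanceAs (IsProper A.hom)
  obtain ⟨Q, hQ⟩ := Snapper.exists_isHilbPoly k hL.1
    (Snapper.isCoh_of_isInvertible (PicLoc.isInvertible_structureModule A.left))
  have hev : ∀ n : ℕ, (Curv2.euler k A.left (CohB1.tensorPow L n) : ℚ) = Q.eval (n : ℚ) := fun n => by
    rw [← hQ n]
    exact congrArg (Int.cast (R := ℚ)) (CurveCoh17.euler_iso (M2.tensorLUnit _).symm)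
  have hsq : ∀ n : ℕ, 0 < n → (Curv2.euler k A.left (CohB1.tensorPow L (n * n)) : ℚ) =
      (n : ℚ) ^ (2 * g) * Curv2.euler k A.left L := fun n hn => by
    rw [RR22.euler_sq_pow hL.1 (AlgEquiv22.finite_fixing hL) hg hn]; push_cast; ring
  have hQg : Q = Polynomial.C (Curv2.euler k A.left L : ℚ) * Polynomial.X ^ g := by
    refine Polynomial.eq_of_infinite_eval_eq _ _ (Set.Infinite.mono ?_ (Set.infinite_range_of_injective
      (f := fun n : ℕ => (((n + 1) * (n + 1) : ℕ) : ℚ)) fun x y h => ?_))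
    · rintro _ ⟨n, rfl⟩
      rw [Set.mem_setOf_eq, ← hev, hsq (n + 1) n.succ_pos, Polynomial.eval_mul, Polynomial.eval_C,
        Polynomial.eval_pow, Polynomial.eval_X]
      simp only [Nat.cast_mul, Nat.cast_add, Nat.cast_one]
      rw [show ((n : ℚ) + 1) * ((n : ℚ) + 1) = ((n : ℚ) + 1) ^ 2 by ring, ← pow_mul]; ring
    · have h' : (x + 1) * (x + 1) = (y + 1) * (y + 1) := Nat.cast_injective (R := ℚ) h
      nlinarith
  have h := hev m
  rw [hQg, Polynomial.eval_mul, Polynomial.eval_C, Polynomial.eval_pow, Polynomial.eval_X, mul_comm] at h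
  exact_mod_cast h

end Groth.Agent.FMHyp13

end
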