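import Groth.Agent.Lib.FMHyp13.LeftExpansion

/-!
# Vanishing of the higher twisted cohomology is an open condition on the twist
-/

set_option autoImplicit false
set_option linter.style.haveILetI false
set_option linter.unusedSectionVars false
set_option backward.isDefEq.respectTransparency false
set_option backward.isDefEq.respectTransparency.types false
set_option maxHeartbeats 1600000

universe u

open CategoryTheory CategoryTheory.Limits MonoidalCategory CartesianMonoidalCategory AlgebraicGeometry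
open TopologicalSpace
open scoped MonObj GrpObj

attribute [local instance] HasDerivedCategory.standard

noncomputable section

namespace Groth.Agent.FMHyp13

open DMon9 DBC9 TwistBC9 FMBase13 Groth.Agent Groth.Agent.RosTrace22

noncomputable local instance instLawOpenIT0 (Y : Scheme.{u}) : PicGrp.Law Y := M2.law Y

variable {k : Type u} [Field k] [IsAlgClosed k] {A At : Over (Spec (CommRingCat.of k))} [GrpObj A] [GrpObj At]
  [IsProper A.hom] [Smooth A.hom] [GeometricallyConnected A.hom]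
  [IsProper At.hom] [Smooth At.hom] [GeometricallyConnected At.hom]
  {φ : AgPol.DualMap A At} (hφ : AbDual.IsDualAV Scheme.fppfPrecoverage A At φ)
  {P : (PicF.XT A.hom At).Modules} (hP : PicF.IsInvertible P) (hξ : AbDual.IsPoincareCl A At φ (PicF.cl P))
  {g : ℕ} (hg : topologicalKrullDim A.left = g) {L L' : A.left.Modules} (hL : CohB1.IsAmple L)
  (hLL' : Nonempty (CohB1.tensorMod L L' ≅ Coh.structureModule A.left))

include hP in
/-- A zero module has no twisted cohomology. -/
theorem hAt_of_isZero {G : A.left.Modules} (hG : IsZero G) (α : 𝟙_ (Over (Spec (CommRingCat.of k))) ⟶ At) (i : ℕ) :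
    W4c5cohrankabvar.hAt k P G α i = 0 := by
  letI : A.left.Over (Spec (CommRingCat.of k)) := ⟨A.hom⟩
  haveI : Subsingleton (Coh.HH A.left (CohB1.tensorMod G (W4c5cohrankabvar.ptLB P α)) i) :=
    HypSq10.subsingleton_of_isZero (k := k) ((M2.tensorR (W4c5cohrankabvar.ptLB P α)).map_isZero hG) i
  exact Module.finrank_zero_of_subsingleton

omit [GrpObj A] [IsAlgClosed k] [IsProper A.hom] [Smooth A.hom] [GeometricallyConnected A.hom] in
/-- A zero module has Euler characteristic zero. -/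
theorem euler_of_isZero {G : A.left.Modules} (hG : IsZero G) : @Curv2.euler k _ A.left ⟨A.hom⟩ G = 0 := by
  letI : A.left.Over (Spec (CommRingCat.of k)) := ⟨A.hom⟩
  refine finsum_eq_zero_of_forall_eq_zero fun i => ?_
  haveI := HypSq10.subsingleton_of_isZero (k := k) hG i
  simp [Module.finrank_zero_of_subsingleton]

include hφ hP hξ hg hL hLL' in
/-- If the higher twisted cohomology vanishes it still vanishes after a small negative twist. -/
theorem exists_it0_negative {G : A.left.Modules} (hG : Coh.IsCoh G)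
    (h0 : ∀ (i : ℕ) (α : 𝟙_ (Over (Spec (CommRingCat.of k))) ⟶ At), 1 ≤ i → W4c5cohrankabvar.hAt k P G α i = 0) :
    ∃ n : ℕ, 0 < n ∧ ∀ (i : ℕ) (α : 𝟙_ (Over (Spec (CommRingCat.of k))) ⟶ At), 1 ≤ i →
      W4c5cohrankabvar.hAt k P (CohB1.tensorMod ((Scheme.Modules.pullback ((𝟙 A) ^ n).left).obj G)
        (CohB1.tensorPow L' n)) α i = 0 := by
  haveI : GeometricallyIntegral A.hom := AbRigid.geometricallyIntegral_of_smooth A
  haveI := isCommMonObj_of_isProper_of_geometricallyIntegral A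
  haveI : GeometricallyIntegral At.hom := AbRigid.geometricallyIntegral_of_smooth At
  haveI : AlgebraicGeometry.IsIntegral At.left := GeometricallyIntegral.isIntegral_of_subsingleton At.hom
  haveI := isCommMonObj_of_isProper_of_geometricallyIntegral At
  haveI : IsLocallyNoetherian A.left := LocallyOfFiniteType.isLocallyNoetherian A.hom
  letI : A.left.Over (Spec (CommRingCat.of k)) := ⟨A.hom⟩
  haveI : IsProper (A.left ↘ Spec (CommRingCat.of k)) := inferInstanceAs (IsProper A.hom)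
  have hL' := isInvertible_of_ample_inverse hL.1 hLL'
  let f : A ⟶ At := lamOf φ (PicGrp.cls L hL.1)
  haveI : IsMonHom f := isMonHom_lamOf hφ _
  haveI : IsFinite f.left := isFinite_lamOf hφ hL
  haveI : Surjective f.left := (exists_endo hφ hL).choose_spec.2.1
  haveI : Flat f.left := AbRigid.flat_of_surjective A At f
  have hzero : ∀ q : ℕ, 1 ≤ q → IsZero ((Scheme.Modules.pullback f.left).obj (fmH P G q)) := fun q hq =>
    (Scheme.Modules.pullback f.left).map_isZero (SerreCl8.isZero_of_support_eq_empty ((it0_iff hP hG).1 h0 q hq))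
  obtain ⟨N₀, hN₀⟩ := exists_it0_twist_ample hP (At := At) hL
    (M1.isCoh_pullback f.left (isCoh_fmH hP hG ((0 : ℕ) : ℤ)))
  refine ⟨N₀ + 1, N₀.succ_pos, ?_⟩
  let n := N₀ + 1
  have hn : 0 < n := N₀.succ_pos
  let h : A ⟶ A := (𝟙 A) ^ n
  obtain ⟨hhf, hhfl, hhs⟩ := AVDegree22.isFinite_flat_surjective_pow A hn
  haveI := hhf; haveI := hhfl; haveI := hhs
  haveI : IsMonHom h := AVDegree22.isMonHom_pow_rel A n
  obtain ⟨hz, r, ⟨eW⟩, hr⟩ := exists_positive_transform hφ hP hξ hL hLL' hn f rfl h rfl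
  let W := DCoh.HD ((lP f.left).obj ((phiK (fst A At).left (snd A At).left P).obj
    ((DerivedCategory.singleFunctor A.left.Modules 0).obj (CohB1.tensorPow L n)))) (0 : ℤ)
  have hWc : Coh.IsCoh W := by
    obtain ⟨a⟩ := nonempty_HD_lP_flat f.left ((phiK (fst A At).left (snd A At).left P).obj
      ((DerivedCategory.singleFunctor A.left.Modules 0).obj (CohB1.tensorPow L n))) 0
    exact CohFound.isCoh_of_iso a.symm (M1.isCoh_pullback _
      (isCoh_fmH hP (Snapper.isCoh_of_isInvertible (M2.isInvertible_tensorPow hL.1 n)) _))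
  have hWf : FlatMod.IsFinLocFree W :=
    M1.isFinLocFree_of_pullback_fpqc h.left hWc.1 (M2.isFinLocFree_of_iso eW.symm
      (M2.isFinLocFree_tensor (KFlat.Sch.isFinLocFree_freeMod _ r)
        (M2.isFinLocFree_of_isInvertible (M2.isInvertible_tensorPow hL' n))))
  have hIT : ∀ (q : ℕ) (i : ℕ) (α : 𝟙_ (Over (Spec (CommRingCat.of k))) ⟶ At), 1 ≤ i →
      W4c5cohrankabvar.hAt k P (CohB1.tensorMod ((Scheme.Modules.pullback f.left).obj (fmH P G q))
        (CohB1.tensorPow L n)) α i = 0 := fun q i α hi => by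
    rcases Nat.eq_zero_or_pos q with rfl | hq
    · exact hN₀ n (Nat.le_succ _) i α hi
    · exact hAt_of_isZero hP ((M2.tensorR (CohB1.tensorPow L n)).map_isZero (hzero q hq)) α i
  have hW0 : ∀ (i : ℕ) (α : 𝟙_ (Over (Spec (CommRingCat.of k))) ⟶ At), 1 ≤ i →
      W4c5cohrankabvar.hAt k P (CohB1.tensorMod G W) α i = 0 := fun i α hi => by
    have h := hAt_exchange hφ hP hξ hL hLL' hG hn f rfl hz hWf hIT i α
    have he : @Curv2.euler k _ A.left ⟨A.hom⟩ (CohB1.tensorMod ((Scheme.Modules.pullback f.left).obj (fmH P G i))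
        (CohB1.tensorPow L n)) = 0 :=
      euler_of_isZero ((M2.tensorR (CohB1.tensorPow L n)).map_isZero (hzero i hi))
    rw [he] at h
    exact_mod_cast h
  have hR : Coh.IsCoh (CohB1.tensorMod ((Scheme.Modules.pullback h.left).obj G) (CohB1.tensorPow L' n)) :=
    CohFound.isCoh_tensor (M1.isCoh_pullback _ hG) (CubeField.isCoh_of_isInvertible (M2.isInvertible_tensorPow hL' n))
  let e : (Scheme.Modules.pullback h.left).obj (CohB1.tensorMod G W) ≅ CohB1.tensorMod (FlatMod.freeMod A.left r)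
      (CohB1.tensorMod ((Scheme.Modules.pullback h.left).obj G) (CohB1.tensorPow L' n)) :=
    M2.pullTensorIso _ _ _ ≪≫ M2.tensorIso (Iso.refl _) eW ≪≫ (M2.tensorAssoc _ _ _).symm ≪≫
      M2.tensorIso (M2.tensorComm _ _) (Iso.refl _) ≪≫ M2.tensorAssoc _ _ _
  intro i α hi
  have hpull := (it0_pullback_iff hφ hP hξ hφ hP hξ h (CohFound.isCoh_tensor hG hWc)).1 hW0 i α hi
  rw [hAt_congr e, hAt_free_tensor hP hR] at hpull
  refine (Nat.mul_eq_zero.1 hpull).resolve_left ?_
  haveI := CohFound.finite_HH_of_isProper (A := k) _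
    (Snapper.isCoh_of_isInvertible (M2.isInvertible_tensorPow hL.1 n)) 0
  haveI := MumVan22.nontrivial_of_isAmple (k := k) (A := A) ((Amp.isAmple_tensorPow_iff hL.1 hn).2 hL)
  rw [hr]
  exact (Module.finrank_pos).ne'

include hφ hP hξ hg hL hLL' in
/-- Vanishing at a rational twist extends to some smaller one. -/
theorem exists_it0_left {F : A.left.Modules} (hF : Coh.IsCoh F) (a : ℤ) (b : ℕ) (hb : 0 < b)
    (h0 : ∀ (i : ℕ) (α : 𝟙_ (Over (Spec (CommRingCat.of k))) ⟶ At), 1 ≤ i →
      W4c5cohrankabvar.hAt k P (W4c5cohrankabvar.twist A F L L' b (a * b)) α i = 0) :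
    ∃ (c : ℤ) (d : ℕ), 0 < d ∧ (c : ℚ) / d < (a : ℚ) / b ∧
      ∀ (i : ℕ) (α : 𝟙_ (Over (Spec (CommRingCat.of k))) ⟶ At), 1 ≤ i →
        W4c5cohrankabvar.hAt k P (W4c5cohrankabvar.twist A F L L' d (c * d)) α i = 0 := by
  haveI : GeometricallyIntegral A.hom := AbRigid.geometricallyIntegral_of_smooth A
  haveI : IsLocallyNoetherian A.left := LocallyOfFiniteType.isLocallyNoetherian A.hom
  haveI := isCommMonObj_of_isProper_of_geometricallyIntegral A
  have hL' := isInvertible_of_ample_inverse hL.1 hLL'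
  have hG : Coh.IsCoh (W4c5cohrankabvar.twist A F L L' b (a * b)) := isCoh_twist hF hL.1 hL' b (a * b)
  obtain ⟨n, hn, hneg⟩ := exists_it0_negative hφ hP hξ hg hL hLL' hG h0
  obtain ⟨M, hM, hInv, ⟨eM⟩⟩ := exists_pull_pow_twist F hL.1 hL' hLL' b (a * b) n
  have z₁ := isInvertible_zpow hL.1 hL' (a * b * ((n * n : ℕ) : ℤ))
  have z₂ := isInvertible_zpow hL.1 hL' (-(n : ℤ))
  have hzn : W4c5cohrankabvar.zpow L L' (-(n : ℤ)) = CohB1.tensorPow L' n := by
    obtain ⟨m, hm⟩ : ∃ m, n = m + 1 := ⟨n - 1, by omega⟩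
    rw [hm, show -((m + 1 : ℕ) : ℤ) = Int.negSucc m from rfl]
    rfl
  obtain ⟨ez⟩ : Nonempty (CohB1.tensorMod (W4c5cohrankabvar.zpow L L' (a * b * ((n * n : ℕ) : ℤ)))
      (W4c5cohrankabvar.zpow L L' (-(n : ℤ))) ≅ W4c5cohrankabvar.zpow L L' ((a * b * n - 1) * n)) := by
    refine FMBase13.nonempty_iso_of_cls (hL := M2.isInvertible_tensor z₁ z₂) (hM := isInvertible_zpow hL.1 hL' _) ?_
    rw [← AlgEquiv22.cls_tensor z₁ z₂,
      cls_zpow hL.1 hL' hLL', cls_zpow hL.1 hL' hLL', cls_zpow hL.1 hL' hLL', ← zpow_add]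
    congr 1
    push_cast; ring
  let e' : CohB1.tensorMod ((Scheme.Modules.pullback ((𝟙 A) ^ n).left).obj (W4c5cohrankabvar.twist A F L L' b (a * b)))
      (CohB1.tensorPow L' n) ≅
      CohB1.tensorMod (W4c5cohrankabvar.twist A F L L' (b * n) ((a * b * n - 1) * n)) M :=
    M2.tensorIso eM (eqToIso hzn.symm) ≪≫ M2.tensorAssoc _ _ _ ≪≫ M2.tensorIso (Iso.refl _) (M2.tensorComm _ _) ≪≫
      (M2.tensorAssoc _ _ _).symm ≪≫
      M2.tensorIso (M2.tensorAssoc _ _ _ ≪≫ M2.tensorIso (Iso.refl _) ez) (Iso.refl M)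
  have h1 := (it0_shift hφ hP hξ hL (isCoh_twist hF hL.1 hL' _ _) hM hInv).1
    fun i α hi => (hAt_congr e' α i).symm.trans (hneg i α hi)
  have h2 := (it0_rescale hφ hP hξ hF hL hLL' (b * n) ((a * b * n - 1) * n) b hb).1 h1
  refine ⟨a * b * n - 1, b * n * b, Nat.mul_pos (Nat.mul_pos hb hn) hb, ?_, fun i α hi => ?_⟩
  · have hbq : (0 : ℚ) < b := by exact_mod_cast hb
    have hnq : (0 : ℚ) < n := by exact_mod_cast hn
    push_cast
    rw [div_lt_div_iff₀ (by positivity) hbq]
    nlinarith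
  · rw [show ((a * b * n - 1) * ((b * n * b : ℕ) : ℤ)) = (a * b * n - 1) * n * ((b * b : ℕ) : ℤ) by push_cast; ring]
    exact h2 i α hi

end Groth.Agent.FMHyp13

end
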