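import Groth.Agent.Lib.FMHyp13.RightExpansion
import Groth.Agent.Lib.CurveAmple18.EulerTensor
import Groth.Agent.Lib.AbRigid.Isogeny

/-!
# Generic ranks and the top coefficient of the Hilbert polynomial
-/

set_option autoImplicit false
set_option linter.style.haveILetI false
set_option linter.unusedSectionVars false
set_option backward.isDefEq.respectTransparency false
set_option backward.isDefEq.respectTransparency.types false
set_option maxHeartbeats 1600000

universe u

open CategoryTheory CategoryTheory.Limits AlgebraicGeometry TopologicalSpace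

attribute [local instance] HasDerivedCategory.standard

noncomputable section

namespace Groth.Agent.FMHyp13

open Groth.Agent

variable {X Y : Scheme.{u}}

/-- A trivialization near the generic point computes the generic rank. -/
theorem genRk_of_freeMod [IsIntegral X] {M : X.Modules} (hM : Coh.IsQCoh M) {U : X.Opens} {n : ℕ}
    (e : M.restrict U.ι ≅ FlatMod.freeMod (U : Scheme.{u}) n) (hU : genericPoint X ∈ U) : genRk M = n := by
  haveI : Module.Free (X.presheaf.stalk (genericPoint X)) (M.presheaf.stalk (genericPoint X)) := by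
    letI := (Field.toIsField X.functionField : IsField (X.presheaf.stalk (genericPoint X))).toField
    exact Module.Free.of_divisionRing _ _
  have hn := RankFree12.rk_of_freeMod hM e hU
  rw [RankFree12.rk, Module.finrank_baseChange] at hn
  exact hn

/-- Generic ranks are unchanged by dominant pullbacks. -/
theorem genRk_pullback [IsIntegral X] [IsIntegral Y] [IsNoetherian X] [IsNoetherian Y] (f : Y ⟶ X)
    (hf : f (genericPoint Y) = genericPoint X) {M : X.Modules} (hM : Coh.IsCoh M) :
    genRk ((Scheme.Modules.pullback f).obj M) = genRk M := by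
  obtain ⟨U, -, hU, ⟨e⟩⟩ := CurveAmple18.exists_affine_generic_free hM
  refine genRk_of_freeMod (M1.isCoh_pullback f hM).1 (U := f ⁻¹ᵁ U) ?_ (show f (genericPoint Y) ∈ U by rw [hf]; exact hU)
  exact (Scheme.Modules.restrictFunctorIsoPullback _).app _ ≪≫ (Scheme.Modules.pullbackComp _ _).app M ≪≫
    (Scheme.Modules.pullbackCongr (morphismRestrict_ι f U).symm).app M ≪≫
    ((Scheme.Modules.pullbackComp _ _).app M).symm ≪≫
    (Scheme.Modules.pullback (f ∣_ U)).mapIso (((Scheme.Modules.restrictFunctorIsoPullback U.ι).app M).symm ≪≫ e.symm) ≪≫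
    M2.freeModPullbackIso _ _

/-- At the generic point a coherent module is free of its generic rank. -/
theorem nonempty_pullback_generic [IsIntegral X] [IsNoetherian X] {M : X.Modules} (hM : Coh.IsCoh M) :
    Nonempty ((Scheme.Modules.pullback (X.fromSpecStalk (genericPoint X))).obj M ≅
      FlatMod.freeMod (Spec (X.presheaf.stalk (genericPoint X))) (genRk M)) := by
  obtain ⟨U, -, hU, ⟨e⟩⟩ := CurveAmple18.exists_affine_generic_free hM
  have hr : Set.range (X.fromSpecStalk (genericPoint X)) ⊆ Set.range U.ι := by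
    rw [Scheme.Opens.range_ι, Scheme.range_fromSpecStalk]
    exact fun y hy => (hy : y ⤳ genericPoint X).mem_open U.isOpen hU
  exact ⟨(Scheme.Modules.pullbackCongr (IsOpenImmersion.lift_fac U.ι _ hr).symm).app M ≪≫
    ((Scheme.Modules.pullbackComp _ _).app M).symm ≪≫
    (Scheme.Modules.pullback (IsOpenImmersion.lift U.ι _ hr)).mapIso
      (((Scheme.Modules.restrictFunctorIsoPullback U.ι).app M).symm ≪≫ e.symm) ≪≫
    M2.freeModPullbackIso _ _⟩

/-- Dual perfect objects have the same generic ranks in opposite degrees. -/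
theorem genRk_dual [IsIntegral X] [IsNoetherian X] (G D : DMon9.DM X) [ExactPairing G D]
    (hG : DCoh.IsPerfect (G : DCoh.D X)) (hD : DCoh.IsPerfect (D : DCoh.D X)) (l : ℤ) :
    genRk (DCoh.HD (D : DCoh.D X) l) = genRk (DCoh.HD (G : DCoh.D X) (-l)) := by
  let ι := X.fromSpecStalk (genericPoint X)
  haveI : Flat ι := AbRigid.flat_fromSpecStalk _
  letI : ExactPairing ((DMon9.dPull ι).obj G) ((DMon9.dPull ι).obj D) := Dual8.mapPairing (DMon9.dPull ι) G D
  have hc : ∀ (E : DCoh.D X), DCoh.IsPerfect E → ∀ i, Coh.IsCoh (DCoh.HD E i) := fun E hE i =>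
    DPerf.isCoh_HD_of_pseudoCoherent (DGen9.isPseudoCoherentD_of_isPerfect hE i) (DGen9.isQCohD_of_isPerfect hE i) le_rfl
  obtain ⟨a⟩ := nonempty_HD_lP_flat ι (G : DCoh.D X) (-l)
  obtain ⟨b⟩ := nonempty_HD_lP_flat ι (D : DCoh.D X) l
  obtain ⟨cG⟩ := nonempty_pullback_generic (hc _ hG (-l))
  obtain ⟨cD⟩ := nonempty_pullback_generic (hc _ hD l)
  exact RankDual.rank_eq (Field.toIsField X.functionField) ((DMon9.dPull ι).obj G) ((DMon9.dPull ι).obj D)
    (DGen9.isQCohD_of_isPerfect (PerfPush9.isPerfect_lP ι hG)) (DGen9.isQCohD_of_isPerfect (PerfPush9.isPerfect_lP ι hD))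
    l _ _ (a ≪≫ cG) (b ≪≫ cD)

variable {k : Type u} [Field k] [X.Over (Spec (CommRingCat.of k))] [IsProper (X ↘ Spec (CommRingCat.of k))]

/-- Maps which are isomorphisms on a dense open set do not change the top coefficient. -/
theorem coeff_isHilbPoly_of_iso_on [IsIntegral X] [IsNoetherian X] {g : ℕ} (hg : topologicalKrullDim X = g)
    {L M N : X.Modules} (hL : PicF.IsInvertible L) (hM : Coh.IsCoh M) (hN : Coh.IsCoh N) (φ : M ⟶ N) (U : X.Opens)
    (hU : genericPoint X ∈ U) (h : ∀ V : X.Opens, V ≤ U → Function.Bijective (φ.app V))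
    {P Q : Polynomial ℚ} (hP : ShStab.IsHilbPoly k X L M P) (hQ : ShStab.IsHilbPoly k X L N Q) :
    P.coeff g = Q.coeff g := by
  have hker : Coh.IsCoh (kernel φ) := CurveCoh17.isCoh_kernel hM hN.1 φ
  have hcok : Coh.IsCoh (cokernel φ) :=
    ⟨M1.isQCoh_cokernel hM.1 hN.1 φ, M1.isFT_of_epi (cokernel.π φ) hN.2⟩
  have him : Coh.IsCoh (Abelian.image φ) := KCoh4.isCoh_image hM hN.1 φ
  have small : ∀ K : X.Modules, Coh.IsCoh K → (∀ x ∈ U, ∀ a : K.presheaf.stalk x, a = 0) →
      ∀ R : Polynomial ℚ, ShStab.IsHilbPoly k X L K R → R.coeff g = 0 := fun K hK hz R hR => by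
    have hsub : ∀ x ∈ CohB1.support K, x ∉ U := fun x hx hxU =>
      hx ⟨fun a b => (hz x hxU a).trans (hz x hxU b).symm⟩
    by_cases hne : IsZero K
    · have : R = 0 := Snapper.isHilbPoly_unique (k := k) hR fun m => by
        rw [Polynomial.eval_zero]
        exact_mod_cast Snapper.euler_of_isZero (k := k)
          (CurveCoh17.isCoh_tensor hK (Snapper.isCoh_of_isInvertible (M2.isInvertible_tensorPow hL m)))
          ((M2.tensorR (CohB1.tensorPow L m)).map_isZero hne)
      simp [this]
    · obtain ⟨δ, hδ⟩ := Snapper.exists_dim_support k hne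
      refine Polynomial.coeff_eq_zero_of_natDegree_lt
        ((Snapper.natDegree_isHilbPoly_le hL hK hδ.le hR).trans_lt ?_)
      have hirr : ∀ Z : Set ↥X, Z ∈ irreducibleComponents ↥X → topologicalKrullDim ↥Z = (g : WithBot ℕ∞) := by
        intro Z hZ
        rw [irreducibleComponents_eq_singleton, Set.mem_singleton_iff] at hZ
        subst hZ
        exact ((IsHomeomorph.topologicalKrullDim_eq _ (Homeomorph.Set.univ X).isHomeomorph)).trans hg
      have hcl := M1.isClosed_support hK.2
      have hlt := ProjDual12.dim_lt_of_avoid_generic (X ↘ Spec (CommRingCat.of k)) hirr hcl fun x hx hxs => by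
        rw [irreducibleComponents_eq_singleton, Set.mem_singleton_iff] at hx
        exact hsub x hxs ((genericPoint_spec X).eq (hx : IsGenericPoint x Set.univ) ▸ hU)
      have hδle := ProjDual12.dim_le_of_forall_sdim (X ↘ Spec (CommRingCat.of k)) hcl (d := g - 1)
        fun y hy => by have := hlt y hy; omega
      rw [hδ] at hδle
      have hδ' : δ ≤ g - 1 := by exact_mod_cast hδle
      obtain ⟨y, hy⟩ : (CohB1.support K).Nonempty := Set.nonempty_iff_ne_empty.2 fun he =>
        hne (SerreCl8.isZero_of_support_eq_empty he)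
      have := hlt y hy
      omega
  obtain ⟨Pi, hPi⟩ := Snapper.exists_isHilbPoly k hL him
  obtain ⟨Pk, hPk⟩ := Snapper.exists_isHilbPoly k hL hker
  obtain ⟨Pc, hPc⟩ := Snapper.exists_isHilbPoly k hL hcok
  have e1 := Snapper.isHilbPoly_unique (k := k) hP
    (Snapper.isHilbPoly_add (k := k) hL (CurveCoh17.kerSC_shortExact φ) hker hM him hPk hPi)
  have e2 := Snapper.isHilbPoly_unique (k := k) hQ
    (Snapper.isHilbPoly_add (k := k) hL (CurveCoh17.cokerSC_shortExact φ) him hN hcok hPi hPc)
  have hkz : ∀ x ∈ U, ∀ a : (kernel φ).presheaf.stalk x, a = 0 := fun x hx =>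
    CurveCoh17.eq_zero_stalk_kernel φ x (CurveCoh17.bijective_stalkMap_of_app φ U h hx).1
  have hcz : ∀ x ∈ U, ∀ a : (cokernel φ).presheaf.stalk x, a = 0 := fun x hx =>
    CurveCoh17.eq_zero_stalk_cokernel φ x (CurveCoh17.bijective_stalkMap_of_app φ U h hx).2
  rw [e1, e2, Polynomial.coeff_add, Polynomial.coeff_add, small _ hker hkz _ hPk, small _ hcok hcz _ hPc]
  ring

/-- The top coefficient of the Hilbert polynomial is a multiple of that of the structure sheaf by the rank. -/
theorem coeff_isHilbPoly_eq [IsIntegral X] [IsNoetherian X] [X.IsSeparated] {g : ℕ} (hg : topologicalKrullDim X = g)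
    {L F : X.Modules} (hL : PicF.IsInvertible L) (hF : Coh.IsCoh F) {Q Q₀ : Polynomial ℚ}
    (hQ : ShStab.IsHilbPoly k X L F Q) (hQ₀ : ShStab.IsHilbPoly k X L (Coh.structureModule X) Q₀) :
    Q.coeff g = (genRk F : ℚ) * Q₀.coeff g := by
  obtain ⟨U, hU, hgen, ⟨α⟩⟩ := CurveAmple18.exists_affine_generic_free hF
  let r := genRk F
  haveI : IsAffineHom U.ι := CurveCoh17.isAffineHom_ι hU
  have hfree := M2.isFinLocFreeOfRank_freeMod X r
  have hFc : Coh.IsCoh (FlatMod.freeMod X r) := CohFound.isCoh_of_isFinLocFree (M2.isFinLocFree_of_ofRank hfree)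
  let P := (Scheme.Modules.pushforward U.ι).obj (F.restrict U.ι)
  have hP : Coh.IsQCoh P := PushFin12.isQCoh_pushforward U.ι (F.restrict U.ι) (M1.isQCoh_restrict hF.1 U.ι)
  let a : F ⟶ P := (Scheme.Modules.restrictAdjunction U.ι).unit.app F
  let β : (FlatMod.freeMod X r).restrict U.ι ≅ F.restrict U.ι := M2.freeModRestrictIso U.ι r ≪≫ α
  let b : FlatMod.freeMod X r ⟶ P := (Scheme.Modules.restrictAdjunction U.ι).unit.app _ ≫
    (Scheme.Modules.pushforward U.ι).map β.hom
  have ha : IsIso ((Scheme.Modules.restrictFunctor U.ι).map a) := M1.isIso_restrict_unit U.ι F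
  have hb : IsIso ((Scheme.Modules.restrictFunctor U.ι).map b) := by
    haveI := M1.isIso_restrict_unit U.ι (FlatMod.freeMod X r)
    simp only [b, Functor.map_comp]
    infer_instance
  have hW : Coh.IsCoh (Limits.pullback a b) := M1.isCoh_fibreProd hF hFc hP a b
  have h1 := (Twist.isIso_restrict_map_iff _ U).1 (M1.isIso_restrict_fst a b U.ι hb)
  have h2 := (Twist.isIso_restrict_map_iff _ U).1 (M1.isIso_restrict_snd a b U.ι ha)
  obtain ⟨R, hR⟩ := Snapper.exists_isHilbPoly k hL hW
  have hPr : ShStab.IsHilbPoly k X L (FlatMod.freeMod X r) (Polynomial.C (r : ℚ) * Q₀) := fun m => by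
    rw [Polynomial.eval_mul, Polynomial.eval_C, ← hQ₀ m]
    let M := CohB1.tensorPow L m
    haveI : CompactSpace X := inferInstance
    let e : CohB1.tensorMod (FlatMod.freeMod X r) M ≅
        ⨁ fun _ : Fin r => CohB1.tensorMod (Coh.structureModule X) M :=
      M2.freeModTensorIso X r M ≪≫ (Sigma.mapIso fun _ => (M2.tensorLUnit M).symm) ≪≫ (biproduct.isoCoproduct _).symm
    have he : Curv2.euler k X (CohB1.tensorMod (FlatMod.freeMod X r) M) =
        r * Curv2.euler k X (CohB1.tensorMod (Coh.structureModule X) M) := by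
      rw [CurveCoh17.euler_iso e]
      unfold Curv2.euler
      rw [mul_finsum]
      refine finsum_congr fun i => ?_
      haveI : Module.Finite k (Coh.HH X (CohB1.tensorMod (Coh.structureModule X) M) i) :=
        CohFound.finite_HH_of_isProper (A := k) _ (CurveCoh17.isCoh_tensor
          (Snapper.isCoh_of_isInvertible (PicLoc.isInvertible_structureModule X))
          (Snapper.isCoh_of_isInvertible (M2.isInvertible_tensorPow hL m))) i
      rw [finrank_HH_biproduct_const]
      push_cast; ring
    exact_mod_cast he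
  rw [← coeff_isHilbPoly_of_iso_on hg hL hW hF _ U hgen h1 hR hQ,
    coeff_isHilbPoly_of_iso_on hg hL hW hFc _ U hgen h2 hR hPr, Polynomial.coeff_C_mul]

end Groth.Agent.FMHyp13

end
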