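import Groth.Agent.Lib.FMHyp13.WitFibre
import Groth.Agent.Lib.DPerf.RankSC

/-!
# Constant fibre rank of one cohomology group of a free complex over a local domain
-/

set_option autoImplicit false
set_option linter.style.haveILetI false
set_option linter.unusedSectionVars false
set_option backward.isDefEq.respectTransparency false
set_option backward.isDefEq.respectTransparency.types false
set_option maxHeartbeats 1600000

universe u

open CategoryTheory CategoryTheory.Limits IsLocalRing
open scoped TensorProduct

attribute [local instance] HasDerivedCategory.standard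

noncomputable section

namespace Groth.Agent.FMHyp13.RankCrit

open DBaseChange DPerf.LocalFibre KFlat KFlat.Module

variable {A : Type u} [CommRing A]

/-- The dimension of a base changed cokernel. -/
theorem finrank_tensor_coker [Nontrivial A] (P : DRing.Cx A) (K : Type u) [Field K] [Algebra A K] (i j : ℤ)
    [Module.Free A (P.X j)] [Module.Finite A (P.X j)] :
    Module.finrank K (K ⊗[A] (P.X j ⧸ LinearMap.range (P.d i j).hom)) +
        DPerf.RankSC.rk P (algebraMap A K) i j = Module.finrank A (P.X j) := by
  let N := LinearMap.range (P.d i j).hom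
  have hex : Function.Exact (P.d i j).hom N.mkQ := LinearMap.exact_iff.2 (by rw [Submodule.ker_mkQ])
  have hsurj : Function.Surjective (N.mkQ.baseChange K) :=
    LinearMap.lTensor_surjective K (Submodule.mkQ_surjective N)
  have hker : LinearMap.ker (N.mkQ.baseChange K) = LinearMap.range ((P.d i j).hom.baseChange K) :=
    LinearMap.exact_iff.1 (lTensor_exact K hex (Submodule.mkQ_surjective N))
  have hrk : DPerf.RankSC.rk P (algebraMap A K) i j =
      Module.finrank K (LinearMap.range ((P.d i j).hom.baseChange K)) := by
    have h2 : (FlatCxLib.extEquiv K (P.X j)).toLinearMap ∘ₗ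
        ((ModuleCat.extendScalars (algebraMap A K)).map (P.d i j)).hom =
          (P.d i j).hom.baseChange K ∘ₗ (FlatCxLib.extEquiv K (P.X i)).toLinearMap :=
      LinearMap.ext fun x => FlatCxLib.extEquiv_map K (P.d i j) x
    have h3 := congrArg LinearMap.range h2
    rw [LinearMap.range_comp, LinearMap.range_comp_of_range_eq_top _
      (LinearEquiv.range (FlatCxLib.extEquiv K (P.X i)))] at h3
    rw [← h3, LinearEquiv.finrank_map_eq]
    rfl
  have h := (N.mkQ.baseChange K).finrank_range_add_finrank_ker
  rw [LinearMap.range_eq_top.2 hsurj, finrank_top, hker, Module.finrank_baseChange (R := K) (S := A) (M' := P.X j)] at h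
  rw [hrk]
  exact h

variable [IsLocalRing A] [IsDomain A]

/-- A finite module over a local domain with the same rank at both ends is free. -/
theorem free_of_dim (C : Type u) [AddCommGroup C] [Module A C] [Module.Finite A C]
    (h : Module.finrank (ResidueField A) (ResidueField A ⊗[A] C) =
      Module.finrank (FractionRing A) (FractionRing A ⊗[A] C)) : Module.Free A C := by
  classical
  set n := Module.finrank (ResidueField A) (ResidueField A ⊗[A] C) with hn
  let b := Module.finBasis (ResidueField A) (ResidueField A ⊗[A] C)
  choose v hv using fun i => TensorProduct.mk_surjective A C (ResidueField A) residue_surjective (b i)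
  have hs : Submodule.span A (Set.range v) = ⊤ := span_eq_top_of_tmul_eq_basis v b hv
  let φ : (Fin n → A) →ₗ[A] C := Fintype.linearCombination A v
  have hφ : Function.Surjective φ := LinearMap.range_eq_top.1 (by rw [Fintype.range_linearCombination, hs])
  let K := FractionRing A
  haveI : Module.Free A (Fin n → A) := Module.Free.function _ _ _
  have hdim : Module.finrank K (K ⊗[A] (Fin n → A)) = Module.finrank K (K ⊗[A] C) := by
    rw [Module.finrank_baseChange, Module.finrank_fin_fun, ← h]
  have hinjK : Function.Injective (φ.baseChange K) :=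
    (LinearMap.injective_iff_surjective_of_finrank_eq_finrank hdim).2 (LinearMap.lTensor_surjective K hφ)
  have hinj : Function.Injective φ := by
    refine (injective_iff_map_eq_zero _).2 fun x hx => funext fun i => ?_
    have h0 : (φ.baseChange K) ((1 : K) ⊗ₜ[A] x) = 0 := by
      rw [LinearMap.baseChange_tmul, hx, TensorProduct.tmul_zero]
    have h1 := congrArg (TensorProduct.piScalarRight A K K (Fin n)) (hinjK (h0.trans (map_zero _).symm))
    have h2 := congrFun h1 i
    simp only [TensorProduct.piScalarRight_apply, map_zero, Pi.zero_apply] at h2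
    simp at h2
    exact h2
  exact Module.Free.of_equiv (LinearEquiv.ofBijective φ ⟨hinj, hφ⟩)

/-- The differential after a cohomology group of constant rank has a free cokernel. -/
theorem free_coker (P : DRing.Cx A) (hP : DRing.TermwiseFiniteFree P) (i : ℤ) (h : ℕ)
    [Module.Free A (P.homology i)] [Module.Finite A (P.homology i)] (hrank : Module.finrank A (P.homology i) = h)
    (hfib : Module.finrank (ResidueField A) (((extCx (residue A)).obj P).homology i) = h) :
    Module.Free A (P.X (i + 1) ⧸ LinearMap.range (P.d i (i + 1)).hom) := by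
  have := fun l => (hP l).1
  have := fun l => (hP l).2
  let K := FractionRing A
  let φ : A →+* K := algebraMap A K
  have hφ : φ.Flat := RingHom.flat_algebraMap_iff.2 (IsLocalization.flat _ (nonZeroDivisors A))
  have hgen : Module.finrank K (((extCx φ).obj P).homology i) = h := by
    rw [((homologyExtIso φ hφ P i).toLinearEquiv).finrank_eq, (FlatCxLib.extEquiv K (P.homology i)).finrank_eq,
      Module.finrank_baseChange, hrank]
  have hle : ∀ a b : ℤ, DPerf.RankSC.rk P (residue A) a b ≤ DPerf.RankSC.rk P φ a b := fun a b => by
    obtain ⟨U, hU, hUr⟩ := DPerf.RankSC.exists_open_rk P a b (DPerf.RankSC.rk P (residue A) a b)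
    have h0 : closedPoint A ∈ U := (hUr _ (residue A) (closedPoint A) (IsLocalRing.ker_residue).symm).2 le_rfl
    let η : PrimeSpectrum A := ⟨⊥, Ideal.isPrime_bot⟩
    have hη : η ⤳ closedPoint A := (PrimeSpectrum.le_iff_specializes η (closedPoint A)).1 bot_le
    exact (hUr K φ η ((RingHom.injective_iff_ker_eq_bot φ).1 (IsFractionRing.injective A K)).symm).1
      (hη.mem_open hU h0)
  have e0 := DPerf.RankSC.finrank_homology_ext P (residue A) i
  have e1 := DPerf.RankSC.finrank_homology_ext P φ i
  have c0 := finrank_tensor_coker P (ResidueField A) i (i + 1)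
  have c1 := finrank_tensor_coker P K i (i + 1)
  have hl1 := hle i (i + 1)
  have hl2 := hle (i - 1) i
  rw [show algebraMap A (ResidueField A) = residue A from rfl] at c0
  have hfib' : Module.finrank (ResidueField A) (((DPerf.RankSC.extCx (residue A)).obj P).homology i) = h := hfib
  have hgen' : Module.finrank K (((DPerf.RankSC.extCx φ).obj P).homology i) = h := hgen
  refine free_of_dim _ ?_
  simp only [φ, K] at e1 c1 hl1 hl2 hgen' ⊢
  omega

/-- A complex which is a truncation of a free complex at a free cokernel is fibre exact below. -/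
theorem fibreExact_of_truncation (P : DRing.Cx A) (B : ℤ) [P.IsStrictlyLE B] (hP : DRing.TermwiseFiniteFree P)
    (i : ℤ) (hC : Module.Free A (P.X (i + 1) ⧸ LinearMap.range (P.d i (i + 1)).hom))
    (G : DRing.Cx A) (B' : ℤ) [G.IsStrictlyLE B'] (hG : DRing.TermwiseFiniteFree G)
    (e : DRing.toD G ≅ DRing.toD (DMod.truncFrom P (i + 1))) (l : ℤ) (hl : l ≤ i) : FibreExact G l := by
  let B'' := max B (i + 1)
  haveI : P.IsStrictlyLE B'' := P.isStrictlyLE_of_le B B'' (le_max_left _ _)
  have hflat : ∀ j, Module.Flat A ((DMod.truncFrom P (i + 1)).X j) := by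
    refine DMod.truncFrom_mem DMod.modClass_flat P (i + 1) (fun j _ => have := (hP j).2; inferInstance) ?_
    have hC' : Module.Free A (P.X (i + 1) ⧸ LinearMap.range (P.d (i + 1 - 1) (i + 1)).hom) := by
      rw [add_sub_cancel_right]; exact hC
    exact Module.Flat.of_linearEquiv (DMod.truncFromBotEquiv P (i + 1)).symm
  have hamp : DRing.HasTorAmplitudeIn A (i + 1) B'' (DRing.toD G) :=
    ⟨_, DMod.vanishesOutside_truncFrom P (i + 1) B'', hflat, ⟨e.symm⟩⟩
  exact fibreExact_of_ext G l (subsingleton_homology_ext (residue A) B'
    (fun j => have := (hG j).2; inferInstance) hamp l (Or.inl (by omega)))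

/-- A complex quasi-isomorphic to a free module in degree zero is fibre exact elsewhere. -/
theorem fibreExact_of_single (N : ModuleCat.{u} A) [Module.Free A N] (G : DRing.Cx A) (B : ℤ) [G.IsStrictlyLE B]
    (hG : DRing.TermwiseFiniteFree G)
    (e : DRing.toD G ≅ DRing.toD ((CochainComplex.singleFunctor (ModuleCat.{u} A) 0).obj N)) (l : ℤ) (hl : l ≠ 0) :
    FibreExact G l := by
  let E : DRing.Cx A := (CochainComplex.singleFunctor (ModuleCat.{u} A) 0).obj N
  have hv : DRing.VanishesOutside E 0 0 := fun j hj =>
    HomologicalComplex.isZero_single_obj_X (ComplexShape.up ℤ) 0 N j (by omega)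
  have hflat : ∀ j, Module.Flat A (E.X j) := fun j => by
    by_cases hj : j = 0
    · subst hj
      exact Module.Flat.of_linearEquiv (HomologicalComplex.singleObjXSelf (ComplexShape.up ℤ) 0 N).toLinearEquiv
    · have := ModuleCat.subsingleton_of_isZero (hv j (by omega))
      exact DMod.modClass_flat.subsingleton _
  exact fibreExact_of_ext G l (subsingleton_homology_ext (residue A) B
    (fun j => have := (hG j).2; inferInstance) ⟨E, hv, hflat, ⟨e.symm⟩⟩ l (by omega))

end Groth.Agent.FMHyp13.RankCrit

end
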