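import Groth.Agent.Lib.FMHyp13.PointDual

/-!
# Dual objects over the spectrum of a field have cohomology of the same dimensions in opposite degrees
-/

set_option autoImplicit false
set_option linter.unusedSectionVars false
set_option linter.style.haveILetI false
set_option backward.isDefEq.respectTransparency false
set_option backward.isDefEq.respectTransparency.types false
set_option maxHeartbeats 1600000

universe v w u

open CategoryTheory CategoryTheory.Limits MonoidalCategory AlgebraicGeometry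

attribute [local instance] HasDerivedCategory.standard

noncomputable section

namespace Groth.Agent.FMHyp13.RankDual

open DMon9 FMAdj9 TwistBC9

/-- An endomorphism of the unit acting on a factor of the source acts on the target. -/
theorem whisker_unit_end {C : Type w} [Category.{v} C] [MonoidalCategory C] (c : 𝟙_ C ⟶ 𝟙_ C) {o G : C}
    (x : o ⊗ G ⟶ 𝟙_ C) :
    (((λ_ o).inv ≫ c ▷ o ≫ (λ_ o).hom) ▷ G) ≫ x = x ≫ c := by
  have h1 : ((λ_ o).inv ≫ c ▷ o ≫ (λ_ o).hom) ▷ G =
      (λ_ (o ⊗ G)).inv ≫ c ▷ (o ⊗ G) ≫ (λ_ (o ⊗ G)).hom := by monoidal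
  rw [h1, Category.assoc, Category.assoc, ← leftUnitor_naturality, ← whisker_exchange_assoc, unitors_equal,
    rightUnitor_naturality, ← unitors_equal, leftUnitor_naturality_assoc, Iso.inv_hom_id_assoc]

variable {R : CommRingCat.{u}} (hR : IsField R)

include hR in
/-- Over a field, maps into the field in degree zero vanishing on cohomology in degree zero vanish. -/
theorem hom_single_eq_zero (M : Dual.D R)
    (f : M ⟶ (DerivedCategory.singleFunctor (ModuleCat.{u} R) 0).obj (ModuleCat.of R R))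
    (h : (DerivedCategory.homologyFunctor (ModuleCat.{u} R) 0).map f = 0) : f = 0 := by
  obtain ⟨K, ⟨eK⟩⟩ : ∃ K : DRing.Cx R, Nonempty (DRing.toD K ≅ M) :=
    ⟨_, ⟨DerivedCategory.Q.objObjPreimageIso M⟩⟩
  let L : DRing.Cx R := (CochainComplex.singleFunctor (ModuleCat.{u} R) 0).obj (ModuleCat.of R R)
  let e₀ : DRing.toD L ≅ (DerivedCategory.singleFunctor (ModuleCat.{u} R) 0).obj (ModuleCat.of R R) :=
    ((DerivedCategory.singleFunctorIsoCompQ (ModuleCat.{u} R) 0).app (ModuleCat.of R R)).symm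
  letI := hR.toField
  haveI : ∀ i, Injective (L.X i) := fun i => by
    haveI : Module.Injective R (L.X i) := ⟨fun X Y _ _ _ _ u hu v => by
      obtain ⟨r, hr⟩ := LinearMap.exists_leftInverse_of_injective u (LinearMap.ker_eq_bot.2 hu)
      exact ⟨v ∘ₗ r, fun x => congrArg v (LinearMap.congr_fun hr x)⟩⟩
    exact Module.injective_object_of_injective_module R (L.X i)
  haveI : L.IsKInjective := CochainComplex.isKInjective_of_injective L 0
  let e := DerivedCategory.quotientCompQhIso (ModuleCat.{u} R)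
  let f' : DRing.toD K ⟶ DRing.toD L := eK.hom ≫ f ≫ e₀.inv
  obtain ⟨g, hg⟩ := (CochainComplex.IsKInjective.Qh_map_bijective _ L).surjective
    (e.hom.app K ≫ f' ≫ e.inv.app L)
  obtain ⟨g, rfl⟩ := (HomotopyCategory.quotient (ModuleCat.{u} R) (ComplexShape.up ℤ)).map_surjective g
  suffices hgh : Nonempty (Homotopy g 0) by
    obtain ⟨H⟩ := hgh
    rw [HomotopyCategory.eq_of_homotopy _ _ H, Functor.map_zero, Functor.map_zero] at hg
    have h0 : f' = 0 := by
      have := hg.symm
      rw [Preadditive.IsIso.comp_left_eq_zero] at this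
      exact (cancel_mono (e.inv.app L)).1 (this.trans zero_comp.symm)
    exact (cancel_epi eK.hom).1 (((cancel_mono e₀.inv).1 ((Category.assoc _ _ _).trans (h0.trans zero_comp.symm))).trans comp_zero.symm)
  -- the functional vanishes on cycles, hence factors through the differential
  have hH : HomologicalComplex.homologyMap g 0 = 0 := by
    let hf := DerivedCategory.homologyFunctorFactors (ModuleCat.{u} R) 0
    have hq : DerivedCategory.Q.map g = f' := by
      have h1 := e.inv.naturality g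
      refine (cancel_mono (e.inv.app L)).1 ?_
      exact h1.trans (by rw [Functor.comp_map, hg]; simp)
    have h1 : (DerivedCategory.homologyFunctor (ModuleCat.{u} R) 0).map (DerivedCategory.Q.map g) = 0 := by
      rw [hq]; show (DerivedCategory.homologyFunctor _ 0).map (eK.hom ≫ f ≫ e₀.inv) = 0
      simp [h]
    have h2 := hf.hom.naturality g
    exact (cancel_epi (hf.hom.app K)).1 (h2.symm.trans (by rw [Functor.comp_map, h1, zero_comp, comp_zero]))
  have hgz : K.iCycles 0 ≫ g.f 0 = 0 := by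
    have h1 := HomologicalComplex.homologyπ_naturality g 0
    rw [hH, comp_zero] at h1
    haveI : IsIso (L.homologyπ 0) := HomologicalComplex.isIso_homologyπ _ (-1) 0 (by simp)
      ((HomologicalComplex.isZero_single_obj_X (ComplexShape.up ℤ) 0 (ModuleCat.of R R) (-1) (by decide)).eq_of_src _ _)
    have h2 : HomologicalComplex.cyclesMap g 0 = 0 := (cancel_mono (L.homologyπ 0)).1 (h1.symm.trans zero_comp.symm)
    rw [← HomologicalComplex.cyclesMap_i, h2, zero_comp]
  have hle : LinearMap.ker (K.d 0 1).hom ≤ LinearMap.ker (g.f 0).hom := by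
    intro x hx
    have hk : ModuleCat.ofHom (LinearMap.toSpanSingleton R (K.X 0) x) ≫ K.d 0 1 = 0 := by
      apply ModuleCat.hom_ext
      apply LinearMap.ext_ring
      simpa using hx
    have h1 := congrArg (fun t => t.hom (1 : R))
      (K.liftCycles_i (ModuleCat.ofHom (LinearMap.toSpanSingleton R (K.X 0) x)) 1 (by simp) hk)
    simp only [ModuleCat.hom_ofHom, LinearMap.toSpanSingleton_apply, one_smul] at h1
    show g.f 0 x = 0
    rw [← h1]
    exact congrArg (fun t => t.hom ((K.liftCycles (ModuleCat.ofHom (LinearMap.toSpanSingleton R (K.X 0) x)) 1 (by simp) hk).hom 1)) hgz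
  obtain ⟨ψ, hψ⟩ := LinearMap.exists_extend
    (((LinearMap.ker (K.d 0 1).hom).liftQ (g.f 0).hom hle).comp
      (K.d 0 1).hom.quotKerEquivRange.symm.toLinearMap)
  have hfac : g.f 0 = K.d 0 1 ≫ ModuleCat.ofHom ψ := by
    ext x
    have := LinearMap.congr_fun hψ ⟨(K.d 0 1).hom x, x, rfl⟩
    refine Eq.trans ?_ this.symm
    simp [LinearMap.quotKerEquivRange_symm_apply_image]
  let hm : ∀ i j : ℤ, (ComplexShape.up ℤ).Rel j i → (K.X i ⟶ L.X j) := fun i j _ =>
    if hh : i = 1 ∧ j = 0 then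
      eqToHom (by rw [hh.1]) ≫ ModuleCat.ofHom ψ ≫ eqToHom (by rw [hh.2])
    else 0
  refine ⟨(Homotopy.ofEq ?_).trans (Homotopy.nullHomotopy' hm)⟩
  ext1 i
  by_cases hi : i = 0
  · subst hi
    rw [Homotopy.nullHomotopicMap'_f (k₂ := (-1 : ℤ)) (k₀ := (1 : ℤ)) (by simp) (by simp), hfac]
    simp [hm]
  · exact (HomologicalComplex.isZero_single_obj_X (ComplexShape.up ℤ) 0 (ModuleCat.of R R) i hi).eq_of_tgt _ _

/-- The tilde of a finite free module. -/
theorem finrank_of_tilde_iso (N : ModuleCat.{u} R) (r : ℕ)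
    (e : (tilde.functor R).obj N ≅ FlatMod.freeMod (Spec R) r) (hR : IsField R) :
    Module.finrank R N = r ∧ Module.Finite R N := by
  letI := hR.toField
  haveI : (tilde.functor R).IsLeftAdjoint := (tilde.adjunction (R := R)).isLeftAdjoint
  let F : ModuleCat.{u} R := ∐ fun _ : Fin r => ModuleCat.of R R
  let eF : (tilde.functor R).obj F ≅ FlatMod.freeMod (Spec R) r :=
    (PreservesCoproduct.iso (tilde.functor R) _) ≪≫ Sigma.mapIso fun _ => (tilde.functor R).mapIso (Iso.refl _) ≪≫ tildeSelf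
  let eN : N ≅ F := tilde.fullyFaithfulFunctor.preimageIso (e ≪≫ eF.symm)
  let eD : F ≅ ModuleCat.of R (DirectSum (Fin r) fun _ => R) :=
    ModuleCat.coprodIsoDirectSum (R := R) fun _ : Fin r => ModuleCat.of R R
  let l := (eN ≪≫ eD).toLinearEquiv
  refine ⟨?_, Module.Finite.equiv l.symm⟩
  rw [l.finrank_eq]
  simp

/-- An additive injection which is semilinear for some action bounds the dimensions. -/
theorem finrank_le_of_twisted {k V W : Type*} [Field k] [AddCommGroup V] [Module k V] [AddCommGroup W] [Module k W]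
    [Module.Finite k V] [Module.Finite k W] (f : V →+ W) (hf : Function.Injective f) (ρ : k → k)
    (h : ∀ (r : k) (x : V), f (ρ r • x) = r • f x) : Module.finrank k V ≤ Module.finrank k W := by
  let b := Module.finBasis k V
  have hli : LinearIndependent k fun i => f (b i) := by
    rw [Fintype.linearIndependent_iff]
    intro g hg i
    have h0 : ∑ j, ρ (g j) • b j = 0 := hf (by rw [map_sum, map_zero]; simp only [h]; exact hg)
    have hρ : ρ (g i) = 0 := Fintype.linearIndependent_iff.1 b.linearIndependent _ h0 i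
    have := h (g i) (b i)
    rw [hρ, zero_smul, map_zero] at this
    refine (smul_eq_zero.1 this.symm).resolve_right fun hz => b.ne_zero i (hf (hz.trans f.map_zero.symm))
  simpa using hli.fintype_card_le_finrank

include hR in
/-- Over the spectrum of a field, maps into the unit bound the cohomology of a dual object. -/
theorem le_of_tensor_hom (G D : DM (Spec R)) (hG : DCoh.IsQCohD (G : DCoh.D (Spec R)))
    (hD : DCoh.IsQCohD (D : DCoh.D (Spec R)))
    (adj : tRD G ⊣ tRD D)
    (l : ℤ) (r s : ℕ) (eG : DCoh.HD (G : DCoh.D (Spec R)) (-l) ≅ FlatMod.freeMod (Spec R) s)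
    (eD : DCoh.HD (D : DCoh.D (Spec R)) l ≅ FlatMod.freeMod (Spec R) r) : r ≤ s := by
  haveI : PreservesFiniteLimits (tilde.functor R) := M1.tilde_preservesFiniteLimits
  let T := DPerf.tildeDD R
  haveI : (tilde.functor R).Additive := (tilde.adjunction (R := R)).left_adjoint_additive
  haveI : (DPerf.tildeDD R).IsTriangulated := inferInstance
  letI := hR.toField
  let H := fun i : ℤ => DerivedCategory.homologyFunctor (ModuleCat.{u} R) i
  let S := fun i : ℤ => DerivedCategory.singleFunctor (ModuleCat.{u} R) i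
  obtain ⟨M, ⟨eM⟩⟩ := DQC.exists_iso_of_isQCohD (G : DCoh.D (Spec R)) hG
  obtain ⟨N, ⟨eN⟩⟩ := DQC.exists_iso_of_isQCohD (D : DCoh.D (Spec R)) hD
  let M' := M⟦-l⟧
  obtain ⟨hs, hfs⟩ := finrank_of_tilde_iso ((H 0).obj M') s
    ((tilde.functor R).mapIso (((DerivedCategory.homologyFunctor (ModuleCat.{u} R) 0).shiftIso (-l) 0 (-l)
      (by omega)).app M) ≪≫ (DPerf.hdTildeIso M (-l)).symm ≪≫
        (DerivedCategory.homologyFunctor _ (-l)).mapIso eM ≪≫ eG) hR
  obtain ⟨hr, hfr⟩ := finrank_of_tilde_iso ((H l).obj N) r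
    ((DPerf.hdTildeIso N l).symm ≪≫ (DerivedCategory.homologyFunctor _ l).mapIso eN ≪≫ eD) hR
  haveI := hfs
  haveI := hfr
  rw [← hs, ← hr, ← Subspace.dual_finrank_eq (V := ((H 0).obj M' : ModuleCat.{u} R))]
  -- the objects
  obtain ⟨o⟩ := nonempty_oneD_tilde R l
  obtain ⟨o₀⟩ := nonempty_oneD_tilde R 0
  obtain ⟨sh⟩ := FMBase13.nonempty_shift_tensor (X := Spec R) l
  obtain ⟨cG⟩ := nonempty_comm G
  haveI := adj.rightAdjoint_preservesLimits
  haveI : (tRD D).Additive := Functor.additive_of_preserves_binary_products _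
  haveI : (tRD G).Additive := adj.left_adjoint_additive
  let oM : DM (Spec R) := oneM (Spec R) l
  let o₁ : DCoh.D (Spec R) := oM
  let u₀ : DCoh.D (Spec R) := (𝟙_ (DM (Spec R)) : DM (Spec R))
  let e₁ : o₁ ≅ T.obj ((S l).obj (ModuleCat.of R R)) :=
    ((((DerivedCategory.singleFunctorIsoCompQ (Spec R).Modules l).app (Coh.structureModule (Spec R))).symm :) :
      _ ≅ oneD (Spec R) l) ≪≫ o
  let e₂ : u₀ ≅ T.obj ((S 0).obj (ModuleCat.of R R)) :=
    ((((DerivedCategory.singleFunctorIsoCompQ (Spec R).Modules 0).app (Coh.structureModule (Spec R))).symm :) :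
      _ ≅ oneD (Spec R) 0) ≪≫ o₀
  let e₃ : (tRD G).obj o₁ ≅ T.obj M' :=
    ((cG.app oM).symm :) ≪≫ sh.app (G : DCoh.D (Spec R)) ≪≫
      (shiftFunctor (DCoh.D (Spec R)) (-l)).mapIso eM.symm ≪≫ ((T.commShiftIso (-l)).app M).symm
  let e₄ : (tRD D).obj u₀ ≅ T.obj N :=
    ((λ_ D : (𝟙_ (DM (Spec R)) ⊗ D : DM (Spec R)) ≅ D) :) ≪≫ eN.symm
  -- maps into the unit are functionals
  let θ₀ := (DerivedCategory.singleFunctorCompHomologyFunctorIso (ModuleCat.{u} R) 0).app (ModuleCat.of R R)
  let Tm : ∀ X Y : Dual.D R, (X ⟶ Y) →+ (T.obj X ⟶ T.obj Y) := fun X Y =>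
    AddMonoidHom.mk' (fun q => T.map q) fun p q => T.map_add
  let Te : ∀ X Y : Dual.D R, (X ⟶ Y) ≃+ (T.obj X ⟶ T.obj Y) := fun X Y =>
    AddEquiv.ofBijective (Tm X Y) (DQC.bijective_map X Y)
  let Θ : ((S l).obj (ModuleCat.of R R) ⟶ N) →+ (ModuleCat.of R R ⟶ (H l).obj N) :=
    AddMonoidHom.mk' SiteRlim.θ SiteRlim.θ_add
  let Θe := AddEquiv.ofBijective Θ (DQC.bijective_θ_projective (ModuleCat.of R R) l N)
  let P : ((H l).obj N : ModuleCat.{u} R) →+ (ModuleCat.of R R ⟶ (H l).obj N) :=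
    AddMonoidHom.mk' (fun x => ModuleCat.ofHom (LinearMap.toSpanSingleton R _ x)) fun x y => by
      ext; simp [smul_add]
  let toHom : ((H l).obj N : ModuleCat.{u} R) →+ (o₁ ⟶ (tRD D).obj u₀) :=
    AddMonoidHom.mk' (fun x => e₁.hom ≫ T.map (Θe.symm (P x)) ≫ e₄.inv) fun x y => by
      simp [T.map_add]
  let evE := adj.homAddEquiv o₁ u₀
  let toFun : ((tRD G).obj o₁ ⟶ u₀) →+ Module.Dual R ((H 0).obj M' : ModuleCat.{u} R) :=
    AddMonoidHom.mk' (fun x => ((H 0).map ((Te _ _).symm (e₃.inv ≫ x ≫ e₂.hom)) ≫ θ₀.hom).hom) fun x y => by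
      rw [show e₃.inv ≫ (x + y) ≫ e₂.hom = e₃.inv ≫ x ≫ e₂.hom + e₃.inv ≫ y ≫ e₂.hom by
        rw [Preadditive.add_comp, Preadditive.comp_add], map_add, Functor.map_add, Preadditive.add_comp]
      rfl
  let f := toFun.comp ((evE.symm.toAddMonoidHom).comp toHom)
  have hfi : Function.Injective f := by
    rw [injective_iff_map_eq_zero]
    intro x hx
    have h1 : (H 0).map ((Te _ _).symm (e₃.inv ≫ evE.symm (toHom x) ≫ e₂.hom)) = 0 :=
      (cancel_mono θ₀.hom).1 ((ModuleCat.hom_ext hx).trans zero_comp.symm)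
    have h2 := (Te _ _).symm.map_eq_zero_iff.1 (hom_single_eq_zero hR M' _ h1)
    rw [Preadditive.IsIso.comp_left_eq_zero, Preadditive.IsIso.comp_right_eq_zero,
      evE.symm.map_eq_zero_iff] at h2
    change e₁.hom ≫ T.map (Θe.symm (P x)) ≫ e₄.inv = 0 at h2
    rw [Preadditive.IsIso.comp_left_eq_zero, Preadditive.IsIso.comp_right_eq_zero] at h2
    have h3 : Θe.symm (P x) = 0 := (Te _ _).injective (h2.trans (T.map_zero _ _).symm)
    have h4 := congrArg (fun t => t.hom (1 : R)) (Θe.symm.map_eq_zero_iff.1 h3)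
    exact (one_smul R x).symm.trans h4
  -- scalars
  let sc : R → ((ModuleCat.of R R) ⟶ ModuleCat.of R R) := fun c => ModuleCat.ofHom (c • LinearMap.id)
  let γ : R → (u₀ ⟶ u₀) := fun c => e₂.hom ≫ T.map ((S 0).map (sc c)) ≫ e₂.inv
  let a : R → (o₁ ⟶ o₁) := fun c =>
    (CategoryStruct.comp (obj := DM (Spec R)) (λ_ oM).inv
      (MonoidalCategoryStruct.whiskerRight (C := DM (Spec R)) (γ c) oM ≫ (λ_ oM).hom) :)
  have hw : ∀ c, ∃ w : (ModuleCat.of R R) ⟶ ModuleCat.of R R,
      a c = e₁.hom ≫ T.map ((S l).map w) ≫ e₁.inv := fun c => by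
    obtain ⟨w₀, hw₀⟩ := (DQC.bijective_map ((S l).obj (ModuleCat.of R R)) _).2 (e₁.inv ≫ (a c) ≫ e₁.hom)
    obtain ⟨w, rfl⟩ := (S l).map_surjective w₀
    exact ⟨w, by show _ = e₁.hom ≫ T.map ((S l).map w) ≫ e₁.inv; rw [show T.map ((S l).map w) = _ from hw₀]; simp⟩
  choose w hw using hw
  refine finrank_le_of_twisted f hfi (fun c => (w c).hom 1) fun c x => ?_
  have hP : P ((w c).hom 1 • x) = w c ≫ P x := by
    apply ModuleCat.hom_ext
    apply LinearMap.ext_ring
    simp [P]
  have hT : toHom ((w c).hom 1 • x) = a c ≫ toHom x := by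
    have hΘ : Θe.symm (w c ≫ P x) = (S l).map (w c) ≫ Θe.symm (P x) := Θe.injective (by
      rw [AddEquiv.apply_symm_apply]
      show w c ≫ P x = SiteRlim.θ ((DerivedCategory.singleFunctor _ l).map (w c) ≫ Θe.symm (P x))
      exact ((SiteRlim.θ_pre (w c) (Θe.symm (P x))).trans (congrArg (w c ≫ ·) (Θe.apply_symm_apply (P x)))).symm)
    change e₁.hom ≫ T.map (Θe.symm (P _)) ≫ e₄.inv = _ ≫ e₁.hom ≫ T.map (Θe.symm (P x)) ≫ e₄.inv
    rw [hP, hΘ, T.map_comp, hw]
    simp
  change toFun (evE.symm (toHom _)) = c • toFun (evE.symm (toHom x))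
  have hE : evE.symm (toHom ((w c).hom 1 • x)) = evE.symm (toHom x) ≫ γ c := evE.injective (by
    rw [AddEquiv.apply_symm_apply, hT]
    refine Eq.symm ?_
    have hwu : evE.symm (toHom x) ≫ γ c = (tRD G).map (a c) ≫ evE.symm (toHom x) :=
      (whisker_unit_end (C := DM (Spec R)) (γ c) (o := oM) (G := G) (evE.symm (toHom x))).symm
    rw [hwu]
    exact (adj.homEquiv_naturality_left (a c) _).trans (congrArg (a c ≫ ·) (evE.apply_symm_apply (toHom x))))
  rw [hE]
  let z := evE.symm (toHom x)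
  have hz : (Te _ _).symm (e₃.inv ≫ (z ≫ γ c) ≫ e₂.hom) =
      (Te _ _).symm (e₃.inv ≫ z ≫ e₂.hom) ≫ (S 0).map (sc c) := (Te _ _).injective (by
    rw [AddEquiv.apply_symm_apply]
    change _ = T.map (_ ≫ _)
    rw [T.map_comp, show T.map ((Te M' ((S 0).obj (ModuleCat.of R R))).symm (e₃.inv ≫ z ≫ e₂.hom)) =
      e₃.inv ≫ z ≫ e₂.hom from (Te M' _).apply_symm_apply _]
    simp [γ])
  change ((H 0).map ((Te _ _).symm (e₃.inv ≫ (z ≫ γ c) ≫ e₂.hom)) ≫ θ₀.hom).hom =
    c • ((H 0).map ((Te _ _).symm (e₃.inv ≫ z ≫ e₂.hom)) ≫ θ₀.hom).hom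
  rw [hz, Functor.map_comp, Category.assoc]
  have hnatθ : (H 0).map ((S 0).map (sc c)) ≫ θ₀.hom = θ₀.hom ≫ sc c :=
    (DerivedCategory.singleFunctorCompHomologyFunctorIso (ModuleCat.{u} R) 0).hom.naturality (sc c)
  rw [hnatθ]
  ext y
  simp [sc]

include hR in
/-- Over the spectrum of a field, dual objects have cohomology of the same dimensions in opposite degrees. -/
theorem rank_eq (G D : DM (Spec R)) [ExactPairing G D] (hG : DCoh.IsQCohD (G : DCoh.D (Spec R)))
    (hD : DCoh.IsQCohD (D : DCoh.D (Spec R))) (l : ℤ) (r s : ℕ)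
    (eG : DCoh.HD (G : DCoh.D (Spec R)) (-l) ≅ FlatMod.freeMod (Spec R) s)
    (eD : DCoh.HD (D : DCoh.D (Spec R)) l ≅ FlatMod.freeMod (Spec R) r) : r = s := by
  obtain ⟨cD⟩ := nonempty_comm D
  obtain ⟨cG⟩ := nonempty_comm G
  let adj' : tRD D ⊣ tRD G :=
    (((tensorLeftAdjunction G D).ofNatIsoLeft cD).ofNatIsoRight cG :
      (tensorRight D : DM (Spec R) ⥤ DM (Spec R)) ⊣ tensorRight G)
  exact le_antisymm (le_of_tensor_hom hR G D hG hD (tRDAdj G D) l r s eG eD)
    (le_of_tensor_hom hR D G hD hG adj' (-l) s r (eqToIso (by rw [neg_neg]) ≪≫ eD) eG)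

end Groth.Agent.FMHyp13.RankDual

end
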