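import Groth.Agent.Lib.FMHyp13.RankPoly
import Groth.Agent.Lib.EnriquesSeveri11.Lef
import Groth.Agent.Lib.PP13.Filt
import Groth.Agent.Lib.PP13.TwistVan
import Groth.Agent.Lib.MumVan22.Apps
import Groth.Agent.Lib.CurveCoh17.Equality
import Groth.Agent.Lib.Twist.GenLocus

/-!
# The rank functions are locally Lipschitz
-/

set_option autoImplicit false
set_option linter.style.haveILetI false
set_option linter.unusedSectionVars false
set_option backward.isDefEq.respectTransparency false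
set_option backward.isDefEq.respectTransparency.types false
set_option maxHeartbeats 1600000

universe u

open CategoryTheory CategoryTheory.Limits MonoidalCategory CartesianMonoidalCategory AlgebraicGeometry
open TopologicalSpace
open scoped MonObj GrpObj

noncomputable section

namespace Groth.Agent.FMHyp13

open FMBase13 Groth.Agent Groth.Agent.RosTrace22

noncomputable local instance instLawRankLip (Y : Scheme.{u}) : PicGrp.Law Y := M2.law Y

variable {k : Type u} [Field k]

/-- A map which is surjective near the generic point is surjective on top cohomology. -/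
theorem surjective_hmap_top {X : Over (Spec (CommRingCat.of k))} [IsProper X.hom] [IsIntegral X.left] {g : ℕ}
    (hg : topologicalKrullDim X.left = g) {M N : X.left.Modules} (φ : M ⟶ N) (U : X.left.Opens)
    (hU : genericPoint X.left ∈ U) (h : ∀ x ∈ U, Function.Surjective (CurveCoh17.stalkLin φ x))
    (hinj : ∀ x ∈ U, Function.Injective (CurveCoh17.stalkLin φ x)) :
    letI : X.left.Over (Spec (CommRingCat.of k)) := ⟨X.hom⟩
    Function.Surjective (CurveCoh17.hmap k φ g) := by
  letI : X.left.Over (Spec (CommRingCat.of k)) := ⟨X.hom⟩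
  haveI : CompactSpace X.left := QuasiCompact.compactSpace_of_compactSpace X.hom
  haveI : QuasiSeparatedSpace X.left := quasiSeparatedSpace_of_quasiSeparated X.hom
  have hpt : ∀ x : X.left, x ∉ U → ((1 : ℕ) : WithBot ℕ∞) ≤ ringKrullDim (X.left.presheaf.stalk x) := fun x hx => by
    obtain ⟨a, ha, hsum⟩ := FibRank28.coheight_add_sdim X.hom x
    have hgen : VarDim.sdim X.hom (genericPoint X.left) = g := by
      exact_mod_cast (VarDim.dim_eq_sdim_genericPoint X.hom).symm.trans hg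
    have hlt : VarDim.sdim X.hom x < VarDim.sdim X.hom (genericPoint X.left) :=
      VarDim.sdim_lt_of_specializes X.hom (genericPoint_specializes x) fun e => hx (e ▸ hU)
    rw [ringKrullDim_stalk_eq_coheight, ha]
    exact_mod_cast (by omega : 1 ≤ a)
  have hzero : ∀ K : X.left.Modules, (∀ x ∈ U, ∀ a : K.presheaf.stalk x, a = 0) → ∀ p, g ≤ p →
      Subsingleton (Coh.HH X.left K p) := fun K hK p hp => by
    rw [CohFound.subsingleton_HH_iff]
    exact subsingleton_hc_of_dim_stalk hg.le K 1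
      (fun x hx => hpt x fun hxU => hx ⟨fun a b => (hK x hxU a).trans (hK x hxU b).symm⟩) p (by omega)
  haveI := hzero (cokernel φ) (fun x hx => CurveCoh17.eq_zero_stalk_cokernel φ x (h x hx)) g le_rfl
  haveI := hzero (kernel φ) (fun x hx => CurveCoh17.eq_zero_stalk_kernel φ x (hinj x hx)) (g + 1) (Nat.le_succ g)
  intro y
  obtain ⟨z, rfl⟩ := ((CurveCoh17.exact_hmap_hmap k (CurveCoh17.cokerSC_shortExact φ) g) y).1 (Subsingleton.elim _ _)
  obtain ⟨w, rfl⟩ := ((CurveCoh17.exact_hmap_hdelta k (CurveCoh17.kerSC_shortExact φ) g) z).1 (Subsingleton.elim _ _)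
  exact ⟨w, by rw [← CurveCoh17.hmap_comp]; simp⟩

/-- A tensor product of maps bijective on stalks is injective on stalks. -/
theorem injective_stalk_tensorMap {X : Scheme.{u}} {A A' B B' : X.Modules} (f : A ⟶ A') (g : B ⟶ B') (x : X)
    (hf : Function.Bijective (CurveCoh17.stalkLin f x)) (hg : Function.Bijective (CurveCoh17.stalkLin g x)) :
    Function.Injective (CurveCoh17.stalkLin (M2.tensorMap f g) x) := by
  have hnat : ∀ z, M2.stalkEquiv A' B' x (CurveCoh17.stalkLin (M2.tensorMap f g) x z) =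
      TensorProduct.map (CurveCoh17.stalkLin f x) (CurveCoh17.stalkLin g x) (M2.stalkEquiv A B x z) := by
    intro z
    obtain ⟨w, rfl⟩ := (M2.stalkEquiv A B x).symm.surjective z
    rw [LinearEquiv.apply_symm_apply]
    induction w using TensorProduct.induction_on with
    | zero => simp
    | add p q hp hq => simp [hp, hq]
    | tmul p q =>
      obtain ⟨U, hx, s, t, rfl, rfl⟩ := CurveCoh17.exists_germ_germ x p q
      have h : (M2.stalkEquiv A B x).symm (A.presheaf.germ U x hx s ⊗ₜ B.presheaf.germ U x hx t) =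
          (CohB1.tensorMod A B).presheaf.germ U x hx (M2.tsec A B s t) :=
        (LinearEquiv.symm_apply_eq _).2 (M2.stalkEquiv_tsec A B x hx s t).symm
      rw [h, CurveCoh17.stalkLin_apply, M1.germ_naturality, M2.tensorMap_tsec, M2.stalkEquiv_tsec,
        TensorProduct.map_tmul, CurveCoh17.stalkLin_apply, CurveCoh17.stalkLin_apply, M1.germ_naturality,
        M1.germ_naturality]
  intro z w h
  apply (M2.stalkEquiv A B x).injective
  exact (TensorProduct.congr (LinearEquiv.ofBijective _ hf) (LinearEquiv.ofBijective _ hg)).injective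
    ((hnat z).symm.trans ((congrArg _ h).trans (hnat w)))

variable [IsAlgClosed k] {A At : Over (Spec (CommRingCat.of k))} [GrpObj A] [GrpObj At]
  [IsProper A.hom] [Smooth A.hom] [GeometricallyConnected A.hom]
  [IsProper At.hom] [Smooth At.hom] [GeometricallyConnected At.hom]
  {φ : AgPol.DualMap A At} (hφ : AbDual.IsDualAV Scheme.fppfPrecoverage A At φ)
  {P : (PicF.XT A.hom At).Modules} (hP : PicF.IsInvertible P) (hξ : AbDual.IsPoincareCl A At φ (PicF.cl P))
  {g : ℕ} (hg : topologicalKrullDim A.left = g) {L L' : A.left.Modules} (hL : CohB1.IsAmple L)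
  (hLL' : Nonempty (CohB1.tensorMod L L' ≅ Coh.structureModule A.left))

include hφ hP hξ hg hL hLL' in
/-- The twisted cohomology of a negative power. -/
theorem hAt_negative_power {m : ℕ} (hm : 0 < m) (β : 𝟙_ (Over (Spec (CommRingCat.of k))) ⟶ At) (j : ℕ) :
    (W4c5cohrankabvar.hAt k P (CohB1.tensorPow L' m) β j : ℤ) =
      if j = g then (m : ℤ) ^ g * @Curv2.euler k _ A.left ⟨A.hom⟩ L else 0 := by
  haveI : GeometricallyIntegral A.hom := AbRigid.geometricallyIntegral_of_smooth A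
  haveI := isCommMonObj_of_isProper_of_geometricallyIntegral A
  haveI : IsLocallyNoetherian A.left := LocallyOfFiniteType.isLocallyNoetherian A.hom
  letI : A.left.Over (Spec (CommRingCat.of k)) := ⟨A.hom⟩
  haveI : IsProper (A.left ↘ Spec (CommRingCat.of k)) := inferInstanceAs (IsProper A.hom)
  have hL' := isInvertible_of_ample_inverse hL.1 hLL'
  have hM : PicF.IsInvertible (CohB1.tensorPow L' m) := M2.isInvertible_tensorPow hL' m
  have ha : CohB1.IsAmple (CohB1.tensorPow L m) := (Amp.isAmple_tensorPow_iff hL.1 hm).2 hL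
  obtain ⟨uM⟩ := nonempty_tensorPow_inverse hLL' m
  have hc : PicGrp.cls _ hM = (PicGrp.cls _ ha.1)⁻¹ := Index22.cls_inverse ha.1 hM ⟨uM⟩
  have hPb : PicF.IsInvertible (W4c5cohrankabvar.ptLB P β) := PicLoc.isInvertible_pullback _ hP
  have hInv : AlgEquiv22.Inv (PicGrp.cls _ hPb) := by
    have h := PP13.inv_slice hφ hP hξ β
    rwa [RosTrace22.pb_cls] at h
  obtain ⟨a, ⟨e⟩⟩ := MumVan22.exists_translate_tensor hM hPb hInv (by
    refine (AlgEquiv22.finite_fixing ha).subset fun a h => ?_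
    simp only [Set.mem_setOf_eq, hc, map_inv, inv_inj] at h
    exact h)
  let t : A ⟶ A := 𝟙 A * (toUnit A ≫ a)
  haveI : IsIso t := ⟨𝟙 A * (toUnit A ≫ a⁻¹), by
    rw [MonObj.comp_mul, Category.comp_id, comp_toUnit_assoc, _root_.mul_assoc, ← MonObj.comp_mul, mul_inv_cancel,
      MonObj.comp_one, _root_.mul_one], by
    rw [MonObj.comp_mul, Category.comp_id, comp_toUnit_assoc, _root_.mul_assoc, ← MonObj.comp_mul, inv_mul_cancel,
      MonObj.comp_one, _root_.mul_one]⟩
  haveI : IsIso t.left := inferInstanceAs (IsIso ((Over.forget _).map t))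
  have h1 : W4c5cohrankabvar.hAt k P (CohB1.tensorPow L' m) β j =
      Module.finrank k (Coh.HH A.left (CohB1.tensorPow L' m) j) :=
    ((CBC10.hmapLinEquiv k (M2.tensorComm _ _ ≪≫ e) j).finrank_eq).trans
      (finrank_HH_pullback_aut t (Snapper.isCoh_of_isInvertible hM).1 j)
  rw [h1]
  split_ifs with hj
  · subst hj
    have h2 : Curv2.euler k A.left (CohB1.tensorPow L' m) = (-1 : ℤ) ^ j *
        (Module.finrank k (Coh.HH A.left (CohB1.tensorPow L' m) j) : ℤ) := by
      refine (finsum_eq_single _ j fun i hi => ?_).trans (by simp)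
      haveI := subsingleton_negative_power hg hL hLL' hm i hi
      simp [Module.finrank_zero_of_subsingleton]
    rw [RR22.euler_inverse ha.1 (AlgEquiv22.finite_fixing ha) hM hc hg, euler_tensorPow_ample hL hg m hm] at h2
    exact (mul_left_cancel₀ (pow_ne_zero j (by norm_num)) h2).symm
  · haveI := subsingleton_negative_power hg hL hLL' hm j hj
    simp [Module.finrank_zero_of_subsingleton]

include hφ hP hξ hg hL hLL' in
/-- The twists of sums of a negative power. -/
theorem hAt_twist_negative (r N d : ℕ) (c : ℤ) (hd : 0 < d) (hc : c < (N : ℤ) * d)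
    (α : 𝟙_ (Over (Spec (CommRingCat.of k))) ⟶ At) (j : ℕ) :
    (W4c5cohrankabvar.hAt k P (W4c5cohrankabvar.twist A (CohB1.tensorMod (FlatMod.freeMod A.left r)
        (CohB1.tensorPow L' N)) L L' d (c * d)) α j : ℤ) =
      if j = g then (r : ℤ) * (d : ℤ) ^ g * ((N : ℤ) * d - c) ^ g * @Curv2.euler k _ A.left ⟨A.hom⟩ L else 0 := by
  haveI : GeometricallyIntegral A.hom := AbRigid.geometricallyIntegral_of_smooth A
  haveI := isCommMonObj_of_isProper_of_geometricallyIntegral A
  haveI : IsLocallyNoetherian A.left := LocallyOfFiniteType.isLocallyNoetherian A.hom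
  have hL' := isInvertible_of_ample_inverse hL.1 hLL'
  have hN : PicF.IsInvertible (CohB1.tensorPow L' N) := M2.isInvertible_tensorPow hL' N
  obtain ⟨M, hM, hInv, ⟨eM⟩⟩ := exists_pull_pow_twist (Coh.structureModule A.left) hL.1 hL' hLL' 1 (-(N : ℤ)) d
  have h1 : ((𝟙 A) ^ 1).left = 𝟙 A.left := by rw [pow_one, Over.id_left]
  have hzn : ∀ q : ℕ, W4c5cohrankabvar.zpow L L' (-(q : ℤ)) = CohB1.tensorPow L' q ∨ q = 0 := fun q => by
    rcases q with _ | q
    · exact Or.inr rfl
    · exact Or.inl rfl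
  let m : ℕ := (((N : ℤ) * d - c) * d).toNat
  have hm : (m : ℤ) = ((N : ℤ) * d - c) * d := Int.toNat_of_nonneg (mul_nonneg (by linarith) (by positivity))
  have hmpos : 0 < m := by
    have h : 0 < ((N : ℤ) * d - c) * d := mul_pos (by linarith) (by exact_mod_cast hd)
    omega
  have hpd : PicF.IsInvertible ((Scheme.Modules.pullback ((𝟙 A) ^ d).left).obj (CohB1.tensorPow L' N)) :=
    PicLoc.isInvertible_pullback _ hN
  have hz := isInvertible_zpow hL.1 hL' (c * d)
  obtain ⟨ez⟩ : Nonempty (CohB1.tensorMod ((Scheme.Modules.pullback ((𝟙 A) ^ d).left).obj (CohB1.tensorPow L' N))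
      (W4c5cohrankabvar.zpow L L' (c * d)) ≅ CohB1.tensorMod (CohB1.tensorPow L' m) M) := by
    let tw := W4c5cohrankabvar.twist A (Coh.structureModule A.left) L L' 1 (-(N : ℤ))
    let e0 : tw ≅ W4c5cohrankabvar.zpow L L' (-(N : ℤ)) :=
      M2.tensorIso ((Scheme.Modules.pullbackCongr h1).app _ ≪≫ (Scheme.Modules.pullbackId _).app _) (Iso.refl _) ≪≫
        M2.tensorLUnit _
    let e1 : W4c5cohrankabvar.twist A (Coh.structureModule A.left) L L' (1 * d) (-(N : ℤ) * ((d * d : ℕ) : ℤ)) ≅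
        W4c5cohrankabvar.zpow L L' (-(N : ℤ) * ((d * d : ℕ) : ℤ)) :=
      M2.tensorIso (PicLoc.pullbackStructureIso _) (Iso.refl _) ≪≫ M2.tensorLUnit _
    have zN := isInvertible_zpow hL.1 hL' (-(N : ℤ))
    have zd := isInvertible_zpow hL.1 hL' (-(N : ℤ) * ((d * d : ℕ) : ℤ))
    have hcl : PicGrp.cls _ hpd = PicGrp.cls L hL.1 ^ (-(N : ℤ) * ((d * d : ℕ) : ℤ)) * PicGrp.cls M hM := by
      let pf := PicLoc.isInvertible_pullback ((𝟙 A) ^ d).left zN
      obtain ⟨e⟩ : Nonempty ((Scheme.Modules.pullback ((𝟙 A) ^ d).left).obj (W4c5cohrankabvar.zpow L L' (-(N : ℤ))) ≅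
          CohB1.tensorMod (W4c5cohrankabvar.zpow L L' (-(N : ℤ) * ((d * d : ℕ) : ℤ))) M) :=
        ⟨(Scheme.Modules.pullback ((𝟙 A) ^ d).left).mapIso e0.symm ≪≫ eM ≪≫ M2.tensorIso e1 (Iso.refl _)⟩
      have hb := (PicGrp.cls_eq_cls_iff pf (M2.isInvertible_tensor zd hM)).2 ⟨e⟩
      rw [← RosTrace22.pb_cls ((𝟙 A) ^ d) zN, ← AlgEquiv22.cls_tensor zd hM, cls_zpow hL.1 hL' hLL',
        cls_zpow hL.1 hL' hLL'] at hb
      rw [← RosTrace22.pb_cls ((𝟙 A) ^ d) hN, FGA3.cls_tensorPow hL' N, Index22.cls_inverse hL.1 hL' hLL', inv_pow,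
        ← zpow_natCast (PicGrp.cls L hL.1) N, ← zpow_neg]
      exact hb
    refine FMBase13.nonempty_iso_of_cls (hL := M2.isInvertible_tensor hpd hz)
      (hM := M2.isInvertible_tensor (M2.isInvertible_tensorPow hL' m) hM) ?_
    rw [← AlgEquiv22.cls_tensor hpd hz, ← AlgEquiv22.cls_tensor (M2.isInvertible_tensorPow hL' m) hM, hcl,
      cls_zpow hL.1 hL' hLL', FGA3.cls_tensorPow hL' m, Index22.cls_inverse hL.1 hL' hLL', inv_pow,
      ← zpow_natCast, ← zpow_neg, mul_right_comm, ← zpow_add, hm]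
    congr 2
    push_cast; ring
  obtain ⟨pt0, ⟨eP⟩⟩ := exists_point_of_inv hφ hP hξ hL hM hInv
  let e : W4c5cohrankabvar.twist A (CohB1.tensorMod (FlatMod.freeMod A.left r) (CohB1.tensorPow L' N)) L L' d (c * d) ≅
      CohB1.tensorMod (FlatMod.freeMod A.left r) (CohB1.tensorMod (CohB1.tensorPow L' m) (W4c5cohrankabvar.ptLB P pt0)) :=
    M2.tensorIso (M2.pullTensorIso _ _ _ ≪≫ M2.tensorIso (M2.freeModPullbackIso _ r) (Iso.refl _)) (Iso.refl _) ≪≫
      M2.tensorAssoc _ _ _ ≪≫ M2.tensorIso (Iso.refl _) (ez ≪≫ M2.tensorIso (Iso.refl _) eP)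
  rw [hAt_congr e, hAt_free_tensor hP (CohFound.isCoh_tensor (Snapper.isCoh_of_isInvertible
    (M2.isInvertible_tensorPow hL' m)) (Snapper.isCoh_of_isInvertible (PicLoc.isInvertible_pullback _ hP))),
    hAt_shift_eq hP hφ hξ, Nat.cast_mul, hAt_negative_power hφ hP hξ hg hL hLL' hmpos]
  split_ifs with hj
  · rw [hm, mul_pow]; ring
  · simp

variable (P L L') in
/-- The twisted dimensions of a rational twist. -/
abbrev hTw (F : A.left.Modules) (d : ℕ) (c : ℤ) (α : 𝟙_ (Over (Spec (CommRingCat.of k))) ⟶ At) (i : ℕ) : ℤ :=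
  (W4c5cohrankabvar.hAt k P (W4c5cohrankabvar.twist A F L L' d (c * d)) α i : ℤ)

omit [IsAlgClosed k] [GeometricallyConnected A.hom] [Smooth A.hom] in
/-- The difference of two powers. -/
theorem pow_sub_pow_bound (x y B : ℤ) (hy : 0 ≤ y) (hyx : y ≤ x) (hx : x ≤ B) (n : ℕ) :
    x ^ n - y ^ n ≤ (n : ℤ) * B ^ (n - 1) * (x - y) := by
  induction n with
  | zero => simp
  | succ n ih =>
    have hxn : 0 ≤ x := hy.trans hyx
    rcases Nat.eq_zero_or_pos n with rfl | hn
    · simp
    have h1 : x * (x ^ n - y ^ n) ≤ B * ((n : ℤ) * B ^ (n - 1) * (x - y)) :=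
      mul_le_mul hx ih (sub_nonneg.2 (pow_le_pow_left₀ hy hyx n)) (hxn.trans hx)
    have h2 : y ^ n ≤ B ^ n := pow_le_pow_left₀ hy (hyx.trans hx) n
    have h3 : B * B ^ (n - 1) = B ^ n := by rw [← pow_succ', Nat.sub_add_cancel hn]
    have h4 : (x - y) * y ^ n ≤ (x - y) * B ^ n := mul_le_mul_of_nonneg_left h2 (sub_nonneg.2 hyx)
    calc x ^ (n + 1) - y ^ (n + 1) = x * (x ^ n - y ^ n) + (x - y) * y ^ n := by ring
      _ ≤ B * ((n : ℤ) * B ^ (n - 1) * (x - y)) + (x - y) * B ^ n := add_le_add h1 h4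
      _ = ((n + 1 : ℕ) : ℤ) * B ^ (n + 1 - 1) * (x - y) := by
        rw [Nat.add_sub_cancel, ← h3]; push_cast; ring

include hP hg hL hLL' in
/-- A positive step is surjective on top twisted cohomology, compatibly with maps of modules. -/
theorem exists_step [AlgebraicGeometry.IsIntegral A.left] :
    ∃ e₀ : ℕ, 0 < e₀ ∧ ∀ (d : ℕ) (c c' : ℤ), e₀ ∣ d → c ≤ c' →
      ∃ σ : W4c5cohrankabvar.zpow L L' (c * d) ⟶ W4c5cohrankabvar.zpow L L' (c' * d),
        ∀ (G : A.left.Modules) (α : 𝟙_ (Over (Spec (CommRingCat.of k))) ⟶ At),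
          letI : A.left.Over (Spec (CommRingCat.of k)) := ⟨A.hom⟩
          Function.Surjective (CurveCoh17.hmap k
            (M2.tensorMap (M2.tensorMap (𝟙 G) σ) (𝟙 (W4c5cohrankabvar.ptLB P α))) g) := by
  letI : A.left.Over (Spec (CommRingCat.of k)) := ⟨A.hom⟩
  haveI : IsLocallyNoetherian A.left := LocallyOfFiniteType.isLocallyNoetherian A.hom
  have hL' := isInvertible_of_ample_inverse hL.1 hLL'
  obtain ⟨n, s, hs, -⟩ := hL.2.2 (genericPoint A.left)
  obtain ⟨U, hU, hiso⟩ := Twist.exists_of_mem_genLocus hs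
  refine ⟨n + 1, n.succ_pos, fun d c c' hd hcc => ?_⟩
  have hb := (Twist.isIso_restrict_map_iff _ U).1 hiso
  -- maps which are isomorphisms on `U`
  let good : ∀ {M N : A.left.Modules}, (M ⟶ N) → Prop := fun f =>
    ∀ x ∈ U, Function.Bijective (CurveCoh17.stalkLin f x)
  have hgs : good s := fun x hx => CurveCoh17.bijective_stalkMap_of_app s U hb hx
  have hgi : ∀ {M N : A.left.Modules} (e : M ≅ N), good e.hom := fun e x _ => Snapper.bijective_stalkLin_iso e x
  have hgc : ∀ {M N R : A.left.Modules} (f : M ⟶ N) (f' : N ⟶ R), good f → good f' → good (f ≫ f') :=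
    fun f f' hf hf' x hx => by
      have : CurveCoh17.stalkLin (f ≫ f') x = (CurveCoh17.stalkLin f' x) ∘ₗ (CurveCoh17.stalkLin f x) :=
        LinearMap.ext fun z => CurveCoh17.stalkLin_comp f f' x z
      rw [this]; exact (hf' x hx).comp (hf x hx)
  have hgt : ∀ {M N M' N' : A.left.Modules} (f : M ⟶ N) (f' : M' ⟶ N'), good f → good f' →
      good (M2.tensorMap f f') := fun f f' hf hf' x hx => by
    refine ⟨?_, CurveCoh17.surjective_stalk_tensorMap f f' x (hf x hx).2 (hf' x hx).2⟩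
    exact injective_stalk_tensorMap f f' x (hf x hx) (hf' x hx)
  obtain ⟨t, ht⟩ : ∃ t : ℕ, (c' - c) * (d : ℤ) = ((n + 1) * t : ℕ) := by
    obtain ⟨q, rfl⟩ := hd
    refine ⟨(c' - c).toNat * q, ?_⟩
    push_cast
    rw [Int.toNat_of_nonneg (by linarith)]
    ring
  obtain ⟨σ₁, hσ₁⟩ : ∃ σ : Coh.structureModule A.left ⟶ CohB1.tensorPow (CohB1.tensorPow L (n + 1)) t, good σ := by
    clear ht
    induction t with
    | zero => exact ⟨𝟙 _, hgi (Iso.refl _)⟩
    | succ t ih =>
      obtain ⟨σ, hσ⟩ := ih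
      exact ⟨(M2.tensorLUnit (Coh.structureModule A.left)).inv ≫ M2.tensorMap σ s,
        hgc _ _ (hgi (M2.tensorLUnit _).symm) (hgt _ _ hσ hgs)⟩
  have z := isInvertible_zpow hL.1 hL' (c * d)
  have hp := M2.isInvertible_tensorPow (M2.isInvertible_tensorPow hL.1 (n + 1)) t
  obtain ⟨ez⟩ : Nonempty (CohB1.tensorMod (CohB1.tensorPow (CohB1.tensorPow L (n + 1)) t)
      (W4c5cohrankabvar.zpow L L' (c * d)) ≅ W4c5cohrankabvar.zpow L L' (c' * d)) := by
    refine FMBase13.nonempty_iso_of_cls (hL := M2.isInvertible_tensor hp z) (hM := isInvertible_zpow hL.1 hL' _) ?_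
    rw [← AlgEquiv22.cls_tensor hp z, FGA3.cls_tensorPow (M2.isInvertible_tensorPow hL.1 (n + 1)) t,
      FGA3.cls_tensorPow hL.1 (n + 1), ← pow_mul, cls_zpow hL.1 hL' hLL', cls_zpow hL.1 hL' hLL', ← zpow_natCast,
      ← zpow_add, ← ht]
    congr 1; ring
  let σ := (M2.tensorLUnit _).inv ≫ M2.tensorMap σ₁ (𝟙 (W4c5cohrankabvar.zpow L L' (c * d))) ≫ ez.hom
  have hσ : good σ := hgc _ _ (hgi (M2.tensorLUnit _).symm) (hgc _ _ (hgt _ _ hσ₁ (hgi (Iso.refl _))) (hgi ez))
  refine ⟨σ, fun G α => ?_⟩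
  have hall := hgt _ _ (hgt (𝟙 G) σ (hgi (Iso.refl G)) hσ) (hgi (Iso.refl (W4c5cohrankabvar.ptLB P α)))
  exact surjective_hmap_top hg _ U hU (fun x hx => (hall x hx).2) (fun x hx => (hall x hx).1)

end Groth.Agent.FMHyp13

end
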