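import Groth.Agent.Lib.FMHyp13.RankLip

/-!
# The rank functions extend to continuous functions of a real variable
-/

set_option autoImplicit false
set_option linter.style.haveILetI false
set_option linter.unusedSectionVars false
set_option backward.isDefEq.respectTransparency false
set_option backward.isDefEq.respectTransparency.types false
set_option maxHeartbeats 1600000
set_option synthInstance.maxHeartbeats 100000

universe u

open CategoryTheory CategoryTheory.Limits MonoidalCategory CartesianMonoidalCategory AlgebraicGeometry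
open TopologicalSpace
open scoped MonObj GrpObj

noncomputable section

namespace Groth.Agent.FMHyp13

open FMBase13 Groth.Agent Groth.Agent.RosTrace22

noncomputable local instance instLawRankReal (Y : Scheme.{u}) : PicGrp.Law Y := M2.law Y

variable {k : Type u} [Field k] [IsAlgClosed k] {A At : Over (Spec (CommRingCat.of k))} [GrpObj A] [GrpObj At]
  [IsProper A.hom] [Smooth A.hom] [GeometricallyConnected A.hom]
  [IsProper At.hom] [Smooth At.hom] [GeometricallyConnected At.hom]
  {φ : AgPol.DualMap A At} (hφ : AbDual.IsDualAV Scheme.fppfPrecoverage A At φ)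
  {P : (PicF.XT A.hom At).Modules} (hP : PicF.IsInvertible P) (hξ : AbDual.IsPoincareCl A At φ (PicF.cl P))
  {g : ℕ} (hg : topologicalKrullDim A.left = g) {L L' : A.left.Modules} (hL : CohB1.IsAmple L)
  (hLL' : Nonempty (CohB1.tensorMod L L' ≅ Coh.structureModule A.left))

/-- Linear algebra of a right exact row mapped to another. -/
theorem finrank_drop_le {K V W K' V' W' : Type*} [AddCommGroup K] [AddCommGroup V] [AddCommGroup W]
    [AddCommGroup K'] [AddCommGroup V'] [AddCommGroup W'] [Module k K] [Module k V] [Module k W] [Module k K']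
    [Module k V'] [Module k W'] [Module.Finite k V] [Module.Finite k V']
    (i : K →ₗ[k] V) (p : V →ₗ[k] W) (i' : K' →ₗ[k] V') (p' : V' →ₗ[k] W') (a : K →ₗ[k] K') (b : V →ₗ[k] V')
    (hp : Function.Surjective p) (hp' : Function.Surjective p') (hex : Function.Exact i p)
    (hex' : Function.Exact i' p') (ha : Function.Surjective a) (hsq : ∀ x, b (i x) = i' (a x)) :
    (Module.finrank k W : ℤ) - Module.finrank k W' ≤ (Module.finrank k V : ℤ) - Module.finrank k V' := by
  have h1 := p.finrank_range_add_finrank_ker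
  have h2 := p'.finrank_range_add_finrank_ker
  rw [LinearMap.range_eq_top.2 hp, finrank_top, LinearMap.exact_iff.1 hex] at h1
  rw [LinearMap.range_eq_top.2 hp', finrank_top, LinearMap.exact_iff.1 hex'] at h2
  have h3 : LinearMap.range i' = (LinearMap.range i).map b := by
    rw [← LinearMap.range_comp, show b ∘ₗ i = i' ∘ₗ a from LinearMap.ext hsq,
      LinearMap.range_comp_of_range_eq_top _ (LinearMap.range_eq_top.2 ha)]
  have h4 : Module.finrank k (LinearMap.range i') ≤ Module.finrank k (LinearMap.range i) :=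
    h3 ▸ Submodule.finrank_map_le b _
  omega

/-- Linear algebra of a four term exact sequence. -/
theorem finrank_four {K V W U : Type*} [AddCommGroup K] [AddCommGroup V] [AddCommGroup W] [AddCommGroup U]
    [Module k K] [Module k V] [Module k W] [Module k U] [Module.Finite k K] [Module.Finite k V] [Module.Finite k W]
    (d : U →ₗ[k] K) (i : K →ₗ[k] V) (p : V →ₗ[k] W) (hd : Function.Injective d) (hp : Function.Surjective p)
    (hdi : Function.Exact d i) (hip : Function.Exact i p) :
    (Module.finrank k U : ℤ) = Module.finrank k K - Module.finrank k V + Module.finrank k W := by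
  have h1 := i.finrank_range_add_finrank_ker
  have h2 := p.finrank_range_add_finrank_ker
  rw [LinearMap.exact_iff.1 hdi, LinearMap.finrank_range_of_inj hd] at h1
  rw [LinearMap.range_eq_top.2 hp, finrank_top, LinearMap.exact_iff.1 hip] at h2
  omega

/-- Cohomology of the quotient by a module with cohomology in the top degree only. -/
theorem finrank_degree_shift {X : Scheme.{u}} [X.Over (Spec (CommRingCat.of k))] {S : ShortComplex X.Modules}
    (hS : S.ShortExact) (g i : ℕ) (hig : i + 1 ≤ g) (h₁ : ∀ j, Module.Finite k (Coh.HH X S.X₁ j))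
    (h₂ : ∀ j, Module.Finite k (Coh.HH X S.X₂ j)) (h₃ : ∀ j, Module.Finite k (Coh.HH X S.X₃ j))
    (hz : ∀ j, j ≠ g → Module.finrank k (Coh.HH X S.X₂ j) = 0) (hv : Subsingleton (Coh.HH X S.X₁ (g + 1))) :
    (Module.finrank k (Coh.HH X S.X₃ i) : ℤ) = Module.finrank k (Coh.HH X S.X₁ (i + 1)) +
      (if i + 1 = g then (Module.finrank k (Coh.HH X S.X₃ g) : ℤ) - Module.finrank k (Coh.HH X S.X₂ g) else 0) := by
  haveI := h₂
  haveI := h₁
  haveI := h₃
  haveI hs : ∀ j, j ≠ g → Subsingleton (Coh.HH X S.X₂ j) := fun j hj => Module.finrank_zero_iff.1 (hz j hj)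
  haveI := hs i (by omega)
  have hinj : Function.Injective (CurveCoh17.hdelta k hS i) := by
    rw [← LinearMap.ker_eq_bot, LinearMap.exact_iff.1 (CurveCoh17.exact_hmap_hdelta k hS i), LinearMap.range_eq_bot]
    exact LinearMap.ext fun x => by rw [Subsingleton.elim x 0, map_zero, map_zero]
  split_ifs with h
  · have hpg : Function.Surjective (CurveCoh17.hmap k S.g (i + 1)) := fun x => by
      haveI : Subsingleton (Coh.HH X S.X₁ (i + 1 + 1)) := by rw [h]; exact hv
      exact ((CurveCoh17.exact_hmap_hdelta k hS (i + 1)) x).1 (Subsingleton.elim _ _)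
    have h4 := finrank_four (CurveCoh17.hdelta k hS i) (CurveCoh17.hmap k S.f (i + 1))
      (CurveCoh17.hmap k S.g (i + 1)) hinj hpg (CurveCoh17.exact_hdelta_hmap k hS i)
      (CurveCoh17.exact_hmap_hmap k hS (i + 1))
    rw [← h]
    linarith
  · haveI := hs (i + 1) h
    have hs' : Function.Surjective (CurveCoh17.hdelta k hS i) := fun x =>
      ((CurveCoh17.exact_hdelta_hmap k hS i) x).1 (Subsingleton.elim _ _)
    rw [add_zero]
    exact congrArg (Nat.cast (R := ℤ)) (LinearEquiv.ofBijective _ ⟨hinj, hs'⟩).finrank_eq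

include hL hLL' in
/-- A coherent module is covered by sums of arbitrarily negative powers. -/
theorem exists_epi_deeper {F : A.left.Modules} (hF : Coh.IsCoh F) (M : ℕ) :
    ∃ (N r : ℕ) (p : CohB1.tensorMod (FlatMod.freeMod A.left r) (CohB1.tensorPow L' N) ⟶ F), Epi p ∧ M < N := by
  haveI : IsLocallyNoetherian A.left := LocallyOfFiniteType.isLocallyNoetherian A.hom
  letI : A.left.Over (Spec (CommRingCat.of k)) := ⟨A.hom⟩
  haveI : IsProper (A.left ↘ Spec (CommRingCat.of k)) := inferInstanceAs (IsProper A.hom)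
  have hL' := isInvertible_of_ample_inverse hL.1 hLL'
  let T := CohB1.tensorPow L (M + 1)
  let T' := CohB1.tensorPow L' (M + 1)
  obtain ⟨uT⟩ := nonempty_tensorPow_inverse hLL' (M + 1)
  obtain ⟨a, r, p, hp⟩ := ES11.exists_epi_negative (k := k) hL hLL'.some
    (CohFound.isCoh_tensor hF (Snapper.isCoh_of_isInvertible (M2.isInvertible_tensorPow hL.1 (M + 1))))
  haveI := hp
  haveI := CohFound.epi_tensorMap p T'
  refine ⟨a + (M + 1), r, (M2.tensorIso (Iso.refl _) (M2.tensorPowAdd L' a (M + 1)) ≪≫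
    (M2.tensorAssoc _ _ _).symm).hom ≫ M2.tensorMap p (𝟙 T') ≫
      (M2.tensorAssoc _ _ _ ≪≫ M2.tensorIso (Iso.refl F) uT ≪≫ M2.tensorRUnit F).hom, ?_, by omega⟩
  infer_instance

include hφ hP hξ hg hL hLL' in
/-- The twisted dimensions are Lipschitz in the twist, uniformly in the point. -/
theorem exists_lipschitz : ∀ (m i : ℕ), g ≤ i + m → ∀ {F : A.left.Modules}, Coh.IsCoh F → ∀ M : ℕ,
    ∃ C e : ℕ, 0 < e ∧ (g = 0 → C = 0) ∧ ∀ (d : ℕ), 0 < d → e ∣ d → ∀ (c c' : ℤ), -((M : ℤ) * d) ≤ c → c ≤ c' → c' ≤ (M : ℤ) * d →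
      ∀ α : 𝟙_ (Over (Spec (CommRingCat.of k))) ⟶ At,
        |hTw P L L' F d c α i - hTw P L L' F d c' α i| ≤ (C : ℤ) * (c' - c) * (d : ℤ) ^ (2 * g - 1) := by
  haveI : GeometricallyIntegral A.hom := AbRigid.geometricallyIntegral_of_smooth A
  haveI : AlgebraicGeometry.IsIntegral A.left := GeometricallyIntegral.isIntegral_of_subsingleton A.hom
  haveI : IsLocallyNoetherian A.left := LocallyOfFiniteType.isLocallyNoetherian A.hom
  haveI : CompactSpace A.left := QuasiCompact.compactSpace_of_compactSpace A.hom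
  haveI : QuasiSeparatedSpace A.left := quasiSeparatedSpace_of_quasiSeparated A.hom
  letI : A.left.Over (Spec (CommRingCat.of k)) := ⟨A.hom⟩
  haveI : IsProper (A.left ↘ Spec (CommRingCat.of k)) := inferInstanceAs (IsProper A.hom)
  have hL' := isInvertible_of_ample_inverse hL.1 hLL'
  have hfin : ∀ {G : A.left.Modules}, Coh.IsCoh G → ∀ (d : ℕ) (c : ℤ) (α : 𝟙_ (Over (Spec (CommRingCat.of k))) ⟶ At) (i : ℕ),
      Module.Finite k (Coh.HH A.left (CohB1.tensorMod (W4c5cohrankabvar.twist A G L L' d (c * d))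
        (W4c5cohrankabvar.ptLB P α)) i) := fun hG d c α i =>
    CohFound.finite_HH_of_isProper (A := k) _ (CohFound.isCoh_tensor (isCoh_twist hG hL.1 hL' _ _)
      (CubeField.isCoh_of_isInvertible (PicLoc.isInvertible_pullback _ hP))) i
  have hvan : ∀ (M : A.left.Modules) (p : ℕ), g < p → Subsingleton (Coh.HH A.left M p) := fun M p hp => by
    rw [CohFound.subsingleton_HH_iff]
    exact subsingleton_hc_of_dim_stalk hg.le M 0 (fun z _ => by exact_mod_cast ringKrullDim_nonneg_of_nontrivial) p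
      (by omega)
  intro m
  induction m with
  | zero =>
    intro i hi F hF M
    rcases (show g ≤ i from hi).lt_or_eq with hgi | rfl
    · refine ⟨0, 1, one_pos, fun _ => rfl, fun d _ _ c c' _ _ _ α => ?_⟩
      haveI := hvan (CohB1.tensorMod (W4c5cohrankabvar.twist A F L L' d (c * d)) (W4c5cohrankabvar.ptLB P α)) i hgi
      haveI := hvan (CohB1.tensorMod (W4c5cohrankabvar.twist A F L L' d (c' * d)) (W4c5cohrankabvar.ptLB P α)) i hgi
      have h1 : hTw P L L' F d c α i = 0 := Nat.cast_eq_zero.2 Module.finrank_zero_of_subsingleton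
      have h2 : hTw P L L' F d c' α i = 0 := Nat.cast_eq_zero.2 Module.finrank_zero_of_subsingleton
      simp [h1, h2]
    -- the top degree
    -- a more negative cover
    obtain ⟨N, r, p, hp, hN⟩ : ∃ (N r : ℕ) (p : CohB1.tensorMod (FlatMod.freeMod A.left r) (CohB1.tensorPow L' N) ⟶ F),
        Epi p ∧ M < N :=
      exists_epi_deeper hL hLL' hF M
    haveI := hp
    let V := CohB1.tensorMod (FlatMod.freeMod A.left r) (CohB1.tensorPow L' N)
    have hV : Coh.IsCoh V := CohFound.isCoh_tensor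
      (CohFound.isCoh_of_isFinLocFree (KFlat.Sch.isFinLocFree_freeMod _ r))
      (CubeField.isCoh_of_isInvertible (M2.isInvertible_tensorPow hL' N))
    obtain ⟨e₀, he₀, hstep⟩ := exists_step hP hg hL hLL'
    let B : ℕ := N + M
    let χ : ℤ := @Curv2.euler k _ A.left ⟨A.hom⟩ L
    refine ⟨r * g * B ^ (g - 1) * χ.toNat, e₀, he₀, fun h => by simp [h], fun d hd hdd c c' h1 h2 h3 α => ?_⟩
    obtain ⟨σ, hσ⟩ := hstep d c c' hdd h2
    let S₀ : ShortComplex A.left.Modules := ShortComplex.mk (kernel.ι p) p (kernel.condition p)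
    have hS₀ : S₀.ShortExact := { exact := ShortComplex.exact_of_f_is_kernel _ (kernelIsKernel p) }
    obtain ⟨hfd, hfl, -⟩ := AVDegree22.isFinite_flat_surjective_pow A hd
    haveI := hfl
    let Pα := W4c5cohrankabvar.ptLB P α
    have hPα : PicF.IsInvertible Pα := PicLoc.isInvertible_pullback _ hP
    let row : ℤ → ShortComplex A.left.Modules := fun c => ((S₀.map (Scheme.Modules.pullback ((𝟙 A) ^ d).left)).map
      (M2.tensorR (W4c5cohrankabvar.zpow L L' (c * d)))).map (M2.tensorR Pα)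
    have hrow : ∀ c, (row c).ShortExact := fun c =>
      CohFound.shortExact_tensor_invertible (CohFound.shortExact_tensor_invertible
        (PP13.shortExact_pullback _ hS₀) (isInvertible_zpow hL.1 hL' _)) hPα
    have hsurj : ∀ c, Function.Surjective (CurveCoh17.hmap k (row c).g g) := fun c x => by
      haveI := hvan (row c).X₁ (g + 1) (Nat.lt_succ_self g)
      exact ((CurveCoh17.exact_hmap_hdelta k (hrow c) g) x).1 (Subsingleton.elim _ _)
    let stp : ∀ G : A.left.Modules, CohB1.tensorMod (W4c5cohrankabvar.twist A G L L' d (c * d)) Pα ⟶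
        CohB1.tensorMod (W4c5cohrankabvar.twist A G L L' d (c' * d)) Pα := fun G =>
      M2.tensorMap (M2.tensorMap (𝟙 ((Scheme.Modules.pullback ((𝟙 A) ^ d).left).obj G)) σ) (𝟙 Pα)
    have hnat : (row c).f ≫ stp V = stp (kernel p) ≫ (row c').f := by
      show M2.tensorMap (M2.tensorMap ((Scheme.Modules.pullback ((𝟙 A) ^ d).left).map (kernel.ι p)) (𝟙 _)) (𝟙 Pα) ≫
          M2.tensorMap (M2.tensorMap (𝟙 _) σ) (𝟙 Pα) =
        M2.tensorMap (M2.tensorMap (𝟙 _) σ) (𝟙 Pα) ≫
          M2.tensorMap (M2.tensorMap ((Scheme.Modules.pullback ((𝟙 A) ^ d).left).map (kernel.ι p)) (𝟙 _)) (𝟙 Pα)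
      simp only [← M2.tensorMap_comp, Category.comp_id, Category.id_comp]
    haveI := hfin hV d c α g
    haveI := hfin hV d c' α g
    haveI := hfin hF d c α g
    have hup : hTw P L L' F d c α g - hTw P L L' F d c' α g ≤ hTw P L L' V d c α g - hTw P L L' V d c' α g :=
      finrank_drop_le (CurveCoh17.hmap k (row c).f g) (CurveCoh17.hmap k (row c).g g)
        (CurveCoh17.hmap k (row c').f g) (CurveCoh17.hmap k (row c').g g)
        (CurveCoh17.hmap k (stp (kernel p)) g) (CurveCoh17.hmap k (stp V) g)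
        (hsurj c) (hsurj c') (CurveCoh17.exact_hmap_hmap k (hrow c) g) (CurveCoh17.exact_hmap_hmap k (hrow c') g)
        (hσ _ α) fun x => by
          exact (CurveCoh17.hmap_comp k (row c).f (stp V) g x).symm.trans
            ((congrArg (fun f => CurveCoh17.hmap k f g x) hnat).trans
              (CurveCoh17.hmap_comp k (stp (kernel p)) (row c').f g x))
    have hlo : hTw P L L' F d c' α g ≤ hTw P L L' F d c α g := by
      have := LinearMap.finrank_le_finrank_of_surjective (f := CurveCoh17.hmap k (stp F) g) (hσ _ α)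
      exact Int.ofNat_le.2 this
    have hNd : (M : ℤ) * d < (N : ℤ) * d := mul_lt_mul_of_pos_right (by exact_mod_cast hN) (by exact_mod_cast hd)
    have hVc := hAt_twist_negative hφ hP hξ hg hL hLL' r N d c hd (by linarith) α g
    have hVc' := hAt_twist_negative hφ hP hξ hg hL hLL' r N d c' hd (by linarith) α g
    rw [if_pos rfl] at hVc hVc'
    have hχ : 0 ≤ χ := (euler_pos hL).le
    have hb := pow_sub_pow_bound ((N : ℤ) * d - c) ((N : ℤ) * d - c') ((B : ℤ) * d) (by linarith) (by linarith)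
      (by simp only [B]; push_cast; linarith) g
    rw [abs_of_nonneg (sub_nonneg.2 hlo)]
    refine hup.trans ?_
    show (W4c5cohrankabvar.hAt k P (W4c5cohrankabvar.twist A V L L' d (c * d)) α g : ℤ) -
      (W4c5cohrankabvar.hAt k P (W4c5cohrankabvar.twist A V L L' d (c' * d)) α g : ℤ) ≤ _
    rw [hVc, hVc']
    have hnn : 0 ≤ (r : ℤ) * (d : ℤ) ^ g * χ := by positivity
    have := mul_le_mul_of_nonneg_left hb hnn
    calc _ = (r : ℤ) * (d : ℤ) ^ g * χ * (((N : ℤ) * d - c) ^ g - ((N : ℤ) * d - c') ^ g) := by ring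
      _ ≤ _ := this
      _ = _ := by
        rcases Nat.eq_zero_or_pos g with rfl | hgp
        · simp
        rw [show 2 * g - 1 = g + (g - 1) by omega, pow_add, mul_pow, Nat.cast_mul, Nat.cast_mul, Nat.cast_mul,
          Nat.cast_pow, Int.toNat_of_nonneg hχ]
        ring
  | succ m ih =>
    intro i hi F hF M
    rcases le_or_gt g (i + m) with h | h
    · exact ih i h hF M
    have hig : i + 1 ≤ g := by omega
    obtain ⟨N, r, p, hp, hN⟩ := exists_epi_deeper hL hLL' hF M
    haveI := hp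
    let V := CohB1.tensorMod (FlatMod.freeMod A.left r) (CohB1.tensorPow L' N)
    have hV : Coh.IsCoh V := CohFound.isCoh_tensor
      (CohFound.isCoh_of_isFinLocFree (KFlat.Sch.isFinLocFree_freeMod _ r))
      (CubeField.isCoh_of_isInvertible (M2.isInvertible_tensorPow hL' N))
    let K := kernel p
    have hK : Coh.IsCoh K := CurveCoh17.isCoh_kernel hV hF.1 p
    let S₀ : ShortComplex A.left.Modules := ShortComplex.mk (kernel.ι p) p (kernel.condition p)
    have hS₀ : S₀.ShortExact := { exact := ShortComplex.exact_of_f_is_kernel _ (kernelIsKernel p) }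
    have hrel : ∀ (d : ℕ), 0 < d → ∀ (c : ℤ), c ≤ (M : ℤ) * d → ∀ α,
        hTw P L L' F d c α i = hTw P L L' K d c α (i + 1) +
          (if i + 1 = g then hTw P L L' F d c α g - hTw P L L' V d c α g else 0) := by
      intro d hd c hc α
      obtain ⟨hfd, hfl, -⟩ := AVDegree22.isFinite_flat_surjective_pow A hd
      haveI := hfl
      let Pα := W4c5cohrankabvar.ptLB P α
      let S := ((S₀.map (Scheme.Modules.pullback ((𝟙 A) ^ d).left)).map
        (M2.tensorR (W4c5cohrankabvar.zpow L L' (c * d)))).map (M2.tensorR Pα)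
      have hS : S.ShortExact :=
        CohFound.shortExact_tensor_invertible (CohFound.shortExact_tensor_invertible
          (PP13.shortExact_pullback _ hS₀) (isInvertible_zpow hL.1 hL' _)) (PicLoc.isInvertible_pullback _ hP)
      have hNd : (M : ℤ) * d < (N : ℤ) * d := mul_lt_mul_of_pos_right (by exact_mod_cast hN) (by exact_mod_cast hd)
      exact finrank_degree_shift hS g i hig (fun j => hfin hK d c α j) (fun j => hfin hV d c α j)
        (fun j => hfin hF d c α j) (fun j hj => by
          have h0 := hAt_twist_negative hφ hP hξ hg hL hLL' r N d c hd (by linarith) α j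
          rw [if_neg hj] at h0
          exact_mod_cast h0) (hvan _ (g + 1) (Nat.lt_succ_self g))
    obtain ⟨C₁, e₁, he₁, z₁, hK'⟩ := ih (i + 1) (by omega) hK M
    obtain ⟨C₂, e₂, he₂, z₂, hF'⟩ := ih g (Nat.le_add_right g m) hF M
    obtain ⟨C₃, e₃, he₃, z₃, hV'⟩ := ih g (Nat.le_add_right g m) hV M
    refine ⟨C₁ + (C₂ + C₃), e₁ * (e₂ * e₃), Nat.mul_pos he₁ (Nat.mul_pos he₂ he₃),
      fun h => by simp [z₁ h, z₂ h, z₃ h], fun d hd hdd c c' h1 h2 h3 α => ?_⟩
    have b₁ := hK' d hd (dvd_trans (Dvd.intro _ rfl) hdd) c c' h1 h2 h3 α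
    have b₂ := hF' d hd (dvd_trans ((dvd_mul_right e₂ e₃).trans (dvd_mul_left _ e₁)) hdd) c c' h1 h2 h3 α
    have b₃ := hV' d hd (dvd_trans ((dvd_mul_left e₃ e₂).trans (dvd_mul_left _ e₁)) hdd) c c' h1 h2 h3 α
    have hnn : ∀ C : ℕ, 0 ≤ (C : ℤ) * (c' - c) * (d : ℤ) ^ (2 * g - 1) := fun C =>
      mul_nonneg (mul_nonneg (by positivity) (by linarith)) (by positivity)
    rw [hrel d hd c (h2.trans h3) α, hrel d hd c' h3 α]
    rw [Nat.cast_add, Nat.cast_add, add_mul, add_mul, add_mul, add_mul]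
    have t := hnn C₂
    have t' := hnn C₃
    rw [abs_le] at b₁ b₂ b₃ ⊢
    split_ifs <;> constructor <;> linarith

variable (P L L') in
/-- The rank function on the rationals. -/
def rankVal (g : ℕ) (F : A.left.Modules) (i : ℕ) (q : ℚ) : ℝ :=
  ((W4c5cohrankabvar.hgen k P (W4c5cohrankabvar.twist A F L L' q.den (q.num * q.den)) i : ℕ) : ℝ) /
    (q.den : ℝ) ^ (2 * g)

include hφ hP hξ hg hL hLL' in
/-- The rank function at any representative. -/
theorem rankVal_eq {F : A.left.Modules} (hF : Coh.IsCoh F) (i : ℕ) (a : ℤ) (b : ℕ) (hb : 0 < b) (q : ℚ)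
    (hq : (a : ℚ) / b = q) :
    rankVal P L L' g F i q =
      ((W4c5cohrankabvar.hgen k P (W4c5cohrankabvar.twist A F L L' b (a * b)) i : ℕ) : ℝ) / (b : ℝ) ^ (2 * g) := by
  have h : q.num * (b : ℤ) = a * (q.den : ℤ) := by
    have h1 : (q.num : ℚ) / q.den = (a : ℚ) / b := (Rat.num_div_den q).trans hq.symm
    rw [div_eq_div_iff (by exact_mod_cast q.den_nz) (by exact_mod_cast hb.ne')] at h1
    exact_mod_cast h1
  have := congrArg (Rat.cast (K := ℝ)) (value_congr hφ hP hξ hg hL hLL' hF i q.num a q.den b q.den_pos hb h)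
  push_cast at this
  exact this

include hφ hP hξ hg hL hLL' in
/-- The rank function is Lipschitz on bounded sets. -/
theorem exists_rankVal_lipschitz {F : A.left.Modules} (hF : Coh.IsCoh F) (i M : ℕ) :
    ∃ C : ℕ, ∀ q q' : ℚ, q ≤ q' → -(M : ℚ) ≤ q → q' ≤ (M : ℚ) →
      |rankVal P L L' g F i q - rankVal P L L' g F i q'| ≤ (C : ℝ) * ((q' : ℝ) - (q : ℝ)) := by
  obtain ⟨C, e, he, hC0, hC⟩ := exists_lipschitz hφ hP hξ hg hL hLL' g i (Nat.le_add_left g i) hF M
  refine ⟨C, fun q q' hqq h1 h2 => ?_⟩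
  let d : ℕ := e * q.den * q'.den
  have hd : 0 < d := Nat.mul_pos (Nat.mul_pos he q.den_pos) q'.den_pos
  let c : ℤ := q.num * ((e * q'.den : ℕ) : ℤ)
  let c' : ℤ := q'.num * ((e * q.den : ℕ) : ℤ)
  have heq0 : (e : ℚ) ≠ 0 := by exact_mod_cast he.ne'
  have hc : (c : ℚ) / d = q := by
    conv_rhs => rw [← Rat.num_div_den q]
    have h0 : (q.den : ℚ) ≠ 0 := by exact_mod_cast q.den_nz
    have h0' : (q'.den : ℚ) ≠ 0 := by exact_mod_cast q'.den_nz
    simp only [c, d]; push_cast; field_simp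
  have hc' : (c' : ℚ) / d = q' := by
    conv_rhs => rw [← Rat.num_div_den q']
    have h0 : (q.den : ℚ) ≠ 0 := by exact_mod_cast q.den_nz
    have h0' : (q'.den : ℚ) ≠ 0 := by exact_mod_cast q'.den_nz
    simp only [c', d]; push_cast; field_simp
  have hdq : (0 : ℚ) < d := by exact_mod_cast hd
  have l1 : -((M : ℤ) * d) ≤ c := by
    have : -((M : ℚ) * d) ≤ c := by rw [← hc, le_div_iff₀ hdq] at h1; linarith
    exact_mod_cast this
  have l2 : c ≤ c' := by
    have : (c : ℚ) ≤ c' := by rw [← hc, ← hc', div_le_div_iff_of_pos_right hdq] at hqq; exact hqq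
    exact_mod_cast this
  have l3 : c' ≤ (M : ℤ) * d := by
    have : (c' : ℚ) ≤ (M : ℚ) * d := by rw [← hc', div_le_iff₀ hdq] at h2; exact h2
    exact_mod_cast this
  have hb := hC d hd ⟨q.den * q'.den, mul_assoc _ _ _⟩ c c' l1 l2 l3
  haveI : Nonempty (𝟙_ (Over (Spec (CommRingCat.of k))) ⟶ At) := ⟨1⟩
  have hmin : ∀ c : ℤ, ∃ α, W4c5cohrankabvar.hAt k P (W4c5cohrankabvar.twist A F L L' d (c * d)) α i =
      W4c5cohrankabvar.hgen k P (W4c5cohrankabvar.twist A F L L' d (c * d)) i := fun c => by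
    obtain ⟨α, hα⟩ := Nat.sInf_mem (Set.range_nonempty
      fun α => W4c5cohrankabvar.hAt k P (W4c5cohrankabvar.twist A F L L' d (c * d)) α i)
    exact ⟨α, hα⟩
  have hle : ∀ (c : ℤ) α, W4c5cohrankabvar.hgen k P (W4c5cohrankabvar.twist A F L L' d (c * d)) i ≤
      W4c5cohrankabvar.hAt k P (W4c5cohrankabvar.twist A F L L' d (c * d)) α i := fun c α => Nat.sInf_le ⟨α, rfl⟩
  have hgen : |(W4c5cohrankabvar.hgen k P (W4c5cohrankabvar.twist A F L L' d (c * d)) i : ℤ) -
      (W4c5cohrankabvar.hgen k P (W4c5cohrankabvar.twist A F L L' d (c' * d)) i : ℤ)| ≤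
        (C : ℤ) * (c' - c) * (d : ℤ) ^ (2 * g - 1) := by
    obtain ⟨α, hα⟩ := hmin c
    obtain ⟨β, hβ⟩ := hmin c'
    have e1 : (W4c5cohrankabvar.hgen k P (W4c5cohrankabvar.twist A F L L' d (c * d)) i : ℤ) ≤
        hTw P L L' F d c β i := Int.ofNat_le.2 (hle c β)
    have e2 : (W4c5cohrankabvar.hgen k P (W4c5cohrankabvar.twist A F L L' d (c' * d)) i : ℤ) ≤
        hTw P L L' F d c' α i := Int.ofNat_le.2 (hle c' α)
    have e3 : hTw P L L' F d c α i = (W4c5cohrankabvar.hgen k P (W4c5cohrankabvar.twist A F L L' d (c * d)) i : ℤ) :=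
      congrArg Nat.cast hα
    have e4 : hTw P L L' F d c' β i = (W4c5cohrankabvar.hgen k P (W4c5cohrankabvar.twist A F L L' d (c' * d)) i : ℤ) :=
      congrArg Nat.cast hβ
    have b1 := abs_le.1 (hb α)
    have b2 := abs_le.1 (hb β)
    exact abs_le.2 ⟨by linarith, by linarith⟩
  have hdr : (0 : ℝ) < d := by exact_mod_cast hd
  rw [rankVal_eq hφ hP hξ hg hL hLL' hF i c d hd q hc, rankVal_eq hφ hP hξ hg hL hLL' hF i c' d hd q' hc', ← sub_div,
    abs_div, abs_of_pos (pow_pos hdr (2 * g)), div_le_iff₀ (pow_pos hdr (2 * g))]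
  have hR := (Int.cast_le (R := ℝ)).2 hgen
  push_cast at hR
  refine hR.trans (le_of_eq ?_)
  rw [show (q : ℝ) = (c : ℝ) / d by rw [← hc]; push_cast; rfl, show (q' : ℝ) = (c' : ℝ) / d by rw [← hc']; push_cast; rfl]
  rcases Nat.eq_zero_or_pos g with h0 | h0
  · simp [hC0 h0]
  · rw [← Nat.sub_add_cancel (show 1 ≤ 2 * g by omega), pow_succ, Nat.add_sub_cancel]
    field_simp

include hφ hP hξ hg hL hLL' in
/-- The rank function extends to a continuous function of a real variable. -/
theorem exists_continuous_extension {F : A.left.Modules} (hF : Coh.IsCoh F) (i : ℕ) :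
    ∃ f : ℝ → ℝ, Continuous f ∧ ∀ q : ℚ, f (q : ℝ) = rankVal P L L' g F i q := by
  let v := rankVal P L L' g F i
  have hlim : ∀ x : ℝ, ∃ y, Filter.Tendsto v (Filter.comap (fun q : ℚ => (q : ℝ)) (nhds x)) (nhds y) := fun x => by
    obtain ⟨M, hM⟩ := exists_nat_gt (|x| + 1)
    obtain ⟨C, hC⟩ := exists_rankVal_lipschitz hφ hP hξ hg hL hLL' hF i M
    let S : Set ℝ := (fun q : ℚ => (q : ℝ)) '' {q | -(M : ℚ) ≤ q ∧ q ≤ (M : ℚ)}
    let u : ℝ → ℝ := Function.extend (fun q : ℚ => (q : ℝ)) v 0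
    have hu : ∀ q : ℚ, u q = v q := fun q => Rat.cast_injective.extend_apply v 0 q
    have hlip : LipschitzOnWith (C : NNReal) u S := by
      refine LipschitzOnWith.of_dist_le_mul ?_
      rintro _ ⟨p, hp, rfl⟩ _ ⟨q, hq, rfl⟩
      simp only [hu, Real.dist_eq, NNReal.coe_natCast]
      rcases le_total p q with h | h
      · rw [abs_sub_comm (p : ℝ) q, abs_of_nonneg (sub_nonneg.2 (by exact_mod_cast h : (p : ℝ) ≤ q))]
        exact hC p q h hp.1 hq.2
      · rw [abs_sub_comm (v p) (v q), abs_of_nonneg (sub_nonneg.2 (by exact_mod_cast h : (q : ℝ) ≤ p))]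
        exact hC q p h hq.1 hp.2
    obtain ⟨w, hw, hwS⟩ := hlip.extend_real
    refine ⟨w x, Filter.Tendsto.congr' ?_ ((hw.continuous.tendsto x).comp Filter.tendsto_comap)⟩
    have hnear : Set.Ioo (x - 1) (x + 1) ∈ nhds x := Ioo_mem_nhds (by linarith) (by linarith)
    filter_upwards [Filter.preimage_mem_comap hnear] with q hq
    have hax := abs_le.1 (le_refl |x|)
    have h1 : -(M : ℝ) ≤ (q : ℝ) := by linarith [hq.1]
    have h2 : (q : ℝ) ≤ (M : ℝ) := by linarith [hq.2]
    have hqS : (q : ℝ) ∈ S := ⟨q, ⟨by exact_mod_cast h1, by exact_mod_cast h2⟩, rfl⟩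
    exact (hwS hqS).symm.trans (hu q)
  have hd : IsDenseInducing (fun q : ℚ => (q : ℝ)) := Rat.isDenseEmbedding_coe_real.isDenseInducing
  refine ⟨hd.extend v, hd.continuous_extend hlim, fun q => ?_⟩
  refine hd.extend_eq_at (?_ : ContinuousAt v q)
  obtain ⟨y, hy⟩ := hlim (q : ℝ)
  rw [← hd.nhds_eq_comap q] at hy
  have hyv : v q = y := tendsto_nhds_unique ((tendsto_pure_nhds v q)) (hy.mono_left (pure_le_nhds q))
  rw [ContinuousAt, hyv]
  exact hy

end Groth.Agent.FMHyp13

end
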