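import Groth.Agent.Lib.FMHyp13.NearZero
import Groth.Agent.Lib.FMHyp13.RankDual
import Groth.Agent.Lib.FMHyp13.DualPush
import Groth.Agent.Lib.FMHyp13.HyperGV
import Groth.Agent.Lib.FMHyp13.UnitDual

/-!
# Exchange with the transform of a negative power, through duality
-/

set_option autoImplicit false
set_option linter.style.haveILetI false
set_option linter.unusedSectionVars false
set_option backward.isDefEq.respectTransparency false
set_option backward.isDefEq.respectTransparency.types false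
set_option maxHeartbeats 1600000

universe u

open CategoryTheory CategoryTheory.Limits MonoidalCategory CartesianMonoidalCategory AlgebraicGeometry
open TopologicalSpace
open scoped MonObj GrpObj

attribute [local instance] HasDerivedCategory.standard

noncomputable section

namespace Groth.Agent.FMHyp13

open DMon9 DBC9 TwistBC9 FMBase13 Groth.Agent Groth.Agent.RosTrace22 FMAdj9

attribute [local instance] DBC9.hasRpush

noncomputable local instance instLawRightExchange (Y : Scheme.{u}) : PicGrp.Law Y := M2.law Y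

variable {k : Type u} [Field k] [IsAlgClosed k] {A At : Over (Spec (CommRingCat.of k))} [GrpObj A] [GrpObj At]
  [IsProper A.hom] [Smooth A.hom] [GeometricallyConnected A.hom]
  [IsProper At.hom] [Smooth At.hom] [GeometricallyConnected At.hom]
  {φ : AgPol.DualMap A At} (hφ : AbDual.IsDualAV Scheme.fppfPrecoverage A At φ)
  {P : (PicF.XT A.hom At).Modules} (hP : PicF.IsInvertible P) (hξ : AbDual.IsPoincareCl A At φ (PicF.cl P))

include hφ hP hξ in
/-- Cohomology of a product with a pulled back transform is symmetric. -/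
theorem nonempty_swap_transform {G : A.left.Modules} (hG : Coh.IsCoh G) {M : A.left.Modules}
    (hM : PicF.IsInvertible M) (c : PicLoc.PicSet A.left) (f : A ⟶ At) (hf : f = lamOf φ c) [Flat f.left] :
    Nonempty ((DCoh.Rpush A.hom).obj ((tenF G).obj ((lP f.left).obj ((phiK (fst A At).left (snd A At).left P).obj
        ((DerivedCategory.singleFunctor A.left.Modules 0).obj M)))) ≅
      (DCoh.Rpush A.hom).obj ((tenF M).obj ((lP f.left).obj ((phiK (fst A At).left (snd A At).left P).obj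
        ((DerivedCategory.singleFunctor A.left.Modules 0).obj G))))) := by
  haveI : GeometricallyIntegral A.hom := AbRigid.geometricallyIntegral_of_smooth A
  haveI := isCommMonObj_of_isProper_of_geometricallyIntegral A
  haveI : IsLocallyNoetherian A.left := LocallyOfFiniteType.isLocallyNoetherian A.hom
  haveI : IsNoetherian (Spec (CommRingCat.of k)) := inferInstance
  haveI : CompactSpace A.left := QuasiCompact.compactSpace_of_compactSpace A.hom
  haveI : IsProper (snd A At).left := inferInstanceAs (IsProper (pullback.snd A.hom At.hom))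
  haveI : Flat (snd A At).left := inferInstanceAs (Flat (pullback.snd A.hom At.hom))
  let Φ := phiK (fst A At).left (snd A At).left P
  let T := (lP f.left).obj (Φ.obj ((DerivedCategory.singleFunctor A.left.Modules 0).obj M))
  let X₁ := (lP f.left).obj (Φ.obj ((DerivedCategory.singleFunctor A.left.Modules 0).obj G))
  let Z := (tenF M).obj X₁
  -- the kernel on the square
  let s : A ⊗ A ⟶ A ⊗ At := lift (fst A A) (snd A A ≫ f)
  let s' : A ⊗ A ⟶ A ⊗ At := lift (snd A A) (fst A A ≫ f)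
  let Λ : (PicF.XT A.hom A).Modules := (Scheme.Modules.pullback s.left).obj P
  have hΛ : PicF.IsInvertible Λ := PicLoc.isInvertible_pullback _ hP
  have hs : s = A ◁ f := by apply CartesianMonoidalCategory.hom_ext <;> simp [s]
  have hH : IsPullback s.left (snd A A).left (snd A At).left f.left := hs ▸ isPullback_whisker A f
  haveI : IsIso (AbDual22.sw A A) := ⟨AbDual22.sw A A,
    by apply CartesianMonoidalCategory.hom_ext <;> simp [AbDual22.sw],
    by apply CartesianMonoidalCategory.hom_ext <;> simp [AbDual22.sw]⟩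
  haveI : IsIso (AbDual22.sw A A).left := inferInstanceAs (IsIso ((Over.forget _).map (AbDual22.sw A A)))
  have hH' : IsPullback s'.left (fst A A).left (snd A At).left f.left := by
    have h := (IsPullback.of_horiz_isIso (fst := (AbDual22.sw A A).left) (snd := (fst A A).left)
      (f := (snd A A).left) (g := 𝟙 A.left) ⟨by
        rw [← Over.comp_left, Category.comp_id, show AbDual22.sw A A ≫ snd A A = fst A A by simp [AbDual22.sw]]⟩
      ).paste_horiz hH
    rw [Category.id_comp, ← Over.comp_left, show AbDual22.sw A A ≫ s = s' by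
      apply CartesianMonoidalCategory.hom_ext <;> simp [s, s', AbDual22.sw]] at h
    exact h
  obtain ⟨eΛ⟩ : Nonempty ((Scheme.Modules.pullback s'.left).obj P ≅ Λ) := by
    refine nonempty_kernel_iso hP hξ ?_
    rw [hf, ← bil_eq_ev hφ hξ, ← bil_eq_ev hφ hξ, Index22.bil_comm]
  obtain ⟨cG⟩ := nonempty_phiK_BC (fst A At).left (snd A At).left hH hP
  obtain ⟨cM⟩ := nonempty_phiK_BC (fst A At).left (snd A At).left hH' hP
  have hsf : s.left ≫ (fst A At).left = (fst A A).left := by rw [← Over.comp_left, lift_fst]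
  have hsf' : s'.left ≫ (fst A At).left = (snd A A).left := by rw [← Over.comp_left, lift_fst]
  let Gs := Exact8.FMVanish.sgl G
  let Ms := Exact8.FMVanish.sgl M
  let Ps : CochainComplex (A ⊗ A).left.Modules ℤ := Exact8.FMVanish.sgl (X := (A ⊗ A).left) Λ
  haveI : DCoh.HasLTensorCx Gs := KFlat.Sch.hasLTensorCx _
  haveI : DCoh.HasLTensorCx Ms := KFlat.Sch.hasLTensorCx _
  haveI : DCoh.HasLTensorCx Ps := KFlat.Sch.hasLTensorCx _
  haveI : DCoh.HasLTensorCx (Exact8.FMVanish.sgl Λ) := KFlat.Sch.hasLTensorCx _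
  haveI := KFlat.Sch.hasLpull (fst A A).left
  haveI := KFlat.Sch.hasLpull (snd A A).left
  obtain ⟨tΛ⟩ := nonempty_LTCx_tenF Λ
  obtain ⟨tG⟩ := nonempty_LTCx_tenF G
  obtain ⟨tM⟩ := nonempty_LTCx_tenF M
  obtain ⟨lp⟩ := nonempty_lpull_natIso_lP (fst A A).left
  obtain ⟨lq⟩ := nonempty_lpull_natIso_lP (snd A A).left
  let eG : DCoh.inD A.left G ≅ DCoh.toD A.left Gs :=
    (DerivedCategory.singleFunctorIsoCompQ A.left.Modules 0).app G
  let eM : DCoh.inD A.left M ≅ DCoh.toD A.left Ms :=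
    (DerivedCategory.singleFunctorIsoCompQ A.left.Modules 0).app M
  obtain ⟨sw⟩ := SwapS.nonempty_swap (fst A A).left (snd A A).left A.hom A.hom
    ((Over.w (fst A A)).trans (Over.w (snd A A)).symm) Ps Gs
    (DGen9.isPerfect_of_iso eG (isPerfect_single hG)) Ms
    (DGen9.ResP.isPerfect_toD (DPerf.isStrictlyPerfect_single (M2.isFinLocFree_of_isInvertible hM)))
  let eT : (DCoh.Rpush (fst A A).left).obj ((DCoh.LTensorCx Ps).obj
      ((DCoh.Lpull (snd A A).left).obj (DCoh.toD A.left Ms))) ≅ T :=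
    (Functor.isoWhiskerRight lq _ ≪≫ Functor.isoWhiskerLeft _ (Functor.isoWhiskerRight tΛ _)).app _ ≪≫
      (phiK (snd A A).left (fst A A).left Λ).mapIso eM.symm ≪≫
      (phiKIso (snd A A).left (fst A A).left eΛ).symm.app _ ≪≫
      (phiKCongr (snd A A).left (fst A A).left hsf'.symm _).app _ ≪≫ (cM.app (inQ hM)).symm
  let eX : (DCoh.Rpush (snd A A).left).obj ((DCoh.LTensorCx Ps).obj
      ((DCoh.Lpull (fst A A).left).obj (DCoh.toD A.left Gs))) ≅ X₁ :=
    (Functor.isoWhiskerRight lp _ ≪≫ Functor.isoWhiskerLeft _ (Functor.isoWhiskerRight tΛ _)).app _ ≪≫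
      (phiK (fst A A).left (snd A A).left Λ).mapIso eG.symm ≪≫
      (phiKCongr (fst A A).left (snd A A).left hsf.symm _).app _ ≪≫
      (cG.app ⟨_, TwistBC9.isQCohD_inD G hG.1 0⟩).symm
  exact ⟨(DCoh.Rpush A.hom).mapIso (tG.symm.app T ≪≫ (DCoh.LTensorCx Gs).mapIso eT.symm) ≪≫ sw ≪≫
    (DCoh.Rpush A.hom).mapIso ((DCoh.LTensorCx Ms).mapIso eX ≪≫ tM.app X₁)⟩

include hP in
/-- The transform of a perfect object is perfect. -/
theorem isPerfect_phiK {F : DCoh.D A.left} (hF : DCoh.IsPerfect F) :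
    DCoh.IsPerfect ((phiK (fst A At).left (snd A At).left P).obj F) := by
  haveI : IsLocallyNoetherian At.left := LocallyOfFiniteType.isLocallyNoetherian At.hom
  haveI : CompactSpace At.left := QuasiCompact.compactSpace_of_compactSpace At.hom
  haveI : QuasiSeparatedSpace At.left := quasiSeparatedSpace_of_quasiSeparated At.hom
  haveI : IsProper (snd A At).left := inferInstanceAs (IsProper (pullback.snd A.hom At.hom))
  haveI : Flat (snd A At).left := inferInstanceAs (Flat (pullback.snd A.hom At.hom))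
  haveI : LocallyOfFinitePresentation (snd A At).left :=
    inferInstanceAs (LocallyOfFinitePresentation (pullback.snd A.hom At.hom))
  exact PerfPush9.isPerfect_rpush_flat (snd A At).left _ (FMAdj9.isPerfect_tensor_perf
    (A := ((lP (fst A At).left).obj F : DM (A ⊗ At).left)) (B := modM P)
    (PerfPush9.isPerfect_lP _ hF)
    (DGen9.ResP.isPerfect_toD (DPerf.isStrictlyPerfect_single (M2.isFinLocFree_of_isInvertible hP))))

variable {g : ℕ} {L L' : A.left.Modules} (hL : CohB1.IsAmple L)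
  (hLL' : Nonempty (CohB1.tensorMod L L' ≅ Coh.structureModule A.left))

include hφ hP hξ hL hLL' in
/-- The product with the transform of a negative power, through the dual of the transform. -/
theorem finrank_right_exchange (hg : topologicalKrullDim A.left = g) {G : A.left.Modules} (hG : Coh.IsCoh G)
    (X DX : DM At.left) [ExactPairing X DX] (hDX : DCoh.IsPerfect (DX : DCoh.D At.left))
    (eXG : @Iso (DCoh.D At.left) _ X ((phiK (fst A At).left (snd A At).left P).obj
      ((DerivedCategory.singleFunctor A.left.Modules 0).obj G))) {n : ℕ}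
    (f : A ⟶ At) (hf : f = lamOf φ (PicGrp.cls L hL.1)) [Flat f.left]
    (hW : ∀ i : ℤ, i ≠ g → IsZero (DCoh.HD ((lP f.left).obj ((phiK (fst A At).left (snd A At).left P).obj
      ((DerivedCategory.singleFunctor A.left.Modules 0).obj (CohB1.tensorPow L' n)))) i))
    (hWf : FlatMod.IsFinLocFree (DCoh.HD ((lP f.left).obj ((phiK (fst A At).left (snd A At).left P).obj
      ((DerivedCategory.singleFunctor A.left.Modules 0).obj (CohB1.tensorPow L' n)))) (g : ℤ)))
    (hv : ∀ (q : ℤ) (p : ℕ), 1 ≤ p → Subsingleton (Coh.HH A.left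
      (CohB1.tensorMod ((Scheme.Modules.pullback f.left).obj (DCoh.HD (DX : DCoh.D At.left) q))
        (CohB1.tensorPow L n)) p)) (j : ℕ) :
    (letI : A.left.Over (Spec (CommRingCat.of k)) := ⟨A.hom⟩;
      Module.finrank k (Coh.HH A.left (CohB1.tensorMod G (DCoh.HD ((lP f.left).obj
        ((phiK (fst A At).left (snd A At).left P).obj
          ((DerivedCategory.singleFunctor A.left.Modules 0).obj (CohB1.tensorPow L' n)))) (g : ℤ))) j) =
      Module.finrank k (Coh.HH A.left
        (CohB1.tensorMod ((Scheme.Modules.pullback f.left).obj (DCoh.HD (DX : DCoh.D At.left) (-(j : ℤ))))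
          (CohB1.tensorPow L n)) 0)) := by
  haveI : GeometricallyIntegral A.hom := AbRigid.geometricallyIntegral_of_smooth A
  haveI : IsLocallyNoetherian A.left := LocallyOfFiniteType.isLocallyNoetherian A.hom
  haveI : IsLocallyNoetherian At.left := LocallyOfFiniteType.isLocallyNoetherian At.hom
  haveI : IsNoetherian (Spec (CommRingCat.of k)) := inferInstance
  haveI : CompactSpace A.left := QuasiCompact.compactSpace_of_compactSpace A.hom
  haveI : QuasiSeparatedSpace A.left := quasiSeparatedSpace_of_quasiSeparated A.hom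
  haveI : CompactSpace At.left := QuasiCompact.compactSpace_of_compactSpace At.hom
  haveI : QuasiSeparatedSpace At.left := quasiSeparatedSpace_of_quasiSeparated At.hom
  haveI : HasInjectiveResolutions A.left.Modules := CohFound.hasInjectiveResolutions_modules _
  letI : A.left.Over (Spec (CommRingCat.of k)) := ⟨A.hom⟩
  haveI : Flat A.hom := inferInstance
  have hL' := isInvertible_of_ample_inverse hL.1 hLL'
  let M := CohB1.tensorPow L' n
  let M' := CohB1.tensorPow L n
  have hM : PicF.IsInvertible M := M2.isInvertible_tensorPow hL' n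
  have hM' : PicF.IsInvertible M' := M2.isInvertible_tensorPow hL.1 n
  obtain ⟨uM⟩ := nonempty_tensorPow_inverse hLL' n
  let Φ := phiK (fst A At).left (snd A At).left P
  let T := (lP f.left).obj (Φ.obj ((DerivedCategory.singleFunctor A.left.Modules 0).obj M))
  let W := DCoh.HD T (g : ℤ)
  let X₁ := (lP f.left).obj (Φ.obj ((DerivedCategory.singleFunctor A.left.Modules 0).obj G))
  let Z := (tenF M).obj X₁
  have hWc : Coh.IsCoh W := CohFound.isCoh_of_isFinLocFree hWf
  let GW := CohB1.tensorMod G W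
  obtain ⟨eW⟩ := nonempty_iso_single_of_concentrated T g hW
  obtain ⟨cW⟩ := FMAdj9.nonempty_comm (modM W)
  obtain ⟨mW⟩ := LocFreeDual.nonempty_modM_tensor G W hWf
  obtain ⟨sG⟩ := DualPush.nonempty_shift_tRD (-(g : ℤ))
    (((DerivedCategory.singleFunctor A.left.Modules 0).obj W : DCoh.D A.left) : DM A.left) (modM G)
  let eS : (tenF G).obj T ≅ ((DerivedCategory.singleFunctor A.left.Modules 0).obj GW)⟦(-(g : ℤ))⟧ :=
    (tenF G).mapIso eW ≪≫ (sG :) ≪≫ (shiftFunctor (DCoh.D A.left) (-(g : ℤ))).mapIso ((cW.app (modM G) ≪≫ mW :) : _)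
  obtain ⟨sw⟩ := nonempty_swap_transform hφ hP hξ hG hM _ f hf
  obtain ⟨rs⟩ := FMBase13.nonempty_rpush_shift A.hom (-(g : ℤ))
  let E : ((DCoh.Rpush A.hom).obj ((DerivedCategory.singleFunctor A.left.Modules 0).obj GW))⟦(-(g : ℤ))⟧ ≅
      (DCoh.Rpush A.hom).obj Z :=
    (rs.app _).symm ≪≫ (DCoh.Rpush A.hom).mapIso eS.symm ≪≫ sw
  -- the dual side
  let kk : DM A.left := ((tRD (modM M)).obj ((lP f.left).obj (X : DCoh.D At.left)) : DCoh.D A.left)
  have hX : DCoh.IsPerfect (X : DCoh.D At.left) :=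
    DGen9.isPerfect_of_iso eXG.symm (isPerfect_phiK hP (isPerfect_single hG))
  have hMp : DCoh.IsPerfect ((modM M : DM A.left) : DCoh.D A.left) :=
    DGen9.ResP.isPerfect_toD (DPerf.isStrictlyPerfect_single (M2.isFinLocFree_of_isInvertible hM))
  have hk : DCoh.IsPerfect (kk : DCoh.D A.left) :=
    FMAdj9.isPerfect_tensor_perf (A := (dPull f.left).obj X) (B := modM M) (PerfPush9.isPerfect_lP _ hX) hMp
  letI : ExactPairing ((dPull f.left).obj X) ((dPull f.left).obj DX) := Dual8.mapPairing (dPull f.left) X DX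
  obtain ⟨DM₀, -, ⟨pM⟩⟩ := BC8.exists_pairing_left_perfect (modM M) hMp
  haveI := pM
  let O₁ : DM A.left := 𝟙_ (DM A.left)
  obtain ⟨m₁⟩ := FMBase13.nonempty_modM_tensor M M' hM'
  obtain ⟨m₂⟩ := FMBase13.nonempty_modM_tensor M' M hM
  let toUnit₁ : ∀ {N : A.left.Modules}, (N ≅ Coh.structureModule A.left) → (modM N ≅ (𝟙_ (DM A.left) : DM A.left)) :=
    fun e => ((DerivedCategory.singleFunctor A.left.Modules 0).mapIso e ≪≫ (DualPush.oneIso :) :)
  obtain ⟨iDM⟩ := HyperGV.nonempty_dual_of_inverse (modM M) DM₀ (modM M')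
    ((m₁ :) ≪≫ toUnit₁ (M2.tensorComm _ _ ≪≫ uM)) ((m₂ :) ≪≫ toUnit₁ uM)
  obtain ⟨D, hD, ⟨pk⟩⟩ := BC8.exists_pairing_left_perfect kk hk
  haveI : ExactPairing ((dPull f.left).obj X ⊗ modM M) D := pk
  obtain ⟨d⟩ := DualPush.nonempty_dual_tensor ((dPull f.left).obj X) (modM M) ((dPull f.left).obj DX) DM₀ D
  obtain ⟨cM'⟩ := FMAdj9.nonempty_comm (modM M')
  let Y := (tenF M').obj ((lP f.left).obj (DX : DCoh.D At.left))
  let eD : @Iso (DCoh.D A.left) _ D Y :=
    ((d ≪≫ whiskerRightIso iDM _ ≪≫ cM'.app ((dPull f.left).obj DX)) :)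
  have hb : DCoh.RpushPreservesQCoh A.hom := fun _ h => FMAdj9.rpushPreservesQCoh A.hom h
  haveI := BC8.isLeftAdjoint_rpushQ A.hom hb
  let adj := Adjunction.ofIsLeftAdjoint (DCoh.RpushQ A.hom hb)
  obtain ⟨ω⟩ := UnitDual.nonempty_dualizing_structure A hg adj
  let O := BC8.oQ (Spec (CommRingCat.of k))
  let Gp : DM (Spec (CommRingCat.of k)) := (DCoh.Rpush A.hom).obj (kk : DCoh.D A.left)
  have hGp : DCoh.IsPerfect (Gp : DCoh.D (Spec (CommRingCat.of k))) := PerfPush9.isPerfect_rpush_flat A.hom _ hk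
  obtain ⟨DGp, hDGp, ⟨pG⟩⟩ := BC8.exists_pairing_left_perfect Gp hGp
  haveI := pG
  obtain ⟨r⟩ := DualPush.nonempty_dual_rpush A.hom adj O (Iso.refl _) ((DCoh.RpushQ A.hom hb).rightAdjoint.obj O).obj
    (Iso.refl _) kk D (DGen9.isQCohD_of_isPerfect hk) (DGen9.isQCohD_of_isPerfect hD) Gp DGp
    (DGen9.isQCohD_of_isPerfect hDGp) (Iso.refl _)
  obtain ⟨sD⟩ := DualPush.nonempty_shift_tRD (g : ℤ)
    ((DCoh.inD A.left (Coh.structureModule A.left) : DCoh.D A.left) : DM A.left) D
  let eωD : (tRD D).obj ((DCoh.RpushQ A.hom hb).rightAdjoint.obj O).obj ≅ Y⟦(g : ℤ)⟧ :=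
    (tRD D).mapIso ω ≪≫ (sD :) ≪≫ (shiftFunctor (DCoh.D A.left) (g : ℤ)).mapIso
      (((whiskerRightIso (C := DM A.left) DualPush.oneIso D ≪≫ λ_ D) :) ≪≫ eD)
  obtain ⟨rs'⟩ := FMBase13.nonempty_rpush_shift A.hom (g : ℤ)
  let eDG : @Iso (DCoh.D (Spec (CommRingCat.of k))) _ DGp (((DCoh.Rpush A.hom).obj Y)⟦(g : ℤ)⟧) :=
    r.symm ≪≫ (DCoh.Rpush A.hom).mapIso eωD ≪≫ rs'.app Y
  -- cohomology of the dual side
  let H : ℤ → A.left.Modules := fun i =>
    CohB1.tensorMod ((Scheme.Modules.pullback f.left).obj (DCoh.HD (DX : DCoh.D At.left) i)) M'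
  have hDXc : ∀ i, Coh.IsCoh (DCoh.HD (DX : DCoh.D At.left) i) := fun i =>
    DPerf.isCoh_HD_of_pseudoCoherent (DGen9.isPseudoCoherentD_of_isPerfect hDX i)
      (DGen9.isQCohD_of_isPerfect hDX i) le_rfl
  have hHc : ∀ i, Coh.IsCoh (H i) := fun i =>
    CohFound.isCoh_tensor (M1.isCoh_pullback _ (hDXc i)) (CubeField.isCoh_of_isInvertible hM')
  have hY : ∀ i, Nonempty (DCoh.HD Y i ≅ H i) := fun i => by
    obtain ⟨a⟩ := nonempty_HD_tenF M' hM' ((lP f.left).obj (DX : DCoh.D At.left)) i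
    obtain ⟨b⟩ := nonempty_HD_lP_flat f.left (DX : DCoh.D At.left) i
    exact ⟨a ≪≫ M2.tensorIso b (Iso.refl _)⟩
  have hq : DCoh.IsQCohD Y := fun i => M1.isQCoh_of_isIso (hY i).some.symm (hHc i).1
  obtain ⟨c₁, hc₁⟩ := DPerf.exists_isGE_of_perfect hDX
  obtain ⟨c₂, hc₂⟩ := DPerf.exists_isLE_of_pseudoCoherent (DGen9.isPseudoCoherentD_of_isPerfect hDX 0)
  have hzero : ∀ i : ℤ, IsZero (DCoh.HD (DX : DCoh.D At.left) i) → IsZero (DCoh.HD Y i) := fun i h =>
    ((M2.tensorR M').map_isZero ((Scheme.Modules.pullback f.left).map_isZero h)).of_iso (hY i).some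
  haveI : Y.IsGE c₁ := (DerivedCategory.isGE_iff _ _).2 fun i hi => hzero i
    (haveI := hc₁; DerivedCategory.isZero_of_isGE (DX : DCoh.D At.left) c₁ i hi)
  haveI : Y.IsLE c₂ := (DerivedCategory.isLE_iff _ _).2 fun i hi => hzero i
    (haveI := hc₂; DerivedCategory.isZero_of_isLE (DX : DCoh.D At.left) c₂ i hi)
  have hac : ∀ i : ℤ, RFPlus.IsAcyclicObj (Scheme.Modules.pushforward A.hom) (DCoh.HD Y i) := fun i =>
    isAcyclicObj_of_iso A.hom (hY i).some.symm fun p hp => by
      haveI := hv i p hp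
      exact isZero_rpush_affine A.hom (hHc i).1 p
  obtain ⟨dR⟩ := nonempty_HD_rpush_acyclic A.hom Y hq hac c₁ c₂ (-(j : ℤ))
  obtain ⟨dL⟩ := Poinc13.nonempty_hd_rpush A.hom GW j
  -- both sides over the field
  have hGW : Coh.IsCoh GW := CohFound.isCoh_tensor hG hWc
  obtain ⟨rr, ⟨eR⟩⟩ := exists_free_point (k := k) (CohFound.isCoh_rpush A.hom (hHc (-(j : ℤ))) 0)
  obtain ⟨ss, ⟨eL⟩⟩ := exists_free_point (k := k) (CohFound.isCoh_rpush A.hom hGW j)
  let eGp : @Iso (DCoh.D (Spec (CommRingCat.of k))) _ Gp ((DCoh.Rpush A.hom).obj Z) :=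
    (DCoh.Rpush A.hom).mapIso ((tenF M).mapIso ((lP f.left).mapIso eXG))
  let e₁ : DCoh.HD (Gp : DCoh.D (Spec (CommRingCat.of k))) (-(-((j : ℤ) + g))) ≅ FlatMod.freeMod _ ss :=
    (DerivedCategory.homologyFunctor _ _).mapIso (eGp ≪≫ E.symm) ≪≫
      ((DerivedCategory.homologyFunctor (Spec (CommRingCat.of k)).Modules 0).shiftIso (-(g : ℤ)) _ (j : ℤ)
        (by omega)).app _ ≪≫ dL ≪≫ eL
  let e₂ : DCoh.HD (DGp : DCoh.D (Spec (CommRingCat.of k))) (-((j : ℤ) + g)) ≅ FlatMod.freeMod _ rr :=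
    (DerivedCategory.homologyFunctor _ _).mapIso eDG ≪≫
      ((DerivedCategory.homologyFunctor (Spec (CommRingCat.of k)).Modules 0).shiftIso (g : ℤ) _ (-(j : ℤ))
        (by omega)).app _ ≪≫ dR ≪≫ (Scheme.Modules.pushforward A.hom).mapIso (hY (-(j : ℤ))).some ≪≫
      ((Scheme.Modules.pushforward A.hom).rightDerivedZeroIsoSelf.app _).symm ≪≫ eR
  have heq := RankDual.rank_eq (R := CommRingCat.of k) (Field.toIsField k) Gp DGp (DGen9.isQCohD_of_isPerfect hGp)
    (DGen9.isQCohD_of_isPerfect hDGp) (-((j : ℤ) + g)) rr ss e₁ e₂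
  subst heq
  exact (genRk_rpush_point hGW j).symm.trans ((genRk_iso (eL ≪≫ eR.symm)).trans (genRk_rpush_point (hHc _) 0))

include hφ hP hξ in
/-- The transform of a module twisted by a restriction of the Poincaré module is translated, as an object. -/
theorem nonempty_phiK_translate {G : A.left.Modules} (hG : Coh.IsCoh G) (α : 𝟙_ (Over (Spec (CommRingCat.of k))) ⟶ At)
    [Flat (𝟙 At * (toUnit At ≫ α)).left] :
    Nonempty ((phiK (fst A At).left (snd A At).left P).obj
        ((DerivedCategory.singleFunctor A.left.Modules 0).obj (CohB1.tensorMod G (W4c5cohrankabvar.ptLB P α))) ≅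
      (lP (𝟙 At * (toUnit At ≫ α)).left).obj ((phiK (fst A At).left (snd A At).left P).obj
        ((DerivedCategory.singleFunctor A.left.Modules 0).obj G))) := by
  haveI : IsProper (snd A At).left := inferInstanceAs (IsProper (pullback.snd A.hom At.hom))
  haveI : Flat (snd A At).left := inferInstanceAs (Flat (pullback.snd A.hom At.hom))
  let t := 𝟙 At * (toUnit At ≫ α)
  have hα : PicF.IsInvertible (W4c5cohrankabvar.ptLB P α) := PicLoc.isInvertible_pullback _ hP
  obtain ⟨c⟩ := nonempty_phiK_BC (fst A At).left (snd A At).left (isPullback_whisker A t) hP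
  have h1 : (A ◁ t).left ≫ (fst A At).left = (fst A At).left := by rw [← Over.comp_left, whiskerLeft_fst]
  obtain ⟨e⟩ := nonempty_translate_right hP hξ hφ α
  obtain ⟨w⟩ := FMBase13.nonempty_twist_phiK (fst A At).left (snd A At).left hα hP
  obtain ⟨m⟩ := FMBase13.nonempty_modM_tensor G (W4c5cohrankabvar.ptLB P α) hα
  exact ⟨(phiK (fst A At).left (snd A At).left P).mapIso
      (m : (tenF (W4c5cohrankabvar.ptLB P α)).obj ((DerivedCategory.singleFunctor _ 0).obj G) ≅
        (DerivedCategory.singleFunctor A.left.Modules 0).obj (CohB1.tensorMod G (W4c5cohrankabvar.ptLB P α))).symm ≪≫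
    w.app _ ≪≫ (phiKIso _ _ e).symm.app _ ≪≫ (phiKCongr _ _ h1 _).symm.app _ ≪≫
    (c.app ⟨_, TwistBC9.isQCohD_inD G hG.1 0⟩).symm⟩

include hφ hP hξ hL hLL' in
/-- The dimensions of the tensor product with the transform of a negative power are the same at every point. -/
theorem hAt_right_exchange (hg : topologicalKrullDim A.left = g) {G : A.left.Modules} (hG : Coh.IsCoh G)
    (X DX : DM At.left) [ExactPairing X DX] (hDX : DCoh.IsPerfect (DX : DCoh.D At.left))
    (eXG : @Iso (DCoh.D At.left) _ X ((phiK (fst A At).left (snd A At).left P).obj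
      ((DerivedCategory.singleFunctor A.left.Modules 0).obj G))) {n : ℕ}
    (f : A ⟶ At) (hf : f = lamOf φ (PicGrp.cls L hL.1)) [Flat f.left]
    (hW : ∀ i : ℤ, i ≠ g → IsZero (DCoh.HD ((lP f.left).obj ((phiK (fst A At).left (snd A At).left P).obj
      ((DerivedCategory.singleFunctor A.left.Modules 0).obj (CohB1.tensorPow L' n)))) i))
    (hWf : FlatMod.IsFinLocFree (DCoh.HD ((lP f.left).obj ((phiK (fst A At).left (snd A At).left P).obj
      ((DerivedCategory.singleFunctor A.left.Modules 0).obj (CohB1.tensorPow L' n)))) (g : ℤ)))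
    (hIT : ∀ (q : ℤ) (i : ℕ) (α : 𝟙_ (Over (Spec (CommRingCat.of k))) ⟶ At), 1 ≤ i →
      W4c5cohrankabvar.hAt k P (CohB1.tensorMod ((Scheme.Modules.pullback f.left).obj
        (DCoh.HD (DX : DCoh.D At.left) q)) (CohB1.tensorPow L n)) α i = 0) (j : ℕ)
    (α : 𝟙_ (Over (Spec (CommRingCat.of k))) ⟶ At) :
    (W4c5cohrankabvar.hAt k P (CohB1.tensorMod G (DCoh.HD ((lP f.left).obj ((phiK (fst A At).left (snd A At).left P).obj
      ((DerivedCategory.singleFunctor A.left.Modules 0).obj (CohB1.tensorPow L' n)))) (g : ℤ))) α j : ℤ) =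
      @Curv2.euler k _ A.left ⟨A.hom⟩ (CohB1.tensorMod ((Scheme.Modules.pullback f.left).obj
        (DCoh.HD (DX : DCoh.D At.left) (-(j : ℤ)))) (CohB1.tensorPow L n)) := by
  haveI : GeometricallyIntegral A.hom := AbRigid.geometricallyIntegral_of_smooth A
  haveI : GeometricallyIntegral At.hom := AbRigid.geometricallyIntegral_of_smooth At
  haveI : AlgebraicGeometry.IsIntegral At.left := GeometricallyIntegral.isIntegral_of_subsingleton At.hom
  haveI := isCommMonObj_of_isProper_of_geometricallyIntegral A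
  haveI := isCommMonObj_of_isProper_of_geometricallyIntegral At
  haveI : IsLocallyNoetherian A.left := LocallyOfFiniteType.isLocallyNoetherian A.hom
  haveI : IsLocallyNoetherian At.left := LocallyOfFiniteType.isLocallyNoetherian At.hom
  haveI : JacobsonSpace A.left := LocallyOfFiniteType.jacobsonSpace A.hom
  letI : A.left.Over (Spec (CommRingCat.of k)) := ⟨A.hom⟩
  haveI : IsProper (A.left ↘ Spec (CommRingCat.of k)) := inferInstanceAs (IsProper A.hom)
  haveI : IsMonHom f := hf ▸ isMonHom_lamOf hφ _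
  haveI : IsFinite f.left := hf ▸ isFinite_lamOf hφ hL
  haveI : Surjective f.left := hf ▸ (exists_endo hφ hL).choose_spec.2.1
  have hM : PicF.IsInvertible (CohB1.tensorPow L n) := M2.isInvertible_tensorPow hL.1 n
  have hDXc : ∀ i, Coh.IsCoh (DCoh.HD (DX : DCoh.D At.left) i) := fun i =>
    DPerf.isCoh_HD_of_pseudoCoherent (DGen9.isPseudoCoherentD_of_isPerfect hDX i)
      (DGen9.isQCohD_of_isPerfect hDX i) le_rfl
  let H : ℤ → A.left.Modules := fun q =>
    CohB1.tensorMod ((Scheme.Modules.pullback f.left).obj (DCoh.HD (DX : DCoh.D At.left) q)) (CohB1.tensorPow L n)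
  have hHc : ∀ q, Coh.IsCoh (H q) := fun q =>
    CohFound.isCoh_tensor (M1.isCoh_pullback _ (hDXc q)) (CubeField.isCoh_of_isInvertible hM)
  let Pα := W4c5cohrankabvar.ptLB P α
  obtain ⟨c, hc, hcc⟩ := nonempty_inter_closedPoints (Z := f.left.base ⁻¹' closure {CubeField.rpt α})
    (by obtain ⟨x, hx⟩ := f.left.surjective (CubeField.rpt α); exact ⟨x, subset_closure hx⟩)
    (isClosed_closure.preimage f.left.continuous).isLocallyClosed
  obtain ⟨a, rfl⟩ := CubeField.exists_rpt (X := A) hcc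
  have ha : a ≫ f = α := CubeField.rpt_injective (by
    have hcl : IsClosed ({CubeField.rpt α} : Set At.left) := MumVan22.isClosed_rpt α
    rw [CubeField.rpt_comp]
    simpa [hcl.closure_eq] using hc)
  let u : A ⟶ A := 𝟙 A * (toUnit A ≫ a)
  let v : A ⟶ A := 𝟙 A * (toUnit A ≫ a⁻¹)
  let t : At ⟶ At := 𝟙 At * (toUnit At ≫ α)
  have huv : ∀ {B : Over (Spec (CommRingCat.of k))} [GrpObj B] (x y : 𝟙_ (Over (Spec (CommRingCat.of k))) ⟶ B),
      y * x = 1 → (𝟙 B * (toUnit B ≫ x)) ≫ (𝟙 B * (toUnit B ≫ y)) = 𝟙 B := fun {B} _ x y hxy => by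
    rw [MonObj.comp_mul, Category.comp_id, ← Category.assoc, toUnit_unique (_ ≫ toUnit B) (toUnit B),
      _root_.mul_assoc, ← MonObj.comp_mul]
    have : x * y = 1 := mul_eq_one_comm.1 hxy
    rw [this, MonObj.comp_one, _root_.mul_one]
  haveI : IsIso u := ⟨v, huv a a⁻¹ (inv_mul_cancel a), huv a⁻¹ a (mul_inv_cancel a)⟩
  haveI : IsIso t := ⟨𝟙 At * (toUnit At ≫ α⁻¹), huv α α⁻¹ (inv_mul_cancel α), huv α⁻¹ α (mul_inv_cancel α)⟩
  haveI : IsIso u.left := inferInstanceAs (IsIso ((Over.forget _).map u))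
  haveI : IsIso t.left := inferInstanceAs (IsIso ((Over.forget _).map t))
  have hft : f ≫ t = u ≫ f := by
    simp only [u, t, MonObj.comp_mul, MonObj.mul_comp, Category.comp_id, Category.id_comp, Category.assoc]
    rw [← Category.assoc f (toUnit At), toUnit_unique (f ≫ toUnit At) (toUnit A), ← ha]
  have hN : ∃ β : 𝟙_ (Over (Spec (CommRingCat.of k))) ⟶ At, Nonempty ((Scheme.Modules.pullback u.left).obj
      (CohB1.tensorMod (CohB1.tensorPow L n) (W4c5cohrankabvar.ptLB P β)) ≅ CohB1.tensorPow L n) := by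
    refine ⟨a⁻¹ ≫ lamOf φ (PicGrp.cls (CohB1.tensorPow L n) hM), ?_⟩
    have hb := PicLoc.isInvertible_pullback (lift (𝟙 A) (toUnit A ≫
      (a⁻¹ ≫ lamOf φ (PicGrp.cls (CohB1.tensorPow L n) hM)))).left hP
    refine FMBase13.nonempty_iso_of_cls (hL := PicLoc.isInvertible_pullback _ (M2.isInvertible_tensor hM hb))
      (hM := hM) ?_
    rw [← RosTrace22.pb_cls u (M2.isInvertible_tensor hM hb), ← AlgEquiv22.cls_tensor hM hb,
      ← FMBase13.ev_eq_cls hP hξ, ← Category.assoc, ← bil_eq_ev hφ hξ, ← pb_translate, AgPol22.pb_pb,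
      show u ≫ (𝟙 A * (toUnit A ≫ a⁻¹)) = 𝟙 A from huv a a⁻¹ (inv_mul_cancel a), AlgEquiv22.pb_id]
  obtain ⟨β, ⟨eN⟩⟩ := hN
  let Pβ := W4c5cohrankabvar.ptLB P β
  have hG' : Coh.IsCoh (CohB1.tensorMod G Pα) :=
    CohFound.isCoh_tensor hG (CubeField.isCoh_of_isInvertible (PicLoc.isInvertible_pullback _ hP))
  haveI : Flat t.left := inferInstance
  obtain ⟨eT⟩ := nonempty_phiK_translate hφ hP hξ hG α
  let X' : DM At.left := (dPull t.left).obj X
  let DX' : DM At.left := (dPull t.left).obj DX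
  letI : ExactPairing X' DX' := Dual8.mapPairing (dPull t.left) X DX
  let eX' : @Iso (DCoh.D At.left) _ X' ((phiK (fst A At).left (snd A At).left P).obj
      ((DerivedCategory.singleFunctor A.left.Modules 0).obj (CohB1.tensorMod G Pα))) :=
    (lP t.left).mapIso eXG ≪≫ eT.symm
  have eH : ∀ q : ℤ, Nonempty (CohB1.tensorMod ((Scheme.Modules.pullback f.left).obj
      (DCoh.HD (DX' : DCoh.D At.left) q)) (CohB1.tensorPow L n) ≅
        (Scheme.Modules.pullback u.left).obj (CohB1.tensorMod (H q) Pβ)) := fun q => by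
    obtain ⟨e⟩ := nonempty_HD_lP_flat t.left (DX : DCoh.D At.left) q
    exact ⟨M2.tensorIso ((Scheme.Modules.pullback f.left).mapIso e ≪≫
        (Scheme.Modules.pullbackComp _ _).app _ ≪≫
        (Scheme.Modules.pullbackCongr ((Over.comp_left _ _ _ f t).symm.trans
          ((congrArg Over.Hom.left hft).trans (Over.comp_left _ _ _ u f)))).app _ ≪≫
        ((Scheme.Modules.pullbackComp _ _).app _).symm) eN.symm ≪≫ (M2.pullTensorIso _ _ _).symm ≪≫
      (Scheme.Modules.pullback u.left).mapIso (M2.tensorAssoc _ _ _).symm⟩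
  have hHβ : ∀ q, Coh.IsCoh (CohB1.tensorMod (H q) Pβ) := fun q =>
    CohFound.isCoh_tensor (hHc q) (CubeField.isCoh_of_isInvertible (PicLoc.isInvertible_pullback _ hP))
  have hdim : ∀ (q : ℤ) (p : ℕ), Module.finrank k (Coh.HH A.left (CohB1.tensorMod ((Scheme.Modules.pullback f.left).obj
      (DCoh.HD (DX' : DCoh.D At.left) q)) (CohB1.tensorPow L n)) p) = W4c5cohrankabvar.hAt k P (H q) β p :=
    fun q p => ((CBC10.hmapLinEquiv k (eH q).some p).finrank_eq).trans (finrank_HH_pullback_aut u (hHβ q).1 p)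
  have hDX' : DCoh.IsPerfect (DX' : DCoh.D At.left) := PerfPush9.isPerfect_lP _ hDX
  have hex := finrank_right_exchange hφ hP hξ hL hLL' hg hG' X' DX' hDX' eX' (n := n) f hf hW hWf (fun q p hp => by
    haveI := CohFound.finite_HH_of_isProper (A := k) _ (CohFound.isCoh_tensor (M1.isCoh_pullback f.left
      (DPerf.isCoh_HD_of_pseudoCoherent (DGen9.isPseudoCoherentD_of_isPerfect hDX' q)
        (DGen9.isQCohD_of_isPerfect hDX' q) le_rfl)) (CubeField.isCoh_of_isInvertible hM)) p
    exact Module.finrank_zero_iff.1 ((hdim q p).trans (hIT q p β hp))) j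
  have heul : @Curv2.euler k _ A.left ⟨A.hom⟩ (CohB1.tensorMod (H (-(j : ℤ))) Pβ) =
      @Curv2.euler k _ A.left ⟨A.hom⟩ (H (-(j : ℤ))) := by
    rw [euler_twist_eq hP (hHc _), euler_eq_finsum_genRk hφ hP hξ (hHc _)]
  refine Eq.trans ?_ ((finrank_HH_zero_eq_euler (k := k) (M := CohB1.tensorMod (H (-(j : ℤ))) Pβ)
    (fun p hp => (hAt_eq_zero_iff hP (hHc _) β p).1 (hIT _ p β hp))).trans heul)
  rw [show Module.finrank k (Coh.HH A.left (CohB1.tensorMod (H (-(j : ℤ))) Pβ) 0) =
    W4c5cohrankabvar.hAt k P (H (-(j : ℤ))) β 0 from rfl, ← hdim, ← hex]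
  exact congrArg (Nat.cast (R := ℤ)) ((CBC10.hmapLinEquiv k (M2.tensorAssoc _ _ _ ≪≫
    M2.tensorIso (Iso.refl G) (M2.tensorComm _ _) ≪≫ (M2.tensorAssoc _ _ _).symm) j).finrank_eq)

include hφ hP hξ hL hLL' in
/-- The generic dimensions of a small positive twist from the sections of the twisted dual of the transform. -/
theorem hgen_right_exchange (hg : topologicalKrullDim A.left = g) {G : A.left.Modules} (hG : Coh.IsCoh G)
    (X DX : DM At.left) [ExactPairing X DX] (hDX : DCoh.IsPerfect (DX : DCoh.D At.left))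
    (eXG : @Iso (DCoh.D At.left) _ X ((phiK (fst A At).left (snd A At).left P).obj
      ((DerivedCategory.singleFunctor A.left.Modules 0).obj G))) {n : ℕ} (hn : 0 < n)
    (f : A ⟶ At) (hf : f = lamOf φ (PicGrp.cls L hL.1))
    (hIT : ∀ (q : ℤ) (i : ℕ) (α : 𝟙_ (Over (Spec (CommRingCat.of k))) ⟶ At), 1 ≤ i →
      W4c5cohrankabvar.hAt k P (CohB1.tensorMod ((Scheme.Modules.pullback f.left).obj
        (DCoh.HD (DX : DCoh.D At.left) q)) (CohB1.tensorPow L n)) α i = 0) (j : ℕ) :
    @Curv2.euler k _ A.left ⟨A.hom⟩ (CohB1.tensorPow L n) *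
        ((W4c5cohrankabvar.hgen k P (CohB1.tensorMod ((Scheme.Modules.pullback ((𝟙 A) ^ n).left).obj G)
          (CohB1.tensorPow L n)) j : ℕ) : ℤ) =
      (n : ℤ) ^ (2 * g) * @Curv2.euler k _ A.left ⟨A.hom⟩
        (CohB1.tensorMod ((Scheme.Modules.pullback f.left).obj (DCoh.HD (DX : DCoh.D At.left) (-(j : ℤ))))
          (CohB1.tensorPow L n)) := by
  haveI : GeometricallyIntegral A.hom := AbRigid.geometricallyIntegral_of_smooth A
  haveI : GeometricallyIntegral At.hom := AbRigid.geometricallyIntegral_of_smooth At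
  haveI : AlgebraicGeometry.IsIntegral At.left := GeometricallyIntegral.isIntegral_of_subsingleton At.hom
  haveI := isCommMonObj_of_isProper_of_geometricallyIntegral A
  haveI : IsLocallyNoetherian A.left := LocallyOfFiniteType.isLocallyNoetherian A.hom
  haveI : IsNoetherian (Spec (CommRingCat.of k)) := inferInstance
  haveI : CompactSpace A.left := QuasiCompact.compactSpace_of_compactSpace A.hom
  haveI : HasInjectiveResolutions A.left.Modules := CohFound.hasInjectiveResolutions_modules _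
  letI : A.left.Over (Spec (CommRingCat.of k)) := ⟨A.hom⟩
  haveI : IsProper (A.left ↘ Spec (CommRingCat.of k)) := inferInstanceAs (IsProper A.hom)
  have hL' := isInvertible_of_ample_inverse hL.1 hLL'
  haveI : IsMonHom f := hf ▸ isMonHom_lamOf hφ _
  haveI : IsFinite f.left := hf ▸ isFinite_lamOf hφ hL
  haveI : Surjective f.left := hf ▸ (exists_endo hφ hL).choose_spec.2.1
  haveI : Flat f.left := AbRigid.flat_of_surjective A At f
  let j' : A ⟶ A := (𝟙 A)⁻¹
  let hm : A ⟶ A := (𝟙 A) ^ n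
  let h : A ⟶ A := j' ≫ hm
  obtain ⟨hhf, hhfl, hhs⟩ := AVDegree22.isFinite_flat_surjective_pow A hn
  haveI := hhf; haveI := hhfl; haveI := hhs
  have hjA : j'.left ≫ j'.left = 𝟙 A.left := by
    rw [← Over.comp_left, GrpObj.comp_inv, Category.comp_id, inv_inv, Over.id_left]
  haveI : IsIso j'.left := ⟨_, hjA, hjA⟩
  have hhl : h.left = j'.left ≫ hm.left := Over.comp_left _ _ _ _ _
  haveI : Flat h.left := hhl ▸ inferInstance
  haveI : Surjective h.left := hhl ▸ inferInstance
  obtain ⟨hz, r, ⟨eW⟩, ⟨er⟩⟩ := exists_negative_transform hφ hP hξ hL hLL' hg hn f hf h rfl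
  let W := DCoh.HD ((lP f.left).obj ((phiK (fst A At).left (snd A At).left P).obj
    ((DerivedCategory.singleFunctor A.left.Modules 0).obj (CohB1.tensorPow L' n)))) (g : ℤ)
  have hM : PicF.IsInvertible (CohB1.tensorPow L n) := M2.isInvertible_tensorPow hL.1 n
  have hM' : PicF.IsInvertible (CohB1.tensorPow L' n) := M2.isInvertible_tensorPow hL' n
  have hWc : Coh.IsCoh W := by
    obtain ⟨a⟩ := nonempty_HD_lP_flat f.left ((phiK (fst A At).left (snd A At).left P).obj
      ((DerivedCategory.singleFunctor A.left.Modules 0).obj (CohB1.tensorPow L' n))) (g : ℤ)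
    exact CohFound.isCoh_of_iso a.symm (M1.isCoh_pullback _ (isCoh_fmH hP (Snapper.isCoh_of_isInvertible hM') _))
  have hWf : FlatMod.IsFinLocFree W :=
    M1.isFinLocFree_of_pullback_fpqc h.left hWc.1 (M2.isFinLocFree_of_iso eW.symm
      (M2.isFinLocFree_tensor (KFlat.Sch.isFinLocFree_freeMod _ r)
        (M2.isFinLocFree_of_isInvertible hM)))
  have hconst := hAt_right_exchange hφ hP hξ hL hLL' hg hG X DX hDX eXG (n := n) f hf hz hWf hIT j
  haveI : Nonempty (𝟙_ (Over (Spec (CommRingCat.of k))) ⟶ At) := ⟨1⟩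
  have hgW : (W4c5cohrankabvar.hgen k P (CohB1.tensorMod G W) j : ℤ) =
      @Curv2.euler k _ A.left ⟨A.hom⟩ (CohB1.tensorMod ((Scheme.Modules.pullback f.left).obj
        (DCoh.HD (DX : DCoh.D At.left) (-(j : ℤ)))) (CohB1.tensorPow L n)) := by
    have hc : ∀ α, W4c5cohrankabvar.hAt k P (CohB1.tensorMod G W) α j =
        W4c5cohrankabvar.hAt k P (CohB1.tensorMod G W) 1 j := fun α => by
      exact_mod_cast (hconst α).trans (hconst 1).symm
    rw [show W4c5cohrankabvar.hgen k P (CohB1.tensorMod G W) j = W4c5cohrankabvar.hAt k P (CohB1.tensorMod G W) 1 j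
      from (iInf_congr hc).trans ciInf_const]
    exact hconst 1
  -- the rank of the transform
  haveI : Nonempty (Spec (CommRingCat.of k)) := inferInstanceAs (Nonempty (PrimeSpectrum k))
  have hr : (r : ℤ) = @Curv2.euler k _ A.left ⟨A.hom⟩ (CohB1.tensorPow L n) := by
    have h1 : (Module.finrank k (Coh.HH A.left (CohB1.tensorPow L' n) g) : ℤ) = r := by
      rw [← genRk_rpush_point (Snapper.isCoh_of_isInvertible hM') g, genRk_iso er]
      exact_mod_cast VB17.finrank_stalk (M2.isFinLocFreeOfRank_freeMod _ r) _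
    have ha : CohB1.IsAmple (CohB1.tensorPow L n) := (Amp.isAmple_tensorPow_iff hL.1 hn).2 hL
    have h2 : Curv2.euler k A.left (CohB1.tensorPow L' n) = (-1 : ℤ) ^ g *
        (Module.finrank k (Coh.HH A.left (CohB1.tensorPow L' n) g) : ℤ) := by
      refine (finsum_eq_single _ g fun i hi => ?_).trans (by simp)
      haveI := subsingleton_negative_power hg hL hLL' hn i hi
      simp [Module.finrank_zero_of_subsingleton]
    obtain ⟨uM⟩ := nonempty_tensorPow_inverse hLL' n
    rw [RR22.euler_inverse ha.1 (AlgEquiv22.finite_fixing ha) hM'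
      (Index22.cls_inverse ha.1 hM' ⟨uM⟩) hg, h1] at h2
    exact (mul_left_cancel₀ (pow_ne_zero g (by norm_num)) h2).symm
  -- back to the twist
  let Gn := (Scheme.Modules.pullback hm.left).obj G
  have hGn : Coh.IsCoh Gn := M1.isCoh_pullback _ hG
  have hmul := hgen_pullback_pow hφ hP hξ hg (CohFound.isCoh_tensor hG hWc) j n hn
  rw [← hgen_inv hP hφ hξ (M1.isCoh_pullback _ (CohFound.isCoh_tensor hG hWc)) j] at hmul
  have hpn : PicF.IsInvertible ((Scheme.Modules.pullback j'.left).obj (CohB1.tensorPow L n)) :=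
    PicLoc.isInvertible_pullback _ hM
  obtain ⟨N, hN, hNc⟩ := PicGrp.exists_eq_cls
    ((AlgEquiv22.pb (𝟙 A)⁻¹ (PicGrp.cls L hL.1) * (PicGrp.cls L hL.1)⁻¹) ^ (n : ℤ) : PicLoc.PicSet A.left)
  obtain ⟨ez⟩ : Nonempty (CohB1.tensorMod (CohB1.tensorPow L n) N ≅
      (Scheme.Modules.pullback j'.left).obj (CohB1.tensorPow L n)) := by
    refine FMBase13.nonempty_iso_of_cls (hL := M2.isInvertible_tensor hM hN) (hM := hpn) ?_
    rw [← AlgEquiv22.cls_tensor hM hN, ← RosTrace22.pb_cls j' hM, FGA3.cls_tensorPow hL.1 n, map_pow, ← hNc,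
      _root_.mul_zpow, _root_.inv_zpow, zpow_natCast, zpow_natCast, mul_left_comm, mul_inv_cancel, mul_one]
  let T := CohB1.tensorMod Gn (CohB1.tensorPow L n)
  have hT : Coh.IsCoh T := CohFound.isCoh_tensor hGn (CubeField.isCoh_of_isInvertible hM)
  -- the twist, reflected
  have hR : Coh.IsCoh (CohB1.tensorMod ((Scheme.Modules.pullback h.left).obj G) (CohB1.tensorPow L n)) :=
    CohFound.isCoh_tensor (M1.isCoh_pullback _ hG) (CubeField.isCoh_of_isInvertible hM)
  let e₀ : (Scheme.Modules.pullback j'.left).obj ((Scheme.Modules.pullback hm.left).obj (CohB1.tensorMod G W)) ≅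
      CohB1.tensorMod (FlatMod.freeMod A.left r)
        (CohB1.tensorMod ((Scheme.Modules.pullback h.left).obj G) (CohB1.tensorPow L n)) :=
    (Scheme.Modules.pullbackComp _ _).app _ ≪≫ (Scheme.Modules.pullbackCongr hhl.symm).app _ ≪≫
    M2.pullTensorIso _ _ _ ≪≫ M2.tensorIso (Iso.refl _) eW ≪≫ (M2.tensorAssoc _ _ _).symm ≪≫
      M2.tensorIso (M2.tensorComm _ _) (Iso.refl _) ≪≫ M2.tensorAssoc _ _ _
  rw [hgen_congr e₀, hgen_free_tensor hP hR] at hmul
  let e₁ : (Scheme.Modules.pullback j'.left).obj (CohB1.tensorMod T N) ≅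
      CohB1.tensorMod ((Scheme.Modules.pullback h.left).obj G) (CohB1.tensorPow L n) :=
    (Scheme.Modules.pullback j'.left).mapIso (M2.tensorAssoc _ _ _ ≪≫ M2.tensorIso (Iso.refl _) ez) ≪≫
      M2.pullTensorIso _ _ _ ≪≫ M2.tensorIso
        ((Scheme.Modules.pullbackComp _ _).app G ≪≫ (Scheme.Modules.pullbackCongr hhl.symm).app G)
        ((Scheme.Modules.pullbackComp _ _).app _ ≪≫ (Scheme.Modules.pullbackCongr hjA).app _ ≪≫
          (Scheme.Modules.pullbackId _).app _)
  have hTN : W4c5cohrankabvar.hgen k P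
      (CohB1.tensorMod ((Scheme.Modules.pullback h.left).obj G) (CohB1.tensorPow L n)) j =
      W4c5cohrankabvar.hgen k P T j := by
    rw [← hgen_congr e₁, hgen_inv hP hφ hξ (CohFound.isCoh_tensor hT (CubeField.isCoh_of_isInvertible hN)) j,
      hgen_shift hP hφ hξ hL _ hN (hNc ▸ inv_zpow (MumVan22.inv_symm_div _) _)]
  rw [hTN] at hmul
  rw [← hr, ← hgW]
  exact_mod_cast hmul

end Groth.Agent.FMHyp13

end
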