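import Groth.Agent.Lib.FMHyp13.RightExchange
import Groth.Agent.Lib.FMHyp13.OpenIT0

/-!
# The rank functions to the right of a rational number
-/

set_option autoImplicit false
set_option linter.style.haveILetI false
set_option linter.unusedSectionVars false
set_option backward.isDefEq.respectTransparency false
set_option backward.isDefEq.respectTransparency.types false
set_option maxHeartbeats 1600000

universe u

open CategoryTheory CategoryTheory.Limits MonoidalCategory CartesianMonoidalCategory AlgebraicGeometry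
open TopologicalSpace
open scoped MonObj GrpObj

attribute [local instance] HasDerivedCategory.standard

noncomputable section

namespace Groth.Agent.FMHyp13

open DMon9 DBC9 TwistBC9 FMBase13 Groth.Agent Groth.Agent.RosTrace22

attribute [local instance] DBC9.hasRpush

noncomputable local instance instLawRightExp (Y : Scheme.{u}) : PicGrp.Law Y := M2.law Y

variable {k : Type u} [Field k] [IsAlgClosed k] {A At : Over (Spec (CommRingCat.of k))} [GrpObj A] [GrpObj At]
  [IsProper A.hom] [Smooth A.hom] [GeometricallyConnected A.hom]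
  [IsProper At.hom] [Smooth At.hom] [GeometricallyConnected At.hom]
  {φ : AgPol.DualMap A At} (hφ : AbDual.IsDualAV Scheme.fppfPrecoverage A At φ)
  {P : (PicF.XT A.hom At).Modules} (hP : PicF.IsInvertible P) (hξ : AbDual.IsPoincareCl A At φ (PicF.cl P))
  {g : ℕ} {L L' : A.left.Modules} (hL : CohB1.IsAmple L)
  (hLL' : Nonempty (CohB1.tensorMod L L' ≅ Coh.structureModule A.left))

include hφ hP hξ hL hLL' in
/-- Right of zero, the rank functions are given by the duals of the transforms. -/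
theorem hgen_near_zero_right (hg : topologicalKrullDim A.left = g) {F : A.left.Modules} (hF : Coh.IsCoh F)
    (X DX : DM At.left) [ExactPairing X DX] (hDX : DCoh.IsPerfect (DX : DCoh.D At.left))
    (eXF : @Iso (DCoh.D At.left) _ X ((phiK (fst A At).left (snd A At).left P).obj
      ((DerivedCategory.singleFunctor A.left.Modules 0).obj F)))
    (f : A ⟶ At) (hf : f = lamOf φ (PicGrp.cls L hL.1)) (N : ℕ)
    (hN : ∀ (q : ℤ) (i : ℕ) (α : 𝟙_ (Over (Spec (CommRingCat.of k))) ⟶ At), 1 ≤ i →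
      W4c5cohrankabvar.hAt k P (CohB1.tensorMod ((Scheme.Modules.pullback f.left).obj (DCoh.HD (DX : DCoh.D At.left) q))
        (CohB1.tensorPow L N)) α i = 0)
    (a b : ℕ) (ha : 0 < a) (hlt : (N : ℚ) < (b : ℚ) / (a : ℚ)) (j : ℕ) :
    @Curv2.euler k _ A.left ⟨A.hom⟩ (CohB1.tensorPow L (a * b)) *
        ((W4c5cohrankabvar.hgen k P (W4c5cohrankabvar.twist A F L L' b ((a : ℤ) * (b : ℤ))) j : ℕ) : ℤ) =
      (b : ℤ) ^ (2 * g) * @Curv2.euler k _ A.left ⟨A.hom⟩
        (W4c5cohrankabvar.twist A ((Scheme.Modules.pullback f.left).obj (DCoh.HD (DX : DCoh.D At.left) (-(j : ℤ)))) L L' a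
          ((a : ℤ) * (b : ℤ))) := by
  haveI : GeometricallyIntegral A.hom := AbRigid.geometricallyIntegral_of_smooth A
  haveI : GeometricallyIntegral At.hom := AbRigid.geometricallyIntegral_of_smooth At
  haveI : IsLocallyNoetherian A.left := LocallyOfFiniteType.isLocallyNoetherian A.hom
  haveI : IsLocallyNoetherian At.left := LocallyOfFiniteType.isLocallyNoetherian At.hom
  haveI := isCommMonObj_of_isProper_of_geometricallyIntegral A
  letI : A.left.Over (Spec (CommRingCat.of k)) := ⟨A.hom⟩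
  have hb : 0 < b := by
    rcases Nat.eq_zero_or_pos b with rfl | h
    · simp at hlt; exact absurd hlt (not_lt.2 (Nat.cast_nonneg N))
    · exact h
  have hL' := isInvertible_of_ample_inverse hL.1 hLL'
  have hLa : CohB1.IsAmple (CohB1.tensorPow L a) := (Amp.isAmple_tensorPow_iff hL.1 ha).2 hL
  let fa : A ⟶ At := lamOf φ (PicGrp.cls (CohB1.tensorPow L a) hLa.1)
  have hfa : fa = ((𝟙 A) ^ a) ≫ f := by
    rw [hf, ← lamOf_pow hφ hP hξ]
    exact congrArg (lamOf φ) (FGA3.cls_tensorPow hL.1 a)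
  have hR : ∀ q : ℤ, Coh.IsCoh ((Scheme.Modules.pullback f.left).obj (DCoh.HD (DX : DCoh.D At.left) q)) := fun q =>
    M1.isCoh_pullback _ (DPerf.isCoh_HD_of_pseudoCoherent (DGen9.isPseudoCoherentD_of_isPerfect hDX q)
      (DGen9.isQCohD_of_isPerfect hDX q) le_rfl)
  let e1 := M2.tensorPowPow L a b
  let eR : ∀ q : ℤ, CohB1.tensorMod ((Scheme.Modules.pullback fa.left).obj (DCoh.HD (DX : DCoh.D At.left) q))
      (CohB1.tensorPow (CohB1.tensorPow L a) b) ≅
      W4c5cohrankabvar.twist A ((Scheme.Modules.pullback f.left).obj (DCoh.HD (DX : DCoh.D At.left) q)) L L' a ((a : ℤ) * (b : ℤ)) :=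
    fun q => M2.tensorIso ((Scheme.Modules.pullbackCongr ((congrArg Over.Hom.left hfa).trans
        (Over.comp_left _ _ _ _ _))).app _ ≪≫ ((Scheme.Modules.pullbackComp _ _).app _).symm)
      (e1 ≪≫ eqToIso (by rw [← Nat.cast_mul]; rfl))
  have hIT : ∀ (q : ℤ) (i : ℕ) (α : 𝟙_ (Over (Spec (CommRingCat.of k))) ⟶ At), 1 ≤ i →
      W4c5cohrankabvar.hAt k P (CohB1.tensorMod ((Scheme.Modules.pullback fa.left).obj (DCoh.HD (DX : DCoh.D At.left) q))
        (CohB1.tensorPow (CohB1.tensorPow L a) b)) α i = 0 := fun q i α hi => by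
    rw [hAt_congr (eR q) α i, mul_comm (a : ℤ) (b : ℤ)]
    exact it0_twist_of_it0_pow hφ hP hξ hL hLL' hg (hR q) (hN q) a b ha hlt i α hi
  have h := hgen_right_exchange hφ hP hξ hLa (nonempty_tensorPow_inverse hLL' a) hg hF X DX hDX eXF hb fa rfl hIT j
  let eF : CohB1.tensorMod ((Scheme.Modules.pullback ((𝟙 A) ^ b).left).obj F)
      (CohB1.tensorPow (CohB1.tensorPow L a) b) ≅
      W4c5cohrankabvar.twist A F L L' b ((a : ℤ) * (b : ℤ)) :=
    M2.tensorIso (Iso.refl _) (e1 ≪≫ eqToIso (by rw [← Nat.cast_mul]; rfl))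
  rw [hgen_congr eF, CurveCoh17.euler_iso (eR (-(j : ℤ))), CurveCoh17.euler_iso e1] at h
  exact h

include hP hL in
/-- One power of an ample module kills the higher twisted cohomology of all the duals of the transform. -/
theorem exists_uniform_power_right (DX : DM At.left) (hDX : DCoh.IsPerfect (DX : DCoh.D At.left)) (f : A ⟶ At) :
    ∃ N : ℕ, ∀ (q : ℤ) (i : ℕ) (α : 𝟙_ (Over (Spec (CommRingCat.of k))) ⟶ At), 1 ≤ i →
      W4c5cohrankabvar.hAt k P (CohB1.tensorMod ((Scheme.Modules.pullback f.left).obj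
        (DCoh.HD (DX : DCoh.D At.left) q)) (CohB1.tensorPow L N)) α i = 0 := by
  classical
  haveI : IsLocallyNoetherian A.left := LocallyOfFiniteType.isLocallyNoetherian A.hom
  haveI : IsLocallyNoetherian At.left := LocallyOfFiniteType.isLocallyNoetherian At.hom
  haveI : IsLocallyNoetherian At.left := LocallyOfFiniteType.isLocallyNoetherian At.hom
  haveI : CompactSpace At.left := QuasiCompact.compactSpace_of_compactSpace At.hom
  obtain ⟨c₁, hc₁⟩ := DPerf.exists_isGE_of_perfect hDX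
  obtain ⟨c₂, hc₂⟩ := DPerf.exists_isLE_of_pseudoCoherent (DGen9.isPseudoCoherentD_of_isPerfect hDX 0)
  choose n₀ hn₀ using fun q : ℤ => exists_it0_twist_ample hP (At := At) hL
    (M1.isCoh_pullback f.left (DPerf.isCoh_HD_of_pseudoCoherent (DGen9.isPseudoCoherentD_of_isPerfect hDX q)
      (DGen9.isQCohD_of_isPerfect hDX q) le_rfl))
  refine ⟨(Finset.Icc c₁ c₂).sup n₀, fun q i α hi => ?_⟩
  by_cases hq : c₁ ≤ q ∧ q ≤ c₂
  · exact hn₀ q _ (Finset.le_sup (Finset.mem_Icc.2 hq)) i α hi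
  · have hz : IsZero (DCoh.HD (DX : DCoh.D At.left) q) := by
      rcases not_and_or.1 hq with h | h
      · haveI := hc₁; exact DerivedCategory.isZero_of_isGE (DX : DCoh.D At.left) c₁ q (lt_of_not_ge h)
      · haveI := hc₂; exact DerivedCategory.isZero_of_isLE (DX : DCoh.D At.left) c₂ q (lt_of_not_ge h)
    exact hAt_of_isZero hP ((M2.tensorR (CohB1.tensorPow L ((Finset.Icc c₁ c₂).sup n₀))).map_isZero
      ((Scheme.Modules.pullback f.left).map_isZero hz)) α i

variable (hg : topologicalKrullDim A.left = g)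

include hφ hP hξ hg hL hLL' in
/-- The expansion of the rank functions to the right of `a/b`. -/
theorem exists_right_expansion {F : A.left.Modules} (hF : Coh.IsCoh F) (a : ℤ) (b : ℕ) (hb : 0 < b) (f : A ⟶ At)
    (hf : f = lamOf φ (PicGrp.cls L hL.1))
    (X DX : DM At.left) [ExactPairing X DX] (hDX : DCoh.IsPerfect (DX : DCoh.D At.left))
    (eXG : @Iso (DCoh.D At.left) _ X ((phiK (fst A At).left (snd A At).left P).obj
      ((DerivedCategory.singleFunctor A.left.Modules 0).obj (W4c5cohrankabvar.twist A F L L' b (a * b))))) :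
    ∃ ε : ℚ, 0 < ε ∧ ∀ (i : ℕ) (Q : Polynomial ℚ),
      @ShStab.IsHilbPoly k _ A.left ⟨A.hom⟩ L ((Scheme.Modules.pullback f.left).obj
        (DCoh.HD (DX : DCoh.D At.left) (-(i : ℤ)))) Q →
      ∀ (c : ℤ) (d : ℕ), 0 < d → (a : ℚ) / b < (c : ℚ) / d → (c : ℚ) / d < (a : ℚ) / b + ε →
        ((W4c5cohrankabvar.hgen k P (W4c5cohrankabvar.twist A F L L' d (c * d)) i : ℕ) : ℚ) / (d : ℚ) ^ (2 * g) =
          ((b : ℚ) ^ 2 * ((c : ℚ) / d - (a : ℚ) / b)) ^ g *
            Q.eval (1 / ((b : ℚ) ^ 2 * ((c : ℚ) / d - (a : ℚ) / b))) /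
              ((b : ℚ) ^ (2 * g) * (@Curv2.euler k _ A.left ⟨A.hom⟩ L : ℚ)) := by
  haveI : GeometricallyIntegral A.hom := AbRigid.geometricallyIntegral_of_smooth A
  haveI : IsLocallyNoetherian A.left := LocallyOfFiniteType.isLocallyNoetherian A.hom
  haveI : IsLocallyNoetherian At.left := LocallyOfFiniteType.isLocallyNoetherian At.hom
  haveI := isCommMonObj_of_isProper_of_geometricallyIntegral A
  have hL' := isInvertible_of_ample_inverse hL.1 hLL'
  let G := W4c5cohrankabvar.twist A F L L' b (a * b)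
  have hG : Coh.IsCoh G := isCoh_twist hF hL.1 hL' b (a * b)
  obtain ⟨N, hN⟩ := exists_uniform_power_right hP hL DX hDX f
  refine ⟨1 / (((N : ℚ) + 1) * (b : ℚ) ^ 2), by positivity, fun i Q hQ c d hd h1 h2 => ?_⟩
  have hbq : (0 : ℚ) < b := by exact_mod_cast hb
  have hdq : (0 : ℚ) < d := by exact_mod_cast hd
  have hpos : 0 < (b : ℤ) * (c * b - a * d) := by
    rw [div_lt_div_iff₀ hbq hdq] at h1
    have : a * (d : ℤ) < c * (b : ℤ) := by exact_mod_cast h1
    exact mul_pos (by exact_mod_cast hb) (by linarith)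
  obtain ⟨e, he⟩ := Int.eq_ofNat_of_zero_le hpos.le
  have he0 : 0 < e := by exact_mod_cast he ▸ hpos
  have hse : (e : ℚ) / d = (b : ℚ) ^ 2 * ((c : ℚ) / d - (a : ℚ) / b) := by
    have : (e : ℚ) = (b : ℚ) * ((c : ℚ) * b - a * d) := by exact_mod_cast he.symm
    rw [this]; field_simp
  have hlt : (N : ℚ) < (d : ℚ) / (e : ℚ) := by
    have heq : (0 : ℚ) < e := by exact_mod_cast he0
    have hs : (e : ℚ) / d < 1 / ((N : ℚ) + 1) := by
      rw [hse]
      calc (b : ℚ) ^ 2 * ((c : ℚ) / d - (a : ℚ) / b) < (b : ℚ) ^ 2 * (1 / (((N : ℚ) + 1) * (b : ℚ) ^ 2)) :=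
            mul_lt_mul_of_pos_left (by linarith) (by positivity)
        _ = 1 / ((N : ℚ) + 1) := by field_simp
    rw [div_lt_div_iff₀ hdq (by positivity)] at hs
    rw [lt_div_iff₀ heq]
    linarith
  have h := hgen_near_zero_right hφ hP hξ hL hLL' hg hG X DX hDX eXG f hf N hN e d he0 hlt i
  rw [euler_tensorPow_ample hL hg (e * d) (Nat.mul_pos he0 hd)] at h
  have hev := euler_twist_poly hφ hP hξ hg hL hLL' (M1.isCoh_pullback f.left
    (DPerf.isCoh_HD_of_pseudoCoherent (DGen9.isPseudoCoherentD_of_isPerfect hDX (-(i : ℤ)))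
      (DGen9.isQCohD_of_isPerfect hDX (-(i : ℤ))) le_rfl)) hQ e he0 d
  rw [show ((e * d : ℕ) : ℤ) = (e : ℤ) * (d : ℤ) by push_cast; ring] at hev
  -- back to `F`
  obtain ⟨M, hM, hInv, ⟨eM⟩⟩ := exists_pull_pow_twist F hL.1 hL' hLL' b (a * b) d
  have z₁ := isInvertible_zpow hL.1 hL' (a * b * ((d * d : ℕ) : ℤ))
  have z₂ := isInvertible_zpow hL.1 hL' ((e : ℤ) * (d : ℤ))
  obtain ⟨ez⟩ : Nonempty (CohB1.tensorMod (W4c5cohrankabvar.zpow L L' (a * b * ((d * d : ℕ) : ℤ)))
      (W4c5cohrankabvar.zpow L L' ((e : ℤ) * (d : ℤ))) ≅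
        W4c5cohrankabvar.zpow L L' (c * d * ((b * b : ℕ) : ℤ))) := by
    refine FMBase13.nonempty_iso_of_cls (hL := M2.isInvertible_tensor z₁ z₂) (hM := isInvertible_zpow hL.1 hL' _) ?_
    rw [← AlgEquiv22.cls_tensor z₁ z₂, cls_zpow hL.1 hL' hLL', cls_zpow hL.1 hL' hLL', cls_zpow hL.1 hL' hLL', ← zpow_add]
    congr 1
    rw [← he]; push_cast; ring
  let e' : W4c5cohrankabvar.twist A G L L' d ((e : ℤ) * (d : ℤ)) ≅
      CohB1.tensorMod (W4c5cohrankabvar.twist A F L L' (b * d) (c * d * ((b * b : ℕ) : ℤ))) M :=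
    M2.tensorIso eM (Iso.refl _) ≪≫ M2.tensorAssoc _ _ _ ≪≫ M2.tensorIso (Iso.refl _) (M2.tensorComm _ _) ≪≫
      (M2.tensorAssoc _ _ _).symm ≪≫
      M2.tensorIso (M2.tensorAssoc _ _ _ ≪≫ M2.tensorIso (Iso.refl _) ez) (Iso.refl M)
  rw [hgen_congr e', hgen_shift hP hφ hξ hL _ hM hInv, mul_comm b d,
    hgen_twist_rescale hφ hP hξ hg hL hLL' hF i d (c * d) b hb] at h
  have hq := congrArg (Int.cast (R := ℚ)) h
  push_cast at hq
  rw [hev] at hq
  have hχ : (0 : ℚ) < (@Curv2.euler k _ A.left ⟨A.hom⟩ L : ℚ) := by exact_mod_cast euler_pos hL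
  have heq : (0 : ℚ) < e := by exact_mod_cast he0
  rw [← hse, one_div_div, div_pow, div_eq_div_iff (by positivity) (by positivity)]
  refine mul_left_cancel₀ (pow_ne_zero g heq.ne') ?_
  rw [div_mul_eq_mul_div, div_mul_eq_mul_div, mul_div_assoc', eq_div_iff (by positivity)]
  rw [mul_pow] at hq
  ring_nf at hq ⊢
  linarith

end Groth.Agent.FMHyp13

end
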