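import Groth.Agent.Lib.FMHyp13.ExchangeConc
import Groth.Agent.Lib.FMHyp13.NearZero

/-!
# Twists of twists
-/

set_option autoImplicit false
set_option linter.style.haveILetI false
set_option linter.unusedSectionVars false
set_option backward.isDefEq.respectTransparency false
set_option backward.isDefEq.respectTransparency.types false
set_option maxHeartbeats 1600000

universe u

open CategoryTheory CategoryTheory.Limits MonoidalCategory CartesianMonoidalCategory AlgebraicGeometry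
open scoped MonObj GrpObj

attribute [local instance] HasDerivedCategory.standard

noncomputable section

namespace Groth.Agent.FMHyp13

open DMon9 DBC9 TwistBC9 FMBase13 Groth.Agent Groth.Agent.RosTrace22

noncomputable local instance instLawTwistPow (Y : Scheme.{u}) : PicGrp.Law Y := M2.law Y

variable {k : Type u} [Field k] [IsAlgClosed k] {A At : Over (Spec (CommRingCat.of k))} [GrpObj A] [GrpObj At]
  [IsProper A.hom] [Smooth A.hom] [GeometricallyConnected A.hom]
  [IsProper At.hom] [Smooth At.hom] [GeometricallyConnected At.hom]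
  {φ : AgPol.DualMap A At} (hφ : AbDual.IsDualAV Scheme.fppfPrecoverage A At φ)
  {P : (PicF.XT A.hom At).Modules} (hP : PicF.IsInvertible P) (hξ : AbDual.IsPoincareCl A At φ (PicF.cl P))
  {g : ℕ} {L L' : A.left.Modules} (hL : CohB1.IsAmple L)
  (hLL' : Nonempty (CohB1.tensorMod L L' ≅ Coh.structureModule A.left))

include hL hLL' in
/-- The pullback of a power under a multiplication is a power up to a translation invariant module. -/
theorem exists_pull_pow_zpow [GeometricallyIntegral A.hom] (b : ℕ) (e : ℤ) :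
    ∃ (N : A.left.Modules) (hN : PicF.IsInvertible N), AlgEquiv22.Inv (PicGrp.cls N hN) ∧
      Nonempty ((Scheme.Modules.pullback ((𝟙 A) ^ b).left).obj (W4c5cohrankabvar.zpow L L' e) ≅
        CohB1.tensorMod (W4c5cohrankabvar.zpow L L' (e * ((b * b : ℕ) : ℤ))) N) := by
  have hL' := isInvertible_of_ample_inverse hL.1 hLL'
  obtain ⟨N, hN, hI, ⟨i⟩⟩ := exists_pull_pow_twist (A := A) (Coh.structureModule A.left) hL.1 hL' hLL' 1 e b
  let t : ∀ (c : ℕ) (m : ℤ), W4c5cohrankabvar.twist A (Coh.structureModule A.left) L L' c m ≅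
      W4c5cohrankabvar.zpow L L' m := fun c m =>
    M2.tensorIso (PicLoc.pullbackStructureIso _) (Iso.refl _) ≪≫ M2.tensorLUnit _
  exact ⟨N, hN, hI, ⟨(Scheme.Modules.pullback _).mapIso (t 1 e).symm ≪≫ i ≪≫ M2.tensorIso (t _ _) (Iso.refl N)⟩⟩

include hL hLL' in
/-- A twist of a twisted module is a twist up to a translation invariant module. -/
theorem exists_twist_zpow [GeometricallyIntegral A.hom] (F : A.left.Modules) (b : ℕ) (m e : ℤ) :
    ∃ (N : A.left.Modules) (hN : PicF.IsInvertible N), AlgEquiv22.Inv (PicGrp.cls N hN) ∧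
      Nonempty (W4c5cohrankabvar.twist A (CohB1.tensorMod F (W4c5cohrankabvar.zpow L L' e)) L L' b m ≅
        CohB1.tensorMod (W4c5cohrankabvar.twist A F L L' b (m + e * ((b * b : ℕ) : ℤ))) N) := by
  have hL' := isInvertible_of_ample_inverse hL.1 hLL'
  obtain ⟨N, hN, hI, ⟨i⟩⟩ := exists_pull_pow_zpow hL hLL' b e
  have hz := isInvertible_zpow hL.1 hL'
  obtain ⟨j⟩ : Nonempty (CohB1.tensorMod (CohB1.tensorMod (W4c5cohrankabvar.zpow L L' (e * ((b * b : ℕ) : ℤ))) N)
      (W4c5cohrankabvar.zpow L L' m) ≅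
      CohB1.tensorMod (W4c5cohrankabvar.zpow L L' (m + e * ((b * b : ℕ) : ℤ))) N) := by
    refine FMBase13.nonempty_iso_of_cls (hL := M2.isInvertible_tensor (M2.isInvertible_tensor (hz _) hN) (hz _))
      (hM := M2.isInvertible_tensor (hz _) hN) ?_
    rw [← AlgEquiv22.cls_tensor (M2.isInvertible_tensor (hz _) hN) (hz _), ← AlgEquiv22.cls_tensor (hz _) hN,
      ← AlgEquiv22.cls_tensor (hz _) hN, cls_zpow hL.1 hL' hLL', cls_zpow hL.1 hL' hLL', cls_zpow hL.1 hL' hLL',
      zpow_add, mul_right_comm, mul_comm (PicGrp.cls L hL.1 ^ (e * _))]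
  exact ⟨N, hN, hI, ⟨M2.tensorIso (M2.pullTensorIso _ _ _ ≪≫ M2.tensorIso (Iso.refl _) i) (Iso.refl _) ≪≫
    M2.tensorAssoc _ _ _ ≪≫ M2.tensorIso (Iso.refl _) j ≪≫ (M2.tensorAssoc _ _ _).symm⟩⟩

include hφ hP hξ hL hLL' in
/-- The generic dimensions of a twist of a twisted module. -/
theorem hgen_twist_zpow [GeometricallyIntegral A.hom] (F : A.left.Modules) (b : ℕ) (m e : ℤ) (i : ℕ) :
    W4c5cohrankabvar.hgen k P (W4c5cohrankabvar.twist A (CohB1.tensorMod F (W4c5cohrankabvar.zpow L L' e)) L L' b m) i =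
      W4c5cohrankabvar.hgen k P (W4c5cohrankabvar.twist A F L L' b (m + e * ((b * b : ℕ) : ℤ))) i := by
  obtain ⟨N, hN, hI, ⟨j⟩⟩ := exists_twist_zpow hL hLL' F b m e
  rw [hgen_congr j, hgen_shift hP hφ hξ hL _ hN hI]

include hφ hP hξ hL hLL' in
/-- The generic dimensions of a negative twist from a transform concentrated in degree zero. -/
theorem hgen_exchange_scaled (hg : topologicalKrullDim A.left = g) {G : A.left.Modules} (hG : Coh.IsCoh G)
    (f : A ⟶ At) (hf : f = lamOf φ (PicGrp.cls L hL.1)) (hc0 : ∀ i : ℤ, i ≠ 0 → IsZero (fmH P G i))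
    (a b : ℕ) (ha : 0 < a) (hb : 0 < b) (j : ℕ) :
    @Curv2.euler k _ A.left ⟨A.hom⟩ (CohB1.tensorPow L (a * b)) *
        ((W4c5cohrankabvar.hgen k P (W4c5cohrankabvar.twist A G L L' b (-((a : ℤ) * (b : ℤ)))) j : ℕ) : ℤ) =
      (b : ℤ) ^ (2 * g) * ((W4c5cohrankabvar.hgen k P
        (W4c5cohrankabvar.twist A ((Scheme.Modules.pullback f.left).obj (fmH P G (0 : ℤ))) L L' a
          ((a : ℤ) * (b : ℤ))) j : ℕ) : ℤ) := by
  haveI : GeometricallyIntegral A.hom := AbRigid.geometricallyIntegral_of_smooth A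
  haveI := isCommMonObj_of_isProper_of_geometricallyIntegral A
  haveI : IsLocallyNoetherian A.left := LocallyOfFiniteType.isLocallyNoetherian A.hom
  letI : A.left.Over (Spec (CommRingCat.of k)) := ⟨A.hom⟩
  have hLa : CohB1.IsAmple (CohB1.tensorPow L a) := (Amp.isAmple_tensorPow_iff hL.1 ha).2 hL
  let fa : A ⟶ At := lamOf φ (PicGrp.cls (CohB1.tensorPow L a) hLa.1)
  have hfa : fa = ((𝟙 A) ^ a) ≫ f := by
    rw [hf, ← lamOf_pow hφ hP hξ]
    exact congrArg (lamOf φ) (FGA3.cls_tensorPow hL.1 a)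
  let e1 := M2.tensorPowPow L a b
  let e1' := M2.tensorPowPow L' a b
  let eR : CohB1.tensorMod ((Scheme.Modules.pullback fa.left).obj (fmH P G (0 : ℤ)))
      (CohB1.tensorPow (CohB1.tensorPow L a) b) ≅
      W4c5cohrankabvar.twist A ((Scheme.Modules.pullback f.left).obj (fmH P G (0 : ℤ))) L L' a ((a : ℤ) * (b : ℤ)) :=
    M2.tensorIso ((Scheme.Modules.pullbackCongr ((congrArg Over.Hom.left hfa).trans
        (Over.comp_left _ _ _ _ _))).app _ ≪≫ ((Scheme.Modules.pullbackComp _ _).app _).symm)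
      (e1 ≪≫ eqToIso (by rw [← Nat.cast_mul]; rfl))
  have h := hgen_exchange_conc hφ hP hξ hLa (nonempty_tensorPow_inverse hLL' a) hg hG hb fa rfl hc0 j
  have hneg : W4c5cohrankabvar.zpow L L' (-((a : ℤ) * (b : ℤ))) = CohB1.tensorPow L' (a * b) := by
    obtain ⟨m, hm⟩ : ∃ m, a * b = m + 1 := ⟨a * b - 1, by have := Nat.mul_pos ha hb; omega⟩
    rw [← Nat.cast_mul, hm, show -((m + 1 : ℕ) : ℤ) = Int.negSucc m from rfl]
    rfl
  let eF : CohB1.tensorMod ((Scheme.Modules.pullback ((𝟙 A) ^ b).left).obj G)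
      (CohB1.tensorPow (CohB1.tensorPow L' a) b) ≅
      W4c5cohrankabvar.twist A G L L' b (-((a : ℤ) * (b : ℤ))) :=
    M2.tensorIso (Iso.refl _) (e1' ≪≫ eqToIso hneg.symm)
  rw [hgen_congr eF, hgen_congr eR, CurveCoh17.euler_iso e1] at h
  exact h

end Groth.Agent.FMHyp13

end
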