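import Groth.Agent.Lib.FMHyp13.TwistedLoci
import Groth.Agent.Lib.AbDual22.Transpose

/-!
# Twisted vanishing is invariant under isogenies
-/

set_option autoImplicit false
set_option linter.style.haveILetI false
set_option linter.unusedSectionVars false
set_option backward.isDefEq.respectTransparency false
set_option backward.isDefEq.respectTransparency.types false
set_option maxHeartbeats 1600000

universe u

open CategoryTheory CategoryTheory.Limits MonoidalCategory CartesianMonoidalCategory AlgebraicGeometry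
open TopologicalSpace
open scoped MonObj GrpObj

attribute [local instance] HasDerivedCategory.standard

noncomputable section

namespace Groth.Agent.FMHyp13

open DMon9 DBC9 TwistBC9 FMBase13 Groth.Agent.AgPol22

noncomputable local instance instLawTwIsog (Y : Scheme.{u}) : PicGrp.Law Y := M2.law Y

section pullback

variable {X Y : Scheme.{u}} (f : Y ⟶ X)

/-- Pullback commutes with tensor powers. -/
theorem nonempty_pull_tensorPow (M : X.Modules) : ∀ n : ℕ,
    Nonempty ((Scheme.Modules.pullback f).obj (CohB1.tensorPow M n) ≅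
      CohB1.tensorPow ((Scheme.Modules.pullback f).obj M) n)
  | 0 => ⟨PicLoc.pullbackStructureIso f⟩
  | n + 1 => by
    obtain ⟨e⟩ := nonempty_pull_tensorPow M n
    exact ⟨M2.pullTensorIso _ _ _ ≪≫ M2.tensorIso e (Iso.refl _)⟩

/-- Pullback commutes with integral powers. -/
theorem nonempty_pull_zpow (L L' : X.Modules) : ∀ m : ℤ,
    Nonempty ((Scheme.Modules.pullback f).obj (W4c5cohrankabvar.zpow L L' m) ≅
      W4c5cohrankabvar.zpow ((Scheme.Modules.pullback f).obj L) ((Scheme.Modules.pullback f).obj L') m)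
  | Int.ofNat n => nonempty_pull_tensorPow f L n
  | Int.negSucc n => nonempty_pull_tensorPow f L' (n + 1)

/-- A finite surjective morphism preserves the dimension. -/
theorem dim_eq_of_finite_surjective [IsFinite f] [Surjective f] :
    topologicalKrullDim X = topologicalKrullDim Y := by
  have h := dim_image_of_finite f (isClosed_univ (X := Y))
  rw [Set.image_univ, f.surjective.range_eq] at h
  exact ((Homeomorph.Set.univ X).isHomeomorph.topologicalKrullDim_eq).symm.trans
    (h.trans (Homeomorph.Set.univ Y).isHomeomorph.topologicalKrullDim_eq)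

end pullback

variable {k : Type u} [Field k]

/-- Twists pull back along homomorphisms. -/
theorem nonempty_pull_twist {A B : Over (Spec (CommRingCat.of k))} [GrpObj A] [GrpObj B] (f : B ⟶ A) [IsMonHom f]
    (F L L' : A.left.Modules) (b : ℕ) (m : ℤ) :
    Nonempty ((Scheme.Modules.pullback f.left).obj (W4c5cohrankabvar.twist A F L L' b m) ≅
      W4c5cohrankabvar.twist B ((Scheme.Modules.pullback f.left).obj F) ((Scheme.Modules.pullback f.left).obj L)
        ((Scheme.Modules.pullback f.left).obj L') b m) := by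
  obtain ⟨z⟩ := nonempty_pull_zpow f.left L L' m
  have h : f.left ≫ ((𝟙 A) ^ b).left = ((𝟙 B) ^ b).left ≫ f.left := by
    rw [← Over.comp_left, ← Over.comp_left, MonObj.comp_pow, Category.comp_id, MonObj.pow_comp, Category.id_comp]
  exact ⟨M2.pullTensorIso _ _ _ ≪≫ M2.tensorIso
    ((Scheme.Modules.pullbackComp _ _).app F ≪≫ (Scheme.Modules.pullbackCongr h).app F ≪≫
      ((Scheme.Modules.pullbackComp _ _).app F).symm) z⟩

variable [IsAlgClosed k] {A At : Over (Spec (CommRingCat.of k))} [GrpObj A] [GrpObj At]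
  [IsProper A.hom] [Smooth A.hom] [GeometricallyConnected A.hom]
  [IsProper At.hom] [Smooth At.hom] [GeometricallyConnected At.hom]
  {φ : AgPol.DualMap A At} (hφ : AbDual.IsDualAV Scheme.fppfPrecoverage A At φ)
  {P : (PicF.XT A.hom At).Modules} (hP : PicF.IsInvertible P) (hξ : AbDual.IsPoincareCl A At φ (PicF.cl P))

include hP in
/-- Isomorphic modules have the same twisted cohomology vanishing. -/
theorem hAt_eq_zero_congr {G G' : A.left.Modules} (e : G ≅ G') (hG : Coh.IsCoh G)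
    (α : 𝟙_ (Over (Spec (CommRingCat.of k))) ⟶ At) (i : ℕ) :
    W4c5cohrankabvar.hAt k P G α i = 0 ↔ W4c5cohrankabvar.hAt k P G' α i = 0 := by
  rw [hAt_eq_zero_iff hP hG, hAt_eq_zero_iff hP (CohFound.isCoh_of_iso e hG)]
  exact (CBC10.hmapEquiv (M2.tensorIso e (Iso.refl _)) i).toEquiv.subsingleton_congr

include hP hξ hφ in
/-- Pulling back along the inverse inverts the twist. -/
theorem hAt_inv {G : A.left.Modules} (hG : Coh.IsCoh G) (α : 𝟙_ (Over (Spec (CommRingCat.of k))) ⟶ At) (i : ℕ) :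
    W4c5cohrankabvar.hAt k P ((Scheme.Modules.pullback ((𝟙 A)⁻¹).left).obj G) α i = 0 ↔
      W4c5cohrankabvar.hAt k P G α⁻¹ i = 0 := by
  let j := ((𝟙 A)⁻¹ : A ⟶ A)
  have hj : j.left ≫ j.left = 𝟙 A.left := by
    rw [← Over.comp_left, GrpObj.comp_inv, Category.comp_id, inv_inv, Over.id_left]
  haveI : IsIso j.left := ⟨j.left, hj, hj⟩
  rw [hAt_eq_zero_iff hP (M1.isCoh_pullback _ hG), hAt_eq_zero_iff hP hG]
  have hQ : Coh.IsQCoh (CohB1.tensorMod G (W4c5cohrankabvar.ptLB P α⁻¹)) :=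
    (CohFound.isCoh_tensor hG (CubeField.isCoh_of_isInvertible (PicLoc.isInvertible_pullback _ hP))).1
  obtain ⟨e⟩ : Nonempty ((Scheme.Modules.pullback j.left).obj (W4c5cohrankabvar.ptLB P α⁻¹) ≅
      W4c5cohrankabvar.ptLB P α) := by
    refine FMBase13.nonempty_iso_of_cls
      (hL := PicLoc.isInvertible_pullback _ (PicLoc.isInvertible_pullback _ hP))
      (hM := PicLoc.isInvertible_pullback _ hP) ?_
    rw [← PicGrp.pullHom_cls j.left (M2.pullMul _) (W4c5cohrankabvar.ptLB P α⁻¹)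
        (PicLoc.isInvertible_pullback _ hP), ← FMBase13.ev_eq_cls hP hξ, ← FMBase13.ev_eq_cls hP hξ]
    show pb j (ev hξ (𝟙 A) (toUnit A ≫ α⁻¹)) = _
    have hl : ∀ (x : A ⟶ A) (y : A ⟶ At), ev hξ x⁻¹ y = (ev hξ x y)⁻¹ := fun x y => by
      refine eq_inv_of_mul_eq_one_left ?_
      rw [← FMBase13.ev_mul_left hξ hφ, inv_mul_cancel, ev_one_left]
    have hr : ∀ (x : A ⟶ A) (y : A ⟶ At), ev hξ x y⁻¹ = (ev hξ x y)⁻¹ := fun x y => by
      refine eq_inv_of_mul_eq_one_left ?_
      rw [← ev_mul_right hφ hξ, inv_mul_cancel, ev_one_right hφ hξ]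
    rw [pb_ev, Category.comp_id, ← Category.assoc, toUnit_unique (j ≫ toUnit A) (toUnit A), GrpObj.comp_inv,
      hl, hr, inv_inv]
  refine Iff.trans ?_ (subsingleton_HH_iso_iff j.left hQ i)
  exact (CBC10.hmapEquiv (M2.tensorIso (Iso.refl _) e.symm ≪≫ (M2.pullTensorIso _ _ _).symm) i).toEquiv.subsingleton_congr

include hP hξ hφ in
theorem it0_inv {G : A.left.Modules} (hG : Coh.IsCoh G) :
    (∀ (i : ℕ) (α : 𝟙_ (Over (Spec (CommRingCat.of k))) ⟶ At), 1 ≤ i →
        W4c5cohrankabvar.hAt k P ((Scheme.Modules.pullback ((𝟙 A)⁻¹).left).obj G) α i = 0) ↔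
      ∀ (i : ℕ) (α : 𝟙_ (Over (Spec (CommRingCat.of k))) ⟶ At), 1 ≤ i → W4c5cohrankabvar.hAt k P G α i = 0 :=
  ⟨fun h i α hi => by simpa using (hAt_inv hφ hP hξ hG α⁻¹ i).1 (h i α⁻¹ hi),
    fun h i α hi => (hAt_inv hφ hP hξ hG α i).2 (h i α⁻¹ hi)⟩

include hP hξ hφ in
theorem gv_inv {G : A.left.Modules} (hG : Coh.IsCoh G) (g : ℕ) :
    (∀ i : ℕ, 1 ≤ i → ∃ Z : Set ↥At.left, IsClosed Z ∧
        topologicalKrullDim ↥Z < ((g - i + 1 : ℕ) : WithBot ℕ∞) ∧
        ∀ α : 𝟙_ (Over (Spec (CommRingCat.of k))) ⟶ At,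
          0 < W4c5cohrankabvar.hAt k P ((Scheme.Modules.pullback ((𝟙 A)⁻¹).left).obj G) α i →
            Set.range α.left.base ⊆ Z) ↔
      ∀ i : ℕ, 1 ≤ i → ∃ Z : Set ↥At.left, IsClosed Z ∧
        topologicalKrullDim ↥Z < ((g - i + 1 : ℕ) : WithBot ℕ∞) ∧
        ∀ α : 𝟙_ (Over (Spec (CommRingCat.of k))) ⟶ At, 0 < W4c5cohrankabvar.hAt k P G α i →
          Set.range α.left.base ⊆ Z := by
  let j := ((𝟙 At)⁻¹ : At ⟶ At)
  have hj : j.left ≫ j.left = 𝟙 At.left := by
    rw [← Over.comp_left, GrpObj.comp_inv, Category.comp_id, inv_inv, Over.id_left]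
  haveI : IsIso j.left := ⟨j.left, hj, hj⟩
  have hjj : ∀ x, j.left (j.left x) = x := fun x => by
    rw [← Scheme.Hom.comp_apply, hj]; rfl
  have hα : ∀ α : 𝟙_ (Over (Spec (CommRingCat.of k))) ⟶ At, CubeField.rpt α⁻¹ = j.left (CubeField.rpt α) :=
    fun α => by
      rw [show α⁻¹ = α ≫ j by rw [GrpObj.comp_inv, Category.comp_id]]
      rfl
  constructor <;> intro h i hi <;> obtain ⟨Z, hZ, hd, hsub⟩ := h i hi <;>
    refine ⟨j.left '' Z, Scheme.Hom.isClosedMap j.left Z hZ, (dim_image_of_finite j.left hZ).symm ▸ hd,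
      fun α hpos => ?_⟩ <;>
    rw [range_base_eq, Set.singleton_subset_iff] <;>
    refine ⟨CubeField.rpt α⁻¹, (hsub α⁻¹ (Nat.pos_of_ne_zero fun h0 => hpos.ne' ?_)) (range_base_eq α⁻¹ ▸ rfl), by
      rw [hα, hjj]⟩
  · simpa using (hAt_inv hφ hP hξ hG α⁻¹ i).1 h0
  · exact (hAt_inv hφ hP hξ hG α i).2 h0

variable {B Bt : Over (Spec (CommRingCat.of k))} [GrpObj B] [GrpObj Bt]
  [IsProper B.hom] [Smooth B.hom] [GeometricallyConnected B.hom]
  [IsProper Bt.hom] [Smooth Bt.hom] [GeometricallyConnected Bt.hom]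
  {ψ : AgPol.DualMap B Bt} (hψ : AbDual.IsDualAV Scheme.fppfPrecoverage B Bt ψ)
  {Q : (PicF.XT B.hom Bt).Modules} (hQ : PicF.IsInvertible Q) (hη : AbDual.IsPoincareCl B Bt ψ (PicF.cl Q))

include hφ hP hξ hψ hQ hη in
/-- The supports of the transform of an inverse image along an isogeny. -/
theorem exists_support_pullback (f : B ⟶ A) [IsMonHom f] [IsFinite f.left] [Surjective f.left]
    {G : A.left.Modules} (hG : Coh.IsCoh G) :
    ∃ (s : At.left ⟶ Bt.left) (_ : IsFinite s), ∀ i : ℤ,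
      CohB1.support (fmH Q ((Scheme.Modules.pullback f.left).obj G) i) =
        s '' CohB1.support (fmH P ((Scheme.Modules.pullback ((𝟙 A)⁻¹).left).obj G) i) := by
  haveI : GeometricallyIntegral A.hom := AbRigid.geometricallyIntegral_of_smooth A
  haveI : GeometricallyIntegral B.hom := AbRigid.geometricallyIntegral_of_smooth B
  haveI : IsIntegral A.left := GeometricallyIntegral.isIntegral_of_subsingleton A.hom
  haveI : Flat f.left := AbRigid.flat_of_surjective_of_isReduced B A f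
  haveI : LocallyOfFinitePresentation (f.left ≫ A.hom) := by rw [Over.w]; infer_instance
  haveI : LocallyOfFinitePresentation f.left := SchBasic.locallyOfFinitePresentation_of_comp f.left A.hom
  obtain ⟨d, hd⟩ : ∃ d, ∀ x : A.left, f.left.finrank x = d :=
    ⟨_, fun x => (Scheme.Hom.isLocallyConstant_finrank f.left).apply_eq_of_preconnectedSpace x
      (η[A].left (IsLocalRing.closedPoint k))⟩
  obtain ⟨ft, hft⟩ := AbDual22.exists_transpose hψ hφ f
  obtain ⟨hf₁, -, -, -⟩ := AbDual22.transpose_isogeny hψ hφ f hd hft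
  haveI := hf₁
  obtain ⟨g, hg⟩ := Index22.exists_dim (A := A)
  have hgB : topologicalKrullDim B.left = g := (dim_eq_of_finite_surjective f.left).symm.trans hg
  have hjB : ((𝟙 Bt)⁻¹).left ≫ ((𝟙 Bt)⁻¹).left = 𝟙 Bt.left := by
    rw [← Over.comp_left, GrpObj.comp_inv, Category.comp_id, inv_inv, Over.id_left]
  haveI : IsIso ((𝟙 Bt)⁻¹).left := ⟨_, hjB, hjB⟩
  haveI : IsLocallyNoetherian At.left := LocallyOfFiniteType.isLocallyNoetherian At.hom
  haveI : IsLocallyNoetherian Bt.left := LocallyOfFiniteType.isLocallyNoetherian Bt.hom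
  refine ⟨ft.left ≫ ((𝟙 Bt)⁻¹).left, inferInstance, fun i => ?_⟩
  obtain ⟨e⟩ := nonempty_HD_transform_pullback hφ hP hξ hψ hQ hη hg hgB f hft hG i
  have hc := isCoh_fmH hP (M1.isCoh_pullback ((𝟙 A)⁻¹).left hG) i
  rw [support_iso e, support_push_finite _ (Cyc26.isCoh_push_finite ft.left hc), support_push_finite _ hc,
    ← Set.image_comp]
  rfl

include hφ hP hξ hψ hQ hη in
/-- Vanishing of the higher twisted cohomology is invariant under isogenies. -/
theorem it0_pullback_iff (f : B ⟶ A) [IsMonHom f] [IsFinite f.left] [Surjective f.left]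
    {G : A.left.Modules} (hG : Coh.IsCoh G) :
    (∀ (i : ℕ) (α : 𝟙_ (Over (Spec (CommRingCat.of k))) ⟶ At), 1 ≤ i → W4c5cohrankabvar.hAt k P G α i = 0) ↔
      ∀ (i : ℕ) (β : 𝟙_ (Over (Spec (CommRingCat.of k))) ⟶ Bt), 1 ≤ i →
        W4c5cohrankabvar.hAt k Q ((Scheme.Modules.pullback f.left).obj G) β i = 0 := by
  obtain ⟨s, hs, hsupp⟩ := exists_support_pullback hφ hP hξ hψ hQ hη f hG
  rw [← it0_inv hφ hP hξ hG, it0_iff hP (M1.isCoh_pullback _ hG), it0_iff hQ (M1.isCoh_pullback _ hG)]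
  simp only [hsupp, Set.image_eq_empty]

include hφ hP hξ hψ hQ hη in
/-- Generic vanishing is invariant under isogenies. -/
theorem gv_pullback_iff (f : B ⟶ A) [IsMonHom f] [IsFinite f.left] [Surjective f.left]
    {G : A.left.Modules} (hG : Coh.IsCoh G) (g : ℕ) :
    (∀ i : ℕ, 1 ≤ i → ∃ Z : Set ↥At.left, IsClosed Z ∧
        topologicalKrullDim ↥Z < ((g - i + 1 : ℕ) : WithBot ℕ∞) ∧
        ∀ α : 𝟙_ (Over (Spec (CommRingCat.of k))) ⟶ At, 0 < W4c5cohrankabvar.hAt k P G α i →
          Set.range α.left.base ⊆ Z) ↔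
      ∀ i : ℕ, 1 ≤ i → ∃ Z : Set ↥Bt.left, IsClosed Z ∧
        topologicalKrullDim ↥Z < ((g - i + 1 : ℕ) : WithBot ℕ∞) ∧
        ∀ β : 𝟙_ (Over (Spec (CommRingCat.of k))) ⟶ Bt,
          0 < W4c5cohrankabvar.hAt k Q ((Scheme.Modules.pullback f.left).obj G) β i →
            Set.range β.left.base ⊆ Z := by
  obtain ⟨s, hs, hsupp⟩ := exists_support_pullback hφ hP hξ hψ hQ hη f hG
  rw [← gv_inv hφ hP hξ hG g, gv_iff hP (M1.isCoh_pullback _ hG), gv_iff hQ (M1.isCoh_pullback _ hG)]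
  refine forall₂_congr fun i _ => ?_
  rw [hsupp, dim_image_of_finite s (M1.isClosed_support
    (isCoh_fmH hP (M1.isCoh_pullback ((𝟙 A)⁻¹).left hG) (i : ℤ)).2)]

end Groth.Agent.FMHyp13

end

namespace Groth.Agent.FMHyp13

section zpow

variable {X : Scheme.{u}} {L L' : X.Modules}

theorem isInvertible_of_ample_inverse (hL : PicF.IsInvertible L)
    (hLL' : Nonempty (CohB1.tensorMod L L' ≅ Coh.structureModule X)) : PicF.IsInvertible L' :=
  hLL'.elim fun e => M2.isInvertible_of_tensor_iso hL (M2.tensorComm _ _ ≪≫ e)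

theorem isInvertible_zpow (hL : PicF.IsInvertible L) (hL' : PicF.IsInvertible L') :
    ∀ m : ℤ, PicF.IsInvertible (W4c5cohrankabvar.zpow L L' m)
  | Int.ofNat n => M2.isInvertible_tensorPow hL n
  | Int.negSucc n => M2.isInvertible_tensorPow hL' (n + 1)

/-- A twist of a coherent module is coherent. -/
theorem isCoh_twist {k : Type u} [Field k] {A : Over (Spec (CommRingCat.of k))} [GrpObj A] [LocallyOfFiniteType A.hom]
    {F L L' : A.left.Modules} (hF : Coh.IsCoh F) (hL : PicF.IsInvertible L) (hL' : PicF.IsInvertible L')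
    (b : ℕ) (m : ℤ) : Coh.IsCoh (W4c5cohrankabvar.twist A F L L' b m) :=
  CohFound.isCoh_tensor (M1.isCoh_pullback _ hF) (CubeField.isCoh_of_isInvertible (isInvertible_zpow hL hL' m))

end zpow

end Groth.Agent.FMHyp13
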