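import Groth.Prelude.Def_W4c5cohrankabvarRk
import Groth.Agent.Lib.FMHyp13.IsogTransform
import Groth.Agent.Lib.FMHyp13.Fibres
import Groth.Agent.Lib.FMHyp13.HyperSingle
import Groth.Agent.Lib.CohFound.ProperFinite
import Groth.Agent.Lib.Snapper.Positive
import Groth.Agent.Lib.H12.Dim
import Groth.Agent.Lib.ProperFormalH7.SuppPush
import Groth.Agent.Lib.Cyc26.PushFin
import Groth.Agent.Lib.SheafVan16.Noetherian

/-!
# Loci of a module and the supports of its transform
-/

set_option autoImplicit false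
set_option linter.style.haveILetI false
set_option linter.unusedSectionVars false
set_option backward.isDefEq.respectTransparency false
set_option backward.isDefEq.respectTransparency.types false
set_option maxHeartbeats 1600000

universe u

open CategoryTheory CategoryTheory.Limits MonoidalCategory CartesianMonoidalCategory AlgebraicGeometry
open TopologicalSpace
open scoped MonObj GrpObj

attribute [local instance] HasDerivedCategory.standard

noncomputable section

namespace Groth.Agent.FMHyp13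

open DMon9 DBC9 TwistBC9 FMBase13

attribute [local instance] DBC9.hasRpush

section topology

/-- Finite unions of closed sets of dimension less than a bound. -/
theorem dim_biUnion_lt {X : Scheme.{u}} {I : Type*} (s : Finset I) (Z : I → Set X)
    (hZ : ∀ i ∈ s, IsClosed (Z i)) {d : ℕ}
    (h : ∀ i ∈ s, topologicalKrullDim ↥(Z i) < ((d + 1 : ℕ) : WithBot ℕ∞)) :
    topologicalKrullDim ↥(⋃ i ∈ s, Z i) < ((d + 1 : ℕ) : WithBot ℕ∞) := by
  classical
  have key : ∀ {x : WithBot ℕ∞}, x < ((d + 1 : ℕ) : WithBot ℕ∞) ↔ x ≤ ((d : ℕ) : WithBot ℕ∞) := fun {x} => by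
    induction x using WithBot.recBotCoe with
    | bot => exact ⟨fun _ => bot_le, fun _ => WithBot.bot_lt_coe _⟩
    | coe a =>
      induction a using ENat.recTopCoe with
      | top => exact ⟨fun h => absurd h (not_lt.2 (WithBot.coe_le_coe.2 le_top)),
          fun h => absurd h (not_le.2 (WithBot.coe_lt_coe.2 (ENat.coe_lt_top d)))⟩
      | coe m =>
        constructor
        · intro h; have : m < d + 1 := by exact_mod_cast h
          exact_mod_cast (show m ≤ d by omega)
        · intro h; have : m ≤ d := by exact_mod_cast h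
          exact_mod_cast (show m < d + 1 by omega)
  simp only [key] at h ⊢
  induction s using Finset.induction with
  | empty =>
    haveI : IsEmpty ↥(⋃ i ∈ (∅ : Finset I), Z i) := ⟨fun ⟨x, hx⟩ => by simp at hx⟩
    haveI : IsEmpty (IrreducibleCloseds ↥(⋃ i ∈ (∅ : Finset I), Z i)) :=
      ⟨fun c => IsEmpty.false c.2.nonempty.some⟩
    rw [topologicalKrullDim, Order.krullDim_eq_bot]
    exact bot_le
  | insert a s ha ih =>
    rw [Finset.set_biUnion_insert]
    have h2 := ih (fun i hi => hZ i (Finset.mem_insert_of_mem hi)) fun i hi => h i (Finset.mem_insert_of_mem hi)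
    have hcl : IsClosed (⋃ i ∈ s, Z i) :=
      isClosed_biUnion_finset fun i hi => hZ i (Finset.mem_insert_of_mem hi)
    exact Snapper.dim_union_le (hZ a (Finset.mem_insert_self a s)) hcl (h a (Finset.mem_insert_self a s)) h2

/-- A finite morphism does not change the dimension of a closed set. -/
theorem dim_image_of_finite {X Y : Scheme.{u}} (f : X ⟶ Y) [IsFinite f] {Z : Set X} (hZ : IsClosed Z) :
    topologicalKrullDim ↥(f '' Z) = topologicalKrullDim ↥Z := by
  haveI : QuasiSober ↥Z := hZ.isClosedEmbedding_subtypeVal.quasiSober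
  have hfZ : IsClosed (f '' Z) := Scheme.Hom.isClosedMap f Z hZ
  haveI : QuasiSober ↥(f '' Z) := hfZ.isClosedEmbedding_subtypeVal.quasiSober
  let F : ↥Z → ↥(f '' Z) := fun z => ⟨f z.1, z.1, z.2, rfl⟩
  have hF : Continuous F := Continuous.subtype_mk (f.continuous.comp continuous_subtype_val) _
  refine le_antisymm (H12.topologicalKrullDim_le_of_surjective_of_lift F ?_ (Or.inl ?_))
    (H12.topologicalKrullDim_le_of_eq_of_specializes F hF fun a b hab h => Subtype.ext ?_)
  · rintro ⟨_, z, hz, rfl⟩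
    exact ⟨⟨z, hz⟩, rfl⟩
  · refine IsClosedMap.specializingMap fun C hC => ?_
    have h1 : IsClosed (f '' (Subtype.val '' C)) :=
      Scheme.Hom.isClosedMap f _ (hZ.isClosedEmbedding_subtypeVal.isClosedMap C hC)
    convert h1.preimage continuous_subtype_val using 1
    ext y
    constructor
    · rintro ⟨c, hc, rfl⟩; exact ⟨c.1, ⟨c, hc, rfl⟩, rfl⟩
    · rintro ⟨_, ⟨c, hc, rfl⟩, hy⟩; exact ⟨c, hc, Subtype.ext hy⟩
  · exact H12.eq_of_specializes_of_isIntegralHom f (hab.map continuous_subtype_val) (congrArg Subtype.val h)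

/-- The support of a finite direct image is the image of the support. -/
theorem support_push_finite {X Y : Scheme.{u}} [IsLocallyNoetherian Y] (f : X ⟶ Y) [IsFinite f] {M : X.Modules}
    (hM : Coh.IsCoh M) : CohB1.support ((Scheme.Modules.pushforward f).obj M) = f '' CohB1.support M := by
  refine Set.Subset.antisymm
    (ProperFormalH7.support_push_subset f (Scheme.Hom.isClosedMap f _ (M1.isClosed_support hM.2))) ?_
  rintro _ ⟨x, hx, rfl⟩
  by_contra hy
  haveI : IsLocallyNoetherian X := LocallyOfFiniteType.isLocallyNoetherian f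
  have hN : Coh.IsCoh ((Scheme.Modules.pushforward f).obj M) :=
    Cyc26.isCoh_push_finite f hM
  obtain ⟨V, hV, hxV, hVW⟩ := exists_isAffineOpen_mem_and_subset
    (U := ⟨_, (M1.isClosed_support hN.2).isOpen_compl⟩) (show f x ∈ _ from hy)
  have hsec : Subsingleton Γ(M, f ⁻¹ᵁ V) := ⟨fun a b =>
    M1.section_ext (M := (Scheme.Modules.pushforward f).obj M) (U := V) a b fun y hyV =>
      @Subsingleton.elim _ (not_not.1 (hVW hyV)) _ _⟩
  have hz := DPush.isZero_restrict_of_sections_affine hM.1 (hV.preimage f) hsec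
  refine hx ?_
  have := AddCommGrpCat.subsingleton_of_isZero
    ((M1.stalkAb (⟨x, hxV⟩ : (f ⁻¹ᵁ V : X.Opens))).map_isZero hz)
  exact (((Scheme.Modules.restrictStalkNatIso (f ⁻¹ᵁ V).ι ⟨x, hxV⟩).app M).addCommGroupIsoToAddEquiv.toEquiv.subsingleton_congr).1
    this

end topology

variable {k : Type u} [Field k] [IsAlgClosed k] {A At : Over (Spec (CommRingCat.of k))}
  [IsProper A.hom] [Smooth A.hom] [IsProper At.hom] [Smooth At.hom]
  {P : (PicF.XT A.hom At).Modules} (hP : PicF.IsInvertible P)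

/-- The cohomology sheaves of the transform of a module. -/
abbrev fmH (P : (PicF.XT A.hom At).Modules) (G : A.left.Modules) (i : ℤ) : At.left.Modules :=
  DCoh.HD ((phiK (fst A At).left (snd A At).left P).obj ((DerivedCategory.singleFunctor A.left.Modules 0).obj G)) i

omit [IsProper At.hom] [Smooth At.hom] in
include hP in
/-- Vanishing of the dimension is vanishing of the group. -/
theorem hAt_eq_zero_iff {G : A.left.Modules} (hG : Coh.IsCoh G)
    (α : 𝟙_ (Over (Spec (CommRingCat.of k))) ⟶ At) (i : ℕ) :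
    W4c5cohrankabvar.hAt k P G α i = 0 ↔
      Subsingleton (Coh.HH A.left (CohB1.tensorMod G (W4c5cohrankabvar.ptLB P α)) i) := by
  letI : A.left.Over (Spec (CommRingCat.of k)) := ⟨A.hom⟩
  haveI : IsProper (A.left ↘ Spec (CommRingCat.of k)) := inferInstanceAs (IsProper A.hom)
  haveI : IsLocallyNoetherian A.left := LocallyOfFiniteType.isLocallyNoetherian A.hom
  haveI := CohFound.finite_HH_of_isProper (A := k) _ (CohFound.isCoh_tensor hG
    (CubeField.isCoh_of_isInvertible (PicLoc.isInvertible_pullback (lift (𝟙 A) (toUnit A ≫ α)).left hP))) i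
  exact Module.finrank_zero_iff

/-- A coherent module in degree zero is perfect on a smooth variety. -/
theorem isPerfect_single {G : A.left.Modules} (hG : Coh.IsCoh G) :
    DCoh.IsPerfect ((DerivedCategory.singleFunctor A.left.Modules 0).obj G) := by
  haveI : IsLocallyNoetherian A.left := LocallyOfFiniteType.isLocallyNoetherian A.hom
  haveI : CompactSpace A.left := QuasiCompact.compactSpace_of_compactSpace A.hom
  let S := (DerivedCategory.singleFunctor A.left.Modules 0).obj G
  have hSc : DCoh.IsCohD S := fun j => by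
    rcases eq_or_ne j 0 with rfl | hj
    · exact BC8.isCoh_iso ((DerivedCategory.singleFunctorCompHomologyFunctorIso A.left.Modules 0).app G).symm hG
    · rcases lt_or_gt_of_ne hj with h | h
      · exact DPerf.isCoh_of_isZero (DerivedCategory.isZero_of_isGE S 0 j h)
      · exact DPerf.isCoh_of_isZero (DerivedCategory.isZero_of_isLE S 0 j h)
  exact DPerf.isPerfect_iff_approx.2 (DPerf.isPerfect_of_regular
    (fun x => SmoothReg17.isRegularLocalRing_stalk A.hom x) 1 0 S inferInstance
    (fun j hj => DerivedCategory.isZero_of_isLE S 0 j (by omega)) hSc)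

include hP in
theorem isCoh_fmH {G : A.left.Modules} (hG : Coh.IsCoh G) (i : ℤ) : Coh.IsCoh (fmH P G i) :=
  (exists_bounds_phiK hP (isPerfect_single hG)).1 i

include hP in
theorem exists_fmH_bound {G : A.left.Modules} (hG : Coh.IsCoh G) :
    ∃ b : ℕ, ∀ i : ℤ, (b : ℤ) < i → CohB1.support (fmH P G i) = ∅ := by
  obtain ⟨-, c, b, -, hb⟩ := exists_bounds_phiK hP (isPerfect_single hG)
  haveI := hb
  refine ⟨b.toNat, fun i hi => Set.eq_empty_iff_forall_notMem.2 fun x hx => hx ?_⟩
  exact AddCommGrpCat.subsingleton_of_isZero ((M1.stalkAb x).map_isZero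
    (DerivedCategory.isZero_of_isLE _ b i (by omega)))

include hP in
/-- A point of a support gives a nonzero twisted cohomology group in at least that degree. -/
theorem exists_hAt_of_mem_support {G : A.left.Modules} (hG : Coh.IsCoh G)
    (t : 𝟙_ (Over (Spec (CommRingCat.of k))) ⟶ At) (j : ℕ) (hj : 1 ≤ j)
    (h : CubeField.rpt t ∈ CohB1.support (fmH P G j)) :
    ∃ l : ℕ, j ≤ l ∧ 0 < W4c5cohrankabvar.hAt k P G t l := by
  haveI : DCoh.HasRΓ A.left := KInjLib.hasRightDerivedFunctor KInjLib.enoughKInj_of_grothendieck _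
  have hp := isPerfect_single (A := A) hG
  obtain ⟨hc, c, b, -, hb⟩ := exists_bounds_phiK hP hp
  haveI := hb
  let Pt := W4c5cohrankabvar.ptLB P t
  have hPt : PicF.IsInvertible Pt := PicLoc.isInvertible_pullback _ hP
  haveI : DCoh.HasLTensorMod Pt := KFlat.Sch.hasLTensorMod _
  obtain ⟨l, hjl, -, hl⟩ := exists_degree hP hp b hc t (j : ℤ) h
  obtain ⟨l, rfl⟩ := Int.eq_ofNat_of_zero_le (show (0 : ℤ) ≤ l by omega)
  refine ⟨l, by omega, Nat.pos_of_ne_zero fun h0 => hl ?_⟩
  obtain ⟨e⟩ := nonempty_modM_tensor G Pt hPt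
  obtain ⟨c⟩ := nonempty_LT_tenF Pt hPt
  refine IsZero.of_iso ?_ ((DerivedCategory.homologyFunctor AddCommGrpCat.{u} (l : ℤ)).mapIso
    ((DCoh.RΓ A.left).mapIso (c.app _ ≪≫ (e : (tenF Pt).obj ((DerivedCategory.singleFunctor _ 0).obj G) ≅
      (DerivedCategory.singleFunctor A.left.Modules 0).obj (CohB1.tensorMod G Pt)))))
  refine isZero_rGamma _ 0 _ fun n p hnp => ?_
  rcases eq_or_ne n 0 with rfl | hn
  · obtain rfl : p = l := by omega
    exact CohFound.subsingleton_hc_of_iso
      ((DerivedCategory.singleFunctorCompHomologyFunctorIso A.left.Modules 0).app _).symm p ⊤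
      ((CohFound.subsingleton_HH_iff _ _).1 ((hAt_eq_zero_iff hP hG t p).1 h0))
  · refine SheafVan16.subsingleton_hc_of_isZero ((CohFound.abF _).map_isZero ?_) p ⊤
    rcases lt_or_gt_of_ne hn with h' | h'
    · exact DerivedCategory.isZero_of_isGE _ 0 n h'
    · exact DerivedCategory.isZero_of_isLE _ 0 n h'

include hP in
/-- A nonzero twisted cohomology group gives a point of a support in at least that degree. -/
theorem exists_mem_support_of_hAt {G : A.left.Modules} (hG : Coh.IsCoh G)
    (t : 𝟙_ (Over (Spec (CommRingCat.of k))) ⟶ At) (i : ℕ) (hi : 1 ≤ i)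
    (h : 0 < W4c5cohrankabvar.hAt k P G t i) :
    ∃ l : ℕ, i ≤ l ∧ CubeField.rpt t ∈ CohB1.support (fmH P G l) := by
  haveI : DCoh.HasRΓ A.left := KInjLib.hasRightDerivedFunctor KInjLib.enoughKInj_of_grothendieck _
  haveI : IsLocallyNoetherian At.left := LocallyOfFiniteType.isLocallyNoetherian At.hom
  haveI : CompactSpace At.left := QuasiCompact.compactSpace_of_compactSpace At.hom
  have hp := isPerfect_single (A := A) hG
  let S := (DerivedCategory.singleFunctor A.left.Modules 0).obj G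
  let X₀ := (phiK (fst A At).left (snd A At).left P).obj S
  obtain ⟨hc, c, b, hc', hb⟩ := exists_bounds_phiK hP hp
  haveI := hc'; haveI := hb
  have hXp : DCoh.IsPerfect X₀ := DPerf.isPerfect_iff_approx.2 (DPerf.isPerfect_of_regular
    (fun x => SmoothReg17.isRegularLocalRing_stalk At.hom x) (b + 1 - c).toNat c X₀ hc'
    (fun j hj => DerivedCategory.isZero_of_isLE X₀ b j (by omega)) hc)
  let Pt := W4c5cohrankabvar.ptLB P t
  have hPt : PicF.IsInvertible Pt := PicLoc.isInvertible_pullback _ hP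
  haveI : DCoh.HasLTensorMod Pt := KFlat.Sch.hasLTensorMod _
  haveI : Subsingleton ↥(𝟙_ (Over (Spec (CommRingCat.of k)))).left := inferInstanceAs (Subsingleton (PrimeSpectrum k))
  by_contra hcon
  push Not at hcon
  refine h.ne' ((hAt_eq_zero_iff hP hG t i).2 ?_)
  obtain ⟨e⟩ := nonempty_modM_tensor G Pt hPt
  obtain ⟨cT⟩ := nonempty_LT_tenF Pt hPt
  refine subsingleton_HH_of_isZero_rGamma _ i hi (IsZero.of_iso ?_ ((DerivedCategory.homologyFunctor AddCommGrpCat.{u} (i : ℤ)).mapIso
    ((DCoh.RΓ A.left).mapIso (cT.app S ≪≫ (e : (tenF Pt).obj ((DerivedCategory.singleFunctor _ 0).obj G) ≅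
      (DerivedCategory.singleFunctor A.left.Modules 0).obj (CohB1.tensorMod G Pt)))).symm))
  -- the fibre of the transform
  have hz : IsZero (DCoh.HD ((lP t.left).obj X₀) (i : ℤ)) := by
    by_contra hne
    obtain ⟨l, hl, hmem⟩ := exists_support_of_not_isZero t.left hXp (IsLocalRing.closedPoint k)
      (fun z => Subsingleton.elim _ _) (i : ℤ) hne
    obtain ⟨l, rfl⟩ := Int.eq_ofNat_of_zero_le (show (0 : ℤ) ≤ l by omega)
    exact hcon l (by omega) hmem
  haveI : IsProper (snd A At).left := inferInstanceAs (IsProper (pullback.snd A.hom At.hom))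
  haveI : Flat (snd A At).left := inferInstanceAs (Flat (pullback.snd A.hom At.hom))
  obtain ⟨bc⟩ := nonempty_phiK_BC (fst A At).left (snd A At).left (isPullback_section (A := A) t) hP
  have h1 : (lift (𝟙 A) (toUnit A ≫ t)).left ≫ (fst A At).left = 𝟙 A.left := by
    rw [← Over.comp_left, lift_fst, Over.id_left]
  let eB : (lP t.left).obj X₀ ≅ (DCoh.Rpush A.hom).obj ((DCoh.LTensorMod Pt).obj S) :=
    bc.app ⟨S, DGen9.isQCohD_of_isPerfect hp⟩ ≪≫ (phiKCongr _ _ h1 _).app S ≪≫
      (DCoh.Rpush A.hom).mapIso ((tenF Pt).mapIso ((lPId A.left).app S) ≪≫ cT.symm.app S)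
  haveI : DCoh.HasRΓ (𝟙_ (Over (Spec (CommRingCat.of k)))).left :=
    KInjLib.hasRightDerivedFunctor KInjLib.enoughKInj_of_grothendieck _
  haveI : DCoh.HasRΓ (Spec (CommRingCat.of k)) :=
    KInjLib.hasRightDerivedFunctor KInjLib.enoughKInj_of_grothendieck _
  obtain ⟨r⟩ := DMV.nonempty_rGamma_rpush A.hom
  refine IsZero.of_iso ?_ ((DerivedCategory.homologyFunctor AddCommGrpCat.{u} (i : ℤ)).mapIso (r.app _).symm)
  let Y₀ := (DCoh.Rpush A.hom).obj ((DCoh.LTensorMod Pt).obj S)
  haveI : ((DCoh.LTensorMod Pt).obj S).IsGE 0 :=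
    DerivedCategory.TStructure.t.isGE_of_iso (cT.app S ≪≫ (e : (tenF Pt).obj ((DerivedCategory.singleFunctor _ 0).obj G) ≅
      (DerivedCategory.singleFunctor A.left.Modules 0).obj (CohB1.tensorMod G Pt))).symm 0
  haveI : Y₀.IsGE 0 := DPush.isGE_rpush A.hom _ 0 inferInstance
  haveI : Subsingleton (Spec (CommRingCat.of k)) := inferInstanceAs (Subsingleton (PrimeSpectrum k))
  have hd : topologicalKrullDim (Spec (CommRingCat.of k)) ≤ ((0 : ℕ) : WithBot ℕ∞) := by
    haveI : Subsingleton (TopologicalSpace.IrreducibleCloseds (Spec (CommRingCat.of k))) := ⟨fun c d => by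
      obtain ⟨x, hx⟩ := c.2.nonempty
      obtain ⟨y, hy⟩ := d.2.nonempty
      exact TopologicalSpace.IrreducibleCloseds.ext (Set.ext fun z =>
        ⟨fun _ => Subsingleton.elim y z ▸ hy, fun _ => Subsingleton.elim x z ▸ hx⟩)⟩
    exact Order.krullDim_nonpos_of_subsingleton
  obtain ⟨g⟩ := Exact8.FMVanish.nonempty_rGamma_homology Y₀ 0 (fun l p =>
    subsingleton_hc_of_dim_stalk hd _ 0 (fun x _ => by exact_mod_cast ringKrullDim_nonneg_of_nontrivial) (p + 1) (by omega)) (i : ℤ)
  exact ((DCoh.gammaAb _).map_isZero (hz.of_iso ((DerivedCategory.homologyFunctor _ (i : ℤ)).mapIso eB).symm)).of_iso g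

include hP in
/-- No higher twisted cohomology exactly when the higher cohomology sheaves of the transform vanish. -/
theorem it0_iff {G : A.left.Modules} (hG : Coh.IsCoh G) :
    (∀ (i : ℕ) (α : 𝟙_ (Over (Spec (CommRingCat.of k))) ⟶ At), 1 ≤ i → W4c5cohrankabvar.hAt k P G α i = 0) ↔
      ∀ i : ℕ, 1 ≤ i → CohB1.support (fmH P G i) = ∅ := by
  haveI : JacobsonSpace At.left := LocallyOfFiniteType.jacobsonSpace At.hom
  constructor
  · intro h i hi
    refine Set.eq_empty_iff_forall_notMem.2 fun x hx => ?_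
    obtain ⟨c, hc, hcc⟩ := nonempty_inter_closedPoints (Z := CohB1.support (fmH P G i)) ⟨x, hx⟩
      (M1.isClosed_support (isCoh_fmH hP hG i).2).isLocallyClosed
    obtain ⟨t, rfl⟩ := CubeField.exists_rpt (X := At) hcc
    obtain ⟨l, hl, hpos⟩ := exists_hAt_of_mem_support hP hG t i hi hc
    exact hpos.ne' (h l t (hi.trans hl))
  · intro h i α hi
    by_contra hne
    obtain ⟨l, hl, hmem⟩ := exists_mem_support_of_hAt hP hG α i hi (Nat.pos_of_ne_zero hne)
    rw [h l (hi.trans hl)] at hmem
    exact hmem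

omit [IsAlgClosed k] [IsProper A.hom] [Smooth A.hom] [IsProper At.hom] [Smooth At.hom] in
theorem range_base_eq (α : 𝟙_ (Over (Spec (CommRingCat.of k))) ⟶ At) :
    Set.range α.left.base = {CubeField.rpt α} := by
  haveI : Subsingleton ↥(𝟙_ (Over (Spec (CommRingCat.of k)))).left := inferInstanceAs (Subsingleton (PrimeSpectrum k))
  refine Set.eq_singleton_iff_unique_mem.2 ⟨⟨_, rfl⟩, ?_⟩
  rintro _ ⟨z, rfl⟩
  exact congrArg _ (Subsingleton.elim _ _)

include hP in
/-- Generic vanishing of the loci is generic vanishing of the supports. -/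
theorem gv_iff {G : A.left.Modules} (hG : Coh.IsCoh G) (g : ℕ) :
    (∀ i : ℕ, 1 ≤ i → ∃ Z : Set ↥At.left, IsClosed Z ∧
        topologicalKrullDim ↥Z < ((g - i + 1 : ℕ) : WithBot ℕ∞) ∧
        ∀ α : 𝟙_ (Over (Spec (CommRingCat.of k))) ⟶ At, 0 < W4c5cohrankabvar.hAt k P G α i →
          Set.range α.left.base ⊆ Z) ↔
      ∀ i : ℕ, 1 ≤ i → topologicalKrullDim ↥(CohB1.support (fmH P G i)) < ((g - i + 1 : ℕ) : WithBot ℕ∞) := by
  haveI : JacobsonSpace At.left := LocallyOfFiniteType.jacobsonSpace At.hom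
  obtain ⟨b, hb⟩ := exists_fmH_bound hP hG
  have hmono : ∀ {i l : ℕ}, i ≤ l → ((g - l + 1 : ℕ) : WithBot ℕ∞) ≤ ((g - i + 1 : ℕ) : WithBot ℕ∞) :=
    fun h => by exact_mod_cast (show g - _ + 1 ≤ g - _ + 1 by omega)
  constructor
  · intro h i hi
    choose Z hZc hZd hZ using h
    let Z' : ℕ → Set At.left := fun l => if hl : 1 ≤ l then Z l hl else ∅
    have hZ' : ∀ l, 1 ≤ l → ∀ hl, Z' l = Z l hl := fun l h1 hl => dif_pos h1
    let H : ℕ → ℕ := fun n => n
    obtain ⟨B, hB⟩ : ∃ B, ∀ (t : 𝟙_ (Over (Spec (CommRingCat.of k))) ⟶ At) (l : ℕ),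
        0 < W4c5cohrankabvar.hAt k P G t l → 1 ≤ l → l ≤ B := by
      refine ⟨b, fun t l hl h1 => ?_⟩
      obtain ⟨m, hm, hmem⟩ := exists_mem_support_of_hAt hP hG t l h1 hl
      by_contra hlb
      rw [hb m (by omega)] at hmem
      exact hmem
    have hcl : ∀ l ∈ Finset.Icc i B, IsClosed (Z' l) := fun l hl => by
      have h1 : 1 ≤ l := hi.trans (Finset.mem_Icc.1 hl).1
      rw [hZ' l h1 h1]; exact hZc l h1
    have hd : topologicalKrullDim ↥(⋃ l ∈ Finset.Icc i B, Z' l) < ((g - i + 1 : ℕ) : WithBot ℕ∞) :=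
      dim_biUnion_lt _ _ hcl fun l hl => by
        have h1 : 1 ≤ l := hi.trans (Finset.mem_Icc.1 hl).1
        rw [hZ' l h1 h1]; exact (hZd l h1).trans_le (hmono (Finset.mem_Icc.1 hl).1)
    refine lt_of_le_of_lt (Topology.IsEmbedding.inclusion ?_).isInducing.topologicalKrullDim_le hd
    have hsupp := M1.isClosed_support (isCoh_fmH hP hG (i : ℤ)).2
    intro x hx
    refine (isClosed_biUnion_finset hcl).closure_subset_iff.2 (fun y hy => ?_)
      ((closure_inter_closedPoints hsupp).ge hx)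
    obtain ⟨t, rfl⟩ := CubeField.exists_rpt (X := At) hy.2
    obtain ⟨l, hl, hpos⟩ := exists_hAt_of_mem_support hP hG t i hi hy.1
    have h1 : 1 ≤ l := hi.trans hl
    refine Set.mem_iUnion₂.2 ⟨l, Finset.mem_Icc.2 ⟨hl, hB t l hpos h1⟩, ?_⟩
    rw [hZ' l h1 h1]
    exact hZ l h1 t hpos (range_base_eq t ▸ rfl)
  · intro h i hi
    refine ⟨⋃ l ∈ Finset.Icc i b, CohB1.support (fmH P G (l : ℕ)),
      isClosed_biUnion_finset fun l _ => M1.isClosed_support (isCoh_fmH hP hG (l : ℤ)).2,
      dim_biUnion_lt (Finset.Icc i b) (fun l : ℕ => CohB1.support (fmH P G (l : ℤ)))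
        (fun l _ => M1.isClosed_support (isCoh_fmH hP hG (l : ℤ)).2) fun l hl =>
        (h l (hi.trans (Finset.mem_Icc.1 hl).1)).trans_le (hmono (Finset.mem_Icc.1 hl).1), fun α hα => ?_⟩
    rw [range_base_eq, Set.singleton_subset_iff]
    obtain ⟨l, hl, hmem⟩ := exists_mem_support_of_hAt hP hG α i hi hα
    refine Set.mem_iUnion₂.2 ⟨l, Finset.mem_Icc.2 ⟨hl, ?_⟩, hmem⟩
    by_contra hlb
    rw [hb l (by omega)] at hmem
    exact hmem

end Groth.Agent.FMHyp13

end
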