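import Groth.Agent.S2064
import Groth.Agent.Lib.DBaseChange.Fibre
import Groth.Agent.Lib.RelPCS8.TorTensor
import Groth.Agent.Lib.FlatDepth.NormFlat

/-!
# Local vanishing for a dual tensored with a module of maximal depth
-/

set_option autoImplicit false
set_option linter.style.haveILetI false
set_option linter.unusedSectionVars false
set_option backward.isDefEq.respectTransparency false
set_option backward.isDefEq.respectTransparency.types false
set_option maxHeartbeats 1600000

universe u

open CategoryTheory CategoryTheory.Limits MonoidalCategory IsLocalRing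
open scoped TensorProduct

attribute [local instance] HasDerivedCategory.standard

noncomputable section

namespace Groth.Agent.FMHyp13.WitAlg

open DBaseChange DPerf.LocalFibre

variable {A : Type u} [CommRing A] [IsLocalRing A] [IsNoetherianRing A]

/-- The depth of a tensor product with a finite projective module. -/
theorem depth_projective_tensor (M : Type u) [AddCommGroup M] [Module A M] [Module.Finite A M] [Nontrivial M]
    (P : Type u) [AddCommGroup P] [Module A P] [Module.Finite A P] [Module.Projective A P] :
    LocCoh.depth A M ≤ LocCoh.depth A (P ⊗[A] M) := by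
  haveI : Module.Free A P := Module.free_of_flat_of_isLocalRing
  let b := (Module.Free.chooseBasis A P).reindex (Fintype.equivFin _)
  let e : P ⊗[A] M ≃ₗ[A] (Fin (Fintype.card (Module.Free.ChooseBasisIndex A P)) → M) :=
    TensorProduct.congr b.equivFun (LinearEquiv.refl A M) ≪≫ₗ TensorProduct.comm A _ _ ≪≫ₗ
      TensorProduct.piScalarRight A A M _
  rw [LocCoh.depth, LocCoh.depth, DepthLib.idealDepth_congr e]
  generalize Fintype.card (Module.Free.ChooseBasisIndex A P) = n
  cases n with
  | zero =>
    show _ ≤ LocCoh.idealDepth _ (Fin 0 → M)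
    conv_rhs => rw [LocCoh.idealDepth, if_pos (Subsingleton.elim _ _)]
    exact le_top
  | succ r => exact (FlatDepth.depth_pi_succ M r).ge

/-- A module of positive depth which is Artinian is zero. -/
theorem subsingleton_of_depth_artinian (M : Type u) [AddCommGroup M] [Module A M] [Module.Finite A M]
    [IsArtinian A M] (h : 1 ≤ LocCoh.depth A M) : Subsingleton M := by
  by_contra hne
  haveI := not_subsingleton_iff_nontrivial.1 hne
  obtain ⟨x, hxm, hx⟩ := DepthLib.exists_isSMulRegular_of_one_le_idealDepth
    (DepthLib.smul_top_ne_top (M := M) (maximalIdeal.isMaximal A).ne_top) h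
  have hs := IsArtinian.surjective_of_injective_endomorphism (LinearMap.lsmul A M x) hx
  refine DepthLib.smul_top_ne_top (M := M) (maximalIdeal.isMaximal A).ne_top (eq_top_iff.2 fun m _ => ?_)
  obtain ⟨w, rfl⟩ := hs m
  exact Submodule.smul_mem_smul hxm trivial

/-- The acyclicity lemma for a cochain complex bounded below. -/
theorem subsingleton_homology_low (W : DRing.Cx A) (s l : ℤ) (t : ℕ) (hls : l + 1 - s ≤ t)
    (hz : ∀ i, i < s → IsZero (W.X i)) (hfin : ∀ i, Module.Finite A (W.X i))
    (hdep : ∀ i, (t : ℕ∞) ≤ LocCoh.depth A (W.X i)) (hbelow : ∀ m, m < l → Subsingleton (W.homology m))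
    (hart : IsArtinian A (W.homology l)) : Subsingleton (W.homology l) := by
  classical
  by_cases hl : l < s
  · exact ModuleCat.subsingleton_of_isZero
      ((HomologicalComplex.exactAt_iff_isZero_homology _ _).1 (HomologicalComplex.ExactAt.of_isZero (hz l hl)))
  let e := ComplexShape.embeddingUpIntLE (l + 1)
  let C : ChainComplex (ModuleCat.{u} A) ℕ := W.restriction e
  have hiso : ∀ j : ℕ, Nonempty (C.homology (j + 1) ≅ W.homology (l - j)) := fun j =>
    ⟨W.restrictionHomologyIso e (j + 1 + 1) (j + 1) j (by simp) (by simp) (i' := l - j - 1) (j' := l - j)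
      (k' := l - j + 1) (by show l + 1 - ((j + 1 + 1 : ℕ) : ℤ) = _; omega)
      (by show l + 1 - ((j + 1 : ℕ) : ℤ) = _; omega) (by show l + 1 - ((j : ℕ) : ℤ) = _; omega) (by simp) (by simp)⟩
  by_contra hne
  have h1 : 1 ≤ LocCoh.depth A (C.homology 1) := S2064.result C (l + 1 - s).toNat
    (fun j hj => (hz _ (by omega : l + 1 - (j : ℤ) < s))) (fun j => hfin _)
    (fun j hj => le_trans (by exact_mod_cast (by omega : j ≤ t)) (hdep _)) 1 one_pos
    (fun hex => hne (by
      obtain ⟨i₀⟩ := hiso 0
      have := (i₀.toLinearEquiv.symm.toEquiv.subsingleton_congr).2 (ModuleCat.subsingleton_of_isZero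
        ((HomologicalComplex.exactAt_iff_isZero_homology C 1).1 hex))
      simpa using this))
    (fun j hj => by
      obtain ⟨j, rfl⟩ : ∃ j', j = j' + 1 := ⟨j - 1, by omega⟩
      obtain ⟨i₀⟩ := hiso j
      haveI := hbelow (l - j) (by omega)
      exact (HomologicalComplex.exactAt_iff_isZero_homology C (j + 1)).2
        ((ModuleCat.isZero_of_subsingleton (W.homology (l - j))).of_iso i₀))
  obtain ⟨i₀⟩ := hiso 0
  rw [show l - ((0 : ℕ) : ℤ) = l by simp] at i₀
  haveI : Module.Finite A (W.homology l) := by
    haveI : Module.Finite A (W.sc l).X₂ := hfin l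
    haveI : IsNoetherian A (W.sc l).X₂ := isNoetherian_of_isNoetherianRing_of_finite A _
    haveI : Module.Finite A (W.cycles l) := Module.Finite.of_injective (W.iCycles l).hom
      ((ModuleCat.mono_iff_injective _).1 inferInstance)
    exact Module.Finite.of_surjective (W.homologyπ l).hom ((ModuleCat.epi_iff_surjective _).1 inferInstance) 
  refine hne (subsingleton_of_depth_artinian (A := A) (W.homology l) ?_)
  rw [LocCoh.depth, ← DepthLib.idealDepth_congr i₀.toLinearEquiv]
  exact h1

/-- Vanishing of the homology of a tensor product with a module of depth at least `t`. -/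
theorem homology_tm (F : DRing.Cx A) (B : ℤ) [F.IsStrictlyLE B] (hF : DRing.TermwiseFiniteFree F)
    (M : ModuleCat.{u} A) [Module.Finite A M] [Nontrivial M] (t k' : ℕ) (ht : (t : ℕ∞) ≤ LocCoh.depth A M)
    (hfib : ∀ l, l < -((k' : ℤ) + t) ∨ 0 < l → FibreExact F l) (P : DRing.Cx A) (hP : Adapted P)
    (eP : DRing.toD F ≅ DRing.toD P) :
    (∀ l : ℤ, l < -((k' : ℤ) + t) ∨ 0 < l → Subsingleton (((tm M).obj P).homology l)) ∧
      ((∀ m : ℤ, m < -(k' : ℤ) → IsArtinian A (((tm M).obj P).homology m)) →
        ∀ l : ℤ, l < -(k' : ℤ) → Subsingleton (((tm M).obj P).homology l)) := by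
  haveI : DRing.HasLTensor A M := RelPCS8.TorTensor.hasLTensor M
  let s : ℤ := -((k' : ℤ) + t)
  -- transport along representatives
  obtain ⟨eM⟩ := DBaseChange.nonempty_lTensor_iso M P hP
  have tr : ∀ (E : DRing.Cx A), Adapted E → (DRing.toD E ≅ DRing.toD P) → ∀ l : ℤ,
      Nonempty (((tm M).obj E).homology l ≅ ((tm M).obj P).homology l) := fun E hE e l => by
    obtain ⟨t'⟩ := DBaseChange.nonempty_lTensor_iso M E hE
    exact ⟨((DerivedCategory.homologyFunctorFactors _ l).app _).symm ≪≫
      (DerivedCategory.homologyFunctor _ l).mapIso (t'.symm ≪≫ (DRing.LTensor A M).mapIso e ≪≫ eM) ≪≫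
      (DerivedCategory.homologyFunctorFactors _ l).app _⟩
  -- flat amplitude
  obtain ⟨E, hv, hf, ⟨eE⟩⟩ := torAmp_of_fibre_local F B hF s 0 hfib
  haveI : E.IsStrictlyLE 0 := (CochainComplex.isStrictlyLE_iff _ _).2 fun i hi => hv i (Or.inr hi)
  have hout : ∀ l : ℤ, l < s ∨ 0 < l → Subsingleton (((tm M).obj P).homology l) := fun l hl => by
    obtain ⟨i⟩ := tr E (adapted_of_flat E 0 hf) (eE ≪≫ eP) l
    exact i.toLinearEquiv.symm.toEquiv.subsingleton_congr.2 (ModuleCat.subsingleton_of_isZero
      ((HomologicalComplex.exactAt_iff_isZero_homology _ _).1 (HomologicalComplex.ExactAt.of_isZero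
        ((MonoidalCategory.tensorRight M).map_isZero (hv l hl)))))
  refine ⟨hout, fun hart => ?_⟩
  -- a finite projective model bounded below
  haveI : (DRing.toD F).IsGE s := (DMod.isGE_iff _ s).2 fun i hi => by
    rw [DMod.subsingleton_HD_toD_iff, DMod.subsingleton_homology_iff F (i := i - 1) (k := i + 1) (by simp) (by simp)]
    exact (split_of_fibreExact F hF i (hfib i (Or.inl hi))).1
  obtain ⟨eT⟩ := DMod.exists_truncFrom_iso F s
  let T := DMod.truncFrom F s
  haveI : T.IsStrictlyLE B := ((DMod.vanishesOutside_iff T s B).1 (DMod.vanishesOutside_truncFrom F s B)).2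
  have hT : ∀ i, Module.Finite A (T.X i) ∧ Module.Projective A (T.X i) := fun i => by
    haveI := (hF i).1
    haveI := (hF i).2
    haveI hfi : Module.Finite A (T.X i) :=
      Module.Finite.of_surjective ((DMod.truncFromπ F s).f i).hom (DMod.truncFromπ_surjective F s i)
    rcases lt_trichotomy i s with hi | rfl | hi
    · haveI := ModuleCat.subsingleton_of_isZero (DMod.isZero_truncFrom_X F hi)
      exact ⟨hfi, inferInstance⟩
    · refine ⟨hfi, ?_⟩
      have := (split_of_fibreExact F hF (s - 1) (hfib _ (Or.inl (by omega)))).2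
      have key : ∀ m, m = s → Module.Projective A (F.X m ⧸ LinearMap.range (F.d (s - 1) m).hom) →
          Module.Projective A (F.X s ⧸ LinearMap.range (F.d (s - 1) s).hom) := by rintro m rfl h; exact h
      haveI := key _ (sub_add_cancel s 1) this
      exact Module.Projective.of_equiv (DMod.truncFromBotEquiv F s)
    · haveI : Module.Projective A (F.X i) := inferInstance
      exact ⟨hfi, Module.Projective.of_equiv (DMod.truncFromXEquiv F hi)⟩
  let W := (tm M).obj T
  have hTad : Adapted T := adapted_of_flat T B fun i => by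
    haveI := (hT i).2
    infer_instance
  have hWiso := tr T hTad (eT ≪≫ eP)
  have main : ∀ n : ℕ, ∀ l : ℤ, l < -(k' : ℤ) → l ≤ s - 1 + n → Subsingleton (W.homology l) := by
    intro n
    induction n with
    | zero =>
      intro l _ h0
      obtain ⟨i⟩ := hWiso l
      exact i.toLinearEquiv.toEquiv.subsingleton_congr.2 (hout l (Or.inl (by push_cast at h0; omega)))
    | succ n ih =>
      intro l hl hn
      refine subsingleton_homology_low W s l t (by omega) (fun i hi => ?_) (fun i => ?_) (fun i => ?_)
        (fun m hm => ih m (by omega) (by push_cast at hn; omega)) ?_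
      · exact (MonoidalCategory.tensorRight M).map_isZero (DMod.isZero_truncFrom_X F hi)
      · haveI := (hT i).1
        exact inferInstanceAs (Module.Finite A ((T.X i : Type u) ⊗[A] M))
      · haveI := (hT i).1
        haveI := (hT i).2
        exact ht.trans (depth_projective_tensor M (T.X i))
      · haveI := hart l hl
        obtain ⟨i⟩ := hWiso l
        exact isArtinian_of_linearEquiv i.toLinearEquiv.symm
  intro l hl
  obtain ⟨i⟩ := hWiso l
  exact i.toLinearEquiv.toEquiv.subsingleton_congr.1 (main (l - s + 1).toNat l hl (by omega))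

end Groth.Agent.FMHyp13.WitAlg

end
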