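import Groth.Agent.Lib.FMHyp13.WitAlg
import Groth.Agent.Lib.FMHyp13.WitFibre
import Groth.Agent.Lib.FMHyp13.PointDual
import Groth.Agent.Lib.FMBase13.Basic
import Groth.Agent.Lib.FMHyp13.Loci
import Groth.Agent.Lib.Cyc26.Stalk
import Groth.Agent.Lib.ZClos5.Locus

/-!
# A dual twisted by a maximal Cohen–Macaulay module
-/

set_option autoImplicit false
set_option linter.style.haveILetI false
set_option linter.unusedSectionVars false
set_option backward.isDefEq.respectTransparency false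
set_option backward.isDefEq.respectTransparency.types false
set_option maxHeartbeats 1600000

universe u

open CategoryTheory CategoryTheory.Limits MonoidalCategory AlgebraicGeometry IsLocalRing

attribute [local instance] HasDerivedCategory.standard

noncomputable section

namespace Groth.Agent.FMHyp13.WitSheaf

open DMon9 TwistBC9 KFlat KFlat.Sch DBaseChange DPerf.LocalFibre Exact8.PerfFibres

variable {Y : Scheme.{u}}

/-- Tensoring an adapted representative with a module. -/
theorem nonempty_tensor_modM (w : Y.Modules) (K : CochainComplex Y.Modules ℤ) (hK : KFlat.Sch.IsAdapted K) (D : DM Y)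
    (eK : DCoh.toD Y K ≅ (D : DCoh.D Y)) :
    Nonempty (((D ⊗ modM w : DM Y) : DCoh.D Y) ≅
      DCoh.toD Y (((DCoh.tensorRightMod w).mapHomologicalComplex (ComplexShape.up ℤ)).obj K)) := by
  haveI := KFlat.Sch.hasLTensorCx (RHom.sg 0 w)
  obtain ⟨t⟩ := FMAdj9.nonempty_ltIso (RHom.sg 0 w)
  obtain ⟨c⟩ := nonempty_lTensorCxObjIso (RHom.sg 0 w) K hK.1
  let ew : (DCoh.toD Y (RHom.sg 0 w) : DM Y) ≅ modM w :=
    (((DerivedCategory.singleFunctorIsoCompQ Y.Modules 0).app w).symm :)
  exact ⟨(whiskerLeftIso D ew.symm :) ≪≫ (t.app (D : DCoh.D Y)).symm ≪≫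
    (DCoh.LTensorCx (RHom.sg 0 w)).mapIso eK.symm ≪≫ c ≪≫ DerivedCategory.Q.mapIso (FMBase13.cxIso w K)⟩

variable [IsLocallyNoetherian Y]

/-- The dual of an object with generic vanishing, twisted by a maximal Cohen–Macaulay module. -/
theorem isZero_HD_tensor (G DG : DM Y) [ExactPairing G DG] (hG : DCoh.IsPerfect (G : DCoh.D Y))
    (hD : DCoh.IsPerfect (DG : DCoh.D Y)) (w : Y.Modules) (hw : Coh.IsCoh w)
    (hwcm : ∀ y : Y, Nontrivial (w.presheaf.stalk y) ∧
      LocCoh.IsCohenMacaulayModule (Y.presheaf.stalk y) (w.presheaf.stalk y)) (k' : ℕ)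
    (hfib0 : ∀ (y : Y) (l : ℤ), l < 0 → IsZero (DCoh.HD ((lP (Y.fromSpecResidueField y)).obj (G : DCoh.D Y)) l))
    (hGV : ∀ (i : ℕ) (y : Y), y ∈ CohB1.support (DCoh.HD (G : DCoh.D Y) (i : ℤ)) →
      ((i - k' : ℕ) : WithBot ℕ∞) ≤ ringKrullDim (Y.presheaf.stalk y))
    (l : ℤ) (hl : l < -(k' : ℤ) ∨ 0 < l) : IsZero (DCoh.HD ((DG ⊗ modM w : DM Y) : DCoh.D Y) l) := by
  classical
  obtain ⟨K, hK, ⟨eK⟩⟩ := exists_adapted_rep (DG : DCoh.D Y)
  obtain ⟨e₀⟩ := nonempty_tensor_modM w K hK DG eK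
  let W := ((DCoh.tensorRightMod w).mapHomologicalComplex (ComplexShape.up ℤ)).obj K
  have hKp : DCoh.IsPerfect (DCoh.toD Y K) := DGen9.isPerfect_of_iso eK.symm hD
  let H : ℤ → Y.Modules := fun m => DCoh.HD (DCoh.toD Y W) m
  have hH : ∀ m, Coh.IsCoh (H m) := fun m => RelPCS8.TorTensor.isCoh_HD_tensor w hw K hK hKp m
  have hfinw : ∀ y : Y, Module.Finite (Y.presheaf.stalk y) (w.presheaf.stalk y) := fun y => M1.finite_stalk hw.1 hw.2 y
  -- stalks
  have hst : ∀ (y : Y) (m : ℤ), Nonempty ((stF y).obj (H m) ≅ ((tm ((stF y).obj w)).obj (stC y K)).homology m) :=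
    fun y m => by
    haveI : (stF y).PreservesHomology := ((stF y).exact_tfae.out 0 2).1 fun S hS => DPerf.shortExact_stF hS y
    exact ⟨(stF y).mapIso ((DerivedCategory.homologyFunctorFactors _ m).app W) ≪≫ (ShortComplex.mapHomologyIso (W.sc m) (stF y)).symm ≪≫
      HomologicalComplex.homologyMapIso
        ((NatIso.mapHomologicalComplex (RelPCS8.StalkId.stTensorRightIso y w) (ComplexShape.up ℤ)).app K) m⟩
  -- local vanishing
  have hloc : ∀ (t : ℕ) (y : Y), ringKrullDim (Y.presheaf.stalk y) = ((t : ℕ∞) : WithBot ℕ∞) →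
      (∀ m : ℤ, 0 < m → Subsingleton ((stF y).obj (H m))) ∧
      ((∀ m : ℤ, m < -(k' : ℤ) → IsArtinian (Y.presheaf.stalk y) ((stF y).obj (H m))) →
        ∀ m : ℤ, m < -(k' : ℤ) → Subsingleton ((stF y).obj (H m))) := by
    intro t y hy
    obtain ⟨R, hR, f, z, hZ, hfield, hfz, hfib⟩ : ∃ (R : CommRingCat.{u}) (_ : IsField R) (f : Spec R ⟶ Y) (z : Spec R),
        (∀ z' : Spec R, z' = z) ∧ IsField ((Spec R).presheaf.stalk z) ∧ f z = y ∧
        ∀ m : ℤ, m < 0 → IsZero (DCoh.HD ((lP f).obj (G : DCoh.D Y)) m) :=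
      ⟨Y.residueField y, Field.toIsField _, Y.fromSpecResidueField y, closedPoint (Y.residueField y),
        fun z' => @Subsingleton.elim _ (inferInstanceAs (Subsingleton (PrimeSpectrum (Y.residueField y)))) _ _,
        Residual14.isField_stalk_of_etale_field (𝟙 (Spec (CommRingCat.of (Y.residueField y)))) _,
        Scheme.fromSpecResidueField_apply _ _, hfib0 y⟩
    have hGhigh : ∀ m : ℤ, (k' : ℤ) + t < m → IsZero (DCoh.HD ((lP f).obj (G : DCoh.D Y)) m) := by
      intro m hm
      by_contra hne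
      obtain ⟨j, hj, hs⟩ := exists_support_of_not_isZero f hG z hZ m hne
      obtain ⟨i, rfl⟩ := Int.eq_ofNat_of_zero_le (by omega : 0 ≤ j)
      rw [hfz] at hs
      have h1 := hGV i y hs
      rw [hy] at h1
      have h2 : i - k' ≤ t := ENat.coe_le_coe.1 (WithBot.coe_le_coe.1 h1)
      omega
    letI : ExactPairing ((dPull f).obj G) ((dPull f).obj DG) := Dual8.mapPairing (dPull f) G DG
    have hDfib : ∀ m : ℤ, m < -((k' : ℤ) + t) ∨ 0 < m → IsZero (DCoh.HD ((lP f).obj (DG : DCoh.D Y)) m) :=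
      fun m hm => PointDual.isZero_dual hR ((dPull f).obj G) ((dPull f).obj DG)
        (isQCohD_lP f (DGen9.isQCohD_of_isPerfect hG)) (isQCohD_lP f (DGen9.isQCohD_of_isPerfect hD)) m
        (hm.elim (fun h => hGhigh (-m) (by omega)) (fun h => hfib (-m) (by omega)))
    subst hfz
    obtain ⟨K', F, B, hK', ⟨eK'⟩, hB, hF, ⟨eF⟩, hFf⟩ := exists_fibre_rep f z hZ hfield hD
    haveI := hB
    have hP : ∀ (R : CochainComplex Y.Modules ℤ), KFlat.Sch.IsAdapted R → DBaseChange.Adapted (stC (f z) R) := fun R hR =>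
      ⟨isKFlat_stF hR.1 (f z), KFlat.DT.isKFlat_flip ((KFlat.Module.isKFlat_iff _).1 (isKFlat_stF hR.1 (f z))),
        fun n => (KFlat.Module.isFlat_iff _).2 ((KFlat.Sch.isFlat_iff _).1 (hR.2.2 n) (f z))⟩
    haveI : (stF (f z)).PreservesHomology := ((stF (f z)).exact_tfae.out 0 2).1 fun S hS => DPerf.shortExact_stF hS (f z)
    haveI : PreservesFiniteLimits (stF (f z)) := Functor.preservesFiniteLimits_of_preservesHomology _
    haveI : PreservesFiniteColimits (stF (f z)) := Functor.preservesFiniteColimits_of_preservesHomology _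
    let eKK : DRing.toD (stC (f z) K') ≅ DRing.toD (stC (f z) K) :=
      ((stF (f z)).mapDerivedCategoryFactors.app K').symm ≪≫ (stF (f z)).mapDerivedCategory.mapIso (eK' ≪≫ eK.symm) ≪≫
        (stF (f z)).mapDerivedCategoryFactors.app K
    haveI : Module.Finite (Y.presheaf.stalk (f z)) ((stF (f z)).obj w) := hfinw (f z)
    haveI : Nontrivial ((stF (f z)).obj w) := (hwcm (f z)).1
    have hdep : (t : ℕ∞) ≤ LocCoh.depth (Y.presheaf.stalk (f z) : Type u) ((stF (f z)).obj w) := by
      have h1 := (hwcm (f z)).2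
      rw [LocCoh.IsCohenMacaulayModule, ZClos5.supportDim_stalk w hw (fun x => (hwcm x).1) (f z), hy] at h1
      exact (WithBot.coe_inj.1 h1).le
    obtain ⟨h1, h2⟩ := WitAlg.homology_tm F B hF ((stF (f z)).obj w) t k' hdep
      (fun m hm => (hFf m).1 (hDfib m hm)) (stC (f z) K) (hP K hK) (eF ≪≫ eKK)
    refine ⟨fun m hm => ?_, fun hart m hm => ?_⟩
    · obtain ⟨i⟩ := hst (f z) m
      exact i.toLinearEquiv.toEquiv.subsingleton_congr.2 (h1 m (Or.inr hm))
    · obtain ⟨i⟩ := hst (f z) m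
      refine i.toLinearEquiv.toEquiv.subsingleton_congr.2 (h2 (fun m' hm' => ?_) m hm)
      obtain ⟨i'⟩ := hst (f z) m'
      haveI := hart m' hm'
      exact isArtinian_of_linearEquiv i'.toLinearEquiv
  -- dimensions are finite
  have hdimfin : ∀ y : Y, ∃ t : ℕ, ringKrullDim (Y.presheaf.stalk y) = ((t : ℕ∞) : WithBot ℕ∞) := fun y => by
    haveI := hfinw y
    haveI := (hwcm y).1
    obtain ⟨t, ht⟩ := DepthLib.exists_depth_eq_natCast (R := Y.presheaf.stalk y) (M := w.presheaf.stalk y)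
    refine ⟨t, ?_⟩
    have h1 := (hwcm y).2
    rwa [LocCoh.IsCohenMacaulayModule, ZClos5.supportDim_stalk w hw (fun x => (hwcm x).1) y, ht] at h1
  have key : ∀ (t : ℕ) (y : Y), ringKrullDim (Y.presheaf.stalk y) = ((t : ℕ∞) : WithBot ℕ∞) →
      ∀ m : ℤ, m < -(k' : ℤ) ∨ 0 < m → Subsingleton ((stF y).obj (H m)) := by
    intro t
    induction t using Nat.strong_induction_on with
    | _ t ih =>
      intro y hy m hm
      rcases hm with hm | hm
      swap
      · exact (hloc t y hy).1 m hm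
      refine (hloc t y hy).2 (fun m' hm' => ?_) m hm
      have hlen := Cyc26.length_stalk_ne_top (hH m') (ξ := y) fun y' hy' hs => by
        by_contra hne
        obtain ⟨t', ht'⟩ := hdimfin y'
        refine not_subsingleton_iff_nontrivial.2 hy' (ih t' ?_ y' ht' m' (Or.inl hm'))
        have h1 : Order.coheight y' < Order.coheight y := by
          refine Order.coheight_strictAnti ?_ ?_
          · exact ⟨Scheme.le_iff_specializes.2 hs, fun h => hne (hs.antisymm (Scheme.le_iff_specializes.1 h)).eq⟩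
          · rw [← WithBot.coe_lt_coe, ← ringKrullDim_stalk_eq_coheight, ht']
            exact WithBot.coe_lt_coe.2 (ENat.natCast_lt_top _)
        rw [← WithBot.coe_lt_coe, ← ringKrullDim_stalk_eq_coheight, ← ringKrullDim_stalk_eq_coheight, ht', hy] at h1
        exact_mod_cast h1
      have h := Module.length_ne_top_iff.1 hlen
      rw [isFiniteLength_iff_isNoetherian_isArtinian] at h
      exact h.2
  refine (DPerf.isZero_of_stalks fun y => ?_ : IsZero (H l)).of_iso ((DerivedCategory.homologyFunctor _ l).mapIso e₀)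
  obtain ⟨t, ht⟩ := hdimfin y
  exact key t y ht l hl

end Groth.Agent.FMHyp13.WitSheaf

end
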